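import Cfsg.Agent.H14.Dw2
import Cfsg.Agent.H15.Std3

/-! Standard machine: `PSU 3 F 3` on the isotropic points, generated by 3 transvections
Generated certificate (tools14/pkgen, tools15/std.py) for the permutation group StdU33 of degree 28, order 6048, base 0 1 2. -/
set_option autoImplicit false
set_option maxRecDepth 100000

namespace H15.StdU33
open H14

noncomputable def n0 : Net := (.cons (nat_lit 1) (nat_lit 0x4440450)
(.cons (nat_lit 2) (nat_lit 0x2200200)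
(.cons (nat_lit 4) (nat_lit 0x90309)
(.cons (nat_lit 8) (nat_lit 0xb0)
(.cons (nat_lit 16) (nat_lit 0xfb0)
(.cons (nat_lit 8) (nat_lit 0xc00b9)
(.cons (nat_lit 4) (nat_lit 0x5090f)
(.cons (nat_lit 2) (nat_lit 0x2000)
(.cons (nat_lit 1) (nat_lit 0x414055)
.nil)))))))))
theorem n0_ok : Net.ok 28 n0 = true := by decide +kernel
noncomputable def n1 : Net := (.cons (nat_lit 1) (nat_lit 0x1555114)
(.cons (nat_lit 2) (nat_lit 0x1233200)
(.cons (nat_lit 4) (nat_lit 0x80400)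
(.cons (nat_lit 8) (nat_lit 0x100e0)
(.cons (nat_lit 16) (nat_lit 0x1e0)
(.cons (nat_lit 8) (nat_lit 0x7001c)
(.cons (nat_lit 4) (nat_lit 0x30202)
(.cons (nat_lit 2) (nat_lit 0x3002203)
(.cons (nat_lit 1) (nat_lit 0x11141)
.nil)))))))))
theorem n1_ok : Net.ok 28 n1 = true := by decide +kernel
noncomputable def n2 : Net := (.cons (nat_lit 1) (nat_lit 0x5045144)
(.cons (nat_lit 2) (nat_lit 0x210200)
(.cons (nat_lit 4) (nat_lit 0x10301)
(.cons (nat_lit 8) (nat_lit 0x80020)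
(.cons (nat_lit 16) (nat_lit 0xd60)
(.cons (nat_lit 8) (nat_lit 0xf00e9)
(.cons (nat_lit 4) (nat_lit 0x4000f)
(.cons (nat_lit 2) (nat_lit 0x3311231)
(.cons (nat_lit 1) (nat_lit 0x5440055)
.nil)))))))))
theorem n2_ok : Net.ok 28 n2 = true := by decide +kernel
noncomputable def n3 : Net := (.cons (nat_lit 1) (nat_lit 0x4101040)
(.cons (nat_lit 2) (nat_lit 0x203300)
(.cons (nat_lit 4) (nat_lit 0x40c)
(.cons (nat_lit 8) (nat_lit 0x80)
(.cons (nat_lit 16) (nat_lit 0xff8)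
(.cons (nat_lit 8) (nat_lit 0x800ca)
(.cons (nat_lit 4) (nat_lit 0x1030c)
(.cons (nat_lit 2) (nat_lit 0x3101022)
(.cons (nat_lit 1) (nat_lit 0x541404)
.nil)))))))))
theorem n3_ok : Net.ok 28 n3 = true := by decide +kernel
noncomputable def n4 : Net := (.cons (nat_lit 1) (nat_lit 0x145400)
(.cons (nat_lit 2) (nat_lit 0x3201100)
(.cons (nat_lit 4) (nat_lit 0x301)
(.cons (nat_lit 8) (nat_lit 0x20)
(.cons (nat_lit 16) (nat_lit 0xdeb)
(.cons (nat_lit 8) (nat_lit 0xc00e9)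
(.cons (nat_lit 4) (nat_lit 0xf0901)
(.cons (nat_lit 2) (nat_lit 0x2313222)
(.cons (nat_lit 1) (nat_lit 0x5550454)
.nil)))))))))
theorem n4_ok : Net.ok 28 n4 = true := by decide +kernel
noncomputable def n5 : Net := (.cons (nat_lit 1) (nat_lit 0x1401410)
(.cons (nat_lit 2) (nat_lit 0x111100)
(.cons (nat_lit 4) (nat_lit 0x70b09)
(.cons (nat_lit 8) (nat_lit 0xc0090)
(.cons (nat_lit 16) (nat_lit 0x7f8)
(.cons (nat_lit 8) (nat_lit 0xc0055)
(.cons (nat_lit 4) (nat_lit 0x80105)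
(.cons (nat_lit 2) (nat_lit 0x10010)
(.cons (nat_lit 1) (nat_lit 0x4510400)
.nil)))))))))
theorem n5_ok : Net.ok 28 n5 = true := by decide +kernel
noncomputable def nets : List Net := [n0, n1, n2, n3, n4, n5]
theorem nets_ok : netsOk 28 nets = true := List.all_eq_true.2 (fa_cons n0_ok (fa_cons n1_ok (fa_cons n2_ok (fa_cons n3_ok (fa_cons n4_ok (fa_cons n5_ok (fa_nil)))))))
noncomputable def ss : List (Nat × Nat) := [(0, 0)]
noncomputable def ws3 : List Word := []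
noncomputable def reach : List Word := [dw (nat_lit 0x01), dw (nat_lit 0x03), dw (nat_lit 0x01), dw (nat_lit 0x05), dw (nat_lit 0x0205), dw (nat_lit 0x03), dw (nat_lit 0x01)]
noncomputable def lev2 : Level := ⟨nat_lit 2,
[⟨[nat_lit 10], [], [],
[⟨nat_lit 0, [], nat_lit 1, [], []⟩,
⟨nat_lit 1, [], nat_lit 3, [], []⟩,
⟨nat_lit 2, [], nat_lit 0, [], []⟩,
⟨nat_lit 3, [], nat_lit 5, [], []⟩,
⟨nat_lit 4, [], nat_lit 2, [], []⟩,
⟨nat_lit 5, [], nat_lit 7, [], []⟩,
⟨nat_lit 6, [], nat_lit 4, [], []⟩,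
⟨nat_lit 7, [], nat_lit 6, [], []⟩],
[]⟩],
[⟨dw (nat_lit 0x01), (nat_lit 0x800), [], .nil, []⟩,
⟨dw (nat_lit 0x02), (nat_lit 0x2000), [], .nil, []⟩,
⟨dw (nat_lit 0x0101), (nat_lit 0x200000), [], .nil, []⟩,
⟨dw (nat_lit 0x0202), (nat_lit 0x200), [], .nil, []⟩,
⟨dw (nat_lit 0x010101), (nat_lit 0x10000), [], .nil, []⟩,
⟨dw (nat_lit 0x020202), (nat_lit 0x1000000), [], .nil, []⟩,
⟨dw (nat_lit 0x01010101), (nat_lit 0x4000), [], .nil, []⟩]⟩
noncomputable def ex2 : List Word := []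
noncomputable def ws2 : List Word := List.append ex2 (lev2.gens ws3)
noncomputable def rels2 : List (Word × Word) := List.append (lev2.rels ws3) (memRels (lev2.gens ws3) ex2 [])
noncomputable def lev1 : Level := ⟨nat_lit 1,
[⟨[nat_lit 6], [], [],
[⟨nat_lit 0, [], nat_lit 1, [], []⟩,
⟨nat_lit 1, [], nat_lit 2, dw (nat_lit 0x01010101), dw (nat_lit 0x010101)⟩,
⟨nat_lit 2, [], nat_lit 0, [], []⟩,
⟨nat_lit 3, [], nat_lit 3, dw (nat_lit 0x0202), dw (nat_lit 0x02)⟩,
⟨nat_lit 4, [], nat_lit 2, dw (nat_lit 0x01), dw (nat_lit 0x0101)⟩,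
⟨nat_lit 1, dw (nat_lit 0x01), nat_lit 3, dw (nat_lit 0x01), dw (nat_lit 0x010101)⟩,
⟨nat_lit 1, dw (nat_lit 0x02), nat_lit 4, [], []⟩,
⟨nat_lit 2, dw (nat_lit 0x01), nat_lit 3, dw (nat_lit 0x02), dw (nat_lit 0x010101)⟩,
⟨nat_lit 2, dw (nat_lit 0x02), nat_lit 3, dw (nat_lit 0x0101), dw (nat_lit 0x0202)⟩,
⟨nat_lit 3, dw (nat_lit 0x01), nat_lit 3, dw (nat_lit 0x010101), dw (nat_lit 0x010101)⟩,
⟨nat_lit 3, dw (nat_lit 0x02), nat_lit 1, dw (nat_lit 0x01010101), dw (nat_lit 0x0101)⟩,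
⟨nat_lit 4, dw (nat_lit 0x01), nat_lit 3, dw (nat_lit 0x01010101), dw (nat_lit 0x01010101)⟩,
⟨nat_lit 1, dw (nat_lit 0x0101), nat_lit 1, dw (nat_lit 0x01), dw (nat_lit 0x0202)⟩,
⟨nat_lit 1, dw (nat_lit 0x0202), nat_lit 1, dw (nat_lit 0x0202), dw (nat_lit 0x020202)⟩,
⟨nat_lit 2, dw (nat_lit 0x0101), nat_lit 2, dw (nat_lit 0x0202), dw (nat_lit 0x01)⟩,
⟨nat_lit 2, dw (nat_lit 0x0202), nat_lit 1, dw (nat_lit 0x02), dw (nat_lit 0x0101)⟩,
⟨nat_lit 3, dw (nat_lit 0x0101), nat_lit 2, dw (nat_lit 0x02), dw (nat_lit 0x01010101)⟩,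
⟨nat_lit 3, dw (nat_lit 0x0202), nat_lit 3, dw (nat_lit 0x020202), dw (nat_lit 0x0202)⟩,
⟨nat_lit 1, dw (nat_lit 0x010101), nat_lit 2, dw (nat_lit 0x020202), dw (nat_lit 0x020202)⟩,
⟨nat_lit 1, dw (nat_lit 0x020202), nat_lit 2, [], dw (nat_lit 0x01010101)⟩,
⟨nat_lit 2, dw (nat_lit 0x010101), nat_lit 2, dw (nat_lit 0x0101), dw (nat_lit 0x0202)⟩,
⟨nat_lit 2, dw (nat_lit 0x020202), nat_lit 1, dw (nat_lit 0x0101), dw (nat_lit 0x0202)⟩,
⟨nat_lit 3, dw (nat_lit 0x010101), nat_lit 4, dw (nat_lit 0x01), dw (nat_lit 0x020202)⟩,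
⟨nat_lit 3, dw (nat_lit 0x020202), nat_lit 1, dw (nat_lit 0x020202), dw (nat_lit 0x02)⟩,
⟨nat_lit 1, dw (nat_lit 0x01010101), nat_lit 2, dw (nat_lit 0x010101), []⟩,
⟨nat_lit 2, dw (nat_lit 0x01010101), nat_lit 3, [], dw (nat_lit 0x020202)⟩,
⟨nat_lit 3, dw (nat_lit 0x01010101), nat_lit 1, dw (nat_lit 0x010101), []⟩],
[]⟩],
[⟨dw (nat_lit 0x01), (nat_lit 0x2861160), [dw (nat_lit 0x01), dw (nat_lit 0x0202), dw (nat_lit 0x02020202)], .nil, []⟩,
⟨dw (nat_lit 0x02), (nat_lit 0xc488488), [dw (nat_lit 0x01), dw (nat_lit 0x0101), dw (nat_lit 0x010101), dw (nat_lit 0x01)], .nil, []⟩,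
⟨dw (nat_lit 0x010101), (nat_lit 0x1216a04), [dw (nat_lit 0x01), dw (nat_lit 0x0101), dw (nat_lit 0x020202), dw (nat_lit 0x01)], .nil, []⟩,
⟨dw (nat_lit 0x010401), (nat_lit 0x100010), [dw (nat_lit 0x01)], (.cons (nat_lit 2) [dw (nat_lit 0x0101)] [dw (nat_lit 0x01), dw (nat_lit 0x0101)]
.nil), [dw (nat_lit 0x0101)]⟩]⟩
noncomputable def ex1 : List Word := [[nat_lit 8]]
noncomputable def ws1 : List Word := List.append ex1 (lev1.gens ws2)
noncomputable def rels1 : List (Word × Word) := List.append (lev1.rels ws2) (memRels (lev1.gens ws2) ex1 [dw (nat_lit 0x010103030303)])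
noncomputable def lev0 : Level := ⟨nat_lit 0,
[⟨[nat_lit 0], [dw (nat_lit 0x010103), dw (nat_lit 0x0505)], [dw (nat_lit 0x060606), dw (nat_lit 0x0505)],
[⟨nat_lit 0, [], nat_lit 1, [], []⟩,
⟨nat_lit 1, [], nat_lit 1, dw (nat_lit 0x02040501), dw (nat_lit 0x0204050105050505)⟩,
⟨nat_lit 1, dw (nat_lit 0x04), nat_lit 1, dw (nat_lit 0x0302), dw (nat_lit 0x010603010606)⟩,
⟨nat_lit 1, dw (nat_lit 0x02), nat_lit 1, dw (nat_lit 0x0402), dw (nat_lit 0x020302050505)⟩,
⟨nat_lit 1, dw (nat_lit 0x0501), nat_lit 1, dw (nat_lit 0x04), dw (nat_lit 0x0206010606)⟩,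
⟨nat_lit 1, dw (nat_lit 0x02040501), nat_lit 0, [], dw (nat_lit 0x04020205)⟩],
[dw (nat_lit 0x03), dw (nat_lit 0x01), dw (nat_lit 0x0404)]⟩],
[⟨dw (nat_lit 0x01), (nat_lit 0xffffffe), [dw (nat_lit 0x01), dw (nat_lit 0x03), dw (nat_lit 0x05), dw (nat_lit 0x0505), dw (nat_lit 0x01), dw (nat_lit 0x03), dw (nat_lit 0x03)], (.cons (nat_lit 2) [dw (nat_lit 0x05)] [dw (nat_lit 0x01), dw (nat_lit 0x0101), dw (nat_lit 0x010101), dw (nat_lit 0x01)]
.nil), [dw (nat_lit 0x0402020606)]⟩]⟩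
noncomputable def ex0 : List Word := [[nat_lit 2], [nat_lit 4]]
noncomputable def ws0 : List Word := List.append ex0 (lev0.gens ws1)
noncomputable def rels0 : List (Word × Word) := List.append (lev0.rels ws1) (memRels (lev0.gens ws1) ex0 [dw (nat_lit 0x0504010306), dw (nat_lit 0x060105030808)])
noncomputable def prim0 : List (List Word) := [[dw (nat_lit 0x01), dw (nat_lit 0x0204), dw (nat_lit 0x03), dw (nat_lit 0x01), dw (nat_lit 0x05), dw (nat_lit 0x03), dw (nat_lit 0x07)]]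
noncomputable def rels : List (Word × Word) := List.append rels0 (List.append rels1 (List.append rels2 ([])))
noncomputable def defs : List Word := [dw (nat_lit 0x010504020401040101), dw (nat_lit 0x060404060105020404), dw (nat_lit 0x0a080809070a07070a)]
noncomputable def relsD : List (Word × Word) := defRels defs 3
noncomputable def relsO : List (Word × Word) := memRels ws0 (lets 3) [dw (nat_lit 0x05), dw (nat_lit 0x01), dw (nat_lit 0x03)]
noncomputable def relsS : List (Word × Word) := []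
noncomputable def allRels : List (Word × Word) := List.append rels (List.append relsD (List.append relsO relsS))
theorem reach_ok : subs (full 28) (orbRun nets (lets 3) reach (bits (List.map Prod.fst ss))) = true := by decide +kernel
theorem chk2 : lev2.chk 28 nets ws3 1 8 = true := by decide +kernel
theorem chk1 : lev1.chk 28 nets ws2 8 216 = true := by decide +kernel
theorem primc0 : PM.primChk nets ws1 lev0 lev0.sos prim0 = true := by decide +kernel
theorem chk0 : lev0.chk 28 nets ws1 216 6048 = true := by decide +kernel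
theorem rc0 : relsChk 28 nets 5 (idArr 28 5 5 0) allRels = true := by decide +kernel
section
variable {Γ Ω : Type*} [Group Γ] [MulAction Γ Ω] (M : PM Γ Ω 28 nets)

theorem all_ok (hs : M.Sep 5 (idArr 28 5 5 0)) : Rels M.gen allRels := (M.rels_of_chk hs rc0)
theorem sep [FaithfulSMul Γ Ω] : M.Sep 5 (idArr 28 5 5 0) := M.sep_idArr (by decide)
theorem all_ok' [FaithfulSMul Γ Ω] : Rels M.gen allRels := all_ok M (sep M)
theorem rels_of_all {gen : ℕ → Γ} (h : Rels gen allRels) : Rels gen rels := Rels.left h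
theorem relsD_of_all {gen : ℕ → Γ} (h : Rels gen allRels) : Rels gen relsD := Rels.left (Rels.right h)
theorem relsO_of_all {gen : ℕ → Γ} (h : Rels gen allRels) : Rels gen relsO := Rels.left (Rels.right (Rels.right h))
theorem relsS_of_all {gen : ℕ → Γ} (h : Rels gen allRels) : Rels gen relsS := Rels.right (Rels.right (Rels.right h))
theorem card3 (_hR : Rels M.gen rels) : Nat.card (sub M.gen ws3) = 1 := M.card_nil
theorem fixw3 (_hR : Rels M.gen rels) : M.FixTriv ws3 [] := M.fixTriv_nil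
theorem r2 (hR : Rels M.gen rels) : Rels M.gen rels2 := (Rels.left (Rels.right (Rels.right hR)))
theorem res2 (hR : Rels M.gen rels) : M.LevelRes ws3 lev2 8 := M.level (card3 M hR) chk2 (Rels.left (r2 M hR))
theorem ext2 (hR : Rels M.gen rels) : sub M.gen ws2 = sub M.gen (lev2.gens ws3) := sub_extend (Rels.right (r2 M hR))
theorem card2 (hR : Rels M.gen rels) : Nat.card (sub M.gen ws2) = 8 := by rw [ext2 M hR]; exact (res2 M hR).card
theorem fix2 (hR : Rels M.gen rels) : M.FixTriv (lev2.gens ws3) [2] := (res2 M hR).fixTriv M (fixw3 M hR)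
theorem fixw2 (hR : Rels M.gen rels) : M.FixTriv ws2 [2] := fun g hg => fix2 M hR g (ext2 M hR ▸ hg)
theorem stab2 (hR : Rels M.gen rels) : sub M.gen ws2 ⊓ MulAction.stabilizer Γ (M.dec 2) = sub M.gen ws3 := by rw [ext2 M hR]; exact (res2 M hR).stab
theorem orb2 (hR : Rels M.gen rels) (y : Ω) : y ∈ M.S lev2.orb ↔ ∃ g ∈ sub M.gen ws2, g • M.dec 2 = y := by rw [ext2 M hR]; exact (res2 M hR).orb y
theorem r1 (hR : Rels M.gen rels) : Rels M.gen rels1 := (Rels.left (Rels.right hR))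
theorem res1 (hR : Rels M.gen rels) : M.LevelRes ws2 lev1 216 := M.level (card2 M hR) chk1 (Rels.left (r1 M hR))
theorem ext1 (hR : Rels M.gen rels) : sub M.gen ws1 = sub M.gen (lev1.gens ws2) := sub_extend (Rels.right (r1 M hR))
theorem card1 (hR : Rels M.gen rels) : Nat.card (sub M.gen ws1) = 216 := by rw [ext1 M hR]; exact (res1 M hR).card
theorem fix1 (hR : Rels M.gen rels) : M.FixTriv (lev1.gens ws2) [1, 2] := (res1 M hR).fixTriv M (fixw2 M hR)
theorem fixw1 (hR : Rels M.gen rels) : M.FixTriv ws1 [1, 2] := fun g hg => fix1 M hR g (ext1 M hR ▸ hg)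
theorem stab1 (hR : Rels M.gen rels) : sub M.gen ws1 ⊓ MulAction.stabilizer Γ (M.dec 1) = sub M.gen ws2 := by rw [ext1 M hR]; exact (res1 M hR).stab
theorem orb1 (hR : Rels M.gen rels) (y : Ω) : y ∈ M.S lev1.orb ↔ ∃ g ∈ sub M.gen ws1, g • M.dec 1 = y := by rw [ext1 M hR]; exact (res1 M hR).orb y
theorem r0 (hR : Rels M.gen rels) : Rels M.gen rels0 := (Rels.left hR)
theorem res0 (hR : Rels M.gen rels) : M.LevelRes ws1 lev0 6048 := M.level (card1 M hR) chk0 (Rels.left (r0 M hR))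
theorem ext0 (hR : Rels M.gen rels) : sub M.gen ws0 = sub M.gen (lev0.gens ws1) := sub_extend (Rels.right (r0 M hR))
theorem card0 (hR : Rels M.gen rels) : Nat.card (sub M.gen ws0) = 6048 := by rw [ext0 M hR]; exact (res0 M hR).card
theorem fix0 (hR : Rels M.gen rels) : M.FixTriv (lev0.gens ws1) [0, 1, 2] := (res0 M hR).fixTriv M (fixw1 M hR)
theorem fixw0 (hR : Rels M.gen rels) : M.FixTriv ws0 [0, 1, 2] := fun g hg => fix0 M hR g (ext0 M hR ▸ hg)
theorem stab0 (hR : Rels M.gen rels) : sub M.gen ws0 ⊓ MulAction.stabilizer Γ (M.dec 0) = sub M.gen ws1 := by rw [ext0 M hR]; exact (res0 M hR).stab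
theorem orb0 (hR : Rels M.gen rels) (y : Ω) : y ∈ M.S lev0.orb ↔ ∃ g ∈ sub M.gen ws0, g • M.dec 0 = y := by rw [ext0 M hR]; exact (res0 M hR).orb y
theorem max0 (hR : Rels M.gen rels) (X : Subgroup Γ) (h1 : sub M.gen ws1 ≤ X) (h2 : X ≤ sub M.gen ws0) : X = sub M.gen ws1 ∨ X = sub M.gen ws0 := by rw [ext0 M hR] at h2 ⊢; exact (res0 M hR).max M primc0 X h1 h2
theorem orig_eq {gen : ℕ → Γ} (h : Rels gen allRels) : sub gen (lets 3) = sub gen ws0 :=
  sub_lets_eq_of_rels (ds := defs) (by decide +kernel) (relsD_of_all h) (by decide +kernel) (relsO_of_all h)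
theorem gen_mem {gen : ℕ → Γ} (h : Rels gen allRels) {X : Subgroup Γ} (h0 : ∀ l < 3, gen l ∈ X) : sub gen ws0 ≤ X :=
  sub_le_of_wsIn (lo := 0) (gen_mem_of_defRels (ds := defs) (fun l _ hl => h0 l hl) (by decide +kernel) (relsD_of_all h)) (by decide +kernel)

end

/-- the permutation group -/
noncomputable abbrev P := permPM 28 nets (by decide) (by decide) nets_ok
theorem allP : Rels P.gen allRels := all_ok' P
/-- machines of this type -/
abbrev St (X : Type*) [Group X] := Std X 28 nets ws0 6048 allRels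
/-- the presentation on the strong generators -/
theorem hom {X : Type*} [Group X] (S : St X) {Δ : Type*} [Group Δ] (y : ℕ → Δ) (hy : Rels y rels) :
    ∃ φ : X →* Δ, φ.range = sub y ws0 ∧ ∀ w ∈ ws0, φ (H14.ev S.M.gen w) = H14.ev y w :=
  S.hom_ws y (card0 _ ((rels_of_all S.rels).prod hy))
/-- the presentation on all letters -/
theorem hom' {X : Type*} [Group X] (S : St X) {Δ : Type*} [Group Δ] (y : ℕ → Δ) (hy : Rels y allRels) :
    ∃ φ : X →* Δ, φ.range = sub y (lets 3) ∧ ∀ l < 6, φ (S.M.gen l) = y l :=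
  S.hom_all y (card0 _ (rels_of_all (S.rels.prod hy))) (orig_eq (S.rels.prod hy)) (orig_eq hy) (ds := defs)
    (by decide +kernel) (relsD_of_all (S.rels.prod hy)) (by decide +kernel)
/-- the matrices of the first letters (and their inverses) -/
def As : List (ℕ × ℕ) :=
[(nat_lit 0x100056059, nat_lit 0x1000990a5),
  (nat_lit 0x506010509, nat_lit 0x909010a05),
  (nat_lit 0x560590001, nat_lit 0x990a50001)]
/-- the vectors -/
def V : ℕ := nat_lit 0x12210911411801612819001914201a18110611210512114401514118414818210a1a0124160111188150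
theorem eqv_ok : c9.eqvM 3 28 [1, 2, 4, 5, 6, 8, 9, 10] V As nets 3 = true := by decide +kernel
theorem sep_ok : c9.sepM 3 28 [1, 2, 4, 5, 6, 8, 9, 10] V (ss.map Prod.fst) = true := by decide +kernel
theorem ctrP : ∀ z ∈ sub P.gen (lets 3), (∀ x ∈ sub P.gen (lets 3), x * z = z * x) → z = 1 :=
  orig_eq allP ▸ center_triv (res0 P (rels_of_all allP)) (ext0 P (rels_of_all allP)) (card1 P (rels_of_all allP))
    (by decide) primc0 (fix0 P (rels_of_all allP)) (by decide +kernel)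
theorem core {F : Type*} [Field F] {a : Ar F} (ha : Ok a c9 3) {ι : Type} [Fintype ι] [DecidableEq ι]
    {e : ι ≃ Fin 3} {T X : Type*} [Group T] [Group X] {ρ : T →* Matrix ι ι F} (h : Mem a e ρ As 3)
    (q : T →* X) (hq : ∀ g, q g = 1 → g = 1 ∨ g ∈ Subgroup.center T ∧ ∀ z ∈ sub P.gen (lets 3), (∀ x ∈ sub P.gen (lets 3), x * z = z * x) → z = 1)
    (hB : Bd (⊤ : Subgroup X) 6048) : ∃ S : St X, Spec S a e ρ q As 3 [1, 2, 4, 5, 6, 8, 9, 10] V (ss.map Prod.fst) :=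
  h.std ha (by decide +kernel) eqv_ok reach_ok sep_ok q hq (ds := defs) (by decide +kernel) (by decide +kernel)
    (relsD_of_all allP) hB (orig_eq allP) (card0 P (rels_of_all allP)) allP
theorem std_spec {F : Type*} [Field F] [Fintype F] (hF : Fintype.card F = 9) {a : Ar F} (ha : Ok a c9 3) :
    ∃ S : St (Cfsg.PSU 3 F 3), Spec S a (Equiv.refl _) (suM 3 F 3) (QuotientGroup.mk' _) As 3 [1, 2, 4, 5, 6, 8, 9, 10] V (ss.map Prod.fst) :=
  core ha (mem_su ha.1 (k := 1) (q := 3) ha.2.2 (by norm_num) rfl (L := As) (by decide +kernel) (by decide +kernel)) _ (hq_ctr ctrP) (bd_psu (q := 3) hF (by decide +kernel))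
theorem std {F : Type*} [Field F] [Fintype F] (hF : Fintype.card F = 9) : Nonempty (St (Cfsg.PSU 3 F 3)) :=
  let ⟨_, ha⟩ := ar_9 (F := F) hF
  let ⟨S, _⟩ := std_spec hF ha
  ⟨S⟩
theorem stdSU_spec {F : Type*} [Field F] [Fintype F] (hF : Fintype.card F = 9) {a : Ar F} (ha : Ok a c9 3) :
    ∃ S : St (Cfsg.SU 3 F 3), Spec S a (Equiv.refl _) (suM 3 F 3) (MonoidHom.id _) As 3 [1, 2, 4, 5, 6, 8, 9, 10] V (ss.map Prod.fst) :=
  core ha (mem_su ha.1 (k := 1) (q := 3) ha.2.2 (by norm_num) rfl (L := As) (by decide +kernel) (by decide +kernel)) _ hq_id (bd_su (q := 3) hF (by decide +kernel))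
theorem stdSU {F : Type*} [Field F] [Fintype F] (hF : Fintype.card F = 9) : Nonempty (St (Cfsg.SU 3 F 3)) :=
  let ⟨_, ha⟩ := ar_9 (F := F) hF
  let ⟨S, _⟩ := stdSU_spec hF ha
  ⟨S⟩

end H15.StdU33
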