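import Cfsg.Agent.H14.Dw2
import Cfsg.Agent.H15.Std3

/-! Standard machine: a simple permutation group of order 604800 (J2) on 100 points, standard generators
Generated certificate (tools14/pkgen, tools15/std.py) for the permutation group StdJ2 of degree 100, order 604800, base 0 1 2 7 4. -/
set_option autoImplicit false
set_option maxRecDepth 100000

namespace H15.StdJ2
open H14

noncomputable def n0 : Net := (.cons (nat_lit 1) (nat_lit 0x5044000444054000)
(.cons (nat_lit 2) (nat_lit 0x100200000110303003000)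
(.cons (nat_lit 4) (nat_lit 0x6090500060006090000)
(.cons (nat_lit 8) (nat_lit 0x600810000000600900000)
(.cons (nat_lit 16) (nat_lit 0x81000000060000000000)
(.cons (nat_lit 32) (nat_lit 0x81000000)
(.cons (nat_lit 64) (nat_lit 0x81000000)
(.cons (nat_lit 32) (nat_lit 0x87000000)
(.cons (nat_lit 16) (nat_lit 0x87000000060600009000)
(.cons (nat_lit 8) (nat_lit 0x600e10078006600f00000)
(.cons (nat_lit 4) (nat_lit 0x60003090f0906090600)
(.cons (nat_lit 2) (nat_lit 0x3300133233333113030330330)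
(.cons (nat_lit 1) (nat_lit 0x55555550101115111501505)
.nil)))))))))))))
theorem n0_ok : Net.ok 100 n0 = true := by decide +kernel
noncomputable def n1 : Net := (.cons (nat_lit 1) (nat_lit 0x1010500114010041410104100)
(.cons (nat_lit 2) (nat_lit 0x121300002013000111211210)
(.cons (nat_lit 4) (nat_lit 0x30c000401050801070c0800)
(.cons (nat_lit 8) (nat_lit 0xc300030074000100480000)
(.cons (nat_lit 16) (nat_lit 0x2070000010000000000)
(.cons (nat_lit 32) (nat_lit 0x2040100)
(.cons (nat_lit 64) (nat_lit 0x2040100)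
(.cons (nat_lit 32) (nat_lit 0x30000000003040100)
(.cons (nat_lit 16) (nat_lit 0xc2070000750000004800)
(.cons (nat_lit 8) (nat_lit 0xcb001300f700c1007c00b0)
(.cons (nat_lit 4) (nat_lit 0x50d070804090f0a0b070f0c)
(.cons (nat_lit 2) (nat_lit 0x132102213113000032030031)
(.cons (nat_lit 1) (nat_lit 0x1410500110010404501545540)
.nil)))))))))))))
theorem n1_ok : Net.ok 100 n1 = true := by decide +kernel
noncomputable def n2 : Net := (.cons (nat_lit 1) (nat_lit 0x5544004140155115404404440)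
(.cons (nat_lit 2) (nat_lit 0x3011120032103122011012020)
(.cons (nat_lit 4) (nat_lit 0x5040a0208020f020d000801)
(.cons (nat_lit 8) (nat_lit 0x5d0051006f003400950002)
(.cons (nat_lit 16) (nat_lit 0x854a0000af010000000c)
(.cons (nat_lit 32) (nat_lit 0xc54d2080)
(.cons (nat_lit 64) (nat_lit 0xccdfff284)
(.cons (nat_lit 32) (nat_lit 0x3000000003d75a714)
(.cons (nat_lit 16) (nat_lit 0xb6f0000168a0000bafd)
(.cons (nat_lit 8) (nat_lit 0x2300ec00230000006100f1)
(.cons (nat_lit 4) (nat_lit 0xa0001070d020b0105050608)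
(.cons (nat_lit 2) (nat_lit 0x1213012132000202110020111)
(.cons (nat_lit 1) (nat_lit 0x4155004114054050445454144)
.nil)))))))))))))
theorem n2_ok : Net.ok 100 n2 = true := by decide +kernel
noncomputable def n3 : Net := (.cons (nat_lit 1) (nat_lit 0x4541401110014104411500114)
(.cons (nat_lit 2) (nat_lit 0x1220130020112130232122200)
(.cons (nat_lit 4) (nat_lit 0x80d090e06050804090b03)
(.cons (nat_lit 8) (nat_lit 0x9700340083000500200000)
(.cons (nat_lit 16) (nat_lit 0x44230000080200000000)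
(.cons (nat_lit 32) (nat_lit 0x800000000020c7910)
(.cons (nat_lit 64) (nat_lit 0xaa73e7b30)
(.cons (nat_lit 32) (nat_lit 0x500000000fa1db8bd)
(.cons (nat_lit 16) (nat_lit 0xa159000085f40000f65c)
(.cons (nat_lit 8) (nat_lit 0x1900fa00080034009300f9)
(.cons (nat_lit 4) (nat_lit 0x9020e090e03080d0d0c0305)
(.cons (nat_lit 2) (nat_lit 0x33123321010333232320002)
(.cons (nat_lit 1) (nat_lit 0x4505144000440541414450104)
.nil)))))))))))))
theorem n3_ok : Net.ok 100 n3 = true := by decide +kernel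
noncomputable def n4 : Net := (.cons (nat_lit 1) (nat_lit 0x4104015455104010101440550)
(.cons (nat_lit 2) (nat_lit 0x2110131232221012110100230)
(.cons (nat_lit 4) (nat_lit 0xf070303030102080c080102)
(.cons (nat_lit 8) (nat_lit 0xab00d10029000500160004)
(.cons (nat_lit 16) (nat_lit 0x29cd0000319700000000)
(.cons (nat_lit 32) (nat_lit 0x12610)
(.cons (nat_lit 64) (nat_lit 0xcdab52752)
(.cons (nat_lit 32) (nat_lit 0xb00000000b8b52d6e)
(.cons (nat_lit 16) (nat_lit 0x3b040000bc2800004084)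
(.cons (nat_lit 8) (nat_lit 0x5700bb008200a600510026)
(.cons (nat_lit 4) (nat_lit 0x5040c0707000f0c0c080404)
(.cons (nat_lit 2) (nat_lit 0x1302232223310232010221102)
(.cons (nat_lit 1) (nat_lit 0x4145004151440500451000440)
.nil)))))))))))))
theorem n4_ok : Net.ok 100 n4 = true := by decide +kernel
noncomputable def n5 : Net := (.cons (nat_lit 1) (nat_lit 0x4104551015011155440054000)
(.cons (nat_lit 2) (nat_lit 0x300302232120233211021100)
(.cons (nat_lit 4) (nat_lit 0xe070c0d0607000b07040f0b)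
(.cons (nat_lit 8) (nat_lit 0xf9000800b0008100530006)
(.cons (nat_lit 16) (nat_lit 0x2a5e0000111500000000)
(.cons (nat_lit 32) (nat_lit 0x20000000005803e30)
(.cons (nat_lit 64) (nat_lit 0xd7fcf7e3e)
(.cons (nat_lit 32) (nat_lit 0xf00000000b69a88b5)
(.cons (nat_lit 16) (nat_lit 0xc133000063e00000518c)
(.cons (nat_lit 8) (nat_lit 0xd000c6004b008100810044)
(.cons (nat_lit 4) (nat_lit 0x30a0e0905070c02050b0005)
(.cons (nat_lit 2) (nat_lit 0x3131200130030003331323030)
(.cons (nat_lit 1) (nat_lit 0x4141111401505105401040404)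
.nil)))))))))))))
theorem n5_ok : Net.ok 100 n5 = true := by decide +kernel
noncomputable def n6 : Net := (.cons (nat_lit 1) (nat_lit 0x5454145414015501515041050)
(.cons (nat_lit 2) (nat_lit 0x232333330011201002111020)
(.cons (nat_lit 4) (nat_lit 0xe050d01050a0d0e070500)
(.cons (nat_lit 8) (nat_lit 0xc70082008c008e008f000d)
(.cons (nat_lit 16) (nat_lit 0x4320000020190000000b)
(.cons (nat_lit 32) (nat_lit 0x504c40a0)
(.cons (nat_lit 64) (nat_lit 0x9ff4ddaae)
(.cons (nat_lit 32) (nat_lit 0x7000000005c00a254)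
(.cons (nat_lit 16) (nat_lit 0x81000000409600000222)
(.cons (nat_lit 8) (nat_lit 0x4200c7005000c20076005d)
(.cons (nat_lit 4) (nat_lit 0x50303040709050003000904)
(.cons (nat_lit 2) (nat_lit 0x11131313322312131333320)
(.cons (nat_lit 1) (nat_lit 0x5415111140441105550450404)
.nil)))))))))))))
theorem n6_ok : Net.ok 100 n6 = true := by decide +kernel
noncomputable def n7 : Net := (.cons (nat_lit 1) (nat_lit 0x1401155441401155141151150)
(.cons (nat_lit 2) (nat_lit 0x2211222113003010210223120)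
(.cons (nat_lit 4) (nat_lit 0x7050b030203000c0c08000c)
(.cons (nat_lit 8) (nat_lit 0x37000500c6004200080009)
(.cons (nat_lit 16) (nat_lit 0x480000d62000000000)
(.cons (nat_lit 32) (nat_lit 0x15d1cb30)
(.cons (nat_lit 64) (nat_lit 0x75df7dbb5)
(.cons (nat_lit 32) (nat_lit 0xe00000000468a1705)
(.cons (nat_lit 16) (nat_lit 0x10010000a02d00007609)
(.cons (nat_lit 8) (nat_lit 0x940095009100f200110095)
(.cons (nat_lit 4) (nat_lit 0x9000a050208000603030504)
(.cons (nat_lit 2) (nat_lit 0x3012320200101223122233300)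
(.cons (nat_lit 1) (nat_lit 0x1100110551450505541141040)
.nil)))))))))))))
theorem n7_ok : Net.ok 100 n7 = true := by decide +kernel
noncomputable def n8 : Net := (.cons (nat_lit 1) (nat_lit 0x5451415154411054140414544)
(.cons (nat_lit 2) (nat_lit 0x3111323212001221130321200)
(.cons (nat_lit 4) (nat_lit 0x20e070c0807090002050800)
(.cons (nat_lit 8) (nat_lit 0x1500510064008000810002)
(.cons (nat_lit 16) (nat_lit 0x1494000002f000000001)
(.cons (nat_lit 32) (nat_lit 0x5a030150)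
(.cons (nat_lit 64) (nat_lit 0x95befd553)
(.cons (nat_lit 32) (nat_lit 0x30000000028815467)
(.cons (nat_lit 16) (nat_lit 0x961f0000f49300002027)
(.cons (nat_lit 8) (nat_lit 0xbf009d008100ee00be0052)
(.cons (nat_lit 4) (nat_lit 0x1090406070e0f0306050c00)
(.cons (nat_lit 2) (nat_lit 0x3021111202201021032210212)
(.cons (nat_lit 1) (nat_lit 0x5541054551540154555151400)
.nil)))))))))))))
theorem n8_ok : Net.ok 100 n8 = true := by decide +kernel
noncomputable def n9 : Net := (.cons (nat_lit 1) (nat_lit 0x1440405010111004505405400)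
(.cons (nat_lit 2) (nat_lit 0x230010121103121221302200)
(.cons (nat_lit 4) (nat_lit 0x803060706050d02040d0000)
(.cons (nat_lit 8) (nat_lit 0x950043003900c700120000)
(.cons (nat_lit 16) (nat_lit 0x19440000404800000000)
(.cons (nat_lit 32) (nat_lit 0x1000000001ce7e400)
(.cons (nat_lit 64) (nat_lit 0x11de7e420)
(.cons (nat_lit 32) (nat_lit 0xb00000000bdfbb6d0)
(.cons (nat_lit 16) (nat_lit 0x9460000683000003620)
(.cons (nat_lit 8) (nat_lit 0x8c005500bd003900f00060)
(.cons (nat_lit 4) (nat_lit 0xf00030f0b0c030807030100)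
(.cons (nat_lit 2) (nat_lit 0x2100011202323000130022320)
(.cons (nat_lit 1) (nat_lit 0x4041140440144501041111050)
.nil)))))))))))))
theorem n9_ok : Net.ok 100 n9 = true := by decide +kernel
noncomputable def n10 : Net := (.cons (nat_lit 1) (nat_lit 0x4550514540140041010040400)
(.cons (nat_lit 2) (nat_lit 0x2131021000210200032001000)
(.cons (nat_lit 4) (nat_lit 0x20108020c0a00000a010200)
(.cons (nat_lit 8) (nat_lit 0x350053000200900018000f)
(.cons (nat_lit 16) (nat_lit 0x80d00000000000000008)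
(.cons (nat_lit 32) (nat_lit 0x60000000004a19940)
(.cons (nat_lit 64) (nat_lit 0x9fcff997f)
(.cons (nat_lit 32) (nat_lit 0xf0000000083f50909)
(.cons (nat_lit 16) (nat_lit 0x2910000905100009058)
(.cons (nat_lit 8) (nat_lit 0x210043001600a4000c001f)
(.cons (nat_lit 4) (nat_lit 0x20108020c0a00000a010200)
(.cons (nat_lit 2) (nat_lit 0x3131021002210200032201100)
(.cons (nat_lit 1) (nat_lit 0x4554514540140041010040400)
.nil)))))))))))))
theorem n10_ok : Net.ok 100 n10 = true := by decide +kernel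
noncomputable def n11 : Net := (.cons (nat_lit 1) (nat_lit 0x1001401444154504041001550)
(.cons (nat_lit 2) (nat_lit 0x1233100112211002103320020)
(.cons (nat_lit 4) (nat_lit 0x8050701050705000c010e0a)
(.cons (nat_lit 8) (nat_lit 0xad0082006100c200310001)
(.cons (nat_lit 16) (nat_lit 0x1a2000003c5200000001)
(.cons (nat_lit 32) (nat_lit 0x20000000021005600)
(.cons (nat_lit 64) (nat_lit 0x92faa56db)
(.cons (nat_lit 32) (nat_lit 0x40000000032e33c98)
(.cons (nat_lit 16) (nat_lit 0x1c4900001e2500009ec2)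
(.cons (nat_lit 8) (nat_lit 0x240092004f00e900eb0059)
(.cons (nat_lit 4) (nat_lit 0x2060d07000c060f02050c02)
(.cons (nat_lit 2) (nat_lit 0x3300321023303033212202110)
(.cons (nat_lit 1) (nat_lit 0x411441410510014410150550)
.nil)))))))))))))
theorem n11_ok : Net.ok 100 n11 = true := by decide +kernel
noncomputable def nets : List Net := [n0, n1, n2, n3, n4, n5, n6, n7, n8, n9, n10, n11]
theorem nets_ok : netsOk 100 nets = true := List.all_eq_true.2 (fa_cons n0_ok (fa_cons n1_ok (fa_cons n2_ok (fa_cons n3_ok (fa_cons n4_ok (fa_cons n5_ok (fa_cons n6_ok (fa_cons n7_ok (fa_cons n8_ok (fa_cons n9_ok (fa_cons n10_ok (fa_cons n11_ok (fa_nil)))))))))))))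
noncomputable def ws5 : List Word := []
noncomputable def lev4 : Level := ⟨nat_lit 4,
[⟨[nat_lit 20], [], [],
[⟨nat_lit 0, [], nat_lit 1, [], []⟩,
⟨nat_lit 1, [], nat_lit 0, [], []⟩],
[]⟩],
[⟨dw (nat_lit 0x01), (nat_lit 0x200000000000000000000), [], .nil, []⟩]⟩
noncomputable def ex4 : List Word := []
noncomputable def ws4 : List Word := List.append ex4 (lev4.gens ws5)
noncomputable def rels4 : List (Word × Word) := List.append (lev4.rels ws5) (memRels (lev4.gens ws5) ex4 [])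
noncomputable def lev3 : Level := ⟨nat_lit 7,
[⟨[nat_lit 22], [], [],
[⟨nat_lit 0, [], nat_lit 1, [], []⟩,
⟨nat_lit 1, [], nat_lit 3, [], []⟩,
⟨nat_lit 2, [], nat_lit 0, [], []⟩,
⟨nat_lit 3, [], nat_lit 2, [], []⟩,
⟨nat_lit 4, [], nat_lit 1, dw (nat_lit 0x01), []⟩,
⟨nat_lit 5, [], nat_lit 4, [], dw (nat_lit 0x01)⟩,
⟨nat_lit 6, [], nat_lit 5, dw (nat_lit 0x01), []⟩,
⟨nat_lit 1, dw (nat_lit 0x01), nat_lit 2, dw (nat_lit 0x01), dw (nat_lit 0x01)⟩,
⟨nat_lit 2, dw (nat_lit 0x01), nat_lit 5, [], []⟩,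
⟨nat_lit 3, dw (nat_lit 0x01), nat_lit 4, dw (nat_lit 0x01), []⟩,
⟨nat_lit 4, dw (nat_lit 0x01), nat_lit 6, [], []⟩,
⟨nat_lit 5, dw (nat_lit 0x01), nat_lit 3, dw (nat_lit 0x01), []⟩],
[]⟩],
[⟨dw (nat_lit 0x01), (nat_lit 0x100000000000000020000), [dw (nat_lit 0x01)], .nil, []⟩,
⟨dw (nat_lit 0x02), (nat_lit 0x10000010000000000), [dw (nat_lit 0x01)], .nil, []⟩,
⟨dw (nat_lit 0x0101), (nat_lit 0x40000000800000000), [dw (nat_lit 0x01)], .nil, []⟩,
⟨dw (nat_lit 0x020301), (nat_lit 0x2000000000000000010000000), [dw (nat_lit 0x01)], .nil, []⟩,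
⟨dw (nat_lit 0x010302), (nat_lit 0x1000000000000000000000800), [dw (nat_lit 0x01)], .nil, []⟩,
⟨dw (nat_lit 0x0101030101), (nat_lit 0x800000000000000000), [], (.cons (nat_lit 4) [dw (nat_lit 0x01)] [dw (nat_lit 0x01)]
.nil), [dw (nat_lit 0x01)]⟩]⟩
noncomputable def ex3 : List Word := [[nat_lit 14], [nat_lit 18]]
noncomputable def ws3 : List Word := List.append ex3 (lev3.gens ws4)
noncomputable def rels3 : List (Word × Word) := List.append (lev3.rels ws4) (memRels (lev3.gens ws4) ex3 [dw (nat_lit 0x01030101), dw (nat_lit 0x030101)])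
noncomputable def lev2 : Level := ⟨nat_lit 2,
[⟨[nat_lit 12], [dw (nat_lit 0x0501), dw (nat_lit 0x07)], [dw (nat_lit 0x0307), dw (nat_lit 0x0207)],
[⟨nat_lit 0, [], nat_lit 1, [], []⟩,
⟨nat_lit 1, [], nat_lit 1, dw (nat_lit 0x03), dw (nat_lit 0x030107)⟩,
⟨nat_lit 1, dw (nat_lit 0x02), nat_lit 0, [], dw (nat_lit 0x0107)⟩,
⟨nat_lit 1, dw (nat_lit 0x06), nat_lit 1, dw (nat_lit 0x0401), dw (nat_lit 0x03)⟩],
[dw (nat_lit 0x03), dw (nat_lit 0x01)]⟩],
[⟨dw (nat_lit 0x01), (nat_lit 0x41000050004000000040), [dw (nat_lit 0x01), dw (nat_lit 0x05), dw (nat_lit 0x03)], (.cons (nat_lit 7) [dw (nat_lit 0x0105), dw (nat_lit 0x04010401)] [dw (nat_lit 0x01), dw (nat_lit 0x03)]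
.nil), [dw (nat_lit 0x050107), dw (nat_lit 0x0501)]⟩]⟩
noncomputable def ex2 : List Word := []
noncomputable def ws2 : List Word := List.append ex2 (lev2.gens ws3)
noncomputable def rels2 : List (Word × Word) := List.append (lev2.rels ws3) (memRels (lev2.gens ws3) ex2 [])
noncomputable def lev1 : Level := ⟨nat_lit 1,
[⟨[nat_lit 16], [dw (nat_lit 0x07), dw (nat_lit 0x09)], [dw (nat_lit 0x06), dw (nat_lit 0x08010609)],
[⟨nat_lit 0, [], nat_lit 1, [], []⟩,
⟨nat_lit 1, [], nat_lit 3, [], []⟩,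
⟨nat_lit 2, [], nat_lit 0, [], []⟩,
⟨nat_lit 3, [], nat_lit 1, dw (nat_lit 0x0101), dw (nat_lit 0x010704)⟩,
⟨nat_lit 1, dw (nat_lit 0x02), nat_lit 2, dw (nat_lit 0x0202), dw (nat_lit 0x030104)⟩,
⟨nat_lit 2, dw (nat_lit 0x01), nat_lit 3, dw (nat_lit 0x0202), dw (nat_lit 0x0203)⟩,
⟨nat_lit 3, dw (nat_lit 0x0301), nat_lit 2, [], dw (nat_lit 0x0204)⟩,
⟨nat_lit 3, dw (nat_lit 0x02), nat_lit 3, dw (nat_lit 0x0602), dw (nat_lit 0x01010503)⟩],
[dw (nat_lit 0x01), dw (nat_lit 0x03), dw (nat_lit 0x01), dw (nat_lit 0x01), dw (nat_lit 0x03), dw (nat_lit 0x01)]⟩],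
[⟨dw (nat_lit 0x01), (nat_lit 0x208000401020000000018), [dw (nat_lit 0x01), dw (nat_lit 0x0101), dw (nat_lit 0x0204), dw (nat_lit 0x01)], (.cons (nat_lit 2) [dw (nat_lit 0x0203)] [dw (nat_lit 0x01), dw (nat_lit 0x03)]
(.cons (nat_lit 7) [dw (nat_lit 0x05)] [dw (nat_lit 0x01), dw (nat_lit 0x0203)]
(.cons (nat_lit 4) [dw (nat_lit 0x09)] [dw (nat_lit 0x01)]
.nil))), [dw (nat_lit 0x0603), dw (nat_lit 0x08), dw (nat_lit 0x0509)]⟩,
⟨dw (nat_lit 0x02), (nat_lit 0x41000050004000000044), [dw (nat_lit 0x01), dw (nat_lit 0x0701), dw (nat_lit 0x01), dw (nat_lit 0x01)], (.cons (nat_lit 7) [dw (nat_lit 0x07)] [dw (nat_lit 0x01), dw (nat_lit 0x0401), dw (nat_lit 0x01), dw (nat_lit 0x01), dw (nat_lit 0x01)]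
(.cons (nat_lit 4) [dw (nat_lit 0x09)] [dw (nat_lit 0x01)]
.nil)), [dw (nat_lit 0x06), dw (nat_lit 0x08010609)]⟩,
⟨dw (nat_lit 0x0101), (nat_lit 0x3000180c50028c11890021880), [dw (nat_lit 0x01), dw (nat_lit 0x03), dw (nat_lit 0x01), dw (nat_lit 0x03), dw (nat_lit 0x01), dw (nat_lit 0x03)], (.cons (nat_lit 2) [dw (nat_lit 0x080105)] [dw (nat_lit 0x01)]
(.cons (nat_lit 7) [dw (nat_lit 0x0703)] [dw (nat_lit 0x01)]
(.cons (nat_lit 4) [dw (nat_lit 0x09)] [dw (nat_lit 0x01)]
.nil))), [dw (nat_lit 0x070309), dw (nat_lit 0x0609), dw (nat_lit 0x0604)]⟩]⟩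
noncomputable def ex1 : List Word := [[nat_lit 8], [nat_lit 10]]
noncomputable def ws1 : List Word := List.append ex1 (lev1.gens ws2)
noncomputable def rels1 : List (Word × Word) := List.append (lev1.rels ws2) (memRels (lev1.gens ws2) ex1 [dw (nat_lit 0x02030103030b), dw (nat_lit 0x010302040409050b)])
noncomputable def lev0 : Level := ⟨nat_lit 0,
[⟨[nat_lit 4], [dw (nat_lit 0x020f01), dw (nat_lit 0x0d), dw (nat_lit 0x0f)], [dw (nat_lit 0x0d0308090f), dw (nat_lit 0x050507070d0f), dw (nat_lit 0x07070b)],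
[⟨nat_lit 0, [], nat_lit 1, [], []⟩,
⟨nat_lit 1, [], nat_lit 2, [], []⟩,
⟨nat_lit 2, dw (nat_lit 0x0e), nat_lit 2, dw (nat_lit 0x0c), dw (nat_lit 0x010c01070c0f)⟩,
⟨nat_lit 1, dw (nat_lit 0x07), nat_lit 1, dw (nat_lit 0x0a01), dw (nat_lit 0x0c030c0a0f)⟩,
⟨nat_lit 2, dw (nat_lit 0x05), nat_lit 1, dw (nat_lit 0x0804), dw (nat_lit 0x0806080a)⟩,
⟨nat_lit 1, dw (nat_lit 0x0801), nat_lit 0, [], dw (nat_lit 0x0701070d)⟩,
⟨nat_lit 1, dw (nat_lit 0x0302), nat_lit 1, dw (nat_lit 0x09), dw (nat_lit 0x080607070b090f)⟩],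
[dw (nat_lit 0x03), dw (nat_lit 0x05), dw (nat_lit 0x03), dw (nat_lit 0x03), dw (nat_lit 0x05), dw (nat_lit 0x01), dw (nat_lit 0x05), dw (nat_lit 0x03)
, dw (nat_lit 0x03), dw (nat_lit 0x05)]⟩],
[⟨dw (nat_lit 0x01), (nat_lit 0x30003c9c50479c358900218de), [dw (nat_lit 0x01), dw (nat_lit 0x03), dw (nat_lit 0x05), dw (nat_lit 0x07), dw (nat_lit 0x05), dw (nat_lit 0x01), dw (nat_lit 0x05), dw (nat_lit 0x01)
], (.cons (nat_lit 1) [dw (nat_lit 0x070101)] [dw (nat_lit 0x01), dw (nat_lit 0x05), dw (nat_lit 0x01), dw (nat_lit 0x03), dw (nat_lit 0x05), dw (nat_lit 0x03), dw (nat_lit 0x01), dw (nat_lit 0x05)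
]
(.cons (nat_lit 2) [dw (nat_lit 0x070d)] [dw (nat_lit 0x01), dw (nat_lit 0x03), dw (nat_lit 0x01)]
(.cons (nat_lit 7) [dw (nat_lit 0x0d09)] [dw (nat_lit 0x01)]
.nil))), [dw (nat_lit 0x090107070d09), dw (nat_lit 0x0d09), dw (nat_lit 0x0c0f)]⟩,
⟨dw (nat_lit 0x0101), (nat_lit 0xcfffc363afb863ca76ffde720), [dw (nat_lit 0x01), dw (nat_lit 0x03), dw (nat_lit 0x05), dw (nat_lit 0x0f), dw (nat_lit 0x07), dw (nat_lit 0x01), dw (nat_lit 0x05), dw (nat_lit 0x01)
], (.cons (nat_lit 1) [dw (nat_lit 0x02060902)] [dw (nat_lit 0x01), dw (nat_lit 0x01), dw (nat_lit 0x01), dw (nat_lit 0x03), dw (nat_lit 0x01), dw (nat_lit 0x03), dw (nat_lit 0x01), dw (nat_lit 0x01)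
, dw (nat_lit 0x03), dw (nat_lit 0x03)]
(.cons (nat_lit 2) [dw (nat_lit 0x08090709)] [dw (nat_lit 0x01), dw (nat_lit 0x01), dw (nat_lit 0x01)]
.nil)), [dw (nat_lit 0x02060d0a0f), dw (nat_lit 0x0606080c)]⟩]⟩
noncomputable def ex0 : List Word := [[nat_lit 6]]
noncomputable def ws0 : List Word := List.append ex0 (lev0.gens ws1)
noncomputable def rels0 : List (Word × Word) := List.append (lev0.rels ws1) (memRels (lev0.gens ws1) ex0 [dw (nat_lit 0x0901010a030a0a10)])
noncomputable def prim0 : List (List Word) := [[dw (nat_lit 0x01), dw (nat_lit 0x0801), dw (nat_lit 0x01), dw (nat_lit 0x03), dw (nat_lit 0x09), dw (nat_lit 0x07), dw (nat_lit 0x01), dw (nat_lit 0x03)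
, dw (nat_lit 0x07)],
[dw (nat_lit 0x01), dw (nat_lit 0x03), dw (nat_lit 0x05), dw (nat_lit 0x07), dw (nat_lit 0x11), dw (nat_lit 0x09), dw (nat_lit 0x03), dw (nat_lit 0x07)
, dw (nat_lit 0x01), dw (nat_lit 0x03), dw (nat_lit 0x03)]]
noncomputable def rels : List (Word × Word) := List.append rels0 (List.append rels1 (List.append rels2 (List.append rels3 (List.append rels4 ([])))))
noncomputable def defs : List Word := [dw (nat_lit 0x02020301040103010301040104020202030104010301030104010402), dw (nat_lit 0x030202030104010301030104010402020203010401030103010401040204), dw (nat_lit 0x0507070607050808050706080805), dw (nat_lit 0x060808), dw (nat_lit 0x090c090c090c), dw (nat_lit 0x0a0a0b090b0a0a0c0c09), dw (nat_lit 0x0c09), dw (nat_lit 0x0d0d0f0e0e0e0f0f0f0f)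
, dw (nat_lit 0x140f131013131014), dw (nat_lit 0x0f14)]
noncomputable def relsD : List (Word × Word) := defRels defs 2
noncomputable def relsO : List (Word × Word) := memRels ws0 (lets 2) [dw (nat_lit 0x09040b060b0b), dw (nat_lit 0x0407050c0c0d)]
noncomputable def zc : Word := dw (nat_lit 0x0407050c0c0d)
noncomputable def relsS : List (Word × Word) := List.append [(powW [2 * 2] 5, [])] [([2 * (2 + 1)], conjW [2 * 2] (flat ws0 zc))]
noncomputable def allRels : List (Word × Word) := List.append rels (List.append relsD (List.append relsO relsS))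
theorem chk4 : lev4.chk 100 nets ws5 1 2 = true := by decide +kernel
theorem chk3 : lev3.chk 100 nets ws4 2 24 = true := by decide +kernel
theorem chk2 : lev2.chk 100 nets ws3 24 168 = true := by decide +kernel
theorem chk1 : lev1.chk 100 nets ws2 168 6048 = true := by decide +kernel
theorem primc0 : PM.primChk nets ws1 lev0 lev0.sos prim0 = true := by decide +kernel
theorem chk0 : lev0.chk 100 nets ws1 6048 604800 = true := by decide +kernel
theorem rc0 : relsChk 100 nets 7 (idArr 100 7 7 0) allRels = true := by decide +kernel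
section
variable {Γ Ω : Type*} [Group Γ] [MulAction Γ Ω] (M : PM Γ Ω 100 nets)

theorem all_ok (hs : M.Sep 7 (idArr 100 7 7 0)) : Rels M.gen allRels := (M.rels_of_chk hs rc0)
theorem sep [FaithfulSMul Γ Ω] : M.Sep 7 (idArr 100 7 7 0) := M.sep_idArr (by decide)
theorem all_ok' [FaithfulSMul Γ Ω] : Rels M.gen allRels := all_ok M (sep M)
theorem rels_of_all {gen : ℕ → Γ} (h : Rels gen allRels) : Rels gen rels := Rels.left h
theorem relsD_of_all {gen : ℕ → Γ} (h : Rels gen allRels) : Rels gen relsD := Rels.left (Rels.right h)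
theorem relsO_of_all {gen : ℕ → Γ} (h : Rels gen allRels) : Rels gen relsO := Rels.left (Rels.right (Rels.right h))
theorem relsS_of_all {gen : ℕ → Γ} (h : Rels gen allRels) : Rels gen relsS := Rels.right (Rels.right (Rels.right h))
theorem card5 (_hR : Rels M.gen rels) : Nat.card (sub M.gen ws5) = 1 := M.card_nil
theorem fixw5 (_hR : Rels M.gen rels) : M.FixTriv ws5 [] := M.fixTriv_nil
theorem r4 (hR : Rels M.gen rels) : Rels M.gen rels4 := (Rels.left (Rels.right (Rels.right (Rels.right (Rels.right hR)))))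
theorem res4 (hR : Rels M.gen rels) : M.LevelRes ws5 lev4 2 := M.level (card5 M hR) chk4 (Rels.left (r4 M hR))
theorem ext4 (hR : Rels M.gen rels) : sub M.gen ws4 = sub M.gen (lev4.gens ws5) := sub_extend (Rels.right (r4 M hR))
theorem card4 (hR : Rels M.gen rels) : Nat.card (sub M.gen ws4) = 2 := by rw [ext4 M hR]; exact (res4 M hR).card
theorem fix4 (hR : Rels M.gen rels) : M.FixTriv (lev4.gens ws5) [4] := (res4 M hR).fixTriv M (fixw5 M hR)
theorem fixw4 (hR : Rels M.gen rels) : M.FixTriv ws4 [4] := fun g hg => fix4 M hR g (ext4 M hR ▸ hg)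
theorem stab4 (hR : Rels M.gen rels) : sub M.gen ws4 ⊓ MulAction.stabilizer Γ (M.dec 4) = sub M.gen ws5 := by rw [ext4 M hR]; exact (res4 M hR).stab
theorem orb4 (hR : Rels M.gen rels) (y : Ω) : y ∈ M.S lev4.orb ↔ ∃ g ∈ sub M.gen ws4, g • M.dec 4 = y := by rw [ext4 M hR]; exact (res4 M hR).orb y
theorem r3 (hR : Rels M.gen rels) : Rels M.gen rels3 := (Rels.left (Rels.right (Rels.right (Rels.right hR))))
theorem res3 (hR : Rels M.gen rels) : M.LevelRes ws4 lev3 24 := M.level (card4 M hR) chk3 (Rels.left (r3 M hR))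
theorem ext3 (hR : Rels M.gen rels) : sub M.gen ws3 = sub M.gen (lev3.gens ws4) := sub_extend (Rels.right (r3 M hR))
theorem card3 (hR : Rels M.gen rels) : Nat.card (sub M.gen ws3) = 24 := by rw [ext3 M hR]; exact (res3 M hR).card
theorem fix3 (hR : Rels M.gen rels) : M.FixTriv (lev3.gens ws4) [7, 4] := (res3 M hR).fixTriv M (fixw4 M hR)
theorem fixw3 (hR : Rels M.gen rels) : M.FixTriv ws3 [7, 4] := fun g hg => fix3 M hR g (ext3 M hR ▸ hg)
theorem stab3 (hR : Rels M.gen rels) : sub M.gen ws3 ⊓ MulAction.stabilizer Γ (M.dec 7) = sub M.gen ws4 := by rw [ext3 M hR]; exact (res3 M hR).stab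
theorem orb3 (hR : Rels M.gen rels) (y : Ω) : y ∈ M.S lev3.orb ↔ ∃ g ∈ sub M.gen ws3, g • M.dec 7 = y := by rw [ext3 M hR]; exact (res3 M hR).orb y
theorem r2 (hR : Rels M.gen rels) : Rels M.gen rels2 := (Rels.left (Rels.right (Rels.right hR)))
theorem res2 (hR : Rels M.gen rels) : M.LevelRes ws3 lev2 168 := M.level (card3 M hR) chk2 (Rels.left (r2 M hR))
theorem ext2 (hR : Rels M.gen rels) : sub M.gen ws2 = sub M.gen (lev2.gens ws3) := sub_extend (Rels.right (r2 M hR))
theorem card2 (hR : Rels M.gen rels) : Nat.card (sub M.gen ws2) = 168 := by rw [ext2 M hR]; exact (res2 M hR).card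
theorem fix2 (hR : Rels M.gen rels) : M.FixTriv (lev2.gens ws3) [2, 7, 4] := (res2 M hR).fixTriv M (fixw3 M hR)
theorem fixw2 (hR : Rels M.gen rels) : M.FixTriv ws2 [2, 7, 4] := fun g hg => fix2 M hR g (ext2 M hR ▸ hg)
theorem stab2 (hR : Rels M.gen rels) : sub M.gen ws2 ⊓ MulAction.stabilizer Γ (M.dec 2) = sub M.gen ws3 := by rw [ext2 M hR]; exact (res2 M hR).stab
theorem orb2 (hR : Rels M.gen rels) (y : Ω) : y ∈ M.S lev2.orb ↔ ∃ g ∈ sub M.gen ws2, g • M.dec 2 = y := by rw [ext2 M hR]; exact (res2 M hR).orb y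
theorem r1 (hR : Rels M.gen rels) : Rels M.gen rels1 := (Rels.left (Rels.right hR))
theorem res1 (hR : Rels M.gen rels) : M.LevelRes ws2 lev1 6048 := M.level (card2 M hR) chk1 (Rels.left (r1 M hR))
theorem ext1 (hR : Rels M.gen rels) : sub M.gen ws1 = sub M.gen (lev1.gens ws2) := sub_extend (Rels.right (r1 M hR))
theorem card1 (hR : Rels M.gen rels) : Nat.card (sub M.gen ws1) = 6048 := by rw [ext1 M hR]; exact (res1 M hR).card
theorem fix1 (hR : Rels M.gen rels) : M.FixTriv (lev1.gens ws2) [1, 2, 7, 4] := (res1 M hR).fixTriv M (fixw2 M hR)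
theorem fixw1 (hR : Rels M.gen rels) : M.FixTriv ws1 [1, 2, 7, 4] := fun g hg => fix1 M hR g (ext1 M hR ▸ hg)
theorem stab1 (hR : Rels M.gen rels) : sub M.gen ws1 ⊓ MulAction.stabilizer Γ (M.dec 1) = sub M.gen ws2 := by rw [ext1 M hR]; exact (res1 M hR).stab
theorem orb1 (hR : Rels M.gen rels) (y : Ω) : y ∈ M.S lev1.orb ↔ ∃ g ∈ sub M.gen ws1, g • M.dec 1 = y := by rw [ext1 M hR]; exact (res1 M hR).orb y
theorem r0 (hR : Rels M.gen rels) : Rels M.gen rels0 := (Rels.left hR)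
theorem res0 (hR : Rels M.gen rels) : M.LevelRes ws1 lev0 604800 := M.level (card1 M hR) chk0 (Rels.left (r0 M hR))
theorem ext0 (hR : Rels M.gen rels) : sub M.gen ws0 = sub M.gen (lev0.gens ws1) := sub_extend (Rels.right (r0 M hR))
theorem card0 (hR : Rels M.gen rels) : Nat.card (sub M.gen ws0) = 604800 := by rw [ext0 M hR]; exact (res0 M hR).card
theorem fix0 (hR : Rels M.gen rels) : M.FixTriv (lev0.gens ws1) [0, 1, 2, 7, 4] := (res0 M hR).fixTriv M (fixw1 M hR)
theorem fixw0 (hR : Rels M.gen rels) : M.FixTriv ws0 [0, 1, 2, 7, 4] := fun g hg => fix0 M hR g (ext0 M hR ▸ hg)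
theorem stab0 (hR : Rels M.gen rels) : sub M.gen ws0 ⊓ MulAction.stabilizer Γ (M.dec 0) = sub M.gen ws1 := by rw [ext0 M hR]; exact (res0 M hR).stab
theorem orb0 (hR : Rels M.gen rels) (y : Ω) : y ∈ M.S lev0.orb ↔ ∃ g ∈ sub M.gen ws0, g • M.dec 0 = y := by rw [ext0 M hR]; exact (res0 M hR).orb y
theorem max0 (hR : Rels M.gen rels) (X : Subgroup Γ) (h1 : sub M.gen ws1 ≤ X) (h2 : X ≤ sub M.gen ws0) : X = sub M.gen ws1 ∨ X = sub M.gen ws0 := by rw [ext0 M hR] at h2 ⊢; exact (res0 M hR).max M primc0 X h1 h2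
theorem orig_eq {gen : ℕ → Γ} (h : Rels gen allRels) : sub gen (lets 2) = sub gen ws0 :=
  sub_lets_eq_of_rels (ds := defs) (by decide +kernel) (relsD_of_all h) (by decide +kernel) (relsO_of_all h)
theorem gen_mem {gen : ℕ → Γ} (h : Rels gen allRels) {X : Subgroup Γ} (h0 : ∀ l < 2, gen l ∈ X) : sub gen ws0 ≤ X :=
  sub_le_of_wsIn (lo := 0) (gen_mem_of_defRels (ds := defs) (fun l _ hl => h0 l hl) (by decide +kernel) (relsD_of_all h)) (by decide +kernel)
theorem simple (h : Rels M.gen allRels) : IsSimpleGroup (sub M.gen ws0) :=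
  (res0 M (rels_of_all h)).simple (ext0 M (rels_of_all h)) (card1 M (rels_of_all h)) (by decide) primc0 (fix0 M (rels_of_all h)) (by decide +kernel)
    (z := M.gen 2) (by rw [← ev_single M.gen 2]; exact ev_getL_mem M.gen ws0 1) (m := 5)
    (by rw [← ev_single M.gen 2]; exact pow_eq_one_of_rels (Rels.left (relsS_of_all h))) (by norm_num)
    (ncl_of_defRels (ds := defs.drop 2) (c := zc) (by decide +kernel) (defRels_drop defs 2 2 ▸ (relsD_of_all h).drop 2) (by decide +kernel) (Rels.right (relsS_of_all h)))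

end

/-- the permutation group -/
noncomputable abbrev P := permPM 100 nets (by decide) (by decide) nets_ok
theorem allP : Rels P.gen allRels := all_ok' P
/-- machines of this type -/
abbrev St (X : Type*) [Group X] := Std X 100 nets ws0 604800 allRels
/-- the presentation on the strong generators -/
theorem hom {X : Type*} [Group X] (S : St X) {Δ : Type*} [Group Δ] (y : ℕ → Δ) (hy : Rels y rels) :
    ∃ φ : X →* Δ, φ.range = sub y ws0 ∧ ∀ w ∈ ws0, φ (H14.ev S.M.gen w) = H14.ev y w :=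
  S.hom_ws y (card0 _ ((rels_of_all S.rels).prod hy))
/-- the presentation on all letters -/
theorem hom' {X : Type*} [Group X] (S : St X) {Δ : Type*} [Group Δ] (y : ℕ → Δ) (hy : Rels y allRels) :
    ∃ φ : X →* Δ, φ.range = sub y (lets 2) ∧ ∀ l < 12, φ (S.M.gen l) = y l :=
  S.hom_all y (card0 _ (rels_of_all (S.rels.prod hy))) (orig_eq (S.rels.prod hy)) (orig_eq hy) (ds := defs)
    (by decide +kernel) (relsD_of_all (S.rels.prod hy)) (by decide +kernel)
theorem St.simple {X : Type*} [Group X] (S : St X) : IsSimpleGroup X :=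
  have := S.faithful
  simple_of_top (H15.StdJ2.simple S.M S.rels) S.top
theorem std : Nonempty (St (sub P.gen ws0)) :=
  let ⟨S, _⟩ := std_of_hom (sub P.gen ws0).subtype (k := 2)
    (fun _ hl => ⟨⟨_, orig_eq allP ▸ gen_mem_lets hl⟩, rfl⟩) (ds := defs) (by decide +kernel) (by decide +kernel)
    (relsD_of_all allP) (Bd.of_card (card0 P (rels_of_all allP)) (by decide)).top_sub
    (card0 P (rels_of_all allP)) allP
  ⟨S⟩
/-- a nontrivial group generated by letters satisfying the relations -/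
theorem std_of_rels {Δ : Type*} [Group Δ] {y : ℕ → Δ} (hy : Rels y allRels) (h : y 0 ≠ 1)
    (ht : sub y (lets 2) = ⊤) : ∃ S : St Δ, ∀ l < 12, S.M.gen l = y l := by
  obtain ⟨S⟩ := std
  obtain ⟨φ, h1, h2⟩ := hom' S y hy
  have := St.simple S
  let e := MulEquiv.ofBijective φ ⟨inj_of_simple φ (g := S.M.gen 0) (h2 0 (by decide) ▸ h),
    MonoidHom.range_eq_top.1 (h1.trans ht)⟩
  obtain ⟨S', h3⟩ := S.congr e.symm
  exact ⟨S', fun l hl => (e.symm_apply_eq.1 (h3 l)).trans (h2 l hl)⟩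
/-- words satisfying the relations generate a simple group of this order -/
theorem sub_simple {Δ : Type*} [Group Δ] {y : ℕ → Δ} (hy : Rels y allRels) (h : y 0 ≠ 1) :
    IsSimpleGroup (sub y (lets 2)) ∧ Nat.card (sub y (lets 2)) = 604800 := by
  obtain ⟨S⟩ := std
  obtain ⟨φ, h1, h2⟩ := hom' S y hy
  have := St.simple S
  have e := MonoidHom.ofInjective (inj_of_simple φ (g := S.M.gen 0) (h2 0 (by decide) ▸ h))
  rw [← h1]
  exact ⟨e.symm.isSimpleGroup, (Nat.card_congr e.symm.toEquiv).trans S.card⟩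

end H15.StdJ2
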