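import Cfsg.Agent.H15.HNR
import Cfsg.Agent.H15.HNX
import Cfsg.Agent.H15.THN1
import Cfsg.Agent.H15.THN2
import Cfsg.Agent.H15.THN3
import Cfsg.Agent.H15.THN4
import Cfsg.Agent.H15.THN5
import Cfsg.Agent.H15.THN6
import Cfsg.Agent.H15.THN7

/-! The presented group `Cfsg.Spor.HN`: order, simplicity, the subgroup on `x, y, z` as a machine `H15.HN.M` on
1408 points embedded by `theta`, the faithful representation `rho`. -/

set_option Elab.async false
set_option linter.constructorNameAsVariable false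

namespace H15.HN
open Cfsg.Spor Cfsg.Spor.HN H14

/-- the permutation machine -/
noncomputable abbrev P := permPM 1408 HNH.nets (by decide) (by decide) HNH.nets_ok
/-- pairs -/
noncomputable def g2 : ℕ → Cfsg.Spor.HN × Equiv.Perm (Fin 1408) := pr g P.gen
/-- identical substitutions -/
def i4 : List (List ℕ) := [[0], [1], [2], [3]]
def i6 : List (List ℕ) := [[0], [1], [2], [3], [4], [5]]
def i8 : List (List ℕ) := [[0], [1], [2], [3], [4], [5], [6], [7]]
/-- a subgroup of order 240 -/
def sS : List (List ℕ) := [[0, 0], [2, 2, 2], [1, 2, 0]]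
/-- the word `x y x y x y y x y⁻¹` -/
def uw : List ℕ := [0, 2, 0, 2, 0, 2, 2, 0, 3]

theorem qc : relsChk 1408 HNH.nets 11 (idArr 1408 11 11 0)
    ((THN4.rels ++ THN3.tgts.map (sb i4)).map fun w => (w.reverse, [])) = true := by decide +kernel
theorem qrel : RelL P.gen (THN4.rels ++ THN3.tgts.map (sb i4)) := relL_of_rels (P.rels_of_idArr (by decide) qc)
theorem rel2 : RelL g2 THN4.rels := (rel.sub (by decide +kernel)).pr qrel.left
theorem r1 : RelL g2 (THN1.tgts.map (sb i6)) := rel_step THN1.mem rel2 i6 (by decide +kernel)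
theorem bdS : Bd (Sw g2 sS) (1 * 240) :=
  bd_step THN2.idx r1 [[0, 0], [2, 2, 2], [1, 2, 0], [1, 3, 0]] (Bd.Sw_nil g2) (by decide +kernel)
theorem r3 : RelL g2 (THN3.tgts.map (sb i4)) := relL_of_mem bdS
  (low_sbst P sS (.cons 37 [[0], [2], [4]] [[0], [2], [4], [2], [4], [6], [4], [2], [4], [4], [2]]
    (.cons 3 [[4, 4, 2, 5, 5]] [[0]] .nil)) (by decide +kernel))
  (mem_step THN3.mem rel2 i4 sS (by decide +kernel)) qrel.right

theorem hw : RelL g2 [powL uw 7] := by
  have e : ∀ l, letter g2 (2 * l) = g2 l := fun l => by simp [letter]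
  have e' : ∀ l, letter g2 (2 * l + 1) = (g2 l)⁻¹ := fun l => by
    rw [letter, if_neg (by omega), show (2 * l + 1) / 2 = l by omega]
  have h3 := r3.fr (u := powL (powL uw 7) 3) (by decide +kernel)
  have hx := r3.fr (u := (2 * 0) :: powL uw 7 ++ (2 * 0 + 1) :: powL uw 7) (by decide +kernel)
  have hy := r3.fr (u := (2 * 1) :: powL uw 7 ++ (2 * 1 + 1) :: iw (powL uw 7)) (by decide +kernel)
  have hz := r1.fr (u := (2 * 2) :: uw ++ (2 * 2 + 1) :: iw uw) (by decide +kernel)
  rw [ev_append, ev_cons, ev_cons, e, e', ← mul_assoc] at hx hy hz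
  rw [ev_iw, mul_inv_eq_one] at hy hz
  rw [mul_eq_one_iff_eq_inv] at hx
  have hz' : g2 2 * ev (letter g2) (powL uw 7) * (g2 2)⁻¹ = ev (letter g2) (powL uw 7) := by
    rw [ev_powL, ← conj_pow, hz]
  rw [ev_powL] at h3
  generalize hW : ev (letter g2) (powL uw 7) = W at *
  have h := eq_inv_of_rel (W := W) [0] (rel2 (THN4.rels.getD 12 []) (by decide +kernel)) (fun a ha => by
    have : a < 6 := by
      have := List.all_eq_true.1 (by decide +kernel : (THN4.rels.getD 12 []).all (fun a => decide (a < 6)) = true) a ha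
      simpa using this
    obtain h | h | h : a / 2 = 0 ∨ a / 2 = 1 ∨ a / 2 = 2 := by omega
    all_goals rw [h]
    exacts [hx, hy, hz']) (by decide +kernel)
  refine fa_cons (P := fun w => ev (letter g2) w = 1) ?_ fa_nil
  rw [hW, ← h3, pow_succ, sq]
  conv_rhs => rw [show W * W = W * W⁻¹ by rw [← h], mul_inv_cancel, one_mul]

theorem bd2 : Bd (Sw g2 (lts 2)) (1 * 240 * 2100) := bd_step THN5.idx (rel2.append hw) i4 bdS (by decide +kernel)
theorem bd3 : Bd (Sw g2 (lts 3)) 177408000 := bd_step THN4.idx rel2 i6 bd2 (by decide +kernel)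

/-- the subgroup on `x, y, z`, paired with its permutations -/
noncomputable abbrev Y := Sw g2 (lts 3)

theorem ex_M : ∃ π : Y →* Equiv.Perm (Fin 1408), Function.Injective π ∧ Nat.card Y = 177408000 ∧
    ∃ M : PM Y (Pt π) 1408 HNH.nets, (∀ l < 3, (M.gen l).1.1 = g l) ∧ ∀ l, π (M.gen l) = P.gen l :=
  DC.prod_machine g (fun _ hl => gen_mem_lts g2 hl) bd3 HNH.dok HNH.dlen (HNH.relsD_ok P) (HNH.low P)

/-- the permutation representation -/
noncomputable def pi : Y →* Equiv.Perm (Fin 1408) := ex_M.choose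
theorem pi_inj : Function.Injective pi := ex_M.choose_spec.1
theorem cardY : Nat.card Y = 177408000 := ex_M.choose_spec.2.1
instance instFaithful : FaithfulSMul Y (Pt pi) := faithful_Pt pi_inj
/-- the machine -/
noncomputable def M : PM Y (Pt pi) 1408 HNH.nets := ex_M.choose_spec.2.2.choose
/-- the embedding -/
noncomputable def theta : Y →* Cfsg.Spor.HN := (MonoidHom.fst _ _).comp Y.subtype
theorem theta_gen : ∀ l < 3, theta (M.gen l) = g l := ex_M.choose_spec.2.2.choose_spec.1
theorem pi_gen (l : ℕ) : pi (M.gen l) = P.gen l := ex_M.choose_spec.2.2.choose_spec.2 l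
theorem range_theta : theta.range = Sw g (lts 3) := by
  rw [theta, MonoidHom.range_comp, Subgroup.range_subtype, map_Sw]; rfl

theorem r6 : RelL g (THN6.tgts.map (sb i8)) := rel_step THN6.mem rel i8 (by decide +kernel)
theorem top4 : Sw g (lts 4) = ⊤ := lts_top g_ix fun a => by cases a <;> decide

theorem hyp : (∀ p ∈ HNX.gs, g 3 * theta (H14.ev M.gen p.1) = theta (H14.ev M.gen p.2) * g 3) ∧
    ∀ r ∈ [HNX.rb, HNX.ra] :: HNX.R1, DC.rw14 (fun w => theta (H14.ev M.gen w)) (g 3) r = 1 :=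
  hyp_of_rels 3 theta_gen r6 (by decide +kernel)

theorem hgen (X : Subgroup Cfsg.Spor.HN) (h : theta.range ≤ X) (ht : g 3 ∈ X) : X = ⊤ := by
  rw [eq_top_iff, ← top4]
  refine lts_le fun l hl => ?_
  rcases Nat.lt_succ_iff_lt_or_eq.1 hl with hl | rfl
  · exact h ⟨_, theta_gen l hl⟩
  · exact ht

theorem hncl (X : Subgroup Cfsg.Spor.HN) (hX : X.Normal) (h : ev (letter g) zw ∈ X) : X = ⊤ := by
  have e : zw = [6] ++ ([3, 4, 6, 2, 4, 2, 4] ++ [2] ++ iw [3, 4, 6, 2, 4, 2, 4]) := by decide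
  rw [e, ev_append, ev_append, ev_append, ev_iw] at h
  have h1 := (mem_of_coprime (p := 5) (r := 6) (by rw [← ev_powL]; exact rel.fr (by decide +kernel))
    (by rw [← ev_powL]; exact rel.fr (by decide +kernel)) (by decide) h).1
  have h2 := mem_of_quot THN7.mem rel (R' := [[6]]) (fa_cons h1 fa_nil) i8 (by decide +kernel)
  rw [eq_top_iff, ← top4]
  exact Sw_le fun w hw => (fa_cons h1 h2 : ∀ w ∈ [6] :: _, ev (letter g) w ∈ X) w (by revert w; decide +kernel)

theorem main : Function.Injective theta ∧ Function.Injective rho ∧ theta.range.index = 1539000 ∧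
    Nat.card Cfsg.Spor.HN = 273030912000000 ∧ IsSimpleGroup Cfsg.Spor.HN :=
  HNX.main M cardY hyp.1 hyp.2 hgen rho z19 z1 (by decide) hncl

end H15.HN
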