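import Cfsg.Agent.H15.TC2

/-! Coset enumeration certificate TJO (sextets refining an octad), complete. -/
set_option maxRecDepth 8000
set_option Elab.async false
namespace H15.TJO
open TC

noncomputable def tT : BT := (.node (nat_lit 1) (.leaf (nat_lit 0x7ca0000000001a980000079c00000005be0000031974904003180000000000071b0c00000cb8001cce9f6d90000000d3a0000061b69904003957b7026ee65a6580c0000000123b4de9c6071000648d354580035d5d60c00000cae002aad565870400000d3145f04e4855404006a3b193668c65550c0c0035bc9b14f4b0004d10c00000000d74005134850c00165c8d0566a0e84450400000d280030380040f040044999f634006503cb0800000a9d9334880038508000009239180058e3441000645a211680000030204006a2d2b54702e432c100005c7aada43216042890825000001a28006a0242100064300002b4f0002070000491c08f6f245d71c60800699a8b91f4be89185000058ca8fa23235d21431000644d27a3f49687102000068eb1181721dcd0c10400686b93812e6642081080068ac0590b46e850401000641b87a0f4268c0000000682d03a0720e81))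
 (.node (nat_lit 2) (.leaf (nat_lit 0x9e61000000000000001149a500006a8000000004e595f0800000000002b2ea7921080019300000253d268e20000000000890002a28951000656000001916a484c100064d3c5a95322e380a044f0000000033068b))
 (.leaf (nat_lit 0x0))
))
noncomputable def tP : BT := (.node (nat_lit 1) (.leaf (nat_lit 0x280800000008020001e0300000000000000000000010040002c080000000000000000000008020001804542dc06000800100000000000c030000000000060100018020000001000000010040002c08a030000000000140a240800100000002c0c201000800100006011004c03000000000000000001f090000a0300006011004201000880300000000000000240800000006015404f0300000010000000600c2010000000000000010042010001a040000601100420100000000000000000020124080010001f0d10040000008802982c000000260100000000000601000261000000000001804781c201000800100000001004201000000000006014014000000800100006010000000000000000000002819c04000800100000001005a0300080010000000600c201000000000006011004000000000000000009822605000a602))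
 (.node (nat_lit 2) (.leaf (nat_lit 0x1e0400000000000000000080200000000000000981800000018010000000000800100000000001a0300008020000601000000078080000000601781c0000008001984c0000000000980a601))
 (.leaf (nat_lit 0x0))
))
noncomputable def tS : BT := (.node (nat_lit 1) (.leaf (nat_lit 0x1405840002010080000108a0001000180408007e00011201000fc00022202001f8000440040000))
 (.node (nat_lit 2) (.leaf (nat_lit 0x42002008130209c40000000080002000400040680400040000016100010000400810181010000884034404410002c380a084101608000812040000))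
 (.leaf (nat_lit 0x0))
))
def rels : List (List ℕ) := [[nat_lit 0,nat_lit 1],
  [nat_lit 2,nat_lit 2],
  [nat_lit 3,nat_lit 3],
  [nat_lit 4,nat_lit 4],
  [nat_lit 0,nat_lit 0,nat_lit 0],
  [nat_lit 0,nat_lit 3,nat_lit 0,nat_lit 3,nat_lit 0,nat_lit 3],
  [nat_lit 2,nat_lit 3,nat_lit 2,nat_lit 3,nat_lit 2,nat_lit 3],
  [nat_lit 0,nat_lit 2,nat_lit 0,nat_lit 2,nat_lit 0,nat_lit 2,nat_lit 0,nat_lit 2,nat_lit 0,nat_lit 2],
  [nat_lit 0,nat_lit 2,nat_lit 3,nat_lit 2,nat_lit 3,nat_lit 2,nat_lit 0,nat_lit 3,nat_lit 0,nat_lit 3],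
  [nat_lit 0,nat_lit 0,nat_lit 3,nat_lit 1,nat_lit 2,nat_lit 3,nat_lit 2,nat_lit 3,nat_lit 2,nat_lit 1,nat_lit 3],
  [nat_lit 0,nat_lit 2,nat_lit 1,nat_lit 2,nat_lit 3,nat_lit 0,nat_lit 2,nat_lit 3,nat_lit 1,nat_lit 2,nat_lit 0,nat_lit 3,nat_lit 1,nat_lit 2,nat_lit 3],
  [nat_lit 0,nat_lit 2,nat_lit 1,nat_lit 3,nat_lit 0,nat_lit 2,nat_lit 3,nat_lit 1,nat_lit 2,nat_lit 0,nat_lit 2,nat_lit 3,nat_lit 1,nat_lit 2,nat_lit 3],
  [nat_lit 4,nat_lit 2,nat_lit 3,nat_lit 4,nat_lit 3,nat_lit 2],
  [nat_lit 4,nat_lit 1,nat_lit 2,nat_lit 0,nat_lit 4,nat_lit 1,nat_lit 2,nat_lit 0],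
  [nat_lit 4,nat_lit 2,nat_lit 0,nat_lit 2,nat_lit 1,nat_lit 2,nat_lit 4,nat_lit 2,nat_lit 0,nat_lit 2,nat_lit 1,nat_lit 2],
  [nat_lit 4,nat_lit 1,nat_lit 4,nat_lit 0,nat_lit 2,nat_lit 0,nat_lit 3,nat_lit 0,nat_lit 4,nat_lit 1,nat_lit 3,nat_lit 1,nat_lit 2]]
def subs : List (List ℕ) := [[nat_lit 0],
  [nat_lit 2],
  [nat_lit 3]]
def tgts : List (List ℕ) := [[nat_lit 4,nat_lit 2,nat_lit 4,nat_lit 2,nat_lit 4,nat_lit 2,nat_lit 4,nat_lit 2]]
noncomputable def row (v : ℕ) : ℕ := mkRow (BT.get tT) (nat_lit 32) (nat_lit 84) (nat_lit 0x1000000000000000000000) v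
noncomputable def DC (c r : ℕ) : List ℕ := ruleC (nat_lit 0xfc00000000000000000000000000000000000000000000000000000000000000000000000000000000000001440c2001) (nat_lit 84) rels c r
noncomputable def D1 (r : ℕ) : List ℕ := rule (nat_lit 0xfc00000000000000000000000000000000000000000000000000000000000000000000000000000000000001440c2001) (rels ++ subs.map (List.cons 63)) r
noncomputable def chk (v : ℕ) : Bool := chkRow row (nat_lit 11) (nat_lit 2048) (nat_lit 64) (nat_lit 0xfc00000000000000000000000000000000000000000000000000000000000000000000000000000000000001440c2001) (nat_lit 5) (nat_lit 0) (nat_lit 40) (nat_lit 17) (nat_lit 131072) (nat_lit 9728) (nat_lit 66) (nat_lit 14) (nat_lit 16384) DC D1 [nat_lit 0,nat_lit 1,nat_lit 2,nat_lit 3,nat_lit 4]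
  (mkRow (BT.get tP) (nat_lit 32) (nat_lit 84) (nat_lit 0x1000000000000000000000) v) (Nat.rec 0 (fun j _ => BT.get tS j) (Nat.succ (Nat.div v (nat_lit 32)))) (Nat.succ v)
theorem c0 : allB chk 11 0 = true := by decide +kernel
theorem g0 : ∀ i < 1, allB chk 11 (0 + i) = true := (fl (c := 0) fl0 c0)
theorem call : ∀ i < 1, allB chk 11 i = true := (fl_add (a := 0) (b := 1) fl0 g0)
theorem sd : side (row 0) (nat_lit 84) (nat_lit 0x1000000000000000000000) (nat_lit 11) (nat_lit 64) (nat_lit 0xfc00000000000000000000000000000000000000000000000000000000000000000000000000000000000001440c2001) (nat_lit 5) (nat_lit 0) (nat_lit 40) (nat_lit 66) 11 1 rels subs [nat_lit 0,nat_lit 1,nat_lit 2,nat_lit 3,nat_lit 4] = true := by decide +kernel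
theorem tc : tgts.all (fun w => w.all (fun x => decide (x < (nat_lit 5))) && Nat.beq (walk row (nat_lit 11) (nat_lit 2048) (nat_lit 64) 0 w 1) 1) = true := by decide +kernel
theorem mem {G : Type*} [Group G] (gen : ℕ → G) (hrel : ∀ w ∈ rels, ev gen w = 1) (H : Subgroup G)
    (hsub : ∀ w ∈ subs, ev gen w ∈ H) : ∀ w ∈ tgts, ev gen w ∈ H := fun w hw =>
  TC.mem (final (fun _ => rfl) (fun _ _ => rfl) (fun _ => rfl) (fun _ h => ⟨_, _, h⟩) sd call hrel hsub) (List.all_eq_true.1 tc w hw)

end H15.TJO
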