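import Cfsg.Agent.H15.J4S
import Cfsg.Agent.H15.TJX
import Cfsg.Agent.H15.TJS
import Cfsg.Agent.H15.TJO
import Cfsg.Agent.H15.TJ1
import Cfsg.Agent.H15.TJ2

/-! The presented group `Cfsg.Spor.J4` is simple of the expected order; the subgroup on the first 25 letters has
index 173067389 (`mainG`). -/

set_option Elab.async false
set_option linter.constructorNameAsVariable false
set_option maxRecDepth 8000

namespace H15.J4
open Cfsg.Spor Cfsg.Spor.J4 H14 ZI

theorem mrel {R : List (List ℕ)} (h : (J4M.c.rels J4M.ms (R.map fun w => (w.reverse, [])) &&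
    R.all fun w => w.all fun a => Nat.blt a (2 * 26)) = true) : RelL (fun l => rho (g l)) R := by
  rw [Bool.and_eq_true] at h
  exact (relL_of_rels (BP.rels_of_chk J4M.c_ok J4M.hgen h.1)).congr rho_gl h.2

theorem relN {R : List (List ℕ)} (hm : ∀ w ∈ R, ev (letter g) w ∈ Sw g (lts 14)) (h : RelL (fun l => rho (g l)) R) :
    RelL g R := relL_of_inj injN (fun w hw => le_N (hm w hw)) h

theorem cT : RelL g (cms 50 [[0], c2]) := gT.sub (by decide +kernel)

theorem memX : ∀ w ∈ TJX.tgts.map (sb swB), ev (letter g) w ∈ Sw g (lts 14) :=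
  mem_step TJX.mem ((gT.append (nrel (R := nR swB TJX.rels) (by decide +kernel))).append
    ((inst gT cT LX (nrel (by decide +kernel)) (by decide +kernel)).pick hX)) swB _ (by decide +kernel)
theorem rX : RelL g ((TJX.tgts.map (sb swB)).take 2) :=
  relN (fun w hw => memX w (List.mem_of_mem_take hw)) (mrel (by decide +kernel))

theorem memS : ∀ w ∈ TJS.tgts.map (sb swS), ev (letter g) w ∈ Sw g (lts 14) :=
  mem_step TJS.mem (((gT.append (RelL.mapfr rX)).append (nrel (R := nR swS TJS.rels) (by decide +kernel))).append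
    ((inst gT cT LS (nrel (by decide +kernel)) (by decide +kernel)).pick hS)) swS _ (by decide +kernel)
theorem rS : RelL g (TJS.tgts.map (sb swS)) := relN memS (mrel (by decide +kernel))

theorem r52 : RelL g R52 := unrep (RelL.mapfr (rX.append rS)) e26 (by decide +kernel)
theorem cR : RelL g (cms 52 [yp, hW]) :=
  unrep (RelL.mapfr r52) (a := 53) (u := [52]) (r52.fr (by decide +kernel)) (by decide +kernel)
/-- a word for the letter 26 -/
def rq : List ℕ := w0 ++ [29] ++ iw w0
theorem e26' : ev (letter g) (rq ++ [Nat.xor 52 1]) = 1 :=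
  unrep (r52.pick [(4, 66, true)]) (a := 29) (u := iw q1w) (R' := [rq ++ [53]])
    ((RelL.pick (R := [q1w ++ [29]]) (fa_cons e14 fa_nil) [(0, 66, true)]).fr (by decide +kernel)) (by decide +kernel)
    _ List.mem_cons_self
theorem mrel' {R : List (List ℕ)} (h : RelL (fun l => rho (g l)) (R.map (rep 52 rq))) : RelL (fun l => rho (g l)) R :=
  fun w hw => by
    rw [← ev_rep (a := 52) (u := rq) (by rw [← map_evL, e26', map_one])]
    exact h _ (List.mem_map_of_mem hw)

theorem rO : RelL g (TJO.tgts.map (sb swO)) := relN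
  (mem_step TJO.mem ((r52.append (nrel (R := nR swO TJO.rels) (by decide +kernel))).append
    ((inst r52 cR LO (nrel (by decide +kernel)) (by decide +kernel)).pick hO)) swO _ (by decide +kernel))
  (mrel' (mrel (by decide +kernel)))

theorem rQ1 : RelL g (R52 ++ nR swQ TJ1.rels ++ pick (news 52 LQ) hQ) :=
  (r52.append (nrel (by decide +kernel))).append
    ((inst ((RelL.mapfr r52).append (RelL.mapfr rO)) cR LQ (nrel (by decide +kernel)) (by decide +kernel)).pick hQ)
theorem rQ2 : RelL g (TJ1.tgts.map (sb swQ)) := relN (mem_step TJ1.mem rQ1 swQ _ (by decide +kernel))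
  (mrel' (mrel (by decide +kernel)))

theorem g7 : RelL g R7 := nrel (by decide +kernel)
theorem bdQ : Bd (Sw g [[0], [2], [52]]) 501397585920 :=
  bd_step TJ2.idx (rQ1.append rQ2) swQ (bdM g7) (by decide +kernel)

/-- the subgroup on the first 25 letters and the letter 26 -/
noncomputable abbrev H1 := Sw g ([52] :: lts 25)

theorem mem25 {X : Subgroup Cfsg.Spor.J4} (h0 : g 0 ∈ X) (h1 : g 1 ∈ X) (h : g 14 ∈ X) : ∀ l < 25, g l ∈ X := by
  have a := mem14 gA h0 h1
  have b : ∀ i, gq i ∈ X := fun i => by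
    have := a 2 (by decide)
    induction i with
    | zero => exact h
    | succ i ih => exact inv_mem (mul_mem (mul_mem (inv_mem this) ih) this)
  intro l hl
  rcases lt_or_ge l 14 with h | h
  · exact a l h
  obtain ⟨i, rfl⟩ := Nat.exists_eq_add_of_le h
  rw [g_q (by omega)]; exact b i

theorem le3 {X : Subgroup Cfsg.Spor.J4} (h0 : ev (letter g) [2 * 0] ∈ X) (h1 : ev (letter g) [2 * 1] ∈ X)
    (h : ev (letter g) [2 * 14] ∈ X) : Sw g (lts 25) ≤ X :=
  lts_le (mem25 (by simpa [letter] using h0) (by simpa [letter] using h1) (by simpa [letter] using h))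

theorem H1_le : H1 ≤ Sw g [[0], [2], [52]] := Sw_le (fa_cons (mem_Sw g (by decide)) fun _ hw =>
  le3 (mem_Sw g (by decide)) (mem_Sw g (by decide))
    (mem_of_rel (u := iw w0 ++ [53] ++ w0)
      (((RelL.pick (R := [rq ++ [53]]) (fa_cons e26' fa_nil) [(0, 11, true)])).fr (by decide +kernel))
      (mem_of_inOk g (by decide +kernel))) (mem_Sw g hw))

theorem inj_aux {K : Type*} [Group K] {ρ : Cfsg.Spor.J4 →* K} {Γ : Type*} [Group Γ] {y : ℕ → Γ} {ι : Γ →* K}
    (hι : Function.Injective ι) (h : ∀ l < 25, ι (y l) = ρ (g l)) (hc : Nat.card (Sw y (lts 25)) = 501397585920) :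
    Function.Injective (ρ.comp H1.subtype) :=
  (inj_of_le _ (bdQ.mono H1_le le_rfl).top_sub (X := (Sw y (lts 25)).map ι) (by
    rw [map_Sw]
    exact lts_le fun l hl => ⟨⟨g l, Sw_mono g (ws' := lts 25) (by decide +kernel) (gen_mem_lts g hl)⟩, (h l hl).symm⟩)
    fun _ => by rw [Subgroup.card_map_of_injective hι, hc]).1

theorem injH : Function.Injective (rho.comp H1.subtype) :=
  inj_aux inj (fun l hl => (rho_g l (by omega)).trans (rho_gl l (by omega)).symm) (by
    rw [← range_theta, ← cardY hy]; exact (Nat.card_congr (MonoidHom.ofInjective mainX.1).toEquiv).symm)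

theorem relH {R : List (List ℕ)} (hm : ∀ w ∈ R, ev (letter g) w ∈ H1) (h : RelL (fun l => rho (g l)) R) :
    RelL g R := relL_of_inj injH (fun w hw => by rw [Subgroup.range_subtype]; exact hm w hw) h
theorem memH {R : List (List ℕ)} (h : R.all (inOk ([52] :: lts 25)) = true) : ∀ w ∈ R, ev (letter g) w ∈ H1 :=
  fun w hw => mem_of_inOk g (List.all_eq_true.1 h w hw)

theorem hyG : Hy g := ⟨gA, relH (memH (by decide +kernel)) (mQ.congr rho_gl (by decide +kernel))⟩

/-- an involution in the normal subgroup -/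
def q2 : List ℕ := gW ++ I1 ++ [52] ++ I1 ++ iw gW
/-- a word in the subgroup -/
def tg : List ℕ := powL (I1 ++ iw gW ++ [50] ++ gW ++ I1 ++ [52]) 2
theorem tg_mem : ev (letter g) tg ∈ H1 := by
  rw [← ev_rep e26, ev_eq_of_fr (u := (TJX.tgts.map (sb swB)).getD 2 []) (by decide +kernel)]
  exact Sw_mono g (ws' := lts 14) (by decide +kernel) (memX _ (by decide +kernel))
theorem rV : RelL g [sb2 [[0], c2, q2] vw ++ iw [40, 32]] :=
  relH (memH (by decide +kernel)) (mrel' (mrel (by decide +kernel)))
theorem conj_mem {w : List ℕ} :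
    ev (letter g) w ∈ H1.comap (MulAut.conj (g 25)).toMonoidHom ↔ ev (letter g) ([50] ++ w ++ [51]) ∈ H1 := by
  rw [ev_append, ev_append, ev_cons, ev_cons, ev_nil, mul_one, mul_one]; rfl
theorem L_mem : ev (letter g) ([50] ++ [40, 32] ++ [51]) ∈ H1 := by
  have h := rV _ List.mem_cons_self
  rw [ev_append, ev_iw, mul_inv_eq_one] at h
  rw [← conj_mem, ← h]
  refine sb2_mem (fa_cons ?_ (fa_cons ?_ (fa_cons ?_ fa_nil))) _ <;> rw [conj_mem]
  · exact mem_of_rel (u := [0]) (gT.fr (by decide +kernel)) (mem_of_inOk g (by decide +kernel))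
  · exact mem_of_rel (u := c2) (gT.fr (by decide +kernel)) (mem_of_inOk g (by decide +kernel))
  · rw [← ev_rep (a := 51) (u := [50]) (gT.fr (by decide +kernel)),
      ev_eq_of_fr (u := iw (I1 ++ iw gW) ++ tg ++ iw (gW ++ I1 ++ [52])) (by decide +kernel), ev_append, ev_append]
    exact mul_mem (mul_mem (mem_of_inOk g (by decide +kernel)) tg_mem) (mem_of_inOk g (by decide +kernel))
theorem rL : RelL g [RT.getD 2 []] := relH (fa_cons (by
    rw [show RT.getD 2 [] = [50] ++ [40, 32] ++ [51] ++ (RT.getD 2 []).drop 4 by decide +kernel, ev_append]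
    exact mul_mem L_mem (mem_of_inOk g (by decide +kernel))) fa_nil)
  ((mT.congr rho_gl (by decide +kernel)).sub (by decide +kernel))
theorem hTG : RelL g RT := (gT.append rL).sub (by decide +kernel)

theorem mainG : Function.Injective (theta g) ∧ Function.Injective rho ∧ (theta g).range.index = 173067389 ∧
    Nat.card Cfsg.Spor.J4 = 86775571046077562880 ∧ IsSimpleGroup Cfsg.Spor.J4 :=
  main hyG hTG top26 rho (by rw [map_evL, evL_congr rho_gl (by decide)]; exact mz)
    (by rw [map_evL, evL_congr rho_gl (by decide)]; exact mz1)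

theorem range_eq : (theta g).range = Sw g [[0], [2], fr q1w] := by
  rw [range_theta]
  refine le_antisymm (le3 (mem_Sw g (by decide)) (mem_Sw g (by decide)) (mem_of_rel (u := fr q1w)
    ((RelL.pick (R := [q1w ++ [29]]) (fa_cons e14 fa_nil) [(0, 0, true)]).fr (by decide +kernel))
    (mem_Sw g (by decide +kernel)))) (Sw_le (fa_cons (mem_Sw g (by decide)) (fa_cons (mem_Sw g (by decide))
      (fa_cons (mem_of_rel (u := [28]) (by rw [ev_append, ev_fr, ← ev_append]; exact e14) (mem_Sw g (by decide))) fa_nil))))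

end H15.J4
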