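import Cfsg.Agent.H14.Dw2
import Cfsg.Agent.H15.Std3

/-! Standard machine: `PSL 5` over the field with 2 elements on the points, generated by elementary transvections
Generated certificate (tools14/pkgen, tools15/std.py) for the permutation group StdL52 of degree 31, order 9999360, base 0 1 3 6 11. -/
set_option autoImplicit false
set_option maxRecDepth 100000

namespace H15.StdL52
open H14

noncomputable def n0 : Net := (.cons (nat_lit 1) (nat_lit 0x10005004)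
(.cons (nat_lit 2) (nat_lit 0x1010)
(.cons (nat_lit 4) (nat_lit 0x100)
(.cons (nat_lit 8) (nat_lit 0x10)
(.cons (nat_lit 4) (nat_lit 0x2060d04)
(.cons (nat_lit 2) (nat_lit 0x1012)
(.cons (nat_lit 1) (nat_lit 0x10005004)
.nil)))))))
theorem n0_ok : Net.ok 31 n0 = true := by decide +kernel
noncomputable def n1 : Net := (.cons (nat_lit 1) (nat_lit 0x4010040)
(.cons (nat_lit 2) (nat_lit 0x1120020)
(.cons (nat_lit 4) (nat_lit 0x1000200)
(.cons (nat_lit 8) (nat_lit 0x480000)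
(.cons (nat_lit 16) (nat_lit 0x4800)
(.cons (nat_lit 8) (nat_lit 0x5c0020)
(.cons (nat_lit 4) (nat_lit 0x1000308)
(.cons (nat_lit 2) (nat_lit 0x1120030)
(.cons (nat_lit 1) (nat_lit 0x4010040)
.nil)))))))))
theorem n1_ok : Net.ok 31 n1 = true := by decide +kernel
noncomputable def n2 : Net := (.cons (nat_lit 1) (nat_lit 0x4501000)
(.cons (nat_lit 2) (nat_lit 0x2100000)
(.cons (nat_lit 4) (nat_lit 0x60400)
(.cons (nat_lit 8) (nat_lit 0x2c0000)
(.cons (nat_lit 16) (nat_lit 0x2c00)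
(.cons (nat_lit 8) (nat_lit 0x2e0040)
(.cons (nat_lit 4) (nat_lit 0x70f00)
(.cons (nat_lit 2) (nat_lit 0x2122200)
(.cons (nat_lit 1) (nat_lit 0x4501000)
.nil)))))))))
theorem n2_ok : Net.ok 31 n2 = true := by decide +kernel
noncomputable def n3 : Net := (.cons (nat_lit 1) (nat_lit 0x140000)
(.cons (nat_lit 2) (nat_lit 0x200000)
(.cons (nat_lit 4) (nat_lit 0x80800)
(.cons (nat_lit 8) (nat_lit 0x400080)
(.cons (nat_lit 16) (nat_lit 0x4080)
(.cons (nat_lit 8) (nat_lit 0x7b0080)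
(.cons (nat_lit 4) (nat_lit 0x4080800)
(.cons (nat_lit 2) (nat_lit 0x200000)
(.cons (nat_lit 1) (nat_lit 0x140000)
.nil)))))))))
theorem n3_ok : Net.ok 31 n3 = true := by decide +kernel
noncomputable def n4 : Net := (.cons (nat_lit 1) (nat_lit 0x414100)
(.cons (nat_lit 2) (nat_lit 0x1121120)
(.cons (nat_lit 4) (nat_lit 0x400)
(.cons (nat_lit 8) (nat_lit 0x80000)
(.cons (nat_lit 16) (nat_lit 0x800)
(.cons (nat_lit 8) (nat_lit 0xc0040)
(.cons (nat_lit 4) (nat_lit 0x2010508)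
(.cons (nat_lit 2) (nat_lit 0x1121120)
(.cons (nat_lit 1) (nat_lit 0x414101)
.nil)))))))))
theorem n4_ok : Net.ok 31 n4 = true := by decide +kernel
noncomputable def n5 : Net := (.cons (nat_lit 1) (nat_lit 0x1101000)
(.cons (nat_lit 2) (nat_lit 0x11021110)
(.cons (nat_lit 4) (nat_lit 0x10100)
(.cons (nat_lit 8) (nat_lit 0x90000)
(.cons (nat_lit 16) (nat_lit 0x900)
(.cons (nat_lit 8) (nat_lit 0x4d0010)
(.cons (nat_lit 4) (nat_lit 0x10504)
(.cons (nat_lit 2) (nat_lit 0x11021112)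
(.cons (nat_lit 1) (nat_lit 0x1101000)
.nil)))))))))
theorem n5_ok : Net.ok 31 n5 = true := by decide +kernel
noncomputable def n6 : Net := (.cons (nat_lit 1) (nat_lit 0x4040040)
(.cons (nat_lit 2) (nat_lit 0x101000)
(.cons (nat_lit 4) (nat_lit 0x5010300)
(.cons (nat_lit 8) (nat_lit 0x90000)
(.cons (nat_lit 16) (nat_lit 0x900)
(.cons (nat_lit 8) (nat_lit 0x590070)
(.cons (nat_lit 4) (nat_lit 0x5010308)
(.cons (nat_lit 2) (nat_lit 0x101000)
(.cons (nat_lit 1) (nat_lit 0x4040040)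
.nil)))))))))
theorem n6_ok : Net.ok 31 n6 = true := by decide +kernel
noncomputable def n7 : Net := (.cons (nat_lit 1) (nat_lit 0x4404500)
(.cons (nat_lit 2) (nat_lit 0x2222000)
(.cons (nat_lit 4) (nat_lit 0x40400)
(.cons (nat_lit 8) (nat_lit 0x1d0080)
(.cons (nat_lit 16) (nat_lit 0x1d80)
(.cons (nat_lit 8) (nat_lit 0x1f00c0)
(.cons (nat_lit 4) (nat_lit 0x40600)
(.cons (nat_lit 2) (nat_lit 0x2222000)
(.cons (nat_lit 1) (nat_lit 0x4404500)
.nil)))))))))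
theorem n7_ok : Net.ok 31 n7 = true := by decide +kernel
noncomputable def n8 : Net := (.cons (nat_lit 1) (nat_lit 0x451004)
(.cons (nat_lit 2) (nat_lit 0x10113200)
(.cons (nat_lit 4) (nat_lit 0x6010000)
(.cons (nat_lit 8) (nat_lit 0x120000)
(.cons (nat_lit 16) (nat_lit 0x1240)
(.cons (nat_lit 8) (nat_lit 0x3f0074)
(.cons (nat_lit 4) (nat_lit 0x1070f00)
(.cons (nat_lit 2) (nat_lit 0x1023010)
(.cons (nat_lit 1) (nat_lit 0x15144544)
.nil)))))))))
theorem n8_ok : Net.ok 31 n8 = true := by decide +kernel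
noncomputable def n9 : Net := (.cons (nat_lit 1) (nat_lit 0x15004040)
(.cons (nat_lit 2) (nat_lit 0x100000)
(.cons (nat_lit 4) (nat_lit 0x4080000)
(.cons (nat_lit 16) (nat_lit 0x80)
(.cons (nat_lit 8) (nat_lit 0x140000)
(.cons (nat_lit 4) (nat_lit 0x6080700)
(.cons (nat_lit 2) (nat_lit 0x1101100)
(.cons (nat_lit 1) (nat_lit 0x15004040)
.nil))))))))
theorem n9_ok : Net.ok 31 n9 = true := by decide +kernel
noncomputable def n10 : Net := (.cons (nat_lit 1) (nat_lit 0x14001000)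
(.cons (nat_lit 2) (nat_lit 0x100)
(.cons (nat_lit 4) (nat_lit 0x80400)
(.cons (nat_lit 8) (nat_lit 0x80)
(.cons (nat_lit 16) (nat_lit 0x80)
(.cons (nat_lit 8) (nat_lit 0xc0)
(.cons (nat_lit 4) (nat_lit 0x20c0700)
(.cons (nat_lit 2) (nat_lit 0x11000100)
(.cons (nat_lit 1) (nat_lit 0x14001000)
.nil)))))))))
theorem n10_ok : Net.ok 31 n10 = true := by decide +kernel
noncomputable def n11 : Net := (.cons (nat_lit 1) (nat_lit 0x15550000)
(.cons (nat_lit 2) (nat_lit 0x2100000)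
(.cons (nat_lit 4) (nat_lit 0x4040000)
(.cons (nat_lit 16) (nat_lit 0x4800)
(.cons (nat_lit 8) (nat_lit 0x150000)
(.cons (nat_lit 4) (nat_lit 0x7050000)
(.cons (nat_lit 2) (nat_lit 0x2320000)
(.cons (nat_lit 1) (nat_lit 0x15550000)
.nil))))))))
theorem n11_ok : Net.ok 31 n11 = true := by decide +kernel
noncomputable def n12 : Net := (.cons (nat_lit 1) (nat_lit 0x400000)
(.cons (nat_lit 2) (nat_lit 0x2300200)
(.cons (nat_lit 4) (nat_lit 0x60e0000)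
(.cons (nat_lit 8) (nat_lit 0x420000)
(.cons (nat_lit 16) (nat_lit 0x4200)
(.cons (nat_lit 8) (nat_lit 0x7f0000)
(.cons (nat_lit 4) (nat_lit 0xf0000)
(.cons (nat_lit 2) (nat_lit 0x13200200)
(.cons (nat_lit 1) (nat_lit 0x14410000)
.nil)))))))))
theorem n12_ok : Net.ok 31 n12 = true := by decide +kernel
noncomputable def n13 : Net := (.cons (nat_lit 1) (nat_lit 0x14050400)
(.cons (nat_lit 2) (nat_lit 0x1101000)
(.cons (nat_lit 4) (nat_lit 0x4000000)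
(.cons (nat_lit 16) (nat_lit 0x1400)
(.cons (nat_lit 8) (nat_lit 0x6b0000)
(.cons (nat_lit 4) (nat_lit 0x6020000)
(.cons (nat_lit 2) (nat_lit 0x1101000)
(.cons (nat_lit 1) (nat_lit 0x15550400)
.nil))))))))
theorem n13_ok : Net.ok 31 n13 = true := by decide +kernel
noncomputable def nets : List Net := [n0, n1, n2, n3, n4, n5, n6, n7, n8, n9, n10, n11, n12, n13]
theorem nets_ok : netsOk 31 nets = true := List.all_eq_true.2 (fa_cons n0_ok (fa_cons n1_ok (fa_cons n2_ok (fa_cons n3_ok (fa_cons n4_ok (fa_cons n5_ok (fa_cons n6_ok (fa_cons n7_ok (fa_cons n8_ok (fa_cons n9_ok (fa_cons n10_ok (fa_cons n11_ok (fa_cons n12_ok (fa_cons n13_ok (fa_nil)))))))))))))))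
noncomputable def ss : List (Nat × Nat) := [(0, 0)]
noncomputable def ws5 : List Word := []
noncomputable def reach : List Word := [dw (nat_lit 0x09), dw (nat_lit 0x01), dw (nat_lit 0x0b), dw (nat_lit 0x03), dw (nat_lit 0x0d), dw (nat_lit 0x05), dw (nat_lit 0x0f), dw (nat_lit 0x07)
]
noncomputable def lev4 : Level := ⟨nat_lit 11,
[⟨[nat_lit 6], [], [],
[⟨nat_lit 0, [], nat_lit 1, [], []⟩,
⟨nat_lit 1, [], nat_lit 0, [], []⟩,
⟨nat_lit 2, [], nat_lit 5, [], []⟩,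
⟨nat_lit 3, [], nat_lit 6, [], []⟩,
⟨nat_lit 4, [], nat_lit 7, [], []⟩,
⟨nat_lit 5, [], nat_lit 2, [], []⟩,
⟨nat_lit 6, [], nat_lit 3, [], []⟩,
⟨nat_lit 7, [], nat_lit 4, [], []⟩,
⟨nat_lit 8, [], nat_lit 11, [], []⟩,
⟨nat_lit 9, [], nat_lit 12, [], []⟩,
⟨nat_lit 10, [], nat_lit 13, [], []⟩,
⟨nat_lit 11, [], nat_lit 8, [], []⟩,
⟨nat_lit 12, [], nat_lit 9, [], []⟩,
⟨nat_lit 13, [], nat_lit 10, [], []⟩,
⟨nat_lit 14, [], nat_lit 15, [], []⟩,
⟨nat_lit 15, [], nat_lit 14, [], []⟩],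
[]⟩,
⟨[nat_lit 22], [], [],
[⟨nat_lit 0, [], nat_lit 2, [], []⟩,
⟨nat_lit 1, [], nat_lit 5, [], []⟩,
⟨nat_lit 2, [], nat_lit 0, [], []⟩,
⟨nat_lit 3, [], nat_lit 8, [], []⟩,
⟨nat_lit 4, [], nat_lit 9, [], []⟩,
⟨nat_lit 5, [], nat_lit 1, [], []⟩,
⟨nat_lit 6, [], nat_lit 11, [], []⟩,
⟨nat_lit 7, [], nat_lit 12, [], []⟩,
⟨nat_lit 8, [], nat_lit 3, [], []⟩,
⟨nat_lit 9, [], nat_lit 4, [], []⟩,
⟨nat_lit 10, [], nat_lit 14, [], []⟩,
⟨nat_lit 11, [], nat_lit 6, [], []⟩,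
⟨nat_lit 12, [], nat_lit 7, [], []⟩,
⟨nat_lit 13, [], nat_lit 15, [], []⟩,
⟨nat_lit 14, [], nat_lit 10, [], []⟩,
⟨nat_lit 15, [], nat_lit 13, [], []⟩],
[]⟩,
⟨[nat_lit 24], [], [],
[⟨nat_lit 0, [], nat_lit 3, [], []⟩,
⟨nat_lit 1, [], nat_lit 6, [], []⟩,
⟨nat_lit 2, [], nat_lit 8, [], []⟩,
⟨nat_lit 3, [], nat_lit 0, [], []⟩,
⟨nat_lit 4, [], nat_lit 10, [], []⟩,
⟨nat_lit 5, [], nat_lit 11, [], []⟩,
⟨nat_lit 6, [], nat_lit 1, [], []⟩,
⟨nat_lit 7, [], nat_lit 13, [], []⟩,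
⟨nat_lit 8, [], nat_lit 2, [], []⟩,
⟨nat_lit 9, [], nat_lit 14, [], []⟩,
⟨nat_lit 10, [], nat_lit 4, [], []⟩,
⟨nat_lit 11, [], nat_lit 5, [], []⟩,
⟨nat_lit 12, [], nat_lit 15, [], []⟩,
⟨nat_lit 13, [], nat_lit 7, [], []⟩,
⟨nat_lit 14, [], nat_lit 9, [], []⟩,
⟨nat_lit 15, [], nat_lit 12, [], []⟩],
[]⟩,
⟨[nat_lit 26], [], [],
[⟨nat_lit 0, [], nat_lit 4, [], []⟩,
⟨nat_lit 1, [], nat_lit 7, [], []⟩,
⟨nat_lit 2, [], nat_lit 9, [], []⟩,
⟨nat_lit 3, [], nat_lit 10, [], []⟩,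
⟨nat_lit 4, [], nat_lit 0, [], []⟩,
⟨nat_lit 5, [], nat_lit 12, [], []⟩,
⟨nat_lit 6, [], nat_lit 13, [], []⟩,
⟨nat_lit 7, [], nat_lit 1, [], []⟩,
⟨nat_lit 8, [], nat_lit 14, [], []⟩,
⟨nat_lit 9, [], nat_lit 2, [], []⟩,
⟨nat_lit 10, [], nat_lit 3, [], []⟩,
⟨nat_lit 11, [], nat_lit 15, [], []⟩,
⟨nat_lit 12, [], nat_lit 5, [], []⟩,
⟨nat_lit 13, [], nat_lit 6, [], []⟩,
⟨nat_lit 14, [], nat_lit 8, [], []⟩,
⟨nat_lit 15, [], nat_lit 11, [], []⟩],
[]⟩],
[⟨dw (nat_lit 0x01), (nat_lit 0x40000), [], .nil, []⟩,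
⟨dw (nat_lit 0x03), (nat_lit 0x1000000), [], .nil, []⟩,
⟨dw (nat_lit 0x05), (nat_lit 0x400000), [], .nil, []⟩,
⟨dw (nat_lit 0x07), (nat_lit 0x40000000), [], .nil, []⟩,
⟨dw (nat_lit 0x0301), (nat_lit 0x10000), [], .nil, []⟩,
⟨dw (nat_lit 0x0501), (nat_lit 0x4000), [], .nil, []⟩,
⟨dw (nat_lit 0x0701), (nat_lit 0x4000000), [], .nil, []⟩,
⟨dw (nat_lit 0x0503), (nat_lit 0x100000), [], .nil, []⟩,
⟨dw (nat_lit 0x0703), (nat_lit 0x200000), [], .nil, []⟩,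
⟨dw (nat_lit 0x0705), (nat_lit 0x800000), [], .nil, []⟩,
⟨dw (nat_lit 0x050301), (nat_lit 0x8000000), [], .nil, []⟩,
⟨dw (nat_lit 0x070301), (nat_lit 0x10000000), [], .nil, []⟩,
⟨dw (nat_lit 0x070501), (nat_lit 0x20000000), [], .nil, []⟩,
⟨dw (nat_lit 0x070503), (nat_lit 0x2000000), [], .nil, []⟩,
⟨dw (nat_lit 0x07050301), (nat_lit 0x20000), [], .nil, []⟩]⟩
noncomputable def ex4 : List Word := []
noncomputable def ws4 : List Word := List.append ex4 (lev4.gens ws5)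
noncomputable def rels4 : List (Word × Word) := List.append (lev4.rels ws5) (memRels (lev4.gens ws5) ex4 [])
noncomputable def lev3 : Level := ⟨nat_lit 6,
[⟨[nat_lit 14], [], [],
[⟨nat_lit 0, [], nat_lit 1, [], []⟩,
⟨nat_lit 1, [], nat_lit 0, [], []⟩,
⟨nat_lit 2, [], nat_lit 1, dw (nat_lit 0x0301), []⟩,
⟨nat_lit 3, [], nat_lit 1, dw (nat_lit 0x0501), []⟩,
⟨nat_lit 4, [], nat_lit 1, dw (nat_lit 0x0701), []⟩,
⟨nat_lit 5, [], nat_lit 1, dw (nat_lit 0x0503), []⟩,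
⟨nat_lit 6, [], nat_lit 1, dw (nat_lit 0x0703), []⟩,
⟨nat_lit 7, [], nat_lit 1, dw (nat_lit 0x0705), []⟩,
⟨nat_lit 8, [], nat_lit 1, dw (nat_lit 0x07050301), []⟩,
⟨nat_lit 1, dw (nat_lit 0x01), nat_lit 1, dw (nat_lit 0x01), dw (nat_lit 0x01)⟩,
⟨nat_lit 1, dw (nat_lit 0x03), nat_lit 1, dw (nat_lit 0x03), dw (nat_lit 0x03)⟩,
⟨nat_lit 1, dw (nat_lit 0x05), nat_lit 1, dw (nat_lit 0x05), dw (nat_lit 0x05)⟩,
⟨nat_lit 1, dw (nat_lit 0x07), nat_lit 1, dw (nat_lit 0x07), dw (nat_lit 0x07)⟩,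
⟨nat_lit 1, dw (nat_lit 0x0301), nat_lit 2, [], []⟩,
⟨nat_lit 1, dw (nat_lit 0x0501), nat_lit 3, [], []⟩,
⟨nat_lit 1, dw (nat_lit 0x0701), nat_lit 4, [], []⟩,
⟨nat_lit 1, dw (nat_lit 0x0503), nat_lit 5, [], []⟩,
⟨nat_lit 1, dw (nat_lit 0x0703), nat_lit 6, [], []⟩,
⟨nat_lit 1, dw (nat_lit 0x0705), nat_lit 7, [], []⟩,
⟨nat_lit 1, dw (nat_lit 0x050301), nat_lit 1, dw (nat_lit 0x050301), dw (nat_lit 0x050301)⟩,
⟨nat_lit 1, dw (nat_lit 0x070301), nat_lit 1, dw (nat_lit 0x070301), dw (nat_lit 0x070301)⟩,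
⟨nat_lit 1, dw (nat_lit 0x070501), nat_lit 1, dw (nat_lit 0x070501), dw (nat_lit 0x070501)⟩,
⟨nat_lit 1, dw (nat_lit 0x070503), nat_lit 1, dw (nat_lit 0x070503), dw (nat_lit 0x070503)⟩,
⟨nat_lit 1, dw (nat_lit 0x07050301), nat_lit 8, [], []⟩],
[]⟩],
[⟨dw (nat_lit 0x01), (nat_lit 0x7ff74800), [dw (nat_lit 0x01), dw (nat_lit 0x03), dw (nat_lit 0x05), dw (nat_lit 0x07)], .nil, []⟩,
⟨dw (nat_lit 0x01050301), (nat_lit 0x200), [], (.cons (nat_lit 11) [dw (nat_lit 0x01), dw (nat_lit 0x03), dw (nat_lit 0x07), dw (nat_lit 0x02030601)] [dw (nat_lit 0x01), dw (nat_lit 0x03), dw (nat_lit 0x05), dw (nat_lit 0x07)]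
.nil), [dw (nat_lit 0x03), dw (nat_lit 0x01), dw (nat_lit 0x070301), dw (nat_lit 0x0503)]⟩,
⟨dw (nat_lit 0x01070301), (nat_lit 0x100), [], (.cons (nat_lit 11) [dw (nat_lit 0x01), dw (nat_lit 0x05), dw (nat_lit 0x03), dw (nat_lit 0x07)] [dw (nat_lit 0x01), dw (nat_lit 0x03), dw (nat_lit 0x05), dw (nat_lit 0x07)]
.nil), [dw (nat_lit 0x05), dw (nat_lit 0x01), dw (nat_lit 0x050301), dw (nat_lit 0x070501)]⟩,
⟨dw (nat_lit 0x01090301), (nat_lit 0x80000), [], (.cons (nat_lit 11) [dw (nat_lit 0x01), dw (nat_lit 0x08), dw (nat_lit 0x05), dw (nat_lit 0x0407)] [dw (nat_lit 0x01), dw (nat_lit 0x03), dw (nat_lit 0x05), dw (nat_lit 0x07)]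
.nil), [dw (nat_lit 0x07), dw (nat_lit 0x01), dw (nat_lit 0x070501), dw (nat_lit 0x0703)]⟩,
⟨dw (nat_lit 0x01070501), (nat_lit 0x1000), [], (.cons (nat_lit 11) [dw (nat_lit 0x01), dw (nat_lit 0x04), dw (nat_lit 0x05), dw (nat_lit 0x0107010103)] [dw (nat_lit 0x01), dw (nat_lit 0x03), dw (nat_lit 0x05), dw (nat_lit 0x07)]
.nil), [dw (nat_lit 0x050301), dw (nat_lit 0x05), dw (nat_lit 0x03), dw (nat_lit 0x070501)]⟩,
⟨dw (nat_lit 0x01090501), (nat_lit 0x2000), [], (.cons (nat_lit 11) [dw (nat_lit 0x01), dw (nat_lit 0x06), dw (nat_lit 0x04), dw (nat_lit 0x0408)] [dw (nat_lit 0x01), dw (nat_lit 0x03), dw (nat_lit 0x05), dw (nat_lit 0x07)]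
.nil), [dw (nat_lit 0x070301), dw (nat_lit 0x070503), dw (nat_lit 0x07), dw (nat_lit 0x0703)]⟩,
⟨dw (nat_lit 0x01090701), (nat_lit 0x8000), [], (.cons (nat_lit 11) [dw (nat_lit 0x01), dw (nat_lit 0x07), dw (nat_lit 0x0508), dw (nat_lit 0x05050408)] [dw (nat_lit 0x01), dw (nat_lit 0x03), dw (nat_lit 0x05), dw (nat_lit 0x07)]
.nil), [dw (nat_lit 0x070501), dw (nat_lit 0x05), dw (nat_lit 0x0705), dw (nat_lit 0x0703)]⟩,
⟨dw (nat_lit 0x010907050301), (nat_lit 0x400), [], (.cons (nat_lit 11) [dw (nat_lit 0x01), dw (nat_lit 0x05), dw (nat_lit 0x07), dw (nat_lit 0x0103)] [dw (nat_lit 0x01), dw (nat_lit 0x03), dw (nat_lit 0x05), dw (nat_lit 0x07)]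
.nil), [dw (nat_lit 0x070503), dw (nat_lit 0x070301), dw (nat_lit 0x050301), dw (nat_lit 0x0301)]⟩]⟩
noncomputable def ex3 : List Word := [[nat_lit 4], [nat_lit 18], [nat_lit 20]]
noncomputable def ws3 : List Word := List.append ex3 (lev3.gens ws4)
noncomputable def rels3 : List (Word × Word) := List.append (lev3.rels ws4) (memRels (lev3.gens ws4) ex3 [dw (nat_lit 0x01090705030109070503), dw (nat_lit 0x01090301), dw (nat_lit 0x01070301)])
noncomputable def lev2 : Level := ⟨nat_lit 3,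
[⟨[nat_lit 12], [dw (nat_lit 0x09), dw (nat_lit 0x0f), dw (nat_lit 0x0d), dw (nat_lit 0x0e0c10)], [dw (nat_lit 0x09), dw (nat_lit 0x0f09), dw (nat_lit 0x0d), dw (nat_lit 0x0f0d0b09)],
[⟨nat_lit 0, [], nat_lit 1, [], []⟩,
⟨nat_lit 1, [], nat_lit 0, [], []⟩,
⟨nat_lit 2, [], nat_lit 1, dw (nat_lit 0x05), []⟩,
⟨nat_lit 3, [], nat_lit 1, dw (nat_lit 0x0301), []⟩,
⟨nat_lit 4, [], nat_lit 1, dw (nat_lit 0x050301), []⟩,
⟨nat_lit 1, dw (nat_lit 0x01), nat_lit 1, dw (nat_lit 0x01), dw (nat_lit 0x01)⟩,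
⟨nat_lit 1, dw (nat_lit 0x03), nat_lit 1, dw (nat_lit 0x03), dw (nat_lit 0x03)⟩,
⟨nat_lit 1, dw (nat_lit 0x05), nat_lit 2, [], []⟩,
⟨nat_lit 1, dw (nat_lit 0x07), nat_lit 1, dw (nat_lit 0x0907), dw (nat_lit 0x090709)⟩,
⟨nat_lit 1, dw (nat_lit 0x0301), nat_lit 3, [], []⟩,
⟨nat_lit 1, dw (nat_lit 0x0501), nat_lit 1, dw (nat_lit 0x0501), dw (nat_lit 0x05010d09)⟩,
⟨nat_lit 1, dw (nat_lit 0x0503), nat_lit 1, dw (nat_lit 0x0503), dw (nat_lit 0x0503)⟩,
⟨nat_lit 1, dw (nat_lit 0x050301), nat_lit 4, [], []⟩],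
[dw (nat_lit 0x01), dw (nat_lit 0x03), dw (nat_lit 0x05), dw (nat_lit 0x07)]⟩],
[⟨dw (nat_lit 0x01), (nat_lit 0x7fffff40), [dw (nat_lit 0x01), dw (nat_lit 0x03), dw (nat_lit 0x05), dw (nat_lit 0x07), dw (nat_lit 0x09)], (.cons (nat_lit 11) [dw (nat_lit 0x09), dw (nat_lit 0x0a0c), dw (nat_lit 0x0e0f), dw (nat_lit 0x0d)] [dw (nat_lit 0x01), dw (nat_lit 0x07), dw (nat_lit 0x03), dw (nat_lit 0x05)]
.nil), [dw (nat_lit 0x09), dw (nat_lit 0x0b09), dw (nat_lit 0x0f0d09), dw (nat_lit 0x0d)]⟩,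
⟨dw (nat_lit 0x010701), (nat_lit 0x10), [], (.cons (nat_lit 6) [dw (nat_lit 0x07)] [dw (nat_lit 0x01), dw (nat_lit 0x03), dw (nat_lit 0x05), dw (nat_lit 0x07), dw (nat_lit 0x09), dw (nat_lit 0x01)]
(.cons (nat_lit 11) [dw (nat_lit 0x09), dw (nat_lit 0x0c), dw (nat_lit 0x0d), dw (nat_lit 0x100c)] [dw (nat_lit 0x01), dw (nat_lit 0x03), dw (nat_lit 0x05), dw (nat_lit 0x07)]
.nil)), [dw (nat_lit 0x07050d09), dw (nat_lit 0x0d), dw (nat_lit 0x0d0b09), dw (nat_lit 0x09), dw (nat_lit 0x0f0d0b09)]⟩,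
⟨dw (nat_lit 0x01050301), (nat_lit 0x80), [], (.cons (nat_lit 6) [dw (nat_lit 0x07)] [dw (nat_lit 0x01), dw (nat_lit 0x03), dw (nat_lit 0x05), dw (nat_lit 0x07), dw (nat_lit 0x09), dw (nat_lit 0x01)]
(.cons (nat_lit 11) [dw (nat_lit 0x09), dw (nat_lit 0x0d), dw (nat_lit 0x0b), dw (nat_lit 0x0f0c)] [dw (nat_lit 0x01), dw (nat_lit 0x03), dw (nat_lit 0x05), dw (nat_lit 0x07)]
.nil)), [dw (nat_lit 0x0f070f), dw (nat_lit 0x0d0b09), dw (nat_lit 0x0b), dw (nat_lit 0x0d), dw (nat_lit 0x0f0d)]⟩,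
⟨dw (nat_lit 0x0107050301), (nat_lit 0x20), [], (.cons (nat_lit 6) [dw (nat_lit 0x07)] [dw (nat_lit 0x01), dw (nat_lit 0x03), dw (nat_lit 0x05), dw (nat_lit 0x07), dw (nat_lit 0x01), dw (nat_lit 0x09), dw (nat_lit 0x01)]
(.cons (nat_lit 11) [dw (nat_lit 0x09), dw (nat_lit 0x0f), dw (nat_lit 0x0c), dw (nat_lit 0x0f0d1009)] [dw (nat_lit 0x01), dw (nat_lit 0x03), dw (nat_lit 0x05), dw (nat_lit 0x07)]
.nil)), [dw (nat_lit 0x0b07010b), dw (nat_lit 0x0b), dw (nat_lit 0x0f), dw (nat_lit 0x09), dw (nat_lit 0x0d09)]⟩]⟩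
noncomputable def ex2 : List Word := [[nat_lit 2], [nat_lit 16]]
noncomputable def ws2 : List Word := List.append ex2 (lev2.gens ws3)
noncomputable def rels2 : List (Word × Word) := List.append (lev2.rels ws3) (memRels (lev2.gens ws3) ex2 [dw (nat_lit 0x01070503010705030d), dw (nat_lit 0x050301030f0d)])
noncomputable def lev1 : Level := ⟨nat_lit 1,
[⟨[nat_lit 10], [dw (nat_lit 0x0d), dw (nat_lit 0x0f), dw (nat_lit 0x16), dw (nat_lit 0x13), dw (nat_lit 0x0f1312)], [dw (nat_lit 0x0d), dw (nat_lit 0x0f), dw (nat_lit 0x13110f), dw (nat_lit 0x13), dw (nat_lit 0x15)],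
[⟨nat_lit 0, [], nat_lit 1, [], []⟩,
⟨nat_lit 1, [], nat_lit 0, [], []⟩,
⟨nat_lit 2, [], nat_lit 1, dw (nat_lit 0x050301), []⟩,
⟨nat_lit 1, dw (nat_lit 0x01), nat_lit 1, dw (nat_lit 0x01), dw (nat_lit 0x01)⟩,
⟨nat_lit 1, dw (nat_lit 0x03), nat_lit 1, dw (nat_lit 0x03), dw (nat_lit 0x05)⟩,
⟨nat_lit 1, dw (nat_lit 0x0503), nat_lit 1, dw (nat_lit 0x0503), dw (nat_lit 0x0503090f)⟩,
⟨nat_lit 1, dw (nat_lit 0x050301), nat_lit 2, [], []⟩],
[dw (nat_lit 0x01), dw (nat_lit 0x03), dw (nat_lit 0x05), dw (nat_lit 0x07), dw (nat_lit 0x09), dw (nat_lit 0x01)]⟩],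
[⟨dw (nat_lit 0x01), (nat_lit 0x7ffffff8), [dw (nat_lit 0x01), dw (nat_lit 0x03), dw (nat_lit 0x05), dw (nat_lit 0x03), dw (nat_lit 0x0d), dw (nat_lit 0x0f)], (.cons (nat_lit 6) [dw (nat_lit 0x0d)] [dw (nat_lit 0x01), dw (nat_lit 0x03), dw (nat_lit 0x05), dw (nat_lit 0x07), dw (nat_lit 0x09), dw (nat_lit 0x01)]
(.cons (nat_lit 11) [dw (nat_lit 0x0f), dw (nat_lit 0x11), dw (nat_lit 0x13), dw (nat_lit 0x1215)] [dw (nat_lit 0x01), dw (nat_lit 0x03), dw (nat_lit 0x05), dw (nat_lit 0x07)]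
.nil)), [dw (nat_lit 0x0d), dw (nat_lit 0x0f), dw (nat_lit 0x15130f), dw (nat_lit 0x13), dw (nat_lit 0x1511)]⟩,
⟨dw (nat_lit 0x0107050301), (nat_lit 0x4), [], (.cons (nat_lit 3) [dw (nat_lit 0x03)] [dw (nat_lit 0x01), dw (nat_lit 0x01), dw (nat_lit 0x03), dw (nat_lit 0x01), dw (nat_lit 0x07), dw (nat_lit 0x05), dw (nat_lit 0x03), dw (nat_lit 0x01)
, dw (nat_lit 0x01)]
(.cons (nat_lit 6) [dw (nat_lit 0x0d)] [dw (nat_lit 0x01), dw (nat_lit 0x03), dw (nat_lit 0x05), dw (nat_lit 0x07), dw (nat_lit 0x09), dw (nat_lit 0x01)]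
(.cons (nat_lit 11) [dw (nat_lit 0x0f), dw (nat_lit 0x13), dw (nat_lit 0x16), dw (nat_lit 0x141116)] [dw (nat_lit 0x01), dw (nat_lit 0x03), dw (nat_lit 0x05), dw (nat_lit 0x07)]
.nil))), [dw (nat_lit 0x07030715130f), dw (nat_lit 0x0f0d0f), dw (nat_lit 0x15110f), dw (nat_lit 0x151311), dw (nat_lit 0x11), dw (nat_lit 0x0f)]⟩]⟩
noncomputable def ex1 : List Word := [[nat_lit 0]]
noncomputable def ws1 : List Word := List.append ex1 (lev1.gens ws2)
noncomputable def rels1 : List (Word × Word) := List.append (lev1.rels ws2) (memRels (lev1.gens ws2) ex1 [dw (nat_lit 0x01070503010705030d17151311)])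
noncomputable def lev0 : Level := ⟨nat_lit 0,
[⟨[nat_lit 8], [dw (nat_lit 0x07), dw (nat_lit 0x11), dw (nat_lit 0x15)], [dw (nat_lit 0x0705), dw (nat_lit 0x11), dw (nat_lit 0x15)],
[⟨nat_lit 0, [], nat_lit 1, [], []⟩,
⟨nat_lit 1, [], nat_lit 0, [], []⟩,
⟨nat_lit 1, dw (nat_lit 0x01), nat_lit 1, dw (nat_lit 0x01), dw (nat_lit 0x01)⟩,
⟨nat_lit 1, dw (nat_lit 0x03), nat_lit 1, dw (nat_lit 0x0503), dw (nat_lit 0x050305)⟩],
[dw (nat_lit 0x01), dw (nat_lit 0x0301), dw (nat_lit 0x01), dw (nat_lit 0x05), dw (nat_lit 0x010301), dw (nat_lit 0x01), dw (nat_lit 0x03), dw (nat_lit 0x01)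
]⟩],
[⟨dw (nat_lit 0x01), (nat_lit 0x7ffffffe), [dw (nat_lit 0x01), dw (nat_lit 0x03), dw (nat_lit 0x05), dw (nat_lit 0x07), dw (nat_lit 0x07), dw (nat_lit 0x11), dw (nat_lit 0x13)], (.cons (nat_lit 3) [dw (nat_lit 0x07)] [dw (nat_lit 0x01), dw (nat_lit 0x01), dw (nat_lit 0x03), dw (nat_lit 0x01), dw (nat_lit 0x07), dw (nat_lit 0x05), dw (nat_lit 0x0903), dw (nat_lit 0x01)
, dw (nat_lit 0x01)]
(.cons (nat_lit 6) [dw (nat_lit 0x11)] [dw (nat_lit 0x01), dw (nat_lit 0x03), dw (nat_lit 0x05), dw (nat_lit 0x07), dw (nat_lit 0x09), dw (nat_lit 0x01)]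
(.cons (nat_lit 11) [dw (nat_lit 0x13), dw (nat_lit 0x15), dw (nat_lit 0x17), dw (nat_lit 0x19)] [dw (nat_lit 0x01), dw (nat_lit 0x03), dw (nat_lit 0x05), dw (nat_lit 0x07)]
.nil))), [dw (nat_lit 0x0705), dw (nat_lit 0x11), dw (nat_lit 0x13), dw (nat_lit 0x15), dw (nat_lit 0x171513), dw (nat_lit 0x191513)]⟩]⟩
noncomputable def ex0 : List Word := []
noncomputable def ws0 : List Word := List.append ex0 (lev0.gens ws1)
noncomputable def rels0 : List (Word × Word) := List.append (lev0.rels ws1) (memRels (lev0.gens ws1) ex0 [])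
noncomputable def prim0 : List (List Word) := [[dw (nat_lit 0x01), dw (nat_lit 0x03), dw (nat_lit 0x05), dw (nat_lit 0x07), dw (nat_lit 0x09), dw (nat_lit 0x09), dw (nat_lit 0x13), dw (nat_lit 0x15)
]]
noncomputable def rels : List (Word × Word) := List.append rels0 (List.append rels1 (List.append rels2 (List.append rels3 (List.append rels4 ([])))))
noncomputable def defs : List Word := [dw (nat_lit 0x020d05040207), dw (nat_lit 0x0e1106120d), dw (nat_lit 0x040e121010040811061204), dw (nat_lit 0x06141608150513), dw (nat_lit 0x1416101310071613), dw (nat_lit 0x140714)]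
noncomputable def relsD : List (Word × Word) := defRels defs 8
noncomputable def relsO : List (Word × Word) := memRels ws0 (lets 8) [dw (nat_lit 0x03), dw (nat_lit 0x07), dw (nat_lit 0x0d), dw (nat_lit 0x15), dw (nat_lit 0x01), dw (nat_lit 0x05), dw (nat_lit 0x0b), dw (nat_lit 0x13)
]
noncomputable def relsS : List (Word × Word) := []
noncomputable def allRels : List (Word × Word) := List.append rels (List.append relsD (List.append relsO relsS))
theorem reach_ok : subs (full 31) (orbRun nets (lets 8) reach (bits (List.map Prod.fst ss))) = true := by decide +kernel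
theorem chk4 : lev4.chk 31 nets ws5 1 16 = true := by decide +kernel
theorem chk3 : lev3.chk 31 nets ws4 16 384 = true := by decide +kernel
theorem chk2 : lev2.chk 31 nets ws3 384 10752 = true := by decide +kernel
theorem chk1 : lev1.chk 31 nets ws2 10752 322560 = true := by decide +kernel
theorem primc0 : PM.primChk nets ws1 lev0 lev0.sos prim0 = true := by decide +kernel
theorem chk0 : lev0.chk 31 nets ws1 322560 9999360 = true := by decide +kernel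
theorem rc0 : relsChk 31 nets 5 (idArr 31 5 5 0) allRels = true := by decide +kernel
section
variable {Γ Ω : Type*} [Group Γ] [MulAction Γ Ω] (M : PM Γ Ω 31 nets)

theorem all_ok (hs : M.Sep 5 (idArr 31 5 5 0)) : Rels M.gen allRels := (M.rels_of_chk hs rc0)
theorem sep [FaithfulSMul Γ Ω] : M.Sep 5 (idArr 31 5 5 0) := M.sep_idArr (by decide)
theorem all_ok' [FaithfulSMul Γ Ω] : Rels M.gen allRels := all_ok M (sep M)
theorem rels_of_all {gen : ℕ → Γ} (h : Rels gen allRels) : Rels gen rels := Rels.left h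
theorem relsD_of_all {gen : ℕ → Γ} (h : Rels gen allRels) : Rels gen relsD := Rels.left (Rels.right h)
theorem relsO_of_all {gen : ℕ → Γ} (h : Rels gen allRels) : Rels gen relsO := Rels.left (Rels.right (Rels.right h))
theorem relsS_of_all {gen : ℕ → Γ} (h : Rels gen allRels) : Rels gen relsS := Rels.right (Rels.right (Rels.right h))
theorem card5 (_hR : Rels M.gen rels) : Nat.card (sub M.gen ws5) = 1 := M.card_nil
theorem fixw5 (_hR : Rels M.gen rels) : M.FixTriv ws5 [] := M.fixTriv_nil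
theorem r4 (hR : Rels M.gen rels) : Rels M.gen rels4 := (Rels.left (Rels.right (Rels.right (Rels.right (Rels.right hR)))))
theorem res4 (hR : Rels M.gen rels) : M.LevelRes ws5 lev4 16 := M.level (card5 M hR) chk4 (Rels.left (r4 M hR))
theorem ext4 (hR : Rels M.gen rels) : sub M.gen ws4 = sub M.gen (lev4.gens ws5) := sub_extend (Rels.right (r4 M hR))
theorem card4 (hR : Rels M.gen rels) : Nat.card (sub M.gen ws4) = 16 := by rw [ext4 M hR]; exact (res4 M hR).card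
theorem fix4 (hR : Rels M.gen rels) : M.FixTriv (lev4.gens ws5) [11] := (res4 M hR).fixTriv M (fixw5 M hR)
theorem fixw4 (hR : Rels M.gen rels) : M.FixTriv ws4 [11] := fun g hg => fix4 M hR g (ext4 M hR ▸ hg)
theorem stab4 (hR : Rels M.gen rels) : sub M.gen ws4 ⊓ MulAction.stabilizer Γ (M.dec 11) = sub M.gen ws5 := by rw [ext4 M hR]; exact (res4 M hR).stab
theorem orb4 (hR : Rels M.gen rels) (y : Ω) : y ∈ M.S lev4.orb ↔ ∃ g ∈ sub M.gen ws4, g • M.dec 11 = y := by rw [ext4 M hR]; exact (res4 M hR).orb y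
theorem r3 (hR : Rels M.gen rels) : Rels M.gen rels3 := (Rels.left (Rels.right (Rels.right (Rels.right hR))))
theorem res3 (hR : Rels M.gen rels) : M.LevelRes ws4 lev3 384 := M.level (card4 M hR) chk3 (Rels.left (r3 M hR))
theorem ext3 (hR : Rels M.gen rels) : sub M.gen ws3 = sub M.gen (lev3.gens ws4) := sub_extend (Rels.right (r3 M hR))
theorem card3 (hR : Rels M.gen rels) : Nat.card (sub M.gen ws3) = 384 := by rw [ext3 M hR]; exact (res3 M hR).card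
theorem fix3 (hR : Rels M.gen rels) : M.FixTriv (lev3.gens ws4) [6, 11] := (res3 M hR).fixTriv M (fixw4 M hR)
theorem fixw3 (hR : Rels M.gen rels) : M.FixTriv ws3 [6, 11] := fun g hg => fix3 M hR g (ext3 M hR ▸ hg)
theorem stab3 (hR : Rels M.gen rels) : sub M.gen ws3 ⊓ MulAction.stabilizer Γ (M.dec 6) = sub M.gen ws4 := by rw [ext3 M hR]; exact (res3 M hR).stab
theorem orb3 (hR : Rels M.gen rels) (y : Ω) : y ∈ M.S lev3.orb ↔ ∃ g ∈ sub M.gen ws3, g • M.dec 6 = y := by rw [ext3 M hR]; exact (res3 M hR).orb y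
theorem r2 (hR : Rels M.gen rels) : Rels M.gen rels2 := (Rels.left (Rels.right (Rels.right hR)))
theorem res2 (hR : Rels M.gen rels) : M.LevelRes ws3 lev2 10752 := M.level (card3 M hR) chk2 (Rels.left (r2 M hR))
theorem ext2 (hR : Rels M.gen rels) : sub M.gen ws2 = sub M.gen (lev2.gens ws3) := sub_extend (Rels.right (r2 M hR))
theorem card2 (hR : Rels M.gen rels) : Nat.card (sub M.gen ws2) = 10752 := by rw [ext2 M hR]; exact (res2 M hR).card
theorem fix2 (hR : Rels M.gen rels) : M.FixTriv (lev2.gens ws3) [3, 6, 11] := (res2 M hR).fixTriv M (fixw3 M hR)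
theorem fixw2 (hR : Rels M.gen rels) : M.FixTriv ws2 [3, 6, 11] := fun g hg => fix2 M hR g (ext2 M hR ▸ hg)
theorem stab2 (hR : Rels M.gen rels) : sub M.gen ws2 ⊓ MulAction.stabilizer Γ (M.dec 3) = sub M.gen ws3 := by rw [ext2 M hR]; exact (res2 M hR).stab
theorem orb2 (hR : Rels M.gen rels) (y : Ω) : y ∈ M.S lev2.orb ↔ ∃ g ∈ sub M.gen ws2, g • M.dec 3 = y := by rw [ext2 M hR]; exact (res2 M hR).orb y
theorem r1 (hR : Rels M.gen rels) : Rels M.gen rels1 := (Rels.left (Rels.right hR))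
theorem res1 (hR : Rels M.gen rels) : M.LevelRes ws2 lev1 322560 := M.level (card2 M hR) chk1 (Rels.left (r1 M hR))
theorem ext1 (hR : Rels M.gen rels) : sub M.gen ws1 = sub M.gen (lev1.gens ws2) := sub_extend (Rels.right (r1 M hR))
theorem card1 (hR : Rels M.gen rels) : Nat.card (sub M.gen ws1) = 322560 := by rw [ext1 M hR]; exact (res1 M hR).card
theorem fix1 (hR : Rels M.gen rels) : M.FixTriv (lev1.gens ws2) [1, 3, 6, 11] := (res1 M hR).fixTriv M (fixw2 M hR)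
theorem fixw1 (hR : Rels M.gen rels) : M.FixTriv ws1 [1, 3, 6, 11] := fun g hg => fix1 M hR g (ext1 M hR ▸ hg)
theorem stab1 (hR : Rels M.gen rels) : sub M.gen ws1 ⊓ MulAction.stabilizer Γ (M.dec 1) = sub M.gen ws2 := by rw [ext1 M hR]; exact (res1 M hR).stab
theorem orb1 (hR : Rels M.gen rels) (y : Ω) : y ∈ M.S lev1.orb ↔ ∃ g ∈ sub M.gen ws1, g • M.dec 1 = y := by rw [ext1 M hR]; exact (res1 M hR).orb y
theorem r0 (hR : Rels M.gen rels) : Rels M.gen rels0 := (Rels.left hR)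
theorem res0 (hR : Rels M.gen rels) : M.LevelRes ws1 lev0 9999360 := M.level (card1 M hR) chk0 (Rels.left (r0 M hR))
theorem ext0 (hR : Rels M.gen rels) : sub M.gen ws0 = sub M.gen (lev0.gens ws1) := sub_extend (Rels.right (r0 M hR))
theorem card0 (hR : Rels M.gen rels) : Nat.card (sub M.gen ws0) = 9999360 := by rw [ext0 M hR]; exact (res0 M hR).card
theorem fix0 (hR : Rels M.gen rels) : M.FixTriv (lev0.gens ws1) [0, 1, 3, 6, 11] := (res0 M hR).fixTriv M (fixw1 M hR)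
theorem fixw0 (hR : Rels M.gen rels) : M.FixTriv ws0 [0, 1, 3, 6, 11] := fun g hg => fix0 M hR g (ext0 M hR ▸ hg)
theorem stab0 (hR : Rels M.gen rels) : sub M.gen ws0 ⊓ MulAction.stabilizer Γ (M.dec 0) = sub M.gen ws1 := by rw [ext0 M hR]; exact (res0 M hR).stab
theorem orb0 (hR : Rels M.gen rels) (y : Ω) : y ∈ M.S lev0.orb ↔ ∃ g ∈ sub M.gen ws0, g • M.dec 0 = y := by rw [ext0 M hR]; exact (res0 M hR).orb y
theorem max0 (hR : Rels M.gen rels) (X : Subgroup Γ) (h1 : sub M.gen ws1 ≤ X) (h2 : X ≤ sub M.gen ws0) : X = sub M.gen ws1 ∨ X = sub M.gen ws0 := by rw [ext0 M hR] at h2 ⊢; exact (res0 M hR).max M primc0 X h1 h2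
theorem orig_eq {gen : ℕ → Γ} (h : Rels gen allRels) : sub gen (lets 8) = sub gen ws0 :=
  sub_lets_eq_of_rels (ds := defs) (by decide +kernel) (relsD_of_all h) (by decide +kernel) (relsO_of_all h)
theorem gen_mem {gen : ℕ → Γ} (h : Rels gen allRels) {X : Subgroup Γ} (h0 : ∀ l < 8, gen l ∈ X) : sub gen ws0 ≤ X :=
  sub_le_of_wsIn (lo := 0) (gen_mem_of_defRels (ds := defs) (fun l _ hl => h0 l hl) (by decide +kernel) (relsD_of_all h)) (by decide +kernel)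

end

/-- the permutation group -/
noncomputable abbrev P := permPM 31 nets (by decide) (by decide) nets_ok
theorem allP : Rels P.gen allRels := all_ok' P
/-- machines of this type -/
abbrev St (X : Type*) [Group X] := Std X 31 nets ws0 9999360 allRels
/-- the presentation on the strong generators -/
theorem hom {X : Type*} [Group X] (S : St X) {Δ : Type*} [Group Δ] (y : ℕ → Δ) (hy : Rels y rels) :
    ∃ φ : X →* Δ, φ.range = sub y ws0 ∧ ∀ w ∈ ws0, φ (H14.ev S.M.gen w) = H14.ev y w :=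
  S.hom_ws y (card0 _ ((rels_of_all S.rels).prod hy))
/-- the presentation on all letters -/
theorem hom' {X : Type*} [Group X] (S : St X) {Δ : Type*} [Group Δ] (y : ℕ → Δ) (hy : Rels y allRels) :
    ∃ φ : X →* Δ, φ.range = sub y (lets 8) ∧ ∀ l < 14, φ (S.M.gen l) = y l :=
  S.hom_all y (card0 _ (rels_of_all (S.rels.prod hy))) (orig_eq (S.rels.prod hy)) (orig_eq hy) (ds := defs)
    (by decide +kernel) (relsD_of_all (S.rels.prod hy)) (by decide +kernel)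
/-- the matrices of the first letters (and their inverses) -/
def As : List (ℕ × ℕ) :=
[(nat_lit 0x1041043, nat_lit 0x1041043),
  (nat_lit 0x10410c1, nat_lit 0x10410c1),
  (nat_lit 0x1043041, nat_lit 0x1043041),
  (nat_lit 0x10c1041, nat_lit 0x10c1041),
  (nat_lit 0x1041061, nat_lit 0x1041061),
  (nat_lit 0x1041841, nat_lit 0x1041841),
  (nat_lit 0x1061041, nat_lit 0x1061041),
  (nat_lit 0x1841041, nat_lit 0x1841041)]
/-- the vectors -/
def V : ℕ := nat_lit 0x4232a6275cdb5c45f7d4f94cfadae23ca638861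
theorem eqv_ok : c2.eqvM 5 31 [1] V As nets 8 = true := by decide +kernel
theorem sep_ok : c2.sepM 5 31 [1] V (ss.map Prod.fst) = true := by decide +kernel
theorem ctrP : ∀ z ∈ sub P.gen (lets 8), (∀ x ∈ sub P.gen (lets 8), x * z = z * x) → z = 1 :=
  orig_eq allP ▸ center_triv (res0 P (rels_of_all allP)) (ext0 P (rels_of_all allP)) (card1 P (rels_of_all allP))
    (by decide) primc0 (fix0 P (rels_of_all allP)) (by decide +kernel)
theorem core {F : Type*} [Field F] {a : Ar F} (ha : Ok a c2 2) {ι : Type} [Fintype ι] [DecidableEq ι]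
    {e : ι ≃ Fin 5} {T X : Type*} [Group T] [Group X] {ρ : T →* Matrix ι ι F} (h : Mem a e ρ As 8)
    (q : T →* X) (hq : ∀ g, q g = 1 → g = 1 ∨ g ∈ Subgroup.center T ∧ ∀ z ∈ sub P.gen (lets 8), (∀ x ∈ sub P.gen (lets 8), x * z = z * x) → z = 1)
    (hB : Bd (⊤ : Subgroup X) 9999360) : ∃ S : St X, Spec S a e ρ q As 8 [1] V (ss.map Prod.fst) :=
  h.std ha (by decide +kernel) eqv_ok reach_ok sep_ok q hq (ds := defs) (by decide +kernel) (by decide +kernel)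
    (relsD_of_all allP) hB (orig_eq allP) (card0 P (rels_of_all allP)) allP
theorem std_spec {F : Type*} [Field F] [Fintype F] (hF : Fintype.card F = 2) {a : Ar F} (ha : Ok a c2 2) :
    ∃ S : St (Matrix.ProjectiveSpecialLinearGroup (Fin 5) F), Spec S a (Equiv.refl _) (slM (Fin 5) F) (QuotientGroup.mk' _) As 8 [1] V (ss.map Prod.fst) :=
  core ha (mem_sl _ ha.1 (p := 2) ha.2.2 (by norm_num) (L := As) (by decide +kernel)) _ (hq_ctr ctrP) (bd_psl hF (by decide +kernel))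
theorem std {F : Type*} [Field F] [Fintype F] (hF : Fintype.card F = 2) : Nonempty (St (Matrix.ProjectiveSpecialLinearGroup (Fin 5) F)) :=
  let ⟨_, ha⟩ := ar_2 (F := F) hF
  let ⟨S, _⟩ := std_spec hF ha
  ⟨S⟩
theorem stdSL_spec {F : Type*} [Field F] [Fintype F] (hF : Fintype.card F = 2) {a : Ar F} (ha : Ok a c2 2) :
    ∃ S : St (Matrix.SpecialLinearGroup (Fin 5) F), Spec S a (Equiv.refl _) (slM (Fin 5) F) (MonoidHom.id _) As 8 [1] V (ss.map Prod.fst) :=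
  core ha (mem_sl _ ha.1 (p := 2) ha.2.2 (by norm_num) (L := As) (by decide +kernel)) _ hq_id (bd_sl hF (by decide +kernel))
theorem stdSL {F : Type*} [Field F] [Fintype F] (hF : Fintype.card F = 2) : Nonempty (St (Matrix.SpecialLinearGroup (Fin 5) F)) :=
  let ⟨_, ha⟩ := ar_2 (F := F) hF
  let ⟨S, _⟩ := stdSL_spec hF ha
  ⟨S⟩

end H15.StdL52
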