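import Cfsg.Agent.H15.LyGC0

/-! Generated certificate (pklite) for the permutation group LyG of degree 3906, order 5859000000, base 0 1 22. -/
set_option autoImplicit false
set_option maxRecDepth 100000

namespace H15.LyG
open H14

theorem lvval3 : lv3.val 3906 nets = 1 := rfl
theorem lvval2 : lv2.val 3906 nets = 480 := val_cons lvc2 lvval3
theorem lvval1 : lv1.val 3906 nets = 1500000 := val_cons lvc1 lvval2
theorem lvval0 : lv0.val 3906 nets = 5859000000 := val_cons lvc0 lvval1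
section
variable {Γ Ω : Type*} [Group Γ] [MulAction Γ Ω] (M : PM Γ Ω 3906 nets)

theorem all_ok [FaithfulSMul Γ Ω] : Rels M.gen allRels := (M.rels_of_idArr (by decide) rc0)
theorem relsD_ok [FaithfulSMul Γ Ω] : Rels M.gen relsD := Rels.left (all_ok M)
theorem relsE_ok [FaithfulSMul Γ Ω] : Rels M.gen relsE := Rels.right (Rels.right (all_ok M))
theorem dok : defOk defs 4 = true := by decide +kernel
theorem dlen : nets.length ≤ 4 + defs.length := by decide +kernel
theorem gen_mem [FaithfulSMul Γ Ω] {X : Subgroup Γ} (h0 : ∀ l < 4, M.gen l ∈ X) {ws : List Word} (hw : wsIn 0 12 ws = true) : sub M.gen ws ≤ X :=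
  sub_le_of_wsIn (lo := 0) (gen_mem_of_defRels (ds := defs) (fun l _ hl => h0 l hl) (by decide +kernel) (relsD_ok M)) hw
theorem low (h : Finite (sub M.gen lv0.gens)) : 5859000000 ≤ Nat.card (sub M.gen lv0.gens) := lvval0 ▸ M.low lv0 h
variable (hc : Nat.card (sub M.gen lv0.gens) = 5859000000)
include hc
theorem lev0 : sub M.gen lv0.gens ⊓ MulAction.stabilizer Γ (M.dec 0) = sub M.gen lv1.gens ∧ Nat.card (sub M.gen lv1.gens) = 1500000 ∧
    Set.ncard {y | ∃ g ∈ sub M.gen lv0.gens, g • M.dec 0 = y} = 3906 :=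
  level_lite M lvc0 lvval1 rfl hc (by decide)
theorem lev1 : sub M.gen lv1.gens ⊓ MulAction.stabilizer Γ (M.dec 1) = sub M.gen lv2.gens ∧ Nat.card (sub M.gen lv2.gens) = 480 ∧
    Set.ncard {y | ∃ g ∈ sub M.gen lv1.gens, g • M.dec 1 = y} = 3125 :=
  level_lite M lvc1 lvval2 rfl (lev0 M hc).2.1 (by decide)
theorem lev2 : sub M.gen lv2.gens ⊓ MulAction.stabilizer Γ (M.dec 22) = sub M.gen lv3.gens ∧ Nat.card (sub M.gen lv3.gens) = 1 ∧
    Set.ncard {y | ∃ g ∈ sub M.gen lv2.gens, g • M.dec 22 = y} = 480 :=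
  level_lite M lvc2 lvval3 rfl (lev1 M hc).2.1 (by decide)
theorem trans (y : Ω) : ∃ g ∈ sub M.gen lv0.gens, g • M.dec 0 = y := trans_of_ncard M (lev0 M hc).2.2 y
theorem max (Y : Subgroup Γ) (h1 : sub M.gen lv1.gens ≤ Y) (h2 : Y ≤ sub M.gen lv0.gens) : Y = sub M.gen lv1.gens ∨ Y = sub M.gen lv0.gens :=
  max_lite M (by decide) (lev0 M hc).1 (l := sis) (fa_cons (ev_mem_of_chk (by decide +kernel)) (fa_cons (ev_mem_of_chk (by decide +kernel)) (fa_cons (ev_mem_of_chk (by decide +kernel)) (fa_nil)))) cov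
    (fa_cons (orb_of_chk M so0).1 (fa_cons (orb_of_chk M so1).1 (fa_cons (orb_of_chk M so2).1 (fa_nil))))
    (fa_cons sp0 (fa_cons sp1 (fa_cons sp2 (fa_nil)))) Y h1 h2
theorem simple [FaithfulSMul Γ Ω] (hz : H14.ev M.gen zc ∈ sub M.gen lv0.gens) : IsSimpleGroup (sub M.gen lv0.gens) :=
  simple_lite (lev0 M hc).1 (trans M hc) (fun h => by rw [h] at hc; simp at hc) (max M hc)
    (z := M.gen 4) (by rw [← ev_single M.gen 4]; exact ev_mem_of_chk (by decide +kernel)) (m := 31)
    (by rw [← ev_single M.gen 4]; exact pow_eq_one_of_rels (Rels.left (Rels.right (all_ok M)))) (by rw [(lev0 M hc).2.1]; norm_num)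
    (ncl_lite (zw := zw) (c := zc) (ds := defs2) (defRels_mid defs0 defs1 defs3 4 (relsD_ok M)) (by decide +kernel) (by decide +kernel) rfl hz)

end

end H15.LyG
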