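import Cfsg.Agent.H15.Ly
import Cfsg.Agent.H15.LyG
import Cfsg.Agent.H15.Std4
import Cfsg.Agent.H15.Gen

/-! The subgroup of `Cfsg.Spor.Ly` on `a, b, c, d`: a machine `M'` on 3906 points, simplicity (`simpleH`), the
isomorphism with the Chevalley group of type G2 over the field with 5 elements (`isoG2`). -/

set_option Elab.async false
set_option linter.constructorNameAsVariable false
set_option maxRecDepth 8000

namespace H15.Ly
open Cfsg.Spor Cfsg.Spor.Ly H14

theorem bdG {K : Type} [Group K] {f : ℕ → K} (h : RelL f (R.take 44)) : Bd (Sw f (lts 4)) 5859000000 :=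
  have h2 : Bd (Sw f (lts 2)) (1 * 480) := bd_step TLy1.idx h [[0], [1], [2], [3]] (Bd.Sw_nil f) (by decide +kernel)
  have h3 : Bd (Sw f (lts 3)) (1 * 480 * 3125) :=
    bd_step TLy2.idx h [[0], [1], [2], [3], [4], [5], [1, 4, 0], [1, 5, 0], [3, 4, 2], [3, 5, 2], [2, 4, 3], [2, 5, 3], [5, 1, 5, 0, 4, 1, 4, 0], [1, 5, 0, 5, 1, 4, 0, 4]] h2 (by decide +kernel)
  bd_step TLy3.idx h [[0], [1], [2], [3], [4], [5], [6], [7], [3, 3, 1, 5, 0, 4, 1, 4, 0, 6, 4, 2, 0, 3, 6, 4, 6], [7, 5, 7, 2, 1, 3, 5, 7, 1, 5, 0, 5, 1, 4, 0, 2, 2], [1, 4, 0], [1, 5, 0], [3, 4, 2], [3, 5, 2], [2, 4, 3], [2, 5, 3], [5, 1, 5, 0, 4, 1, 4, 0], [1, 5, 0, 5, 1, 4, 0, 4]] h3 (by decide +kernel)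

theorem rel44 : RelL g (R.take 44) := fun w hw => rel w (List.mem_of_mem_take hw)

/-- the permutation machine on 3906 points -/
noncomputable abbrev Q := permPM 3906 LyG.nets (by decide) (by decide) LyG.nets_ok
theorem qd : relsChk 3906 LyG.nets 12 (idArr 3906 12 12 0) rq = true := by decide +kernel
theorem rel3 : RelL (pr g Q.gen) (R.take 44) := rel44.pr (relL_of_rels (Q.rels_of_idArr (by decide) qd))

/-- the subgroup on `a, b, c, d`, paired with its permutations -/
noncomputable abbrev Y' := Sw (pr g Q.gen) (lts 4)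

theorem ex_M' : ∃ π : Y' →* Equiv.Perm (Fin 3906), Function.Injective π ∧ Nat.card Y' = 5859000000 ∧
    ∃ M : PM Y' (Pt π) 3906 LyG.nets, (∀ l < 4, (M.gen l).1.1 = g l) ∧ ∀ l, π (M.gen l) = Q.gen l :=
  DC.prod_machine g (fun _ hl => gen_mem_lts (pr g Q.gen) hl) (bdG rel3) LyG.dok LyG.dlen (LyG.relsD_ok Q) (LyG.low Q)

/-- the permutation representation -/
noncomputable def pi' : Y' →* Equiv.Perm (Fin 3906) := ex_M'.choose
theorem pi_inj' : Function.Injective pi' := ex_M'.choose_spec.1
theorem cardY' : Nat.card Y' = 5859000000 := ex_M'.choose_spec.2.1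
instance instFaithful' : FaithfulSMul Y' (Pt pi') := faithful_Pt pi_inj'
/-- the machine -/
noncomputable def M' : PM Y' (Pt pi') 3906 LyG.nets := ex_M'.choose_spec.2.2.choose
/-- the embedding -/
noncomputable def theta' : Y' →* Cfsg.Spor.Ly := (MonoidHom.fst _ _).comp Y'.subtype
theorem theta_gen' : ∀ l < 4, theta' (M'.gen l) = g l := ex_M'.choose_spec.2.2.choose_spec.1
theorem range_theta' : theta'.range = Sw g (lts 4) := by
  rw [theta', MonoidHom.range_comp, Subgroup.range_subtype, map_Sw]; rfl
theorem top' : sub M'.gen LyG.lv0.gens = ⊤ :=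
  (eq_of_low le_top (Bd.of_card_top cardY' (by decide)) (LyG.low M')).1
theorem hc' : Nat.card (sub M'.gen LyG.lv0.gens) = 5859000000 := by rw [top', Subgroup.card_top, cardY']
theorem simpleY' : IsSimpleGroup Y' := simple_of_top (LyG.simple M' hc' (by rw [top']; trivial)) top'

theorem cardH : Nat.card (Sw g (lts 4)) = 5859000000 := by
  rw [← range_theta, ← cardY]; exact (Nat.card_congr (MonoidHom.ofInjective main.1).toEquiv).symm

theorem inj' : Function.Injective theta' := by
  have : Finite Y' := Nat.finite_of_card_ne_zero (by rw [cardY']; decide)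
  have h := theta'.rangeRestrict_surjective.bijective_of_nat_card_le (by rw [range_theta', cardH, cardY'])
  exact fun a b e => h.1 (Subtype.ext e)

theorem simpleH : IsSimpleGroup (Sw g (lts 4)) := by
  have := simpleY'
  rw [← range_theta']
  exact (MonoidHom.ofInjective inj').symm.isSimpleGroup

/-- root elements -/
def As : List (ℕ × ℕ) :=
[(nat_lit 0x20000000000168100000000b0400000000440000000002040002c00010000000000086e00000000400000000002a0000000001800000000008000000000040000000000200000040001, nat_lit 0x20000000000148400000000a0400000000410000000002040008800010000000000084c80000000400000000002e0000000001200000000008000000000040000000000200000100001),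
  (nat_lit 0x200000000001000000000048000000004640000000000200000001681000000000008000000020040022000008200000000211000000020488000000000040000000000200020000001, nat_lit 0x2000000000010000000001080000000044400000000002000000046c100000000000800000002004000b0000202000000002190000000084c8000000000040000000000200008000001),
  (nat_lit 0x24000000000100000000000800000000004800000000020000000000180001b00000800000000006000000000020000000000100000000000c000000000040000008000200000000001, nat_lit 0x300000000001000000000008000000000060000000000200000000001800012000008000000000048000000000200000000001000000000009000000000040000020000200000000001),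
  (nat_lit 0x200000000009000000000008000000000040000000001200000000001000000000108000480000040000000004200000000001000000000008000000000840000100000200000000001, nat_lit 0x2000000000210000000000080000000000400000000042000000000010000000001080006c0000040000000001200000000001000000000008000000000240000040000200000000001)]
/-- the images of `a, b, c, d` -/
def Bs : List (ℕ × ℕ) :=
[(nat_lit 0x6000000000016810000000981000000010840000000006020007037040000000000102580000180c000b0000202100000006046000000208d8000000000080000000000200020080023, nat_lit 0x4000000000038430000000600800000030420000000006020007048820000000000204880000180c000b0000184200000002032000000186480000000000c0000000000200020080023),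
  (nat_lit 0x20000000000168100000000b0400000000440000000002040002c00010000000000086e00000000400000000002a0000000001800000000008000000000040000000000200000040001, nat_lit 0x20000000000148400000000a0400000000410000000002040008800010000000000084c80000000400000000002e0000000001200000000008000000000040000000000200000100001),
  (nat_lit 0x20b45325844101841a8a30088090230400400c82da0002185010000010434c00000080040000000419000000002040000000010c00000000080000000000400000002a0200000013841, nat_lit 0x22251b91044101041a8ca00820c0221000400882930002106410000011034800000080010000000443000000002010000000010800000000080000000000400000008c820000001a241),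
  (nat_lit 0x4000000800000000000800000000001000000200000000000000200040000000000000040000008000000000100000000000100000020000000000000000000800000000021, nat_lit 0x4000000200000000000200000000004000000200000000000000800100000000000000040000020000000000040000000000040000020000000000000000000800000000021)]

theorem gc0 : c5.relsM (Cfsg.Lie.chevG2.rank + Cfsg.Lie.chevG2.nroots) Bs [] (List.take 14 (List.drop 0 rq)) = true := by decide +kernel
theorem gc1 : c5.relsM (Cfsg.Lie.chevG2.rank + Cfsg.Lie.chevG2.nroots) Bs [] (List.take 5 (List.drop 14 rq)) = true := by decide +kernel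
theorem gc2 : c5.relsM (Cfsg.Lie.chevG2.rank + Cfsg.Lie.chevG2.nroots) Bs [] (List.take 7 (List.drop 19 rq)) = true := by decide +kernel
theorem gc3 : c5.relsM (Cfsg.Lie.chevG2.rank + Cfsg.Lie.chevG2.nroots) Bs [] (List.take 5 (List.drop 26 rq)) = true := by decide +kernel
theorem gc4 : c5.relsM (Cfsg.Lie.chevG2.rank + Cfsg.Lie.chevG2.nroots) Bs [] (List.take 2 (List.drop 31 rq)) = true := by decide +kernel
theorem gc5 : c5.relsM (Cfsg.Lie.chevG2.rank + Cfsg.Lie.chevG2.nroots) Bs [] (List.take 2 (List.drop 33 rq)) = true := by decide +kernel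
theorem gc6 : c5.relsM (Cfsg.Lie.chevG2.rank + Cfsg.Lie.chevG2.nroots) Bs [] (List.take 2 (List.drop 35 rq)) = true := by decide +kernel
theorem gc7 : c5.relsM (Cfsg.Lie.chevG2.rank + Cfsg.Lie.chevG2.nroots) Bs [] (List.take 1 (List.drop 37 rq)) = true := by decide +kernel
theorem gc8 : c5.relsM (Cfsg.Lie.chevG2.rank + Cfsg.Lie.chevG2.nroots) Bs [] (List.take 4 (List.drop 38 rq)) = true := by decide +kernel
theorem gc9 : c5.relsM (Cfsg.Lie.chevG2.rank + Cfsg.Lie.chevG2.nroots) Bs [] (List.drop 42 rq) = true := by decide +kernel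

theorem isoG2 {F : Type} [Field F] [Fintype F] (hF : Fintype.card F = 5) :
    Nonempty (Sw g (lts 4) ≃* Cfsg.Lie.chevG2.group F) := by
  obtain ⟨a, ha⟩ := ar_5 hF
  have h1 := (mem_chev ha (m := 4) (by decide +kernel) (D := Cfsg.Lie.chevG2) (rt := [(7, 1), (4, 1), (6, 1), (5, 1)]) (L := As)
    (by decide +kernel) (by decide +kernel)).words ha.1 (by decide +kernel) (ws := [[5, 6, 4, 6, 6, 4, 4, 2, 0, 5, 6, 4, 6, 6, 4, 6, 4, 6, 6, 4, 4], [0], [2, 0, 4, 1, 3, 0, 5, 6, 4, 6, 6, 4, 7, 7, 5, 7, 4, 0, 4, 4, 1, 1, 4], [5, 6, 4, 6, 6, 4, 6, 4, 6, 6, 4, 4, 1, 2, 0, 2, 2, 0, 2, 0, 2, 2, 0, 2, 0, 2, 2, 0, 0, 4, 7, 4, 0, 3, 0, 4, 6, 4, 6, 4, 1, 2, 1, 5, 6, 5]]) (As := Bs) (k := 4)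
    (by decide +kernel)
  obtain ⟨N⟩ := Mem.mm ha.1 (B := Bs) h1 (by decide +kernel)
  have h2 : RelL N.gen (R.take 44) := relL_of_rels (show Rels N.gen (List.drop 0 rq) from (rels_td 0 14 14 rfl (N.rels' ha.1 (clM_inj _) gc0) (rels_td 14 5 19 rfl (N.rels' ha.1 (clM_inj _) gc1) (rels_td 19 7 26 rfl (N.rels' ha.1 (clM_inj _) gc2) (rels_td 26 5 31 rfl (N.rels' ha.1 (clM_inj _) gc3) (rels_td 31 2 33 rfl (N.rels' ha.1 (clM_inj _) gc4) (rels_td 33 2 35 rfl (N.rels' ha.1 (clM_inj _) gc5) (rels_td 35 2 37 rfl (N.rels' ha.1 (clM_inj _) gc6) (rels_td 37 1 38 rfl (N.rels' ha.1 (clM_inj _) gc7) (rels_td 38 4 42 rfl (N.rels' ha.1 (clM_inj _) gc8) (N.rels' ha.1 (clM_inj _) gc9)))))))))))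
  obtain ⟨f, hf⟩ := hom_of_bd (bdG (rel44.pr h2)) (K := Sw g (lts 4)) (map_Sw _ _ _) fun _ => cardH.ge
  have := simpleH
  refine iso_of_simple f (g := ⟨g 0, gen_mem_lts g (by decide)⟩) ?_ (by decide) cardH
    (Cfsg.Agent.S1059.result hF)
  rw [hf (g 0, N.gen 0) (gen_mem_lts (pr g N.gen) (by decide))]
  have := N.ne ha (u := [0]) (w := []) (t := 0) (by decide +kernel)
  simpa [letter] using this

end H15.Ly
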