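import Cfsg.Agent.H14.Dw2
import Cfsg.Agent.H15.Std3

/-! Standard machine: `PSL 3` over the field with 4 elements on the points, generated by elementary transvections
Generated certificate (tools14/pkgen, tools15/std.py) for the permutation group StdL34 of degree 21, order 20160, base 0 1 3 2. -/
set_option autoImplicit false
set_option maxRecDepth 100000

namespace H15.StdL34
open H14

noncomputable def n0 : Net := (.cons (nat_lit 1) (nat_lit 0x4054)
(.cons (nat_lit 2) (nat_lit 0x31010)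
(.cons (nat_lit 4) (nat_lit 0xc00)
(.cons (nat_lit 8) (nat_lit 0x1c)
(.cons (nat_lit 16) (nat_lit 0x1c)
(.cons (nat_lit 8) (nat_lit 0x1c)
(.cons (nat_lit 4) (nat_lit 0xc04)
(.cons (nat_lit 2) (nat_lit 0x31132)
(.cons (nat_lit 1) (nat_lit 0x44054)
.nil)))))))))
theorem n0_ok : Net.ok 21 n0 = true := by decide +kernel
noncomputable def n1 : Net := (.cons (nat_lit 1) (nat_lit 0x4400)
(.cons (nat_lit 2) (nat_lit 0x32000)
(.cons (nat_lit 4) (nat_lit 0x200)
(.cons (nat_lit 8) (nat_lit 0x22)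
(.cons (nat_lit 16) (nat_lit 0x2)
(.cons (nat_lit 8) (nat_lit 0x2)
(.cons (nat_lit 4) (nat_lit 0x10a08)
(.cons (nat_lit 2) (nat_lit 0x33100)
(.cons (nat_lit 1) (nat_lit 0x14400)
.nil)))))))))
theorem n1_ok : Net.ok 21 n1 = true := by decide +kernel
noncomputable def n2 : Net := (.cons (nat_lit 2) (nat_lit 0x20000)
(.cons (nat_lit 4) (nat_lit 0x200)
(.cons (nat_lit 8) (nat_lit 0x2)
(.cons (nat_lit 16) (nat_lit 0x2)
(.cons (nat_lit 8) (nat_lit 0x2)
(.cons (nat_lit 4) (nat_lit 0xf08)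
(.cons (nat_lit 2) (nat_lit 0x20010)
(.cons (nat_lit 1) (nat_lit 0x10001)
.nil))))))))
theorem n2_ok : Net.ok 21 n2 = true := by decide +kernel
noncomputable def n3 : Net := (.cons (nat_lit 1) (nat_lit 0x1110)
(.cons (nat_lit 2) (nat_lit 0x10110)
(.cons (nat_lit 4) (nat_lit 0xf00)
(.cons (nat_lit 8) (nat_lit 0x2e)
(.cons (nat_lit 16) (nat_lit 0xe)
(.cons (nat_lit 8) (nat_lit 0x1e)
(.cons (nat_lit 4) (nat_lit 0x10f04)
(.cons (nat_lit 2) (nat_lit 0x10112)
(.cons (nat_lit 1) (nat_lit 0x1110)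
.nil)))))))))
theorem n3_ok : Net.ok 21 n3 = true := by decide +kernel
noncomputable def n4 : Net := (.cons (nat_lit 1) (nat_lit 0x10110)
(.cons (nat_lit 2) (nat_lit 0x1300)
(.cons (nat_lit 4) (nat_lit 0x500)
(.cons (nat_lit 8) (nat_lit 0x4)
(.cons (nat_lit 16) (nat_lit 0x4)
(.cons (nat_lit 8) (nat_lit 0x1c)
(.cons (nat_lit 4) (nat_lit 0x10506)
(.cons (nat_lit 2) (nat_lit 0x21300)
(.cons (nat_lit 1) (nat_lit 0x14110)
.nil)))))))))
theorem n4_ok : Net.ok 21 n4 = true := by decide +kernel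
noncomputable def n5 : Net := (.cons (nat_lit 1) (nat_lit 0x44401)
(.cons (nat_lit 2) (nat_lit 0x23010)
(.cons (nat_lit 4) (nat_lit 0x10202)
(.cons (nat_lit 8) (nat_lit 0x1)
(.cons (nat_lit 16) (nat_lit 0xb)
(.cons (nat_lit 8) (nat_lit 0x16)
(.cons (nat_lit 4) (nat_lit 0xb03)
(.cons (nat_lit 2) (nat_lit 0x12120)
(.cons (nat_lit 1) (nat_lit 0x55545)
.nil)))))))))
theorem n5_ok : Net.ok 21 n5 = true := by decide +kernel
noncomputable def n6 : Net := (.cons (nat_lit 1) (nat_lit 0x5414)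
(.cons (nat_lit 2) (nat_lit 0x11)
(.cons (nat_lit 4) (nat_lit 0x10700)
(.cons (nat_lit 8) (nat_lit 0x52)
(.cons (nat_lit 16) (nat_lit 0x13)
(.cons (nat_lit 8) (nat_lit 0x12)
(.cons (nat_lit 4) (nat_lit 0x10a09)
(.cons (nat_lit 2) (nat_lit 0x20231)
(.cons (nat_lit 1) (nat_lit 0x14450)
.nil)))))))))
theorem n6_ok : Net.ok 21 n6 = true := by decide +kernel
noncomputable def n7 : Net := (.cons (nat_lit 1) (nat_lit 0x45110)
(.cons (nat_lit 2) (nat_lit 0x10020)
(.cons (nat_lit 4) (nat_lit 0xe08)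
(.cons (nat_lit 8) (nat_lit 0xae)
(.cons (nat_lit 16) (nat_lit 0xe)
(.cons (nat_lit 8) (nat_lit 0x1e)
(.cons (nat_lit 4) (nat_lit 0x10e08)
(.cons (nat_lit 2) (nat_lit 0x10120)
(.cons (nat_lit 1) (nat_lit 0x45110)
.nil)))))))))
theorem n7_ok : Net.ok 21 n7 = true := by decide +kernel
noncomputable def n8 : Net := (.cons (nat_lit 1) (nat_lit 0x54)
(.cons (nat_lit 2) (nat_lit 0x33030)
(.cons (nat_lit 4) (nat_lit 0xc00)
(.cons (nat_lit 8) (nat_lit 0x4e)
(.cons (nat_lit 16) (nat_lit 0x1e)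
(.cons (nat_lit 8) (nat_lit 0xe)
(.cons (nat_lit 4) (nat_lit 0x10608)
(.cons (nat_lit 2) (nat_lit 0x32110)
(.cons (nat_lit 1) (nat_lit 0x11054)
.nil)))))))))
theorem n8_ok : Net.ok 21 n8 = true := by decide +kernel
noncomputable def nets : List Net := [n0, n1, n2, n3, n4, n5, n6, n7, n8]
theorem nets_ok : netsOk 21 nets = true := List.all_eq_true.2 (fa_cons n0_ok (fa_cons n1_ok (fa_cons n2_ok (fa_cons n3_ok (fa_cons n4_ok (fa_cons n5_ok (fa_cons n6_ok (fa_cons n7_ok (fa_cons n8_ok (fa_nil))))))))))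
noncomputable def ss : List (Nat × Nat) := [(0, 0)]
noncomputable def ws4 : List Word := []
noncomputable def reach : List Word := [dw (nat_lit 0x05), dw (nat_lit 0x01), dw (nat_lit 0x07), dw (nat_lit 0x09), dw (nat_lit 0x03), dw (nat_lit 0x05), dw (nat_lit 0x01)]
noncomputable def lev3 : Level := ⟨nat_lit 2,
[⟨[nat_lit 16], [], [],
[⟨nat_lit 0, [], nat_lit 1, [], []⟩,
⟨nat_lit 1, [], nat_lit 2, [], []⟩,
⟨nat_lit 2, [], nat_lit 0, [], []⟩],
[]⟩],
[⟨dw (nat_lit 0x01), (nat_lit 0x40), [], .nil, []⟩,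
⟨dw (nat_lit 0x02), (nat_lit 0x10), [], .nil, []⟩]⟩
noncomputable def ex3 : List Word := []
noncomputable def ws3 : List Word := List.append ex3 (lev3.gens ws4)
noncomputable def rels3 : List (Word × Word) := List.append (lev3.rels ws4) (memRels (lev3.gens ws4) ex3 [])
noncomputable def lev2 : Level := ⟨nat_lit 3,
[⟨[nat_lit 2], [], [],
[⟨nat_lit 0, [], nat_lit 1, [], []⟩,
⟨nat_lit 1, [], nat_lit 0, [], []⟩,
⟨nat_lit 2, [], nat_lit 3, [], []⟩,
⟨nat_lit 3, [], nat_lit 2, [], []⟩,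
⟨nat_lit 4, [], nat_lit 5, [], dw (nat_lit 0x02)⟩,
⟨nat_lit 5, [], nat_lit 4, [], dw (nat_lit 0x01)⟩,
⟨nat_lit 1, dw (nat_lit 0x01), nat_lit 1, dw (nat_lit 0x02), dw (nat_lit 0x02)⟩,
⟨nat_lit 1, dw (nat_lit 0x02), nat_lit 1, dw (nat_lit 0x01), dw (nat_lit 0x01)⟩,
⟨nat_lit 2, dw (nat_lit 0x01), nat_lit 5, dw (nat_lit 0x01), dw (nat_lit 0x01)⟩,
⟨nat_lit 2, dw (nat_lit 0x02), nat_lit 4, dw (nat_lit 0x02), dw (nat_lit 0x02)⟩,
⟨nat_lit 3, dw (nat_lit 0x01), nat_lit 4, dw (nat_lit 0x01), dw (nat_lit 0x02)⟩,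
⟨nat_lit 3, dw (nat_lit 0x02), nat_lit 5, dw (nat_lit 0x02), dw (nat_lit 0x01)⟩,
⟨nat_lit 4, dw (nat_lit 0x01), nat_lit 3, dw (nat_lit 0x01), dw (nat_lit 0x01)⟩,
⟨nat_lit 4, dw (nat_lit 0x02), nat_lit 2, dw (nat_lit 0x02), dw (nat_lit 0x01)⟩,
⟨nat_lit 5, dw (nat_lit 0x01), nat_lit 2, dw (nat_lit 0x01), dw (nat_lit 0x02)⟩,
⟨nat_lit 5, dw (nat_lit 0x02), nat_lit 3, dw (nat_lit 0x02), dw (nat_lit 0x02)⟩],
[]⟩,
⟨[nat_lit 14], [], [],
[⟨nat_lit 0, [], nat_lit 2, [], []⟩,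
⟨nat_lit 1, [], nat_lit 3, [], []⟩,
⟨nat_lit 2, [], nat_lit 0, [], []⟩,
⟨nat_lit 3, [], nat_lit 1, [], []⟩,
⟨nat_lit 4, [], nat_lit 1, dw (nat_lit 0x01), []⟩,
⟨nat_lit 5, [], nat_lit 1, dw (nat_lit 0x02), []⟩,
⟨nat_lit 1, dw (nat_lit 0x01), nat_lit 4, [], []⟩,
⟨nat_lit 1, dw (nat_lit 0x02), nat_lit 5, [], []⟩,
⟨nat_lit 2, dw (nat_lit 0x01), nat_lit 2, dw (nat_lit 0x02), dw (nat_lit 0x02)⟩,
⟨nat_lit 2, dw (nat_lit 0x02), nat_lit 2, dw (nat_lit 0x01), dw (nat_lit 0x01)⟩,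
⟨nat_lit 3, dw (nat_lit 0x01), nat_lit 5, dw (nat_lit 0x02), []⟩,
⟨nat_lit 3, dw (nat_lit 0x02), nat_lit 4, dw (nat_lit 0x01), []⟩,
⟨nat_lit 4, dw (nat_lit 0x01), nat_lit 3, dw (nat_lit 0x02), []⟩,
⟨nat_lit 4, dw (nat_lit 0x02), nat_lit 5, dw (nat_lit 0x01), []⟩,
⟨nat_lit 5, dw (nat_lit 0x01), nat_lit 4, dw (nat_lit 0x02), []⟩,
⟨nat_lit 5, dw (nat_lit 0x02), nat_lit 3, dw (nat_lit 0x01), []⟩],
[]⟩],
[⟨dw (nat_lit 0x01), (nat_lit 0x140080), [dw (nat_lit 0x01), dw (nat_lit 0x01)], .nil, []⟩,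
⟨dw (nat_lit 0x03), (nat_lit 0x21800), [dw (nat_lit 0x01), dw (nat_lit 0x01)], .nil, []⟩,
⟨dw (nat_lit 0x0301), (nat_lit 0x520), [dw (nat_lit 0x01), dw (nat_lit 0x01)], .nil, []⟩,
⟨dw (nat_lit 0x030501), (nat_lit 0x16000), [dw (nat_lit 0x01), dw (nat_lit 0x01)], .nil, []⟩,
⟨dw (nat_lit 0x030601), (nat_lit 0x88200), [dw (nat_lit 0x01), dw (nat_lit 0x01)], .nil, []⟩]⟩
noncomputable def ex2 : List Word := [[nat_lit 12]]
noncomputable def ws2 : List Word := List.append ex2 (lev2.gens ws3)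
noncomputable def rels2 : List (Word × Word) := List.append (lev2.rels ws3) (memRels (lev2.gens ws3) ex2 [dw (nat_lit 0x0601)])
noncomputable def lev1 : Level := ⟨nat_lit 1,
[⟨[nat_lit 6], [dw (nat_lit 0x07)], [dw (nat_lit 0x08)],
[⟨nat_lit 0, [], nat_lit 1, [], []⟩,
⟨nat_lit 1, [], nat_lit 0, [], []⟩,
⟨nat_lit 2, [], nat_lit 1, dw (nat_lit 0x0502), []⟩,
⟨nat_lit 1, dw (nat_lit 0x02), nat_lit 1, dw (nat_lit 0x02), dw (nat_lit 0x030107)⟩,
⟨nat_lit 1, dw (nat_lit 0x05), nat_lit 1, dw (nat_lit 0x05), dw (nat_lit 0x05)⟩,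
⟨nat_lit 1, dw (nat_lit 0x0501), nat_lit 1, dw (nat_lit 0x0205), dw (nat_lit 0x0205)⟩,
⟨nat_lit 1, dw (nat_lit 0x0502), nat_lit 2, [], []⟩,
⟨nat_lit 1, dw (nat_lit 0x050301), nat_lit 1, dw (nat_lit 0x010501), dw (nat_lit 0x02050207)⟩],
[dw (nat_lit 0x01), dw (nat_lit 0x01)]⟩],
[⟨dw (nat_lit 0x01), (nat_lit 0x1fffa8), [dw (nat_lit 0x01), dw (nat_lit 0x03), dw (nat_lit 0x05), dw (nat_lit 0x01), dw (nat_lit 0x01)], (.cons (nat_lit 2) [dw (nat_lit 0x07)] [dw (nat_lit 0x01), dw (nat_lit 0x01)]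
.nil), [dw (nat_lit 0x08)]⟩,
⟨dw (nat_lit 0x01070401), (nat_lit 0x54), [dw (nat_lit 0x01), dw (nat_lit 0x01)], (.cons (nat_lit 3) [dw (nat_lit 0x03), dw (nat_lit 0x0802), dw (nat_lit 0x01010105), dw (nat_lit 0x02060207)] [dw (nat_lit 0x01), dw (nat_lit 0x03), dw (nat_lit 0x05), dw (nat_lit 0x07)]
.nil), [dw (nat_lit 0x070508), dw (nat_lit 0x08050108), dw (nat_lit 0x030107), dw (nat_lit 0x050107)]⟩]⟩
noncomputable def ex1 : List Word := [[nat_lit 0], [nat_lit 8], [nat_lit 10]]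
noncomputable def ws1 : List Word := List.append ex1 (lev1.gens ws2)
noncomputable def rels1 : List (Word × Word) := List.append (lev1.rels ws2) (memRels (lev1.gens ws2) ex1 [dw (nat_lit 0x01030701090704), dw (nat_lit 0x010704010907040a), dw (nat_lit 0x040704010a0703)])
noncomputable def lev0 : Level := ⟨nat_lit 0,
[⟨[nat_lit 4], [dw (nat_lit 0x09), dw (nat_lit 0x0a0d100b0e), dw (nat_lit 0x0f)], [dw (nat_lit 0x0a), dw (nat_lit 0x100d0f), dw (nat_lit 0x0b09)],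
[⟨nat_lit 0, [], nat_lit 1, [], []⟩,
⟨nat_lit 1, [], nat_lit 0, [], []⟩,
⟨nat_lit 1, dw (nat_lit 0x01), nat_lit 1, dw (nat_lit 0x01), dw (nat_lit 0x01)⟩,
⟨nat_lit 1, dw (nat_lit 0x05), nat_lit 1, dw (nat_lit 0x0706), dw (nat_lit 0x0507090d10)⟩],
[dw (nat_lit 0x01), dw (nat_lit 0x05), dw (nat_lit 0x01), dw (nat_lit 0x01), dw (nat_lit 0x05), dw (nat_lit 0x03)]⟩],
[⟨dw (nat_lit 0x01), (nat_lit 0x1ffffe), [dw (nat_lit 0x01), dw (nat_lit 0x03), dw (nat_lit 0x05), dw (nat_lit 0x0507), dw (nat_lit 0x05)], (.cons (nat_lit 3) [dw (nat_lit 0x09), dw (nat_lit 0x0a0a0e10)] [dw (nat_lit 0x01), dw (nat_lit 0x0206), dw (nat_lit 0x03), dw (nat_lit 0x01), dw (nat_lit 0x01)]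
(.cons (nat_lit 2) [dw (nat_lit 0x0f)] [dw (nat_lit 0x01), dw (nat_lit 0x01)]
.nil)), [dw (nat_lit 0x0a), dw (nat_lit 0x100d), dw (nat_lit 0x0b09)]⟩]⟩
noncomputable def ex0 : List Word := []
noncomputable def ws0 : List Word := List.append ex0 (lev0.gens ws1)
noncomputable def rels0 : List (Word × Word) := List.append (lev0.rels ws1) (memRels (lev0.gens ws1) ex0 [])
noncomputable def prim0 : List (List Word) := [[dw (nat_lit 0x01), dw (nat_lit 0x03), dw (nat_lit 0x05), dw (nat_lit 0x07), dw (nat_lit 0x0707), dw (nat_lit 0x07)]]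
noncomputable def rels : List (Word × Word) := List.append rels0 (List.append rels1 (List.append rels2 (List.append rels3 ([]))))
noncomputable def defs : List Word := [dw (nat_lit 0x0608040a030609030806070209), dw (nat_lit 0x080a040c07), dw (nat_lit 0x020a030b0a010c0a), dw (nat_lit 0x0e100d030e0f)]
noncomputable def relsD : List (Word × Word) := defRels defs 5
noncomputable def relsO : List (Word × Word) := memRels ws0 (lets 5) [dw (nat_lit 0x03), dw (nat_lit 0x0c12), dw (nat_lit 0x01), dw (nat_lit 0x09), dw (nat_lit 0x05)]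
noncomputable def relsS : List (Word × Word) := []
noncomputable def allRels : List (Word × Word) := List.append rels (List.append relsD (List.append relsO relsS))
theorem reach_ok : subs (full 21) (orbRun nets (lets 5) reach (bits (List.map Prod.fst ss))) = true := by decide +kernel
theorem chk3 : lev3.chk 21 nets ws4 1 3 = true := by decide +kernel
theorem chk2 : lev2.chk 21 nets ws3 3 48 = true := by decide +kernel
theorem chk1 : lev1.chk 21 nets ws2 48 960 = true := by decide +kernel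
theorem primc0 : PM.primChk nets ws1 lev0 lev0.sos prim0 = true := by decide +kernel
theorem chk0 : lev0.chk 21 nets ws1 960 20160 = true := by decide +kernel
theorem rc0 : relsChk 21 nets 5 (idArr 21 5 5 0) allRels = true := by decide +kernel
section
variable {Γ Ω : Type*} [Group Γ] [MulAction Γ Ω] (M : PM Γ Ω 21 nets)

theorem all_ok (hs : M.Sep 5 (idArr 21 5 5 0)) : Rels M.gen allRels := (M.rels_of_chk hs rc0)
theorem sep [FaithfulSMul Γ Ω] : M.Sep 5 (idArr 21 5 5 0) := M.sep_idArr (by decide)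
theorem all_ok' [FaithfulSMul Γ Ω] : Rels M.gen allRels := all_ok M (sep M)
theorem rels_of_all {gen : ℕ → Γ} (h : Rels gen allRels) : Rels gen rels := Rels.left h
theorem relsD_of_all {gen : ℕ → Γ} (h : Rels gen allRels) : Rels gen relsD := Rels.left (Rels.right h)
theorem relsO_of_all {gen : ℕ → Γ} (h : Rels gen allRels) : Rels gen relsO := Rels.left (Rels.right (Rels.right h))
theorem relsS_of_all {gen : ℕ → Γ} (h : Rels gen allRels) : Rels gen relsS := Rels.right (Rels.right (Rels.right h))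
theorem card4 (_hR : Rels M.gen rels) : Nat.card (sub M.gen ws4) = 1 := M.card_nil
theorem fixw4 (_hR : Rels M.gen rels) : M.FixTriv ws4 [] := M.fixTriv_nil
theorem r3 (hR : Rels M.gen rels) : Rels M.gen rels3 := (Rels.left (Rels.right (Rels.right (Rels.right hR))))
theorem res3 (hR : Rels M.gen rels) : M.LevelRes ws4 lev3 3 := M.level (card4 M hR) chk3 (Rels.left (r3 M hR))
theorem ext3 (hR : Rels M.gen rels) : sub M.gen ws3 = sub M.gen (lev3.gens ws4) := sub_extend (Rels.right (r3 M hR))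
theorem card3 (hR : Rels M.gen rels) : Nat.card (sub M.gen ws3) = 3 := by rw [ext3 M hR]; exact (res3 M hR).card
theorem fix3 (hR : Rels M.gen rels) : M.FixTriv (lev3.gens ws4) [2] := (res3 M hR).fixTriv M (fixw4 M hR)
theorem fixw3 (hR : Rels M.gen rels) : M.FixTriv ws3 [2] := fun g hg => fix3 M hR g (ext3 M hR ▸ hg)
theorem stab3 (hR : Rels M.gen rels) : sub M.gen ws3 ⊓ MulAction.stabilizer Γ (M.dec 2) = sub M.gen ws4 := by rw [ext3 M hR]; exact (res3 M hR).stab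
theorem orb3 (hR : Rels M.gen rels) (y : Ω) : y ∈ M.S lev3.orb ↔ ∃ g ∈ sub M.gen ws3, g • M.dec 2 = y := by rw [ext3 M hR]; exact (res3 M hR).orb y
theorem r2 (hR : Rels M.gen rels) : Rels M.gen rels2 := (Rels.left (Rels.right (Rels.right hR)))
theorem res2 (hR : Rels M.gen rels) : M.LevelRes ws3 lev2 48 := M.level (card3 M hR) chk2 (Rels.left (r2 M hR))
theorem ext2 (hR : Rels M.gen rels) : sub M.gen ws2 = sub M.gen (lev2.gens ws3) := sub_extend (Rels.right (r2 M hR))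
theorem card2 (hR : Rels M.gen rels) : Nat.card (sub M.gen ws2) = 48 := by rw [ext2 M hR]; exact (res2 M hR).card
theorem fix2 (hR : Rels M.gen rels) : M.FixTriv (lev2.gens ws3) [3, 2] := (res2 M hR).fixTriv M (fixw3 M hR)
theorem fixw2 (hR : Rels M.gen rels) : M.FixTriv ws2 [3, 2] := fun g hg => fix2 M hR g (ext2 M hR ▸ hg)
theorem stab2 (hR : Rels M.gen rels) : sub M.gen ws2 ⊓ MulAction.stabilizer Γ (M.dec 3) = sub M.gen ws3 := by rw [ext2 M hR]; exact (res2 M hR).stab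
theorem orb2 (hR : Rels M.gen rels) (y : Ω) : y ∈ M.S lev2.orb ↔ ∃ g ∈ sub M.gen ws2, g • M.dec 3 = y := by rw [ext2 M hR]; exact (res2 M hR).orb y
theorem r1 (hR : Rels M.gen rels) : Rels M.gen rels1 := (Rels.left (Rels.right hR))
theorem res1 (hR : Rels M.gen rels) : M.LevelRes ws2 lev1 960 := M.level (card2 M hR) chk1 (Rels.left (r1 M hR))
theorem ext1 (hR : Rels M.gen rels) : sub M.gen ws1 = sub M.gen (lev1.gens ws2) := sub_extend (Rels.right (r1 M hR))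
theorem card1 (hR : Rels M.gen rels) : Nat.card (sub M.gen ws1) = 960 := by rw [ext1 M hR]; exact (res1 M hR).card
theorem fix1 (hR : Rels M.gen rels) : M.FixTriv (lev1.gens ws2) [1, 3, 2] := (res1 M hR).fixTriv M (fixw2 M hR)
theorem fixw1 (hR : Rels M.gen rels) : M.FixTriv ws1 [1, 3, 2] := fun g hg => fix1 M hR g (ext1 M hR ▸ hg)
theorem stab1 (hR : Rels M.gen rels) : sub M.gen ws1 ⊓ MulAction.stabilizer Γ (M.dec 1) = sub M.gen ws2 := by rw [ext1 M hR]; exact (res1 M hR).stab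
theorem orb1 (hR : Rels M.gen rels) (y : Ω) : y ∈ M.S lev1.orb ↔ ∃ g ∈ sub M.gen ws1, g • M.dec 1 = y := by rw [ext1 M hR]; exact (res1 M hR).orb y
theorem r0 (hR : Rels M.gen rels) : Rels M.gen rels0 := (Rels.left hR)
theorem res0 (hR : Rels M.gen rels) : M.LevelRes ws1 lev0 20160 := M.level (card1 M hR) chk0 (Rels.left (r0 M hR))
theorem ext0 (hR : Rels M.gen rels) : sub M.gen ws0 = sub M.gen (lev0.gens ws1) := sub_extend (Rels.right (r0 M hR))
theorem card0 (hR : Rels M.gen rels) : Nat.card (sub M.gen ws0) = 20160 := by rw [ext0 M hR]; exact (res0 M hR).card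
theorem fix0 (hR : Rels M.gen rels) : M.FixTriv (lev0.gens ws1) [0, 1, 3, 2] := (res0 M hR).fixTriv M (fixw1 M hR)
theorem fixw0 (hR : Rels M.gen rels) : M.FixTriv ws0 [0, 1, 3, 2] := fun g hg => fix0 M hR g (ext0 M hR ▸ hg)
theorem stab0 (hR : Rels M.gen rels) : sub M.gen ws0 ⊓ MulAction.stabilizer Γ (M.dec 0) = sub M.gen ws1 := by rw [ext0 M hR]; exact (res0 M hR).stab
theorem orb0 (hR : Rels M.gen rels) (y : Ω) : y ∈ M.S lev0.orb ↔ ∃ g ∈ sub M.gen ws0, g • M.dec 0 = y := by rw [ext0 M hR]; exact (res0 M hR).orb y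
theorem max0 (hR : Rels M.gen rels) (X : Subgroup Γ) (h1 : sub M.gen ws1 ≤ X) (h2 : X ≤ sub M.gen ws0) : X = sub M.gen ws1 ∨ X = sub M.gen ws0 := by rw [ext0 M hR] at h2 ⊢; exact (res0 M hR).max M primc0 X h1 h2
theorem orig_eq {gen : ℕ → Γ} (h : Rels gen allRels) : sub gen (lets 5) = sub gen ws0 :=
  sub_lets_eq_of_rels (ds := defs) (by decide +kernel) (relsD_of_all h) (by decide +kernel) (relsO_of_all h)
theorem gen_mem {gen : ℕ → Γ} (h : Rels gen allRels) {X : Subgroup Γ} (h0 : ∀ l < 5, gen l ∈ X) : sub gen ws0 ≤ X :=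
  sub_le_of_wsIn (lo := 0) (gen_mem_of_defRels (ds := defs) (fun l _ hl => h0 l hl) (by decide +kernel) (relsD_of_all h)) (by decide +kernel)

end

/-- the permutation group -/
noncomputable abbrev P := permPM 21 nets (by decide) (by decide) nets_ok
theorem allP : Rels P.gen allRels := all_ok' P
/-- machines of this type -/
abbrev St (X : Type*) [Group X] := Std X 21 nets ws0 20160 allRels
/-- the presentation on the strong generators -/
theorem hom {X : Type*} [Group X] (S : St X) {Δ : Type*} [Group Δ] (y : ℕ → Δ) (hy : Rels y rels) :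
    ∃ φ : X →* Δ, φ.range = sub y ws0 ∧ ∀ w ∈ ws0, φ (H14.ev S.M.gen w) = H14.ev y w :=
  S.hom_ws y (card0 _ ((rels_of_all S.rels).prod hy))
/-- the presentation on all letters -/
theorem hom' {X : Type*} [Group X] (S : St X) {Δ : Type*} [Group Δ] (y : ℕ → Δ) (hy : Rels y allRels) :
    ∃ φ : X →* Δ, φ.range = sub y (lets 5) ∧ ∀ l < 9, φ (S.M.gen l) = y l :=
  S.hom_all y (card0 _ (rels_of_all (S.rels.prod hy))) (orig_eq (S.rels.prod hy)) (orig_eq hy) (ds := defs)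
    (by decide +kernel) (relsD_of_all (S.rels.prod hy)) (by decide +kernel)
/-- the matrices of the first letters (and their inverses) -/
def As : List (ℕ × ℕ) :=
[(nat_lit 0x10105, nat_lit 0x10105),
  (nat_lit 0x10501, nat_lit 0x10501),
  (nat_lit 0x10141, nat_lit 0x10141),
  (nat_lit 0x14101, nat_lit 0x14101),
  (nat_lit 0x10109, nat_lit 0x10109)]
/-- the vectors -/
def V : ℕ := nat_lit 0x1c6987597de49b4d6417446507544141
theorem eqv_ok : c4.eqvM 3 21 [1, 2, 3] V As nets 5 = true := by decide +kernel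
theorem sep_ok : c4.sepM 3 21 [1, 2, 3] V (ss.map Prod.fst) = true := by decide +kernel
theorem ctrP : ∀ z ∈ sub P.gen (lets 5), (∀ x ∈ sub P.gen (lets 5), x * z = z * x) → z = 1 :=
  orig_eq allP ▸ center_triv (res0 P (rels_of_all allP)) (ext0 P (rels_of_all allP)) (card1 P (rels_of_all allP))
    (by decide) primc0 (fix0 P (rels_of_all allP)) (by decide +kernel)
theorem core {F : Type*} [Field F] {a : Ar F} (ha : Ok a c4 2) {ι : Type} [Fintype ι] [DecidableEq ι]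
    {e : ι ≃ Fin 3} {T X : Type*} [Group T] [Group X] {ρ : T →* Matrix ι ι F} (h : Mem a e ρ As 5)
    (q : T →* X) (hq : ∀ g, q g = 1 → g = 1 ∨ g ∈ Subgroup.center T ∧ ∀ z ∈ sub P.gen (lets 5), (∀ x ∈ sub P.gen (lets 5), x * z = z * x) → z = 1)
    (hB : Bd (⊤ : Subgroup X) 20160) : ∃ S : St X, Spec S a e ρ q As 5 [1, 2, 3] V (ss.map Prod.fst) :=
  h.std ha (by decide +kernel) eqv_ok reach_ok sep_ok q hq (ds := defs) (by decide +kernel) (by decide +kernel)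
    (relsD_of_all allP) hB (orig_eq allP) (card0 P (rels_of_all allP)) allP
theorem std_spec {F : Type*} [Field F] [Fintype F] (hF : Fintype.card F = 4) {a : Ar F} (ha : Ok a c4 2) :
    ∃ S : St (Matrix.ProjectiveSpecialLinearGroup (Fin 3) F), Spec S a (Equiv.refl _) (slM (Fin 3) F) (QuotientGroup.mk' _) As 5 [1, 2, 3] V (ss.map Prod.fst) :=
  core ha (mem_sl _ ha.1 (p := 2) ha.2.2 (by norm_num) (L := As) (by decide +kernel)) _ (hq_ctr ctrP) (bd_psl hF (by decide +kernel))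
theorem std {F : Type*} [Field F] [Fintype F] (hF : Fintype.card F = 4) : Nonempty (St (Matrix.ProjectiveSpecialLinearGroup (Fin 3) F)) :=
  let ⟨_, ha⟩ := ar_4 (F := F) hF
  let ⟨S, _⟩ := std_spec hF ha
  ⟨S⟩

end H15.StdL34
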