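import Cfsg.Agent.H14.Dw2
import Cfsg.Agent.H15.Std3

/-! Standard machine: `PSU 3 F 5` on the isotropic points, generated by 3 transvections
Generated certificate (tools14/pkgen, tools15/std.py) for the permutation group StdU35 of degree 126, order 126000, base 0 1 2. -/
set_option autoImplicit false
set_option maxRecDepth 100000

namespace H15.StdU35
open H14

noncomputable def n0 : Net := (.cons (nat_lit 1) (nat_lit 0x5014501405144151040515501154104)
(.cons (nat_lit 2) (nat_lit 0x3311123231211302121102100002000)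
(.cons (nat_lit 4) (nat_lit 0x30304010102090a090704010f0f0a08)
(.cons (nat_lit 8) (nat_lit 0x80003009d00f000ac000000600000)
(.cons (nat_lit 16) (nat_lit 0x1861000024190000c00c00008000)
(.cons (nat_lit 32) (nat_lit 0x250344f0000000080000000)
(.cons (nat_lit 64) (nat_lit 0x3a31f46f84408000)
(.cons (nat_lit 32) (nat_lit 0x211c776b00000000b8ffda00)
(.cons (nat_lit 16) (nat_lit 0x3ab900007df10000a09000004d68)
(.cons (nat_lit 8) (nat_lit 0x1b00cc001000bb003c00fb00060054)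
(.cons (nat_lit 4) (nat_lit 0x10108070f0c0a0c01010603060e0006)
(.cons (nat_lit 2) (nat_lit 0x1032200321311110103030023200012)
(.cons (nat_lit 1) (nat_lit 0x15401111504114140051045400411115)
.nil)))))))))))))
theorem n0_ok : Net.ok 126 n0 = true := by decide +kernel
noncomputable def n1 : Net := (.cons (nat_lit 1) (nat_lit 0x5501140005505150151440501044)
(.cons (nat_lit 2) (nat_lit 0x3131213200100211022033030202010)
(.cons (nat_lit 4) (nat_lit 0x1010e0a03060b000003010901050408)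
(.cons (nat_lit 8) (nat_lit 0x17002200c100cb007c008300e00000)
(.cons (nat_lit 16) (nat_lit 0x180c00008a860000160d00000000)
(.cons (nat_lit 32) (nat_lit 0x120405080000000040000000)
(.cons (nat_lit 64) (nat_lit 0x3346fdcb4de00000)
(.cons (nat_lit 32) (nat_lit 0x1215ef6700000000f21f2400)
(.cons (nat_lit 16) (nat_lit 0x2d5600007fff000040760000e938)
(.cons (nat_lit 8) (nat_lit 0x2e0076001b002f00c200df008000c4)
(.cons (nat_lit 4) (nat_lit 0x30109010f07000a07070d0c06090e)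
(.cons (nat_lit 2) (nat_lit 0x1030012010020113032111310112213)
(.cons (nat_lit 1) (nat_lit 0x11040115501540511014415444100541)
.nil)))))))))))))
theorem n1_ok : Net.ok 126 n1 = true := by decide +kernel
noncomputable def n2 : Net := (.cons (nat_lit 1) (nat_lit 0x15445454044004511410405414450444)
(.cons (nat_lit 2) (nat_lit 0x3332200030330003313322313110013)
(.cons (nat_lit 4) (nat_lit 0x304050309040c090d02000a07010e00)
(.cons (nat_lit 8) (nat_lit 0x1300e3009200a9000c006200400040)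
(.cons (nat_lit 16) (nat_lit 0x132000029530000a46e00008000)
(.cons (nat_lit 32) (nat_lit 0x2a01c0770000000080000000)
(.cons (nat_lit 64) (nat_lit 0x3a5f4df795008000)
(.cons (nat_lit 32) (nat_lit 0x226f7db100000000aaff1e00)
(.cons (nat_lit 16) (nat_lit 0x18b0000077750000e046000011d0)
(.cons (nat_lit 8) (nat_lit 0x14003d0042001c00850057004e0013)
(.cons (nat_lit 4) (nat_lit 0x3040503000208040d01050d0000090a)
(.cons (nat_lit 2) (nat_lit 0x2310030120231230023222220302112)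
(.cons (nat_lit 1) (nat_lit 0x154554540041450411100155514444)
.nil)))))))))))))
theorem n2_ok : Net.ok 126 n2 = true := by decide +kernel
noncomputable def n3 : Net := (.cons (nat_lit 1) (nat_lit 0x5054454050000115401444455550150)
(.cons (nat_lit 2) (nat_lit 0x1022323021030112222021223033120)
(.cons (nat_lit 4) (nat_lit 0x3040900030e08040c0f0d040a0000)
(.cons (nat_lit 8) (nat_lit 0x1200a4001c006600cb006b001a0000)
(.cons (nat_lit 16) (nat_lit 0x984000037080000501f00000000)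
(.cons (nat_lit 32) (nat_lit 0x151e148d00000000c0000000)
(.cons (nat_lit 64) (nat_lit 0x1903657fc4dd7282)
(.cons (nat_lit 32) (nat_lit 0xd25852e00000000f6d9636c)
(.cons (nat_lit 16) (nat_lit 0xa8e00001a18000050af0000c4e4)
(.cons (nat_lit 8) (nat_lit 0xd00bd008a00f4009f008a0075008a)
(.cons (nat_lit 4) (nat_lit 0x20c0d080b0902060f040e0606060f0e)
(.cons (nat_lit 2) (nat_lit 0x1231212001111011023310232131302)
(.cons (nat_lit 1) (nat_lit 0x5111454544400440441140555550104)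
.nil)))))))))))))
theorem n3_ok : Net.ok 126 n3 = true := by decide +kernel
noncomputable def n4 : Net := (.cons (nat_lit 1) (nat_lit 0x1015504144514101104550004104004)
(.cons (nat_lit 2) (nat_lit 0x1210132332131302123002033100202)
(.cons (nat_lit 4) (nat_lit 0x1040105060e0b0c080b0100040d0400)
(.cons (nat_lit 8) (nat_lit 0x1500f3004800f8001d00f100450080)
(.cons (nat_lit 16) (nat_lit 0x1059000084ae00009a1f00004000)
(.cons (nat_lit 32) (nat_lit 0x78fd7700000000000000000)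
(.cons (nat_lit 64) (nat_lit 0x324ba4570df453a6)
(.cons (nat_lit 32) (nat_lit 0x38864e6100000000ca75e03c)
(.cons (nat_lit 16) (nat_lit 0x14f3000023c5000077a8000076e0)
(.cons (nat_lit 8) (nat_lit 0x22009e00fc00cc00ff00bd000d0062)
(.cons (nat_lit 4) (nat_lit 0x3040700070b0e0b000b0f0b090e0108)
(.cons (nat_lit 2) (nat_lit 0x320022121310200323320130132200)
(.cons (nat_lit 1) (nat_lit 0x1145540545404415550005440451540)
.nil)))))))))))))
theorem n4_ok : Net.ok 126 n4 = true := by decide +kernel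
noncomputable def n5 : Net := (.cons (nat_lit 1) (nat_lit 0x10011445554141010505145044445110)
(.cons (nat_lit 2) (nat_lit 0x200003003000230313223102100223)
(.cons (nat_lit 4) (nat_lit 0x20e060c08030e0807030a00040b0208)
(.cons (nat_lit 8) (nat_lit 0x26006e00d900d60041004c00020000)
(.cons (nat_lit 16) (nat_lit 0x30cf00000fab0000621800008000)
(.cons (nat_lit 32) (nat_lit 0x10700510000000040000000)
(.cons (nat_lit 64) (nat_lit 0xe5b7d4db12010b)
(.cons (nat_lit 32) (nat_lit 0x3161cd8a000000006fdd4d03)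
(.cons (nat_lit 16) (nat_lit 0x9ad00002cb7000025390000cb0a)
(.cons (nat_lit 8) (nat_lit 0x3a004700dd00b3005000db00910079)
(.cons (nat_lit 4) (nat_lit 0x30407000a09080b030f070e0f060308)
(.cons (nat_lit 2) (nat_lit 0x2213033021103303232020221100203)
(.cons (nat_lit 1) (nat_lit 0x14404115410040114514404451551504)
.nil)))))))))))))
theorem n5_ok : Net.ok 126 n5 = true := by decide +kernel
noncomputable def nets : List Net := [n0, n1, n2, n3, n4, n5]
theorem nets_ok : netsOk 126 nets = true := List.all_eq_true.2 (fa_cons n0_ok (fa_cons n1_ok (fa_cons n2_ok (fa_cons n3_ok (fa_cons n4_ok (fa_cons n5_ok (fa_nil)))))))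
noncomputable def ss : List (Nat × Nat) := [(0, 0)]
noncomputable def ws3 : List Word := []
noncomputable def reach : List Word := [dw (nat_lit 0x01), dw (nat_lit 0x03), dw (nat_lit 0x01), dw (nat_lit 0x05), dw (nat_lit 0x03), dw (nat_lit 0x05), dw (nat_lit 0x01), dw (nat_lit 0x03)
, dw (nat_lit 0x05), dw (nat_lit 0x01), dw (nat_lit 0x01)]
noncomputable def lev2 : Level := ⟨nat_lit 2,
[⟨[nat_lit 10], [], [],
[⟨nat_lit 0, [], nat_lit 1, [], []⟩,
⟨nat_lit 1, [], nat_lit 3, [], []⟩,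
⟨nat_lit 2, [], nat_lit 0, [], []⟩,
⟨nat_lit 3, [], nat_lit 5, [], []⟩,
⟨nat_lit 4, [], nat_lit 2, [], []⟩,
⟨nat_lit 5, [], nat_lit 7, [], []⟩,
⟨nat_lit 6, [], nat_lit 4, [], []⟩,
⟨nat_lit 7, [], nat_lit 6, [], []⟩],
[]⟩],
[⟨dw (nat_lit 0x01), (nat_lit 0x20000000000000000000000), [], .nil, []⟩,
⟨dw (nat_lit 0x02), (nat_lit 0x1000000000000000000000000000), [], .nil, []⟩,
⟨dw (nat_lit 0x0101), (nat_lit 0x40000000000000000000000000000), [], .nil, []⟩,
⟨dw (nat_lit 0x0202), (nat_lit 0x2000000000000), [], .nil, []⟩,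
⟨dw (nat_lit 0x010101), (nat_lit 0x200000000000000000), [], .nil, []⟩,
⟨dw (nat_lit 0x020202), (nat_lit 0x40000), [], .nil, []⟩,
⟨dw (nat_lit 0x01010101), (nat_lit 0x400000000000000000000000), [], .nil, []⟩]⟩
noncomputable def ex2 : List Word := []
noncomputable def ws2 : List Word := List.append ex2 (lev2.gens ws3)
noncomputable def rels2 : List (Word × Word) := List.append (lev2.rels ws3) (memRels (lev2.gens ws3) ex2 [])
noncomputable def lev1 : Level := ⟨nat_lit 1,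
[⟨[nat_lit 6], [], [],
[⟨nat_lit 0, [], nat_lit 1, [], []⟩,
⟨nat_lit 1, [], nat_lit 3, [], []⟩,
⟨nat_lit 2, [], nat_lit 0, [], []⟩,
⟨nat_lit 3, [], nat_lit 4, [], []⟩,
⟨nat_lit 4, [], nat_lit 3, dw (nat_lit 0x01), dw (nat_lit 0x02)⟩,
⟨nat_lit 5, [], nat_lit 8, dw (nat_lit 0x01), []⟩,
⟨nat_lit 6, [], nat_lit 1, dw (nat_lit 0x01), []⟩,
⟨nat_lit 7, [], nat_lit 11, dw (nat_lit 0x02), dw (nat_lit 0x02)⟩,
⟨nat_lit 8, [], nat_lit 3, dw (nat_lit 0x0101), dw (nat_lit 0x0202)⟩,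
⟨nat_lit 9, [], nat_lit 11, dw (nat_lit 0x01), dw (nat_lit 0x02)⟩,
⟨nat_lit 10, [], nat_lit 2, dw (nat_lit 0x01), []⟩,
⟨nat_lit 11, [], nat_lit 3, dw (nat_lit 0x02), dw (nat_lit 0x0101)⟩,
⟨nat_lit 12, [], nat_lit 9, dw (nat_lit 0x01), []⟩,
⟨nat_lit 13, [], nat_lit 5, dw (nat_lit 0x01), []⟩,
⟨nat_lit 14, [], nat_lit 10, dw (nat_lit 0x01), []⟩,
⟨nat_lit 15, [], nat_lit 6, dw (nat_lit 0x01), []⟩,
⟨nat_lit 16, [], nat_lit 7, dw (nat_lit 0x01), []⟩,
⟨nat_lit 1, dw (nat_lit 0x01), nat_lit 5, [], []⟩,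
⟨nat_lit 1, dw (nat_lit 0x02), nat_lit 7, [], []⟩,
⟨nat_lit 2, dw (nat_lit 0x01), nat_lit 9, [], []⟩,
⟨nat_lit 2, dw (nat_lit 0x02), nat_lit 5, dw (nat_lit 0x010101), dw (nat_lit 0x010101)⟩,
⟨nat_lit 3, dw (nat_lit 0x01), nat_lit 11, [], []⟩,
⟨nat_lit 3, dw (nat_lit 0x02), nat_lit 8, [], dw (nat_lit 0x02)⟩,
⟨nat_lit 4, dw (nat_lit 0x01), nat_lit 10, [], []⟩,
⟨nat_lit 4, dw (nat_lit 0x02), nat_lit 10, dw (nat_lit 0x010101), dw (nat_lit 0x010101)⟩,
⟨nat_lit 5, dw (nat_lit 0x01), nat_lit 12, [], []⟩,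
⟨nat_lit 5, dw (nat_lit 0x02), nat_lit 6, dw (nat_lit 0x0202), dw (nat_lit 0x020202)⟩,
⟨nat_lit 6, dw (nat_lit 0x01), nat_lit 14, [], []⟩,
⟨nat_lit 6, dw (nat_lit 0x02), nat_lit 10, dw (nat_lit 0x0202), dw (nat_lit 0x020202)⟩,
⟨nat_lit 7, dw (nat_lit 0x01), nat_lit 13, dw (nat_lit 0x01), dw (nat_lit 0x020202)⟩,
⟨nat_lit 7, dw (nat_lit 0x02), nat_lit 14, dw (nat_lit 0x0202), dw (nat_lit 0x0202)⟩,
⟨nat_lit 8, dw (nat_lit 0x01), nat_lit 7, dw (nat_lit 0x020202), dw (nat_lit 0x020202)⟩,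
⟨nat_lit 8, dw (nat_lit 0x02), nat_lit 6, dw (nat_lit 0x010101), dw (nat_lit 0x010101)⟩,
⟨nat_lit 9, dw (nat_lit 0x01), nat_lit 16, dw (nat_lit 0x02), dw (nat_lit 0x010101)⟩,
⟨nat_lit 9, dw (nat_lit 0x02), nat_lit 5, dw (nat_lit 0x0202), dw (nat_lit 0x020202)⟩,
⟨nat_lit 10, dw (nat_lit 0x01), nat_lit 13, [], []⟩,
⟨nat_lit 10, dw (nat_lit 0x02), nat_lit 9, dw (nat_lit 0x0202), dw (nat_lit 0x020202)⟩,
⟨nat_lit 11, dw (nat_lit 0x01), nat_lit 6, [], dw (nat_lit 0x01)⟩,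
⟨nat_lit 11, dw (nat_lit 0x02), nat_lit 9, dw (nat_lit 0x010101), dw (nat_lit 0x01010101)⟩,
⟨nat_lit 12, dw (nat_lit 0x01), nat_lit 6, dw (nat_lit 0x01010101), dw (nat_lit 0x0202)⟩,
⟨nat_lit 12, dw (nat_lit 0x02), nat_lit 14, dw (nat_lit 0x0101), dw (nat_lit 0x01)⟩,
⟨nat_lit 13, dw (nat_lit 0x01), nat_lit 10, dw (nat_lit 0x01010101), dw (nat_lit 0x0202)⟩,
⟨nat_lit 13, dw (nat_lit 0x02), nat_lit 16, dw (nat_lit 0x01), dw (nat_lit 0x01010101)⟩,
⟨nat_lit 14, dw (nat_lit 0x01), nat_lit 5, dw (nat_lit 0x01010101), dw (nat_lit 0x0202)⟩,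
⟨nat_lit 14, dw (nat_lit 0x02), nat_lit 13, dw (nat_lit 0x0101), dw (nat_lit 0x01)⟩,
⟨nat_lit 15, dw (nat_lit 0x01), nat_lit 9, dw (nat_lit 0x01010101), dw (nat_lit 0x0202)⟩,
⟨nat_lit 15, dw (nat_lit 0x02), nat_lit 15, dw (nat_lit 0x0101), dw (nat_lit 0x01)⟩,
⟨nat_lit 16, dw (nat_lit 0x01), nat_lit 16, dw (nat_lit 0x0202), dw (nat_lit 0x02)⟩,
⟨nat_lit 16, dw (nat_lit 0x02), nat_lit 7, dw (nat_lit 0x0202), dw (nat_lit 0x0101)⟩,
⟨nat_lit 1, dw (nat_lit 0x0101), nat_lit 11, dw (nat_lit 0x0101), dw (nat_lit 0x010101)⟩,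
⟨nat_lit 1, dw (nat_lit 0x0202), nat_lit 11, dw (nat_lit 0x01010101), dw (nat_lit 0x020202)⟩,
⟨nat_lit 2, dw (nat_lit 0x0101), nat_lit 4, dw (nat_lit 0x0101), dw (nat_lit 0x01010101)⟩,
⟨nat_lit 2, dw (nat_lit 0x0202), nat_lit 8, dw (nat_lit 0x01010101), dw (nat_lit 0x0202)⟩,
⟨nat_lit 3, dw (nat_lit 0x0101), nat_lit 2, [], dw (nat_lit 0x0101)⟩,
⟨nat_lit 4, dw (nat_lit 0x0101), nat_lit 8, dw (nat_lit 0x0101), dw (nat_lit 0x01010101)⟩,
⟨nat_lit 4, dw (nat_lit 0x0202), nat_lit 4, dw (nat_lit 0x01010101), dw (nat_lit 0x0202)⟩,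
⟨nat_lit 5, dw (nat_lit 0x0101), nat_lit 15, dw (nat_lit 0x0202), dw (nat_lit 0x010101)⟩,
⟨nat_lit 5, dw (nat_lit 0x0202), nat_lit 5, dw (nat_lit 0x02), dw (nat_lit 0x010101)⟩,
⟨nat_lit 6, dw (nat_lit 0x0101), nat_lit 16, dw (nat_lit 0x020202), dw (nat_lit 0x0202)⟩,
⟨nat_lit 6, dw (nat_lit 0x0202), nat_lit 10, dw (nat_lit 0x02), dw (nat_lit 0x010101)⟩,
⟨nat_lit 7, dw (nat_lit 0x0101), nat_lit 14, dw (nat_lit 0x020202), dw (nat_lit 0x0101)⟩,
⟨nat_lit 7, dw (nat_lit 0x0202), nat_lit 15, [], dw (nat_lit 0x010101)⟩,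
⟨nat_lit 8, dw (nat_lit 0x0101), nat_lit 1, dw (nat_lit 0x0101), dw (nat_lit 0x01010101)⟩,
⟨nat_lit 8, dw (nat_lit 0x0202), nat_lit 2, dw (nat_lit 0x01010101), dw (nat_lit 0x0202)⟩,
⟨nat_lit 9, dw (nat_lit 0x0101), nat_lit 12, dw (nat_lit 0x0202), dw (nat_lit 0x010101)⟩,
⟨nat_lit 9, dw (nat_lit 0x0202), nat_lit 6, dw (nat_lit 0x02), dw (nat_lit 0x010101)⟩,
⟨nat_lit 10, dw (nat_lit 0x0101), nat_lit 13, dw (nat_lit 0x0202), dw (nat_lit 0x010101)⟩,
⟨nat_lit 10, dw (nat_lit 0x0202), nat_lit 7, dw (nat_lit 0x01010101), []⟩,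
⟨nat_lit 11, dw (nat_lit 0x0101), nat_lit 2, dw (nat_lit 0x0101), dw (nat_lit 0x020202)⟩,
⟨nat_lit 11, dw (nat_lit 0x0202), nat_lit 1, dw (nat_lit 0x01010101), dw (nat_lit 0x02)⟩,
⟨nat_lit 12, dw (nat_lit 0x0101), nat_lit 14, dw (nat_lit 0x02), dw (nat_lit 0x02)⟩,
⟨nat_lit 12, dw (nat_lit 0x0202), nat_lit 10, dw (nat_lit 0x0101), dw (nat_lit 0x020202)⟩,
⟨nat_lit 13, dw (nat_lit 0x0101), nat_lit 12, dw (nat_lit 0x02), dw (nat_lit 0x02)⟩,
⟨nat_lit 13, dw (nat_lit 0x0202), nat_lit 7, dw (nat_lit 0x02), dw (nat_lit 0x0101)⟩,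
⟨nat_lit 14, dw (nat_lit 0x0101), nat_lit 15, dw (nat_lit 0x02), dw (nat_lit 0x02)⟩,
⟨nat_lit 14, dw (nat_lit 0x0202), nat_lit 5, dw (nat_lit 0x0101), dw (nat_lit 0x020202)⟩,
⟨nat_lit 15, dw (nat_lit 0x0101), nat_lit 13, dw (nat_lit 0x02), dw (nat_lit 0x02)⟩,
⟨nat_lit 15, dw (nat_lit 0x0202), nat_lit 6, dw (nat_lit 0x0101), dw (nat_lit 0x020202)⟩,
⟨nat_lit 16, dw (nat_lit 0x0101), nat_lit 2, dw (nat_lit 0x010101), dw (nat_lit 0x010101)⟩,
⟨nat_lit 16, dw (nat_lit 0x0202), nat_lit 12, dw (nat_lit 0x0101), dw (nat_lit 0x0202)⟩,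
⟨nat_lit 1, dw (nat_lit 0x010101), nat_lit 13, dw (nat_lit 0x010101), dw (nat_lit 0x0101)⟩,
⟨nat_lit 1, dw (nat_lit 0x020202), nat_lit 12, dw (nat_lit 0x01010101), dw (nat_lit 0x010101)⟩,
⟨nat_lit 2, dw (nat_lit 0x010101), nat_lit 14, dw (nat_lit 0x010101), dw (nat_lit 0x0101)⟩,
⟨nat_lit 2, dw (nat_lit 0x020202), nat_lit 14, dw (nat_lit 0x01010101), dw (nat_lit 0x010101)⟩,
⟨nat_lit 4, dw (nat_lit 0x010101), nat_lit 12, dw (nat_lit 0x010101), dw (nat_lit 0x0101)⟩,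
⟨nat_lit 4, dw (nat_lit 0x020202), nat_lit 15, dw (nat_lit 0x01010101), dw (nat_lit 0x010101)⟩,
⟨nat_lit 5, dw (nat_lit 0x010101), nat_lit 4, dw (nat_lit 0x02), dw (nat_lit 0x020202)⟩,
⟨nat_lit 5, dw (nat_lit 0x020202), nat_lit 15, dw (nat_lit 0x020202), dw (nat_lit 0x02)⟩,
⟨nat_lit 6, dw (nat_lit 0x010101), nat_lit 1, dw (nat_lit 0x02), dw (nat_lit 0x020202)⟩,
⟨nat_lit 6, dw (nat_lit 0x020202), nat_lit 16, dw (nat_lit 0x01010101), dw (nat_lit 0x0101)⟩,
⟨nat_lit 7, dw (nat_lit 0x010101), nat_lit 9, dw (nat_lit 0x02), dw (nat_lit 0x0202)⟩,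
⟨nat_lit 7, dw (nat_lit 0x020202), nat_lit 4, dw (nat_lit 0x01), dw (nat_lit 0x010101)⟩,
⟨nat_lit 8, dw (nat_lit 0x010101), nat_lit 15, dw (nat_lit 0x010101), dw (nat_lit 0x0101)⟩,
⟨nat_lit 8, dw (nat_lit 0x020202), nat_lit 16, dw (nat_lit 0x010101), dw (nat_lit 0x0202)⟩,
⟨nat_lit 9, dw (nat_lit 0x010101), nat_lit 2, dw (nat_lit 0x02), dw (nat_lit 0x020202)⟩,
⟨nat_lit 9, dw (nat_lit 0x020202), nat_lit 12, dw (nat_lit 0x020202), dw (nat_lit 0x02)⟩,
⟨nat_lit 10, dw (nat_lit 0x010101), nat_lit 8, dw (nat_lit 0x02), dw (nat_lit 0x020202)⟩,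
⟨nat_lit 10, dw (nat_lit 0x020202), nat_lit 13, dw (nat_lit 0x020202), dw (nat_lit 0x02)⟩,
⟨nat_lit 11, dw (nat_lit 0x010101), nat_lit 16, dw (nat_lit 0x0101), dw (nat_lit 0x0202)⟩,
⟨nat_lit 11, dw (nat_lit 0x020202), nat_lit 13, dw (nat_lit 0x01010101), dw (nat_lit 0x01010101)⟩,
⟨nat_lit 12, dw (nat_lit 0x010101), nat_lit 8, dw (nat_lit 0x010101), dw (nat_lit 0x0202)⟩,
⟨nat_lit 12, dw (nat_lit 0x020202), nat_lit 7, dw (nat_lit 0x0101), dw (nat_lit 0x0202)⟩,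
⟨nat_lit 13, dw (nat_lit 0x010101), nat_lit 11, dw (nat_lit 0x010101), dw (nat_lit 0x020202)⟩,
⟨nat_lit 13, dw (nat_lit 0x020202), nat_lit 5, dw (nat_lit 0x020202), dw (nat_lit 0x01)⟩,
⟨nat_lit 14, dw (nat_lit 0x010101), nat_lit 4, dw (nat_lit 0x010101), dw (nat_lit 0x0202)⟩,
⟨nat_lit 14, dw (nat_lit 0x020202), nat_lit 6, dw (nat_lit 0x020202), dw (nat_lit 0x01)⟩,
⟨nat_lit 15, dw (nat_lit 0x010101), nat_lit 1, dw (nat_lit 0x010101), dw (nat_lit 0x0202)⟩,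
⟨nat_lit 15, dw (nat_lit 0x020202), nat_lit 9, dw (nat_lit 0x020202), dw (nat_lit 0x01)⟩,
⟨nat_lit 16, dw (nat_lit 0x010101), nat_lit 4, dw (nat_lit 0x020202), dw (nat_lit 0x0101)⟩,
⟨nat_lit 16, dw (nat_lit 0x020202), nat_lit 9, dw (nat_lit 0x0101), dw (nat_lit 0x0101)⟩,
⟨nat_lit 1, dw (nat_lit 0x01010101), nat_lit 4, dw (nat_lit 0x0202), dw (nat_lit 0x0101)⟩,
⟨nat_lit 2, dw (nat_lit 0x01010101), nat_lit 11, dw (nat_lit 0x0202), dw (nat_lit 0x01)⟩,
⟨nat_lit 4, dw (nat_lit 0x01010101), nat_lit 1, dw (nat_lit 0x0202), dw (nat_lit 0x0101)⟩,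
⟨nat_lit 5, dw (nat_lit 0x01010101), nat_lit 16, [], dw (nat_lit 0x020202)⟩,
⟨nat_lit 6, dw (nat_lit 0x01010101), nat_lit 14, dw (nat_lit 0x01), dw (nat_lit 0x0101)⟩,
⟨nat_lit 7, dw (nat_lit 0x01010101), nat_lit 7, dw (nat_lit 0x010101), dw (nat_lit 0x020202)⟩,
⟨nat_lit 8, dw (nat_lit 0x01010101), nat_lit 8, dw (nat_lit 0x0202), dw (nat_lit 0x0101)⟩,
⟨nat_lit 9, dw (nat_lit 0x01010101), nat_lit 12, dw (nat_lit 0x01), dw (nat_lit 0x0101)⟩,
⟨nat_lit 10, dw (nat_lit 0x01010101), nat_lit 15, dw (nat_lit 0x01), dw (nat_lit 0x0101)⟩,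
⟨nat_lit 11, dw (nat_lit 0x01010101), nat_lit 2, dw (nat_lit 0x0202), dw (nat_lit 0x010101)⟩,
⟨nat_lit 12, dw (nat_lit 0x01010101), nat_lit 8, dw (nat_lit 0x020202), dw (nat_lit 0x020202)⟩,
⟨nat_lit 13, dw (nat_lit 0x01010101), nat_lit 1, dw (nat_lit 0x020202), dw (nat_lit 0x020202)⟩,
⟨nat_lit 14, dw (nat_lit 0x01010101), nat_lit 11, dw (nat_lit 0x020202), dw (nat_lit 0x01010101)⟩,
⟨nat_lit 15, dw (nat_lit 0x01010101), nat_lit 2, dw (nat_lit 0x020202), dw (nat_lit 0x020202)⟩,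
⟨nat_lit 16, dw (nat_lit 0x01010101), nat_lit 10, dw (nat_lit 0x020202), dw (nat_lit 0x0202)⟩],
[]⟩],
[⟨dw (nat_lit 0x01), (nat_lit 0x80401000800000000400008004040), [dw (nat_lit 0x01), dw (nat_lit 0x0202), dw (nat_lit 0x010101), dw (nat_lit 0x01)], .nil, []⟩,
⟨dw (nat_lit 0x02), (nat_lit 0x1100000002100000000000910008000), [dw (nat_lit 0x01), dw (nat_lit 0x0202), dw (nat_lit 0x02020202)], .nil, []⟩,
⟨dw (nat_lit 0x0101), (nat_lit 0x2000000000000000000000400002010), [dw (nat_lit 0x01), dw (nat_lit 0x0101)], (.cons (nat_lit 2) [dw (nat_lit 0x01010101)] [dw (nat_lit 0x01)]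
.nil), [dw (nat_lit 0x01010101)]⟩,
⟨dw (nat_lit 0x010101), (nat_lit 0x84008101000000000a0000000080000), [dw (nat_lit 0x01), dw (nat_lit 0x0101), dw (nat_lit 0x010101), dw (nat_lit 0x01)], .nil, []⟩,
⟨dw (nat_lit 0x010301), (nat_lit 0x10100800010000600000000030000), [dw (nat_lit 0x01), dw (nat_lit 0x0202), dw (nat_lit 0x020202), dw (nat_lit 0x01)], .nil, []⟩,
⟨dw (nat_lit 0x020301), (nat_lit 0x2020200400410000010000200000), [dw (nat_lit 0x01), dw (nat_lit 0x0101), dw (nat_lit 0x010101), dw (nat_lit 0x01)], .nil, []⟩,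
⟨dw (nat_lit 0x010401), (nat_lit 0x4400900000a008002000000000), [dw (nat_lit 0x01), dw (nat_lit 0x0101), dw (nat_lit 0x020202), dw (nat_lit 0x01)], .nil, []⟩,
⟨dw (nat_lit 0x020202), (nat_lit 0x2000020c0081120000000000000000), [dw (nat_lit 0x01), dw (nat_lit 0x0101), dw (nat_lit 0x020202), dw (nat_lit 0x01)], .nil, []⟩,
⟨dw (nat_lit 0x010302), (nat_lit 0x40000911000002000480), [dw (nat_lit 0x01), dw (nat_lit 0x0202), dw (nat_lit 0x010101), dw (nat_lit 0x01)], .nil, []⟩,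
⟨dw (nat_lit 0x020302), (nat_lit 0x400020000400a000000208004000000), [dw (nat_lit 0x01), dw (nat_lit 0x0202), dw (nat_lit 0x02020202)], .nil, []⟩,
⟨dw (nat_lit 0x01030101), (nat_lit 0x20000080010000800000001000000a20), [dw (nat_lit 0x01), dw (nat_lit 0x0202), dw (nat_lit 0x010101), dw (nat_lit 0x01)], .nil, []⟩,
⟨dw (nat_lit 0x0103010301), (nat_lit 0x824000000000040040080020000008), [dw (nat_lit 0x01), dw (nat_lit 0x0101), dw (nat_lit 0x010101), dw (nat_lit 0x01)], .nil, []⟩,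
⟨dw (nat_lit 0x0203010301), (nat_lit 0x8008000004001000040201100000), [dw (nat_lit 0x01), dw (nat_lit 0x0202), dw (nat_lit 0x010101), dw (nat_lit 0x01)], .nil, []⟩,
⟨dw (nat_lit 0x0103020301), (nat_lit 0x840008200c0401000), [dw (nat_lit 0x01), dw (nat_lit 0x0202), dw (nat_lit 0x01010101)], .nil, []⟩,
⟨dw (nat_lit 0x0203020301), (nat_lit 0x41000420000200002000000040004), [dw (nat_lit 0x01), dw (nat_lit 0x0202), dw (nat_lit 0x01010101)], .nil, []⟩,
⟨dw (nat_lit 0x0203010401), (nat_lit 0x10000000000220000004104000800100), [dw (nat_lit 0x01), dw (nat_lit 0x0202), dw (nat_lit 0x020202), dw (nat_lit 0x01)], .nil, []⟩]⟩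
noncomputable def ex1 : List Word := [[nat_lit 8]]
noncomputable def ws1 : List Word := List.append ex1 (lev1.gens ws2)
noncomputable def rels1 : List (Word × Word) := List.append (lev1.rels ws2) (memRels (lev1.gens ws2) ex1 [dw (nat_lit 0x04020402040404)])
noncomputable def lev0 : Level := ⟨nat_lit 0,
[⟨[nat_lit 0], [dw (nat_lit 0x030306), dw (nat_lit 0x05050505)], [dw (nat_lit 0x060606), dw (nat_lit 0x05050505)],
[⟨nat_lit 0, [], nat_lit 1, [], []⟩,
⟨nat_lit 1, [], nat_lit 1, dw (nat_lit 0x060303), dw (nat_lit 0x040405)⟩,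
⟨nat_lit 1, dw (nat_lit 0x01), nat_lit 1, dw (nat_lit 0x0103), dw (nat_lit 0x020503010606)⟩,
⟨nat_lit 1, dw (nat_lit 0x02), nat_lit 1, dw (nat_lit 0x060401), dw (nat_lit 0x0406)⟩,
⟨nat_lit 1, dw (nat_lit 0x03), nat_lit 1, dw (nat_lit 0x0203), dw (nat_lit 0x0505050206)⟩,
⟨nat_lit 1, dw (nat_lit 0x04), nat_lit 1, dw (nat_lit 0x020202), dw (nat_lit 0x0603050505)⟩,
⟨nat_lit 1, dw (nat_lit 0x0101), nat_lit 1, dw (nat_lit 0x010603), dw (nat_lit 0x03010505)⟩,
⟨nat_lit 1, dw (nat_lit 0x010602), nat_lit 1, dw (nat_lit 0x04), dw (nat_lit 0x05020606)⟩,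
⟨nat_lit 1, dw (nat_lit 0x0501), nat_lit 1, dw (nat_lit 0x040503), dw (nat_lit 0x060205020505)⟩,
⟨nat_lit 1, dw (nat_lit 0x0601), nat_lit 1, dw (nat_lit 0x040104), dw (nat_lit 0x030601060606)⟩,
⟨nat_lit 1, dw (nat_lit 0x0402), nat_lit 1, dw (nat_lit 0x050502), dw (nat_lit 0x05030105)⟩,
⟨nat_lit 1, dw (nat_lit 0x0502), nat_lit 1, dw (nat_lit 0x01050501), dw (nat_lit 0x06030505)⟩,
⟨nat_lit 1, dw (nat_lit 0x0203), nat_lit 1, dw (nat_lit 0x03030601), dw (nat_lit 0x04060402050505)⟩,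
⟨nat_lit 1, dw (nat_lit 0x0503), nat_lit 1, dw (nat_lit 0x04020402), dw (nat_lit 0x06060106)⟩,
⟨nat_lit 1, dw (nat_lit 0x0603), nat_lit 1, dw (nat_lit 0x05030302), dw (nat_lit 0x030105050505)⟩,
⟨nat_lit 1, dw (nat_lit 0x050204), nat_lit 1, dw (nat_lit 0x0601), dw (nat_lit 0x060104060606)⟩,
⟨nat_lit 1, dw (nat_lit 0x060401), nat_lit 1, dw (nat_lit 0x0104), dw (nat_lit 0x0606010606)⟩,
⟨nat_lit 1, dw (nat_lit 0x010501), nat_lit 0, [], dw (nat_lit 0x030305)⟩],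
[dw (nat_lit 0x01), dw (nat_lit 0x03), dw (nat_lit 0x01), dw (nat_lit 0x01)]⟩],
[⟨dw (nat_lit 0x01), (nat_lit 0x3ffffffffffffffffffffffffffffffe), [dw (nat_lit 0x01), dw (nat_lit 0x03), dw (nat_lit 0x01), dw (nat_lit 0x05), dw (nat_lit 0x03), dw (nat_lit 0x01), dw (nat_lit 0x05), dw (nat_lit 0x03)
, dw (nat_lit 0x05), dw (nat_lit 0x03), dw (nat_lit 0x01)], (.cons (nat_lit 2) [dw (nat_lit 0x05)] [dw (nat_lit 0x01), dw (nat_lit 0x0202), dw (nat_lit 0x020202), dw (nat_lit 0x01)]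
.nil), [dw (nat_lit 0x0303050505)]⟩]⟩
noncomputable def ex0 : List Word := [[nat_lit 2], [nat_lit 4]]
noncomputable def ws0 : List Word := List.append ex0 (lev0.gens ws1)
noncomputable def rels0 : List (Word × Word) := List.append (lev0.rels ws1) (memRels (lev0.gens ws1) ex0 [dw (nat_lit 0x0204020704), dw (nat_lit 0x07030301050804080808)])
noncomputable def prim0 : List (List Word) := [[dw (nat_lit 0x01), dw (nat_lit 0x0101), dw (nat_lit 0x03), dw (nat_lit 0x05), dw (nat_lit 0x01), dw (nat_lit 0x07), dw (nat_lit 0x05), dw (nat_lit 0x01)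
, dw (nat_lit 0x03), dw (nat_lit 0x05)]]
noncomputable def rels : List (Word × Word) := List.append rels0 (List.append rels1 (List.append rels2 ([])))
noncomputable def defs : List Word := [dw (nat_lit 0x0204040204050206), dw (nat_lit 0x0205030205020504050301), dw (nat_lit 0x07070908090809090707070a07)]
noncomputable def relsD : List (Word × Word) := defRels defs 3
noncomputable def relsO : List (Word × Word) := memRels ws0 (lets 3) [dw (nat_lit 0x05), dw (nat_lit 0x01), dw (nat_lit 0x03)]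
noncomputable def relsS : List (Word × Word) := []
noncomputable def allRels : List (Word × Word) := List.append rels (List.append relsD (List.append relsO relsS))
theorem reach_ok : subs (full 126) (orbRun nets (lets 3) reach (bits (List.map Prod.fst ss))) = true := by decide +kernel
theorem chk2 : lev2.chk 126 nets ws3 1 8 = true := by decide +kernel
theorem chk1 : lev1.chk 126 nets ws2 8 1000 = true := by decide +kernel
theorem primc0 : PM.primChk nets ws1 lev0 lev0.sos prim0 = true := by decide +kernel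
theorem chk0 : lev0.chk 126 nets ws1 1000 126000 = true := by decide +kernel
theorem rc0 : relsChk 126 nets 7 (idArr 126 7 7 0) allRels = true := by decide +kernel
section
variable {Γ Ω : Type*} [Group Γ] [MulAction Γ Ω] (M : PM Γ Ω 126 nets)

theorem all_ok (hs : M.Sep 7 (idArr 126 7 7 0)) : Rels M.gen allRels := (M.rels_of_chk hs rc0)
theorem sep [FaithfulSMul Γ Ω] : M.Sep 7 (idArr 126 7 7 0) := M.sep_idArr (by decide)
theorem all_ok' [FaithfulSMul Γ Ω] : Rels M.gen allRels := all_ok M (sep M)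
theorem rels_of_all {gen : ℕ → Γ} (h : Rels gen allRels) : Rels gen rels := Rels.left h
theorem relsD_of_all {gen : ℕ → Γ} (h : Rels gen allRels) : Rels gen relsD := Rels.left (Rels.right h)
theorem relsO_of_all {gen : ℕ → Γ} (h : Rels gen allRels) : Rels gen relsO := Rels.left (Rels.right (Rels.right h))
theorem relsS_of_all {gen : ℕ → Γ} (h : Rels gen allRels) : Rels gen relsS := Rels.right (Rels.right (Rels.right h))
theorem card3 (_hR : Rels M.gen rels) : Nat.card (sub M.gen ws3) = 1 := M.card_nil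
theorem fixw3 (_hR : Rels M.gen rels) : M.FixTriv ws3 [] := M.fixTriv_nil
theorem r2 (hR : Rels M.gen rels) : Rels M.gen rels2 := (Rels.left (Rels.right (Rels.right hR)))
theorem res2 (hR : Rels M.gen rels) : M.LevelRes ws3 lev2 8 := M.level (card3 M hR) chk2 (Rels.left (r2 M hR))
theorem ext2 (hR : Rels M.gen rels) : sub M.gen ws2 = sub M.gen (lev2.gens ws3) := sub_extend (Rels.right (r2 M hR))
theorem card2 (hR : Rels M.gen rels) : Nat.card (sub M.gen ws2) = 8 := by rw [ext2 M hR]; exact (res2 M hR).card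
theorem fix2 (hR : Rels M.gen rels) : M.FixTriv (lev2.gens ws3) [2] := (res2 M hR).fixTriv M (fixw3 M hR)
theorem fixw2 (hR : Rels M.gen rels) : M.FixTriv ws2 [2] := fun g hg => fix2 M hR g (ext2 M hR ▸ hg)
theorem stab2 (hR : Rels M.gen rels) : sub M.gen ws2 ⊓ MulAction.stabilizer Γ (M.dec 2) = sub M.gen ws3 := by rw [ext2 M hR]; exact (res2 M hR).stab
theorem orb2 (hR : Rels M.gen rels) (y : Ω) : y ∈ M.S lev2.orb ↔ ∃ g ∈ sub M.gen ws2, g • M.dec 2 = y := by rw [ext2 M hR]; exact (res2 M hR).orb y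
theorem r1 (hR : Rels M.gen rels) : Rels M.gen rels1 := (Rels.left (Rels.right hR))
theorem res1 (hR : Rels M.gen rels) : M.LevelRes ws2 lev1 1000 := M.level (card2 M hR) chk1 (Rels.left (r1 M hR))
theorem ext1 (hR : Rels M.gen rels) : sub M.gen ws1 = sub M.gen (lev1.gens ws2) := sub_extend (Rels.right (r1 M hR))
theorem card1 (hR : Rels M.gen rels) : Nat.card (sub M.gen ws1) = 1000 := by rw [ext1 M hR]; exact (res1 M hR).card
theorem fix1 (hR : Rels M.gen rels) : M.FixTriv (lev1.gens ws2) [1, 2] := (res1 M hR).fixTriv M (fixw2 M hR)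
theorem fixw1 (hR : Rels M.gen rels) : M.FixTriv ws1 [1, 2] := fun g hg => fix1 M hR g (ext1 M hR ▸ hg)
theorem stab1 (hR : Rels M.gen rels) : sub M.gen ws1 ⊓ MulAction.stabilizer Γ (M.dec 1) = sub M.gen ws2 := by rw [ext1 M hR]; exact (res1 M hR).stab
theorem orb1 (hR : Rels M.gen rels) (y : Ω) : y ∈ M.S lev1.orb ↔ ∃ g ∈ sub M.gen ws1, g • M.dec 1 = y := by rw [ext1 M hR]; exact (res1 M hR).orb y
theorem r0 (hR : Rels M.gen rels) : Rels M.gen rels0 := (Rels.left hR)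
theorem res0 (hR : Rels M.gen rels) : M.LevelRes ws1 lev0 126000 := M.level (card1 M hR) chk0 (Rels.left (r0 M hR))
theorem ext0 (hR : Rels M.gen rels) : sub M.gen ws0 = sub M.gen (lev0.gens ws1) := sub_extend (Rels.right (r0 M hR))
theorem card0 (hR : Rels M.gen rels) : Nat.card (sub M.gen ws0) = 126000 := by rw [ext0 M hR]; exact (res0 M hR).card
theorem fix0 (hR : Rels M.gen rels) : M.FixTriv (lev0.gens ws1) [0, 1, 2] := (res0 M hR).fixTriv M (fixw1 M hR)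
theorem fixw0 (hR : Rels M.gen rels) : M.FixTriv ws0 [0, 1, 2] := fun g hg => fix0 M hR g (ext0 M hR ▸ hg)
theorem stab0 (hR : Rels M.gen rels) : sub M.gen ws0 ⊓ MulAction.stabilizer Γ (M.dec 0) = sub M.gen ws1 := by rw [ext0 M hR]; exact (res0 M hR).stab
theorem orb0 (hR : Rels M.gen rels) (y : Ω) : y ∈ M.S lev0.orb ↔ ∃ g ∈ sub M.gen ws0, g • M.dec 0 = y := by rw [ext0 M hR]; exact (res0 M hR).orb y
theorem max0 (hR : Rels M.gen rels) (X : Subgroup Γ) (h1 : sub M.gen ws1 ≤ X) (h2 : X ≤ sub M.gen ws0) : X = sub M.gen ws1 ∨ X = sub M.gen ws0 := by rw [ext0 M hR] at h2 ⊢; exact (res0 M hR).max M primc0 X h1 h2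
theorem orig_eq {gen : ℕ → Γ} (h : Rels gen allRels) : sub gen (lets 3) = sub gen ws0 :=
  sub_lets_eq_of_rels (ds := defs) (by decide +kernel) (relsD_of_all h) (by decide +kernel) (relsO_of_all h)
theorem gen_mem {gen : ℕ → Γ} (h : Rels gen allRels) {X : Subgroup Γ} (h0 : ∀ l < 3, gen l ∈ X) : sub gen ws0 ≤ X :=
  sub_le_of_wsIn (lo := 0) (gen_mem_of_defRels (ds := defs) (fun l _ hl => h0 l hl) (by decide +kernel) (relsD_of_all h)) (by decide +kernel)

end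

/-- the permutation group -/
noncomputable abbrev P := permPM 126 nets (by decide) (by decide) nets_ok
theorem allP : Rels P.gen allRels := all_ok' P
/-- machines of this type -/
abbrev St (X : Type*) [Group X] := Std X 126 nets ws0 126000 allRels
/-- the presentation on the strong generators -/
theorem hom {X : Type*} [Group X] (S : St X) {Δ : Type*} [Group Δ] (y : ℕ → Δ) (hy : Rels y rels) :
    ∃ φ : X →* Δ, φ.range = sub y ws0 ∧ ∀ w ∈ ws0, φ (H14.ev S.M.gen w) = H14.ev y w :=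
  S.hom_ws y (card0 _ ((rels_of_all S.rels).prod hy))
/-- the presentation on all letters -/
theorem hom' {X : Type*} [Group X] (S : St X) {Δ : Type*} [Group Δ] (y : ℕ → Δ) (hy : Rels y allRels) :
    ∃ φ : X →* Δ, φ.range = sub y (lets 3) ∧ ∀ l < 6, φ (S.M.gen l) = y l :=
  S.hom_all y (card0 _ (rels_of_all (S.rels.prod hy))) (orig_eq (S.rels.prod hy)) (orig_eq hy) (ds := defs)
    (by decide +kernel) (relsD_of_all (S.rels.prod hy)) (by decide +kernel)
/-- the matrices of the first letters (and their inverses) -/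
def As : List (ℕ × ℕ) :=
[(nat_lit 0x905a11189b8d1, nat_lit 0x211130592d2299),
  (nat_lit 0x94d24912d3291, nat_lit 0x2169b6d989a8d9),
  (nat_lit 0x94814d18848d1, nat_lit 0x216c46992c1299)]
/-- the vectors -/
def V : ℕ := nat_lit 0x4848145a0511016880508c105c04a8814dc04b6010480414400490514c12010628c16220524414d904b8818ca05b64128b04c00112004b2c18e20506014d105468151b0582811140535018040490018120582c16180604c149904810102105b7010030544c16520600416e00624015010502c18cb06360105406068165a0522017130541010240502812a306228004c06288170405a5000640594c145204b40128a05c04171a05088149404868006105a64121305a7016c805c6c100c0606c110805c4816410010816d405320165b04a6010020446416440418018e304470162306260149c04b2816d104a4014100640014e00544814a00430018400510416a004024105904b8c188b0516c18d00486c11110010c1691058401080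
theorem eqv_ok : c25.eqvM 3 126 [1, 2, 3, 4, 8, 9, 10, 11, 12, 16, 17, 18, 19, 20, 24, 25, 26, 27, 28, 32, 33, 34, 35, 36] V As nets 3 = true := by decide +kernel
theorem sep_ok : c25.sepM 3 126 [1, 2, 3, 4, 8, 9, 10, 11, 12, 16, 17, 18, 19, 20, 24, 25, 26, 27, 28, 32, 33, 34, 35, 36] V (ss.map Prod.fst) = true := by decide +kernel
theorem ctrP : ∀ z ∈ sub P.gen (lets 3), (∀ x ∈ sub P.gen (lets 3), x * z = z * x) → z = 1 :=
  orig_eq allP ▸ center_triv (res0 P (rels_of_all allP)) (ext0 P (rels_of_all allP)) (card1 P (rels_of_all allP))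
    (by decide) primc0 (fix0 P (rels_of_all allP)) (by decide +kernel)
theorem core {F : Type*} [Field F] {a : Ar F} (ha : Ok a c25 5) {ι : Type} [Fintype ι] [DecidableEq ι]
    {e : ι ≃ Fin 3} {T X : Type*} [Group T] [Group X] {ρ : T →* Matrix ι ι F} (h : Mem a e ρ As 3)
    (q : T →* X) (hq : ∀ g, q g = 1 → g = 1 ∨ g ∈ Subgroup.center T ∧ ∀ z ∈ sub P.gen (lets 3), (∀ x ∈ sub P.gen (lets 3), x * z = z * x) → z = 1)
    (hB : Bd (⊤ : Subgroup X) 126000) : ∃ S : St X, Spec S a e ρ q As 3 [1, 2, 3, 4, 8, 9, 10, 11, 12, 16, 17, 18, 19, 20, 24, 25, 26, 27, 28, 32, 33, 34, 35, 36] V (ss.map Prod.fst) :=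
  h.std ha (by decide +kernel) eqv_ok reach_ok sep_ok q hq (ds := defs) (by decide +kernel) (by decide +kernel)
    (relsD_of_all allP) hB (orig_eq allP) (card0 P (rels_of_all allP)) allP
theorem std_spec {F : Type*} [Field F] [Fintype F] (hF : Fintype.card F = 25) {a : Ar F} (ha : Ok a c25 5) :
    ∃ S : St (Cfsg.PSU 3 F 5), Spec S a (Equiv.refl _) (suM 3 F 5) (QuotientGroup.mk' _) As 3 [1, 2, 3, 4, 8, 9, 10, 11, 12, 16, 17, 18, 19, 20, 24, 25, 26, 27, 28, 32, 33, 34, 35, 36] V (ss.map Prod.fst) :=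
  core ha (mem_su ha.1 (k := 1) (q := 5) ha.2.2 (by norm_num) rfl (L := As) (by decide +kernel) (by decide +kernel)) _ (hq_ctr ctrP) (bd_psu (q := 5) hF (by decide +kernel))
theorem std {F : Type*} [Field F] [Fintype F] (hF : Fintype.card F = 25) : Nonempty (St (Cfsg.PSU 3 F 5)) :=
  let ⟨_, ha⟩ := ar_25 (F := F) hF
  let ⟨S, _⟩ := std_spec hF ha
  ⟨S⟩

end H15.StdU35
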