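import Cfsg.Agent.H14.Dw2
import Cfsg.Agent.H15.Std3

/-! Standard machine: `PSU 4 F 3` on the isotropic points, generated by 4 transvections
Generated certificate (tools14/pkgen, tools15/std.py) for the permutation group StdU43 of degree 280, order 3265920, base 0 16 4 1. -/
set_option autoImplicit false
set_option maxRecDepth 100000

namespace H15.StdU43
open H14

noncomputable def n0 : Net := (.cons (nat_lit 1) (nat_lit 0x501554045110450451510401114100404114451511511414554004540405511004110)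
(.cons (nat_lit 2) (nat_lit 0x3030012310001311020010303012012002020203021012101323032203310000330100)
(.cons (nat_lit 4) (nat_lit 0x702040e090b02040902070a0e010000010e0007090e0404070e0e020504060a0b0400)
(.cons (nat_lit 8) (nat_lit 0xf00a7007c00b600ea003300a4000c0052007500f7004b00cf00810048008300a0)
(.cons (nat_lit 16) (nat_lit 0xd20000132b0000a9a70000b41d0000c04d00000b0600000a10000023b000000600)
(.cons (nat_lit 32) (nat_lit 0x8e9002740000000091af173f00000000fc82cce30000000000000380)
(.cons (nat_lit 64) (nat_lit 0xc318d261609948c200000000000000000000000000204200)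
(.cons (nat_lit 128) (nat_lit 0x13daff4d6e8b309ac404202000324fc2)
(.cons (nat_lit 256) (nat_lit 0x324fc2)
(.cons (nat_lit 128) (nat_lit 0x120dc2)
(.cons (nat_lit 64) (nat_lit 0x33a2dc476f09711b0000000000000000cf6fde7530a14780)
(.cons (nat_lit 32) (nat_lit 0xc658214d00000000c4afe7f800000000cc3c4a4700000000c49c1020)
(.cons (nat_lit 16) (nat_lit 0x730000014100000337000086f400008cc700005b1c0000798500000c050000d0d0)
(.cons (nat_lit 8) (nat_lit 0x30044006e007f00e000a200b000e000d2001700f300cc007b00ea007900870000)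
(.cons (nat_lit 4) (nat_lit 0x5000c0c0d0b00000b0a010c09000209070602070d080f0502020d080006060a030404)
(.cons (nat_lit 2) (nat_lit 0x3033212112001132102033231200110312022012322012202122130220201011121022)
(.cons (nat_lit 1) (nat_lit 0x4504510441500450151501040400105454111051451500015454514400401010005111)
.nil)))))))))))))))))
theorem n0_ok : Net.ok 280 n0 = true := by decide +kernel
noncomputable def n1 : Net := (.cons (nat_lit 1) (nat_lit 0x1501040541455500045154544400445415454501015415550401141410554401545014)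
(.cons (nat_lit 2) (nat_lit 0x220033133212210120201320230230103030021021220200200101223123001131100)
(.cons (nat_lit 4) (nat_lit 0xe0c0d05040a040d03060c0501040901090c010504080a0f0e0c0509040a0304010100)
(.cons (nat_lit 8) (nat_lit 0x480076003000c7007d00d600a2001000ed00670032003c0075006d007200020080)
(.cons (nat_lit 16) (nat_lit 0x5000002894000098680000bb2c0000099400000b80000064300000410000000300)
(.cons (nat_lit 32) (nat_lit 0x136a0b530000000015cced2c00000000a5e184b80000000000224408)
(.cons (nat_lit 64) (nat_lit 0x4000104028bbc29f00000000000000000000000000612200)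
(.cons (nat_lit 128) (nat_lit 0x5c2af1522b2e14aea20d000000f3efbb)
(.cons (nat_lit 256) (nat_lit 0xf3efbb)
(.cons (nat_lit 128) (nat_lit 0xb2cdbb)
(.cons (nat_lit 64) (nat_lit 0x5520d5b00a6ed917000000000000000059510b93a4e36708)
(.cons (nat_lit 32) (nat_lit 0x8a8ef95200000000b74feb4c000000004163f6b400000000255f7688)
(.cons (nat_lit 16) (nat_lit 0x5500000995000089a1000099e80000ab8600004120000026bc0000860100000690)
(.cons (nat_lit 8) (nat_lit 0x1f005d006700d700fe00fc00020080002d00de005000b5005900f100f0008300f4)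
(.cons (nat_lit 4) (nat_lit 0xe0608000d080c0b0307020d010405000a0e050e0b08080e0e0c0f010a03070009000e)
(.cons (nat_lit 2) (nat_lit 0x213110231222000102231321030000021012201111312012222130112333000121013)
(.cons (nat_lit 1) (nat_lit 0x1440114545115511015510544410054411541401455054410551044554141541454011)
.nil)))))))))))))))))
theorem n1_ok : Net.ok 280 n1 = true := by decide +kernel
noncomputable def n2 : Net := (.cons (nat_lit 1) (nat_lit 0x4045105511101411400100410015114101441501504000104400115454110554000450)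
(.cons (nat_lit 2) (nat_lit 0x102023000101033133202022133223130200332131112011100030030033120311110)
(.cons (nat_lit 4) (nat_lit 0xc0b08090b0a0c0e0a0b0f0708080c0e0b0b05060907060103070f0b02040b04070600)
(.cons (nat_lit 8) (nat_lit 0xe700e70073007200c800cb005f0035000d00c3003e00bc0057008c006100040002)
(.cons (nat_lit 16) (nat_lit 0xf0000074f30000235a00004c8d0000758a000091620000d28a0000820000000000)
(.cons (nat_lit 32) (nat_lit 0x7806d07c000000007cdc6ec1000000009524e20d0000000000300401)
(.cons (nat_lit 64) (nat_lit 0xb6c222582b3686c800000000000000000000000000100000)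
(.cons (nat_lit 128) (nat_lit 0xfeac745c3f748381404a020000722ec9)
(.cons (nat_lit 256) (nat_lit 0x722ec9)
(.cons (nat_lit 128) (nat_lit 0x722ec9)
(.cons (nat_lit 64) (nat_lit 0x9434e89dabd18bb800000000000000009e47e9ce23a20401)
(.cons (nat_lit 32) (nat_lit 0xca19863e00000000704aa2a000000000d02077bd0000000034489903)
(.cons (nat_lit 16) (nat_lit 0x780000648a000031300000e4880000bdda00008284000073ae0000e200000060d2)
(.cons (nat_lit 8) (nat_lit 0xff0003003900eb00d2008b005300c000b50040003800380055009b00ef00140076)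
(.cons (nat_lit 4) (nat_lit 0x4060a07000b0f0606030c07060c0e0d030b0e030505000d07050f0d08080505050904)
(.cons (nat_lit 2) (nat_lit 0x323222020303110333321121313202033120001230121301310132033022120303100)
(.cons (nat_lit 1) (nat_lit 0x41004501101414400141450104514555044101104000114540151504154454015440)
.nil)))))))))))))))))
theorem n2_ok : Net.ok 280 n2 = true := by decide +kernel
noncomputable def n3 : Net := (.cons (nat_lit 1) (nat_lit 0x5040501514004511050541455040155005114505410444011014104400041105410444)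
(.cons (nat_lit 2) (nat_lit 0x1010302002200103031003333011332221313021101013101100032030203201132200)
(.cons (nat_lit 4) (nat_lit 0x9000400090d0e050b0c04010c0400060a09060e040a00030201070307030704070100)
(.cons (nat_lit 8) (nat_lit 0x31008200f400be00970069008900c7004300160040001000000024004700930050)
(.cons (nat_lit 16) (nat_lit 0x80000068c700001a940000a4880000f0050000435a00007c120000a20000001000)
(.cons (nat_lit 32) (nat_lit 0xd43c4ff400000000e8ecba5f00000000010831cb0000000000000000)
(.cons (nat_lit 64) (nat_lit 0x108812c5a0b231f200000000000000000000000000008020)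
(.cons (nat_lit 128) (nat_lit 0x865f5ce5e2e3110b1c81820000d2b1f0)
(.cons (nat_lit 256) (nat_lit 0xd2b1f0)
(.cons (nat_lit 128) (nat_lit 0xd231d0)
(.cons (nat_lit 64) (nat_lit 0x32c11c9e7eb4d420000000000000000c61ebbefc9128020)
(.cons (nat_lit 32) (nat_lit 0xa6734ef400000000fff586df0000000034c181a8000000004040b740)
(.cons (nat_lit 16) (nat_lit 0xd4000081460000d95200007c3e00009d810000e7d20000fdf20000380d000058f0)
(.cons (nat_lit 8) (nat_lit 0x81008600d5009e00380014002d008f00060019001f003000b100a0004e0013000c)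
(.cons (nat_lit 4) (nat_lit 0xd0004010009080b05060301040d01010a090b0a05030c03020c0f07060a050c06020a)
(.cons (nat_lit 2) (nat_lit 0x3330110012200301022212012221110112201101132002303320210113203201123210)
(.cons (nat_lit 1) (nat_lit 0x1540004150404551504405004444545400410045444004414050144014001105414404)
.nil)))))))))))))))))
theorem n3_ok : Net.ok 280 n3 = true := by decide +kernel
noncomputable def n4 : Net := (.cons (nat_lit 1) (nat_lit 0x4114411450550011501144151454441540541041055554050401554550044111544000)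
(.cons (nat_lit 2) (nat_lit 0x1221100122313232031030012011301122312111300013332320001330201133231010)
(.cons (nat_lit 4) (nat_lit 0x1090307000d0a0e030f09010101060a03060b04020306070b0b0b0c0a040e0c000000)
(.cons (nat_lit 8) (nat_lit 0xda00e600eb00a600db00b5006c00650098002500a9006200d70084000900240000)
(.cons (nat_lit 16) (nat_lit 0x1e0000b25500000571000090820000816a0000504300006ca100006f0400004100)
(.cons (nat_lit 32) (nat_lit 0xbe30638800000000edc0bd73000000006dc8a8020000000000058f9c)
(.cons (nat_lit 64) (nat_lit 0xf6005b3a91187f82000000000000000000000000009ccd31)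
(.cons (nat_lit 128) (nat_lit 0x1943bd1768c1fb98ee11c2e8f514c562)
(.cons (nat_lit 256) (nat_lit 0x9defff)
(.cons (nat_lit 128) (nat_lit 0x49c101)
(.cons (nat_lit 64) (nat_lit 0x67f1db5c990aaa480000000000000000921b52064c126b85)
(.cons (nat_lit 32) (nat_lit 0xae11d44b00000000b5e627d70000000024caa80200000000164fc770)
(.cons (nat_lit 16) (nat_lit 0x10000023f7000027610000afe40000c59d0000a912000068330000e79100006960)
(.cons (nat_lit 8) (nat_lit 0x520025007a008d008f0080006c00a1003f00e500ed00520041004f0059004a0048)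
(.cons (nat_lit 4) (nat_lit 0x10a0b09000e090e090c090e04060c0e0700050c0f03060603020f0d070802080e0a02)
(.cons (nat_lit 2) (nat_lit 0x1031323122212033120332223100100222203113301103332201001101033323023230)
(.cons (nat_lit 1) (nat_lit 0x4554500010504015145114141445445450044105015550000111555140514110544104)
.nil)))))))))))))))))
theorem n4_ok : Net.ok 280 n4 = true := by decide +kernel
noncomputable def n5 : Net := (.cons (nat_lit 1) (nat_lit 0x1455404004141150001405145044050445504154551054100400050511410005400004)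
(.cons (nat_lit 2) (nat_lit 0x2023002020323003021030132220201030100100300120222232322021122123221100)
(.cons (nat_lit 4) (nat_lit 0x50f0b0a01000205040503050106080600080e0a080009080d0b0901090103050100)
(.cons (nat_lit 8) (nat_lit 0xc30031007000b800c10062003e00b5005400b30017003600a400a5009200b20080)
(.cons (nat_lit 16) (nat_lit 0xea0000c782000002fb0000f3c20000e0a400005245000030230000da0600008d00)
(.cons (nat_lit 32) (nat_lit 0x2207cc200000000a303c95600000000203beea00000000000e592c2)
(.cons (nat_lit 64) (nat_lit 0x2890212005e5142500000000000000000000000000e20769)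
(.cons (nat_lit 128) (nat_lit 0x57d66703fcac9c5cbc011a30a363fc30)
(.cons (nat_lit 256) (nat_lit 0xefffff)
(.cons (nat_lit 128) (nat_lit 0x319e13)
(.cons (nat_lit 64) (nat_lit 0x7958ac7cd15c208c00000000000000005a6c632c9ae197ab)
(.cons (nat_lit 32) (nat_lit 0xf909f18300000000c9060e750000000070dca96a00000000c5e3425e)
(.cons (nat_lit 16) (nat_lit 0xb30000df610000261e000043dc0000729c0000618300007db10000afdd0000a816)
(.cons (nat_lit 8) (nat_lit 0xf1001100e200590006007a000200f4009f008b0025000600cd00b900a7004f006c)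
(.cons (nat_lit 4) (nat_lit 0xb0d0e070d040d030c07000e0b0e050d040d0a080d0d080e08080f0e020d0e03070800)
(.cons (nat_lit 2) (nat_lit 0x3222023330202033110230131201210210312213103230333223230132301003312030)
(.cons (nat_lit 1) (nat_lit 0x540044401411415544104410110155451540150405504001145010044145111100414)
.nil)))))))))))))))))
theorem n5_ok : Net.ok 280 n5 = true := by decide +kernel
noncomputable def n6 : Net := (.cons (nat_lit 1) (nat_lit 0x5100441004111511011140111455015150104405540051015100004510045050410414)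
(.cons (nat_lit 2) (nat_lit 0x211112132011123302231303001133310021130223323011213020120012023021100)
(.cons (nat_lit 4) (nat_lit 0x80805090503090d0f08020a0f060f0d0d0b0f060b050807010d03000c0c0209080600)
(.cons (nat_lit 8) (nat_lit 0xa2004200b1003f0086009a000800eb003f003a00a900c000df001700840050000b)
(.cons (nat_lit 16) (nat_lit 0x7c0000cda50000fc20000091a200009c1500002541000050040000f03900008000)
(.cons (nat_lit 32) (nat_lit 0x401c4f30000000000c435fb40000000095875587000000000004d180)
(.cons (nat_lit 64) (nat_lit 0x2908005a54ebcd01000000000000000000000000008e338d)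
(.cons (nat_lit 128) (nat_lit 0x4947a3ea9f5eab8eb41f04b4c1e2db91)
(.cons (nat_lit 256) (nat_lit 0xfefb9f)
(.cons (nat_lit 128) (nat_lit 0x77078a)
(.cons (nat_lit 64) (nat_lit 0xa3f59f0c1ef62156000000000000000030be1464aaf253f3)
(.cons (nat_lit 32) (nat_lit 0x81f3591f000000008718a50d00000000d0fd75db000000009b1e27d2)
(.cons (nat_lit 16) (nat_lit 0xed00007d390000ed9900009a9c000005730000f7650000642f00002e1b0000d01b)
(.cons (nat_lit 8) (nat_lit 0xfe00e400a5006600fb00040067006b002e004f00770066005700e10026001f0051)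
(.cons (nat_lit 4) (nat_lit 0x8020b00010f0609020d0d0c0e04020308030e080c0301010f0f0b0c080705060e020c)
(.cons (nat_lit 2) (nat_lit 0x233102232002200312011013300302303231232223223301102130211230230120310)
(.cons (nat_lit 1) (nat_lit 0x5045140404044501510554051105141004015510411401551011011154140010100)
.nil)))))))))))))))))
theorem n6_ok : Net.ok 280 n6 = true := by decide +kernel
noncomputable def n7 : Net := (.cons (nat_lit 1) (nat_lit 0x1101051105155104110155441054410554550144105504010545045040410155100040)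
(.cons (nat_lit 2) (nat_lit 0x1022020203323333203313121002323220201010200301111201033010100313201110)
(.cons (nat_lit 4) (nat_lit 0x9070e040b080606010f0601090e01010c0300050209040e010e0d0d000d01060c0400)
(.cons (nat_lit 8) (nat_lit 0xa5005300f8004b009e00200006009b002800e100d500d3000000e4008800920001)
(.cons (nat_lit 16) (nat_lit 0xb500007d460000919b0000ed79000005680000fa200000a1d20000901100000000)
(.cons (nat_lit 32) (nat_lit 0xd0684b6a00000000c2809b280000000019153396000000000003a340)
(.cons (nat_lit 64) (nat_lit 0x8261200a60a061610000000000000000000000000089119b)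
(.cons (nat_lit 128) (nat_lit 0x85bdc40b9af8579a765c7ea57624e028)
(.cons (nat_lit 256) (nat_lit 0xbff3fb)
(.cons (nat_lit 128) (nat_lit 0x746a6b)
(.cons (nat_lit 64) (nat_lit 0xfa1faa1d1bf54c500000000000000003e963a50871c50a4)
(.cons (nat_lit 32) (nat_lit 0xdd73f85c00000000f21b84b600000000d3a7ee5100000000b717afa9)
(.cons (nat_lit 16) (nat_lit 0xaa0000383c0000b4cd000022b7000056bf000079c7000095480000b9dd0000f202)
(.cons (nat_lit 8) (nat_lit 0xab00ad00190062006e000c001100500074000a004e0092003e003a0043008c00d7)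
(.cons (nat_lit 4) (nat_lit 0x1010508000708070e0409020607080306080e0a040c0c0a0c0c020d04040d0108010a)
(.cons (nat_lit 2) (nat_lit 0x3233113021123120301212010232133201021333023302030301202331231022202200)
(.cons (nat_lit 1) (nat_lit 0x5011014454540550004404504505005505445001415155154105451141045500044044)
.nil)))))))))))))))))
theorem n7_ok : Net.ok 280 n7 = true := by decide +kernel
noncomputable def n8 : Net := (.cons (nat_lit 1) (nat_lit 0x4140105510044554014000410004500104154541405015001500441150445110414)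
(.cons (nat_lit 2) (nat_lit 0x2003331201312122023232231012030312303120331321110303312110232210210320)
(.cons (nat_lit 4) (nat_lit 0xb040e0705030b0f0e0f0a00030106060d0e0905080f0b080f0c0508010106060c0200)
(.cons (nat_lit 8) (nat_lit 0xb7006c00ec00ac0070000400180066008e00dd00e30088003b000e00e500ed0000)
(.cons (nat_lit 16) (nat_lit 0x8600005610000099580000ea4b0000c8a200000700000029920000a10a00003900)
(.cons (nat_lit 32) (nat_lit 0xac26f167000000008dc4c542000000002808fb7000000000001d28f2)
(.cons (nat_lit 64) (nat_lit 0x258a0920c1320d2d000000000000000000000000006080c8)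
(.cons (nat_lit 128) (nat_lit 0x41d16c5179439331761e1162be384da3)
(.cons (nat_lit 256) (nat_lit 0xfdffff)
(.cons (nat_lit 128) (nat_lit 0x54fa3f)
(.cons (nat_lit 64) (nat_lit 0xba9d9162d410cb5500000000000000002170c200663c7f18)
(.cons (nat_lit 32) (nat_lit 0x919151a500000000f1680217000000004a46665c00000000f37cf9ca)
(.cons (nat_lit 16) (nat_lit 0x7a00000768000049b700006ee00000a389000020a800004bd80000ed2b00003d28)
(.cons (nat_lit 8) (nat_lit 0xb7007e004f009c00fb00b800ca002100fd009400a900e300eb00c30079002c0036)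
(.cons (nat_lit 4) (nat_lit 0xb020f080009030004010507090e040309050303030408060c090d0e0e0b060b040206)
(.cons (nat_lit 2) (nat_lit 0x2320203333011212320212212120213211123103230023232221112331323221203030)
(.cons (nat_lit 1) (nat_lit 0x5400544145104504044455540411104410154151540555015055151541111151110550)
.nil)))))))))))))))))
theorem n8_ok : Net.ok 280 n8 = true := by decide +kernel
noncomputable def n9 : Net := (.cons (nat_lit 1) (nat_lit 0x5150550055501540101540000450415005550411415555410415055100044551454110)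
(.cons (nat_lit 2) (nat_lit 0x3203330112100310333033101001303223233023022322323012211012000022211300)
(.cons (nat_lit 4) (nat_lit 0x90b090707010207050e0407080d060908090301010f030b0b0a0b040a030b0a040a00)
(.cons (nat_lit 8) (nat_lit 0x470092005300ae00ff00c3000d0033000d0034009100c200a400200007007900a1)
(.cons (nat_lit 16) (nat_lit 0xc20000a6230000fc5100003d820000ad590000c20000003acd000037d200008000)
(.cons (nat_lit 32) (nat_lit 0xf62dad30000000002015a6cd00000000a2a9b1d40000000000247088)
(.cons (nat_lit 64) (nat_lit 0x3072714716800000000000000000000000000032a1ba)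
(.cons (nat_lit 128) (nat_lit 0x3915243daec9707bf8d3df46d7c9cc01)
(.cons (nat_lit 256) (nat_lit 0xfffdbb)
(.cons (nat_lit 128) (nat_lit 0x3e62de)
(.cons (nat_lit 64) (nat_lit 0x94c9b60a29302d7c00000000000000009eed470dddf79161)
(.cons (nat_lit 32) (nat_lit 0x75c7e7f00000000edcd6f4700000000e99efa4800000000747db8dd)
(.cons (nat_lit 16) (nat_lit 0xd00000fe8f00005ed20000ec210000542200005c01000020f900001054000010c0)
(.cons (nat_lit 8) (nat_lit 0x1300820007008f00c80072008300ba003d00da008800bb004b00ab0090004500b9)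
(.cons (nat_lit 4) (nat_lit 0x1010a0f0701060907080f01030a0c0d01000c0d010c0408010b0c08060a0d0b010e00)
(.cons (nat_lit 2) (nat_lit 0x3230321110330311000202211020013320301133233002111131212333333033203212)
(.cons (nat_lit 1) (nat_lit 0x1400150050404444054544051450514544114014001140140155505400441400051150)
.nil)))))))))))))))))
theorem n9_ok : Net.ok 280 n9 = true := by decide +kernel
noncomputable def nets : List Net := [n0, n1, n2, n3, n4, n5, n6, n7, n8, n9]
theorem nets_ok : netsOk 280 nets = true := List.all_eq_true.2 (fa_cons n0_ok (fa_cons n1_ok (fa_cons n2_ok (fa_cons n3_ok (fa_cons n4_ok (fa_cons n5_ok (fa_cons n6_ok (fa_cons n7_ok (fa_cons n8_ok (fa_cons n9_ok (fa_nil)))))))))))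
noncomputable def ss : List (Nat × Nat) := [(0, 0)]
noncomputable def ws4 : List Word := []
noncomputable def reach : List Word := [dw (nat_lit 0x01), dw (nat_lit 0x03), dw (nat_lit 0x01), dw (nat_lit 0x07), dw (nat_lit 0x05), dw (nat_lit 0x03), dw (nat_lit 0x01), dw (nat_lit 0x07)
, dw (nat_lit 0x05), dw (nat_lit 0x03), dw (nat_lit 0x07), dw (nat_lit 0x01), dw (nat_lit 0x03)]
noncomputable def lev3 : Level := ⟨nat_lit 1,
[⟨[nat_lit 16], [], [],
[⟨nat_lit 0, [], nat_lit 1, [], []⟩,
⟨nat_lit 1, [], nat_lit 5, [], []⟩,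
⟨nat_lit 2, [], nat_lit 0, [], []⟩,
⟨nat_lit 3, [], nat_lit 9, [], []⟩,
⟨nat_lit 4, [], nat_lit 10, [], []⟩,
⟨nat_lit 5, [], nat_lit 11, [], []⟩,
⟨nat_lit 6, [], nat_lit 3, [], []⟩,
⟨nat_lit 7, [], nat_lit 4, [], []⟩,
⟨nat_lit 8, [], nat_lit 2, [], []⟩,
⟨nat_lit 9, [], nat_lit 7, [], []⟩,
⟨nat_lit 10, [], nat_lit 6, [], []⟩,
⟨nat_lit 11, [], nat_lit 8, [], []⟩],
[]⟩,
⟨[nat_lit 18], [], [],
[⟨nat_lit 0, [], nat_lit 3, [], []⟩,
⟨nat_lit 1, [], nat_lit 6, [], []⟩,
⟨nat_lit 2, [], nat_lit 9, [], []⟩,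
⟨nat_lit 3, [], nat_lit 11, [], []⟩,
⟨nat_lit 4, [], nat_lit 0, [], []⟩,
⟨nat_lit 5, [], nat_lit 10, [], []⟩,
⟨nat_lit 6, [], nat_lit 8, [], []⟩,
⟨nat_lit 7, [], nat_lit 1, [], []⟩,
⟨nat_lit 8, [], nat_lit 7, [], []⟩,
⟨nat_lit 9, [], nat_lit 5, [], []⟩,
⟨nat_lit 10, [], nat_lit 2, [], []⟩,
⟨nat_lit 11, [], nat_lit 4, [], []⟩],
[]⟩],
[⟨dw (nat_lit 0x01), (nat_lit 0x20000000000000000000000000000000000000000000000000000000000), [], .nil, []⟩,
⟨dw (nat_lit 0x02), (nat_lit 0x400000000000000000), [], .nil, []⟩,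
⟨dw (nat_lit 0x03), (nat_lit 0x2000000000000000000000000000000000000000000000000000000000000000), [], .nil, []⟩,
⟨dw (nat_lit 0x04), (nat_lit 0x80000000000000000000000000000000000000000000000), [], .nil, []⟩,
⟨dw (nat_lit 0x0101), (nat_lit 0x800), [], .nil, []⟩,
⟨dw (nat_lit 0x0301), (nat_lit 0x80000000000000000000000000000000000000000000000000000000000), [], .nil, []⟩,
⟨dw (nat_lit 0x0401), (nat_lit 0x1000000000000000000000000000000), [], .nil, []⟩,
⟨dw (nat_lit 0x0202), (nat_lit 0x40000000000000000000000000000000000000000000000), [], .nil, []⟩,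
⟨dw (nat_lit 0x0302), (nat_lit 0x4000000000000000000000000000000000000000000000000000000000000), [], .nil, []⟩,
⟨dw (nat_lit 0x0402), (nat_lit 0x4000000000000000000000000000000000000000), [], .nil, []⟩,
⟨dw (nat_lit 0x0303), (nat_lit 0x200000000), [], .nil, []⟩]⟩
noncomputable def ex3 : List Word := []
noncomputable def ws3 : List Word := List.append ex3 (lev3.gens ws4)
noncomputable def rels3 : List (Word × Word) := List.append (lev3.rels ws4) (memRels (lev3.gens ws4) ex3 [])
noncomputable def lev2 : Level := ⟨nat_lit 4,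
[⟨[nat_lit 6], [dw (nat_lit 0x0101)], [dw (nat_lit 0x0101)],
[⟨nat_lit 0, [], nat_lit 1, [], []⟩,
⟨nat_lit 1, [], nat_lit 2, [], []⟩,
⟨nat_lit 2, [], nat_lit 0, [], []⟩,
⟨nat_lit 3, [], nat_lit 4, [], []⟩,
⟨nat_lit 4, [], nat_lit 1, dw (nat_lit 0x01), []⟩,
⟨nat_lit 5, [], nat_lit 6, [], []⟩,
⟨nat_lit 6, [], nat_lit 1, dw (nat_lit 0x03), []⟩,
⟨nat_lit 7, [], nat_lit 1, dw (nat_lit 0x04), []⟩,
⟨nat_lit 1, dw (nat_lit 0x01), nat_lit 3, [], []⟩,
⟨nat_lit 1, dw (nat_lit 0x03), nat_lit 5, [], []⟩,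
⟨nat_lit 1, dw (nat_lit 0x04), nat_lit 5, dw (nat_lit 0x04), dw (nat_lit 0x04)⟩,
⟨nat_lit 2, dw (nat_lit 0x01), nat_lit 4, dw (nat_lit 0x01), dw (nat_lit 0x02)⟩,
⟨nat_lit 2, dw (nat_lit 0x03), nat_lit 7, dw (nat_lit 0x03), dw (nat_lit 0x03)⟩,
⟨nat_lit 2, dw (nat_lit 0x04), nat_lit 6, dw (nat_lit 0x04), dw (nat_lit 0x04)⟩,
⟨nat_lit 3, dw (nat_lit 0x03), nat_lit 2, dw (nat_lit 0x01), dw (nat_lit 0x0402)⟩,
⟨nat_lit 4, dw (nat_lit 0x01), nat_lit 3, dw (nat_lit 0x03), dw (nat_lit 0x03)⟩,
⟨nat_lit 4, dw (nat_lit 0x03), nat_lit 7, dw (nat_lit 0x01), dw (nat_lit 0x02)⟩,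
⟨nat_lit 4, dw (nat_lit 0x04), nat_lit 6, dw (nat_lit 0x01), dw (nat_lit 0x02)⟩,
⟨nat_lit 5, dw (nat_lit 0x01), nat_lit 2, dw (nat_lit 0x03), dw (nat_lit 0x02)⟩,
⟨nat_lit 5, dw (nat_lit 0x03), nat_lit 2, dw (nat_lit 0x04), dw (nat_lit 0x04)⟩,
⟨nat_lit 5, dw (nat_lit 0x04), nat_lit 7, [], dw (nat_lit 0x03)⟩,
⟨nat_lit 6, dw (nat_lit 0x01), nat_lit 6, dw (nat_lit 0x03), dw (nat_lit 0x0402)⟩,
⟨nat_lit 6, dw (nat_lit 0x03), nat_lit 4, dw (nat_lit 0x04), dw (nat_lit 0x0401)⟩,
⟨nat_lit 6, dw (nat_lit 0x04), nat_lit 5, dw (nat_lit 0x03), dw (nat_lit 0x0303)⟩,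
⟨nat_lit 7, dw (nat_lit 0x01), nat_lit 7, dw (nat_lit 0x04), dw (nat_lit 0x0302)⟩,
⟨nat_lit 7, dw (nat_lit 0x03), nat_lit 5, dw (nat_lit 0x01), dw (nat_lit 0x0402)⟩,
⟨nat_lit 7, dw (nat_lit 0x04), nat_lit 4, dw (nat_lit 0x03), dw (nat_lit 0x0301)⟩],
[]⟩],
[⟨dw (nat_lit 0x01), (nat_lit 0x8000008000000002000000000000000000000000000000000008000), [dw (nat_lit 0x01), dw (nat_lit 0x03)], (.cons (nat_lit 1) [dw (nat_lit 0x0101)] [dw (nat_lit 0x01), dw (nat_lit 0x01)]
.nil), [dw (nat_lit 0x0101)]⟩,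
⟨dw (nat_lit 0x02), (nat_lit 0x800000000000000000000000040000000000000000000000000000004001000000000), [dw (nat_lit 0x01), dw (nat_lit 0x03)], (.cons (nat_lit 1) [dw (nat_lit 0x0101)] [dw (nat_lit 0x01), dw (nat_lit 0x01)]
.nil), [dw (nat_lit 0x0101)]⟩,
⟨dw (nat_lit 0x010301), (nat_lit 0x200000000000000800000), [dw (nat_lit 0x03)], (.cons (nat_lit 1) [dw (nat_lit 0x01)] [dw (nat_lit 0x01), dw (nat_lit 0x0101), dw (nat_lit 0x0202)]
.nil), [dw (nat_lit 0x01)]⟩,
⟨dw (nat_lit 0x020301), (nat_lit 0x400000000000000000000000000000000000002000000200000000000040000), [dw (nat_lit 0x01), dw (nat_lit 0x03)], (.cons (nat_lit 1) [dw (nat_lit 0x0101)] [dw (nat_lit 0x01), dw (nat_lit 0x01)]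
.nil), [dw (nat_lit 0x0101)]⟩,
⟨dw (nat_lit 0x010501), (nat_lit 0x400000000010000000000000800000000000000000000400000000000000000000000), [dw (nat_lit 0x01), dw (nat_lit 0x03)], (.cons (nat_lit 1) [dw (nat_lit 0x0101)] [dw (nat_lit 0x01), dw (nat_lit 0x01)]
.nil), [dw (nat_lit 0x0202)]⟩,
⟨dw (nat_lit 0x020501), (nat_lit 0x100008000000000000000000000080000000000000002000000000000000000000), [dw (nat_lit 0x01), dw (nat_lit 0x03)], (.cons (nat_lit 1) [dw (nat_lit 0x0101)] [dw (nat_lit 0x01), dw (nat_lit 0x01)]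
.nil), [dw (nat_lit 0x0202)]⟩,
⟨dw (nat_lit 0x020601), (nat_lit 0x400000200000000001000000000400000000000000), [dw (nat_lit 0x01), dw (nat_lit 0x03)], (.cons (nat_lit 1) [dw (nat_lit 0x0101)] [dw (nat_lit 0x01), dw (nat_lit 0x01)]
.nil), [dw (nat_lit 0x0202)]⟩]⟩
noncomputable def ex2 : List Word := [[nat_lit 12], [nat_lit 14]]
noncomputable def ws2 : List Word := List.append ex2 (lev2.gens ws3)
noncomputable def rels2 : List (Word × Word) := List.append (lev2.rels ws3) (memRels (lev2.gens ws3) ex2 [dw (nat_lit 0x0106010505), dw (nat_lit 0x0203020504)])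
noncomputable def lev1 : Level := ⟨nat_lit 16,
[⟨[nat_lit 4], [dw (nat_lit 0x04010303), dw (nat_lit 0x080305)], [dw (nat_lit 0x04010909), dw (nat_lit 0x01010907)],
[⟨nat_lit 0, [], nat_lit 1, [], []⟩,
⟨nat_lit 1, [], nat_lit 1, dw (nat_lit 0x0808), dw (nat_lit 0x0a0107)⟩,
⟨nat_lit 2, [], nat_lit 1, dw (nat_lit 0x0203), dw (nat_lit 0x060208)⟩,
⟨nat_lit 3, [], nat_lit 1, dw (nat_lit 0x0402), dw (nat_lit 0x010309)⟩,
⟨nat_lit 1, dw (nat_lit 0x01), nat_lit 2, [], []⟩,
⟨nat_lit 1, dw (nat_lit 0x03), nat_lit 3, [], []⟩,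
⟨nat_lit 1, dw (nat_lit 0x06), nat_lit 1, dw (nat_lit 0x06), dw (nat_lit 0x06)⟩,
⟨nat_lit 1, dw (nat_lit 0x08), nat_lit 1, dw (nat_lit 0x08), dw (nat_lit 0x04010707)⟩,
⟨nat_lit 1, dw (nat_lit 0x0301), nat_lit 1, dw (nat_lit 0x07), dw (nat_lit 0x07)⟩,
⟨nat_lit 1, dw (nat_lit 0x0402), nat_lit 1, dw (nat_lit 0x03), dw (nat_lit 0x0203020909)⟩,
⟨nat_lit 1, dw (nat_lit 0x0808), nat_lit 0, [], dw (nat_lit 0x0a0108)⟩],
[dw (nat_lit 0x03), dw (nat_lit 0x01)]⟩],
[⟨dw (nat_lit 0x01), (nat_lit 0xf000200000802000010800002494100000000180004100008090000091000004020000), [dw (nat_lit 0x01), dw (nat_lit 0x03), dw (nat_lit 0x01), dw (nat_lit 0x05), dw (nat_lit 0x07), dw (nat_lit 0x01), dw (nat_lit 0x01)], (.cons (nat_lit 4) [dw (nat_lit 0x04010303), dw (nat_lit 0x02020307)] [dw (nat_lit 0x01), dw (nat_lit 0x03), dw (nat_lit 0x01), dw (nat_lit 0x03), dw (nat_lit 0x03)]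
.nil), [dw (nat_lit 0x04010909), dw (nat_lit 0x09060909)]⟩,
⟨dw (nat_lit 0x010301), (nat_lit 0x10000000000000000002000000010000200000000000000000000000000000), [dw (nat_lit 0x01), dw (nat_lit 0x07)], (.cons (nat_lit 4) [dw (nat_lit 0x05), dw (nat_lit 0x010107), dw (nat_lit 0x0104)] [dw (nat_lit 0x01), dw (nat_lit 0x05), dw (nat_lit 0x01), dw (nat_lit 0x03), dw (nat_lit 0x05), dw (nat_lit 0x03)]
(.cons (nat_lit 1) [dw (nat_lit 0x0707)] [dw (nat_lit 0x01), dw (nat_lit 0x01)]
.nil)), [dw (nat_lit 0x06), dw (nat_lit 0x0203020a08), dw (nat_lit 0x0401), dw (nat_lit 0x010307)]⟩,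
⟨dw (nat_lit 0x010501), (nat_lit 0x1080000001000000000000000000000000000000000000100000000000000000000), [dw (nat_lit 0x01), dw (nat_lit 0x07)], (.cons (nat_lit 4) [dw (nat_lit 0x05), dw (nat_lit 0x0104), dw (nat_lit 0x020407)] [dw (nat_lit 0x01), dw (nat_lit 0x03), dw (nat_lit 0x01), dw (nat_lit 0x05), dw (nat_lit 0x03), dw (nat_lit 0x05)]
(.cons (nat_lit 1) [dw (nat_lit 0x0707)] [dw (nat_lit 0x01), dw (nat_lit 0x01)]
.nil)), [dw (nat_lit 0x060209), dw (nat_lit 0x02030209), dw (nat_lit 0x030108), dw (nat_lit 0x0a0609)]⟩]⟩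
noncomputable def ex1 : List Word := [[nat_lit 8], [nat_lit 10]]
noncomputable def ws1 : List Word := List.append ex1 (lev1.gens ws2)
noncomputable def rels1 : List (Word × Word) := List.append (lev1.rels ws2) (memRels (lev1.gens ws2) ex1 [dw (nat_lit 0x070302070c0a), dw (nat_lit 0x020705030c)])
noncomputable def lev0 : Level := ⟨nat_lit 0,
[⟨[nat_lit 0], [dw (nat_lit 0x020c0702), dw (nat_lit 0x0e0b0d)], [dw (nat_lit 0x0d050b100e), dw (nat_lit 0x0d0b0e)],
[⟨nat_lit 0, [], nat_lit 1, [], []⟩,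
⟨nat_lit 1, [], nat_lit 1, dw (nat_lit 0x0a0f), dw (nat_lit 0x0d04010b100e)⟩,
⟨nat_lit 2, [], nat_lit 1, dw (nat_lit 0x0409), dw (nat_lit 0x0e010c080f0e)⟩,
⟨nat_lit 1, dw (nat_lit 0x01), nat_lit 2, [], []⟩,
⟨nat_lit 1, dw (nat_lit 0x02), nat_lit 1, dw (nat_lit 0x02), dw (nat_lit 0x02)⟩,
⟨nat_lit 1, dw (nat_lit 0x03), nat_lit 1, dw (nat_lit 0x03), dw (nat_lit 0x0107070e0e)⟩,
⟨nat_lit 1, dw (nat_lit 0x04), nat_lit 1, dw (nat_lit 0x04), dw (nat_lit 0x0e030b090e)⟩,
⟨nat_lit 1, dw (nat_lit 0x07), nat_lit 2, dw (nat_lit 0x0407), dw (nat_lit 0x050207100d)⟩,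
⟨nat_lit 1, dw (nat_lit 0x09), nat_lit 1, dw (nat_lit 0x1004), dw (nat_lit 0x0405010a080f0e)⟩,
⟨nat_lit 1, dw (nat_lit 0x0a), nat_lit 1, dw (nat_lit 0x0d0c), dw (nat_lit 0x040501090b0e0e)⟩,
⟨nat_lit 1, dw (nat_lit 0x0c), nat_lit 1, dw (nat_lit 0x0c), dw (nat_lit 0x0c)⟩,
⟨nat_lit 1, dw (nat_lit 0x0b04), nat_lit 1, dw (nat_lit 0x09), dw (nat_lit 0x0109010809080f0f)⟩,
⟨nat_lit 2, dw (nat_lit 0x07), nat_lit 1, dw (nat_lit 0x0103), dw (nat_lit 0x06030109100d)⟩,
⟨nat_lit 2, dw (nat_lit 0x09), nat_lit 2, dw (nat_lit 0x09), dw (nat_lit 0x0b010c)⟩,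
⟨nat_lit 1, dw (nat_lit 0x0a0f), nat_lit 0, [], dw (nat_lit 0x0d04010d0707100e)⟩],
[dw (nat_lit 0x03), dw (nat_lit 0x01), dw (nat_lit 0x03), dw (nat_lit 0x01), dw (nat_lit 0x03), dw (nat_lit 0x01), dw (nat_lit 0x03), dw (nat_lit 0x01)
, dw (nat_lit 0x03)]⟩],
[⟨dw (nat_lit 0x01), (nat_lit 0xffed7ffef7fcffffef7ffffdb69effffffefe7fdfbeffff7e6fffff6efffffbfcfffe), [dw (nat_lit 0x01), dw (nat_lit 0x03), dw (nat_lit 0x07), dw (nat_lit 0x09), dw (nat_lit 0x0d), dw (nat_lit 0x03), dw (nat_lit 0x0f), dw (nat_lit 0x09)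
, dw (nat_lit 0x01), dw (nat_lit 0x05), dw (nat_lit 0x03)], (.cons (nat_lit 16) [dw (nat_lit 0x03050908)] [dw (nat_lit 0x01), dw (nat_lit 0x03), dw (nat_lit 0x01), dw (nat_lit 0x03), dw (nat_lit 0x01), dw (nat_lit 0x03), dw (nat_lit 0x01)]
(.cons (nat_lit 4) [dw (nat_lit 0x0e0b0d)] [dw (nat_lit 0x01), dw (nat_lit 0x01)]
.nil)), [dw (nat_lit 0x0a040809080e0e), dw (nat_lit 0x0d0b0e)]⟩,
⟨dw (nat_lit 0x010301), (nat_lit 0xf001280010803000010800002496100000010180204100008190000091000004030000), [dw (nat_lit 0x03), dw (nat_lit 0x07), dw (nat_lit 0x0d), dw (nat_lit 0x03), dw (nat_lit 0x07), dw (nat_lit 0x09), dw (nat_lit 0x01), dw (nat_lit 0x03)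
], (.cons (nat_lit 16) [dw (nat_lit 0x01)] [dw (nat_lit 0x01), dw (nat_lit 0x01), dw (nat_lit 0x05), dw (nat_lit 0x01), dw (nat_lit 0x01), dw (nat_lit 0x05), dw (nat_lit 0x01), dw (nat_lit 0x01)
]
(.cons (nat_lit 4) [dw (nat_lit 0x0a0a070a), dw (nat_lit 0x0d070b)] [dw (nat_lit 0x03), dw (nat_lit 0x01), dw (nat_lit 0x03), dw (nat_lit 0x03), dw (nat_lit 0x03)]
.nil)), [dw (nat_lit 0x01), dw (nat_lit 0x03010d0b0f), dw (nat_lit 0x0d050d0b0f0d)]⟩]⟩
noncomputable def ex0 : List Word := [[nat_lit 2]]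
noncomputable def ws0 : List Word := List.append ex0 (lev0.gens ws1)
noncomputable def rels0 : List (Word × Word) := List.append (lev0.rels ws1) (memRels (lev0.gens ws1) ex0 [dw (nat_lit 0x0d0401030e)])
noncomputable def prim0 : List (List Word) := [[dw (nat_lit 0x01), dw (nat_lit 0x01), dw (nat_lit 0x03), dw (nat_lit 0x05), dw (nat_lit 0x09), dw (nat_lit 0x0b), dw (nat_lit 0x0f), dw (nat_lit 0x07)
, dw (nat_lit 0x09), dw (nat_lit 0x01), dw (nat_lit 0x05), dw (nat_lit 0x09)],
[dw (nat_lit 0x01), dw (nat_lit 0x05), dw (nat_lit 0x09), dw (nat_lit 0x0f), dw (nat_lit 0x05), dw (nat_lit 0x09), dw (nat_lit 0x0b), dw (nat_lit 0x01)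
, dw (nat_lit 0x05), dw (nat_lit 0x0f), dw (nat_lit 0x09), dw (nat_lit 0x05), dw (nat_lit 0x11), dw (nat_lit 0x03)]]
noncomputable def rels : List (Word × Word) := List.append rels0 (List.append rels1 (List.append rels2 (List.append rels3 ([]))))
noncomputable def defs : List Word := [dw (nat_lit 0x0108040702), dw (nat_lit 0x0103050703030701080804080305), dw (nat_lit 0x0509090c05080609), dw (nat_lit 0x0607050a0c08), dw (nat_lit 0x10080f0e07070f0d101008080e), dw (nat_lit 0x0d070d070e)]
noncomputable def relsD : List (Word × Word) := defRels defs 4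
noncomputable def relsO : List (Word × Word) := memRels ws0 (lets 4) [dw (nat_lit 0x03), dw (nat_lit 0x01), dw (nat_lit 0x09), dw (nat_lit 0x0f)]
noncomputable def relsS : List (Word × Word) := []
noncomputable def allRels : List (Word × Word) := List.append rels (List.append relsD (List.append relsO relsS))
theorem reach_ok : subs (full 280) (orbRun nets (lets 4) reach (bits (List.map Prod.fst ss))) = true := by decide +kernel
theorem chk3 : lev3.chk 280 nets ws4 1 12 = true := by decide +kernel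
theorem chk2 : lev2.chk 280 nets ws3 12 324 = true := by decide +kernel
theorem chk1 : lev1.chk 280 nets ws2 324 11664 = true := by decide +kernel
theorem primc0 : PM.primChk nets ws1 lev0 lev0.sos prim0 = true := by decide +kernel
theorem chk0 : lev0.chk 280 nets ws1 11664 3265920 = true := by decide +kernel
theorem rc0 : relsChk 280 nets 9 (idArr 280 9 9 0) allRels = true := by decide +kernel
section
variable {Γ Ω : Type*} [Group Γ] [MulAction Γ Ω] (M : PM Γ Ω 280 nets)

theorem all_ok (hs : M.Sep 9 (idArr 280 9 9 0)) : Rels M.gen allRels := (M.rels_of_chk hs rc0)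
theorem sep [FaithfulSMul Γ Ω] : M.Sep 9 (idArr 280 9 9 0) := M.sep_idArr (by decide)
theorem all_ok' [FaithfulSMul Γ Ω] : Rels M.gen allRels := all_ok M (sep M)
theorem rels_of_all {gen : ℕ → Γ} (h : Rels gen allRels) : Rels gen rels := Rels.left h
theorem relsD_of_all {gen : ℕ → Γ} (h : Rels gen allRels) : Rels gen relsD := Rels.left (Rels.right h)
theorem relsO_of_all {gen : ℕ → Γ} (h : Rels gen allRels) : Rels gen relsO := Rels.left (Rels.right (Rels.right h))
theorem relsS_of_all {gen : ℕ → Γ} (h : Rels gen allRels) : Rels gen relsS := Rels.right (Rels.right (Rels.right h))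
theorem card4 (_hR : Rels M.gen rels) : Nat.card (sub M.gen ws4) = 1 := M.card_nil
theorem fixw4 (_hR : Rels M.gen rels) : M.FixTriv ws4 [] := M.fixTriv_nil
theorem r3 (hR : Rels M.gen rels) : Rels M.gen rels3 := (Rels.left (Rels.right (Rels.right (Rels.right hR))))
theorem res3 (hR : Rels M.gen rels) : M.LevelRes ws4 lev3 12 := M.level (card4 M hR) chk3 (Rels.left (r3 M hR))
theorem ext3 (hR : Rels M.gen rels) : sub M.gen ws3 = sub M.gen (lev3.gens ws4) := sub_extend (Rels.right (r3 M hR))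
theorem card3 (hR : Rels M.gen rels) : Nat.card (sub M.gen ws3) = 12 := by rw [ext3 M hR]; exact (res3 M hR).card
theorem fix3 (hR : Rels M.gen rels) : M.FixTriv (lev3.gens ws4) [1] := (res3 M hR).fixTriv M (fixw4 M hR)
theorem fixw3 (hR : Rels M.gen rels) : M.FixTriv ws3 [1] := fun g hg => fix3 M hR g (ext3 M hR ▸ hg)
theorem stab3 (hR : Rels M.gen rels) : sub M.gen ws3 ⊓ MulAction.stabilizer Γ (M.dec 1) = sub M.gen ws4 := by rw [ext3 M hR]; exact (res3 M hR).stab
theorem orb3 (hR : Rels M.gen rels) (y : Ω) : y ∈ M.S lev3.orb ↔ ∃ g ∈ sub M.gen ws3, g • M.dec 1 = y := by rw [ext3 M hR]; exact (res3 M hR).orb y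
theorem r2 (hR : Rels M.gen rels) : Rels M.gen rels2 := (Rels.left (Rels.right (Rels.right hR)))
theorem res2 (hR : Rels M.gen rels) : M.LevelRes ws3 lev2 324 := M.level (card3 M hR) chk2 (Rels.left (r2 M hR))
theorem ext2 (hR : Rels M.gen rels) : sub M.gen ws2 = sub M.gen (lev2.gens ws3) := sub_extend (Rels.right (r2 M hR))
theorem card2 (hR : Rels M.gen rels) : Nat.card (sub M.gen ws2) = 324 := by rw [ext2 M hR]; exact (res2 M hR).card
theorem fix2 (hR : Rels M.gen rels) : M.FixTriv (lev2.gens ws3) [4, 1] := (res2 M hR).fixTriv M (fixw3 M hR)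
theorem fixw2 (hR : Rels M.gen rels) : M.FixTriv ws2 [4, 1] := fun g hg => fix2 M hR g (ext2 M hR ▸ hg)
theorem stab2 (hR : Rels M.gen rels) : sub M.gen ws2 ⊓ MulAction.stabilizer Γ (M.dec 4) = sub M.gen ws3 := by rw [ext2 M hR]; exact (res2 M hR).stab
theorem orb2 (hR : Rels M.gen rels) (y : Ω) : y ∈ M.S lev2.orb ↔ ∃ g ∈ sub M.gen ws2, g • M.dec 4 = y := by rw [ext2 M hR]; exact (res2 M hR).orb y
theorem r1 (hR : Rels M.gen rels) : Rels M.gen rels1 := (Rels.left (Rels.right hR))
theorem res1 (hR : Rels M.gen rels) : M.LevelRes ws2 lev1 11664 := M.level (card2 M hR) chk1 (Rels.left (r1 M hR))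
theorem ext1 (hR : Rels M.gen rels) : sub M.gen ws1 = sub M.gen (lev1.gens ws2) := sub_extend (Rels.right (r1 M hR))
theorem card1 (hR : Rels M.gen rels) : Nat.card (sub M.gen ws1) = 11664 := by rw [ext1 M hR]; exact (res1 M hR).card
theorem fix1 (hR : Rels M.gen rels) : M.FixTriv (lev1.gens ws2) [16, 4, 1] := (res1 M hR).fixTriv M (fixw2 M hR)
theorem fixw1 (hR : Rels M.gen rels) : M.FixTriv ws1 [16, 4, 1] := fun g hg => fix1 M hR g (ext1 M hR ▸ hg)
theorem stab1 (hR : Rels M.gen rels) : sub M.gen ws1 ⊓ MulAction.stabilizer Γ (M.dec 16) = sub M.gen ws2 := by rw [ext1 M hR]; exact (res1 M hR).stab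
theorem orb1 (hR : Rels M.gen rels) (y : Ω) : y ∈ M.S lev1.orb ↔ ∃ g ∈ sub M.gen ws1, g • M.dec 16 = y := by rw [ext1 M hR]; exact (res1 M hR).orb y
theorem r0 (hR : Rels M.gen rels) : Rels M.gen rels0 := (Rels.left hR)
theorem res0 (hR : Rels M.gen rels) : M.LevelRes ws1 lev0 3265920 := M.level (card1 M hR) chk0 (Rels.left (r0 M hR))
theorem ext0 (hR : Rels M.gen rels) : sub M.gen ws0 = sub M.gen (lev0.gens ws1) := sub_extend (Rels.right (r0 M hR))
theorem card0 (hR : Rels M.gen rels) : Nat.card (sub M.gen ws0) = 3265920 := by rw [ext0 M hR]; exact (res0 M hR).card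
theorem fix0 (hR : Rels M.gen rels) : M.FixTriv (lev0.gens ws1) [0, 16, 4, 1] := (res0 M hR).fixTriv M (fixw1 M hR)
theorem fixw0 (hR : Rels M.gen rels) : M.FixTriv ws0 [0, 16, 4, 1] := fun g hg => fix0 M hR g (ext0 M hR ▸ hg)
theorem stab0 (hR : Rels M.gen rels) : sub M.gen ws0 ⊓ MulAction.stabilizer Γ (M.dec 0) = sub M.gen ws1 := by rw [ext0 M hR]; exact (res0 M hR).stab
theorem orb0 (hR : Rels M.gen rels) (y : Ω) : y ∈ M.S lev0.orb ↔ ∃ g ∈ sub M.gen ws0, g • M.dec 0 = y := by rw [ext0 M hR]; exact (res0 M hR).orb y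
theorem max0 (hR : Rels M.gen rels) (X : Subgroup Γ) (h1 : sub M.gen ws1 ≤ X) (h2 : X ≤ sub M.gen ws0) : X = sub M.gen ws1 ∨ X = sub M.gen ws0 := by rw [ext0 M hR] at h2 ⊢; exact (res0 M hR).max M primc0 X h1 h2
theorem orig_eq {gen : ℕ → Γ} (h : Rels gen allRels) : sub gen (lets 4) = sub gen ws0 :=
  sub_lets_eq_of_rels (ds := defs) (by decide +kernel) (relsD_of_all h) (by decide +kernel) (relsO_of_all h)
theorem gen_mem {gen : ℕ → Γ} (h : Rels gen allRels) {X : Subgroup Γ} (h0 : ∀ l < 4, gen l ∈ X) : sub gen ws0 ≤ X :=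
  sub_le_of_wsIn (lo := 0) (gen_mem_of_defRels (ds := defs) (fun l _ hl => h0 l hl) (by decide +kernel) (relsD_of_all h)) (by decide +kernel)

end

/-- the permutation group -/
noncomputable abbrev P := permPM 280 nets (by decide) (by decide) nets_ok
theorem allP : Rels P.gen allRels := all_ok' P
/-- machines of this type -/
abbrev St (X : Type*) [Group X] := Std X 280 nets ws0 3265920 allRels
/-- the presentation on the strong generators -/
theorem hom {X : Type*} [Group X] (S : St X) {Δ : Type*} [Group Δ] (y : ℕ → Δ) (hy : Rels y rels) :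
    ∃ φ : X →* Δ, φ.range = sub y ws0 ∧ ∀ w ∈ ws0, φ (H14.ev S.M.gen w) = H14.ev y w :=
  S.hom_ws y (card0 _ ((rels_of_all S.rels).prod hy))
/-- the presentation on all letters -/
theorem hom' {X : Type*} [Group X] (S : St X) {Δ : Type*} [Group Δ] (y : ℕ → Δ) (hy : Rels y allRels) :
    ∃ φ : X →* Δ, φ.range = sub y (lets 4) ∧ ∀ l < 10, φ (S.M.gen l) = y l :=
  S.hom_all y (card0 _ (rels_of_all (S.rels.prod hy))) (orig_eq (S.rels.prod hy)) (orig_eq hy) (ds := defs)
    (by decide +kernel) (relsD_of_all (S.rels.prod hy)) (by decide +kernel)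
/-- the matrices of the first letters (and their inverses) -/
def As : List (ℕ × ℕ) :=
[(nat_lit 0x5949a9a84959a8a9, nat_lit 0x9686555486965455),
  (nat_lit 0x1000054804580885, nat_lit 0x1000098408940449),
  (nat_lit 0x552969a2195aa199, nat_lit 0x9a16955126955265),
  (nat_lit 0x551a6954265994a9, nat_lit 0x9a2595a819966855)]
/-- the vectors -/
def V : ℕ := nat_lit 0x156815a41554158610220150160019151a641255114016861108125a1024154a012214951561126a15641689146619920144145a120810091aa211551a1a1820198a19510142152910181469119a125900191aa11685140819261a4618a5146519a81456151a001618801a1616a801601808190018011a00185a1a8a1014192a16911a851a61104416161a52165115190112189611a90181155201061692169819911629010919a1149916461410198610501a921a2514a9189a19980182145910811840159411951895159116681a54151516a1102115451a291549151611011041110411aa1592125616a40121196414801654164912aa1090146a1919185614011265145518aa19a21a15165812401a2a1a860128116a101116641204159801241a1912011042189916621a89152a158910881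4a6162a1949162614a5116911a5010a15a2111010841a681280129a198515a81a261082110210121a94152511661440194514aa19161048192511a61804100510a0115919681402014819a41562120212201120011811991a581551154618a91962152616451404191a1855102801a01a45149618661661195801051a9810600111149a12661810100a1196001511651954158a16941a62018815581802168a12a9126919611952186a01901a4916191a4a018418591aa41295186510061a91165211561210001a1aa818a6194612a61989011416a212a515a115851994115a1299161a164a1420162501411296118019291615194a18691a511500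
theorem eqv_ok : c9.eqvM 4 280 [1, 2, 4, 5, 6, 8, 9, 10] V As nets 4 = true := by decide +kernel
theorem sep_ok : c9.sepM 4 280 [1, 2, 4, 5, 6, 8, 9, 10] V (ss.map Prod.fst) = true := by decide +kernel
theorem ctrP : ∀ z ∈ sub P.gen (lets 4), (∀ x ∈ sub P.gen (lets 4), x * z = z * x) → z = 1 :=
  orig_eq allP ▸ center_triv (res0 P (rels_of_all allP)) (ext0 P (rels_of_all allP)) (card1 P (rels_of_all allP))
    (by decide) primc0 (fix0 P (rels_of_all allP)) (by decide +kernel)
theorem core {F : Type*} [Field F] {a : Ar F} (ha : Ok a c9 3) {ι : Type} [Fintype ι] [DecidableEq ι]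
    {e : ι ≃ Fin 4} {T X : Type*} [Group T] [Group X] {ρ : T →* Matrix ι ι F} (h : Mem a e ρ As 4)
    (q : T →* X) (hq : ∀ g, q g = 1 → g = 1 ∨ g ∈ Subgroup.center T ∧ ∀ z ∈ sub P.gen (lets 4), (∀ x ∈ sub P.gen (lets 4), x * z = z * x) → z = 1)
    (hB : Bd (⊤ : Subgroup X) 3265920) : ∃ S : St X, Spec S a e ρ q As 4 [1, 2, 4, 5, 6, 8, 9, 10] V (ss.map Prod.fst) :=
  h.std ha (by decide +kernel) eqv_ok reach_ok sep_ok q hq (ds := defs) (by decide +kernel) (by decide +kernel)
    (relsD_of_all allP) hB (orig_eq allP) (card0 P (rels_of_all allP)) allP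
theorem std_spec {F : Type*} [Field F] [Fintype F] (hF : Fintype.card F = 9) {a : Ar F} (ha : Ok a c9 3) :
    ∃ S : St (Cfsg.PSU 4 F 3), Spec S a (Equiv.refl _) (suM 4 F 3) (QuotientGroup.mk' _) As 4 [1, 2, 4, 5, 6, 8, 9, 10] V (ss.map Prod.fst) :=
  core ha (mem_su ha.1 (k := 1) (q := 3) ha.2.2 (by norm_num) rfl (L := As) (by decide +kernel) (by decide +kernel)) _ (hq_ctr ctrP) (bd_psu (q := 3) hF (by decide +kernel))
theorem std {F : Type*} [Field F] [Fintype F] (hF : Fintype.card F = 9) : Nonempty (St (Cfsg.PSU 4 F 3)) :=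
  let ⟨_, ha⟩ := ar_9 (F := F) hF
  let ⟨S, _⟩ := std_spec hF ha
  ⟨S⟩

end H15.StdU43
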