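import Cfsg.Agent.H15.TTh3C0

/-! Coset enumeration certificate TTh3 (presentation Th, letters abcdes, subgroup a b c d e), conclusion. -/
set_option maxRecDepth 8000
set_option Elab.async false
namespace H15.TTh3
open TC

theorem call : ∀ i < 20, allB chk 11 i = true := (fl_add (a := 0) (b := 20) fl0 g0)
theorem sd : side (row 0) (nat_lit 254) (nat_lit 0x4000000000000000000000000000000000000000000000000000000000000000) (nat_lit 27) (nat_lit 65536) (nat_lit 0xfc00000000000000000000000000000000000000000000000000000000000000000000000000000000001c51840c2040) (nat_lit 7) (nat_lit 17472) (nat_lit 39611) (nat_lit 216) 11 20 rels subs [nat_lit 0,nat_lit 1,nat_lit 2,nat_lit 3,nat_lit 4,nat_lit 5,nat_lit 6] = true := by decide +kernel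
theorem idx {G : Type*} [Group G] (gen : ℕ → G) (hrel : ∀ w ∈ rels, ev gen w = 1) (H : Subgroup G)
    (hsub : ∀ w ∈ subs, ev gen w ∈ H) :
    H.relIndex (Subgroup.closure (gen '' Set.Iio 7)) ≠ 0 ∧ H.relIndex (Subgroup.closure (gen '' Set.Iio 7)) ≤ 17472 :=
  TC.idx (by decide) (final (fun _ => rfl) (fun _ _ => rfl) (fun _ => rfl) (fun _ h => ⟨_, _, h⟩) sd call hrel hsub)

end H15.TTh3
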