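import Cfsg.Agent.H15.TC2

/-! Coset enumeration certificate TTh4 (presentation Th, letters abcdest, subgroup a b c d e s), complete. -/
set_option maxRecDepth 8000
set_option Elab.async false
namespace H15.TTh4
open TC

noncomputable def tT : BT := (.node (nat_lit 1) (.leaf (nat_lit 0x91c1289d6b5ad6b41c11b984e739ce0000fb46b5ad6b5))
 (.leaf (nat_lit 0x0))
)
noncomputable def tP : BT := (.node (nat_lit 1) (.leaf (nat_lit 0xc0258062809c0136026804c8098012e020000300800039041402d811a0232046008b8100000c020000280a308c60e8c171822302c602))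
 (.leaf (nat_lit 0x0))
)
noncomputable def tS : BT := (.node (nat_lit 1) (.leaf (nat_lit 0xfc00024402001f800048404003f000090008007e00011f01000fc00023c02001f8000474040000))
 (.leaf (nat_lit 0x0))
)
def rels : List (List ℕ) := [[nat_lit 0,nat_lit 0],
  [nat_lit 1,nat_lit 1],
  [nat_lit 2,nat_lit 2],
  [nat_lit 3,nat_lit 3],
  [nat_lit 4,nat_lit 4],
  [nat_lit 5,nat_lit 6],
  [nat_lit 7,nat_lit 8],
  [nat_lit 0,nat_lit 1,nat_lit 0,nat_lit 1,nat_lit 0,nat_lit 1],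
  [nat_lit 0,nat_lit 4,nat_lit 0,nat_lit 4],
  [nat_lit 1,nat_lit 2,nat_lit 1,nat_lit 2,nat_lit 1,nat_lit 2],
  [nat_lit 1,nat_lit 3,nat_lit 1,nat_lit 3],
  [nat_lit 1,nat_lit 4,nat_lit 1,nat_lit 4],
  [nat_lit 0,nat_lit 3,nat_lit 2,nat_lit 3,nat_lit 2,nat_lit 3,nat_lit 2,nat_lit 3,nat_lit 2],
  [nat_lit 2,nat_lit 4,nat_lit 2,nat_lit 4],
  [nat_lit 3,nat_lit 4,nat_lit 3,nat_lit 4,nat_lit 3,nat_lit 4],
  [nat_lit 1,nat_lit 2,nat_lit 3,nat_lit 4,nat_lit 1,nat_lit 2,nat_lit 3,nat_lit 4,nat_lit 1,nat_lit 2,nat_lit 3,nat_lit 4,nat_lit 1,nat_lit 2,nat_lit 3,nat_lit 4,nat_lit 1,nat_lit 2,nat_lit 3,nat_lit 4,nat_lit 1,nat_lit 2,nat_lit 3,nat_lit 4,nat_lit 1,nat_lit 2,nat_lit 3,nat_lit 4,nat_lit 1,nat_lit 2,nat_lit 3,nat_lit 4],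
  [nat_lit 5,nat_lit 5,nat_lit 5,nat_lit 5,nat_lit 5,nat_lit 5,nat_lit 5],
  [nat_lit 6,nat_lit 0,nat_lit 5,nat_lit 0],
  [nat_lit 6,nat_lit 1,nat_lit 5,nat_lit 1],
  [nat_lit 6,nat_lit 2,nat_lit 5,nat_lit 2],
  [nat_lit 5,nat_lit 3,nat_lit 5,nat_lit 3],
  [nat_lit 4,nat_lit 6,nat_lit 4,nat_lit 6,nat_lit 6,nat_lit 4,nat_lit 5,nat_lit 5,nat_lit 5],
  [nat_lit 7,nat_lit 7,nat_lit 7],
  [nat_lit 8,nat_lit 0,nat_lit 7,nat_lit 0],
  [nat_lit 8,nat_lit 1,nat_lit 7,nat_lit 1],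
  [nat_lit 8,nat_lit 2,nat_lit 7,nat_lit 2],
  [nat_lit 8,nat_lit 3,nat_lit 7,nat_lit 3],
  [nat_lit 8,nat_lit 4,nat_lit 7,nat_lit 4],
  [nat_lit 8,nat_lit 5,nat_lit 7,nat_lit 6,nat_lit 6]]
def subs : List (List ℕ) := [[nat_lit 0],
  [nat_lit 1],
  [nat_lit 2],
  [nat_lit 3],
  [nat_lit 4],
  [nat_lit 5]]
noncomputable def row (v : ℕ) : ℕ := mkRow (BT.get tT) (nat_lit 32) (nat_lit 60) (nat_lit 0x1000000000000000) v
noncomputable def DC (c r : ℕ) : List ℕ := ruleC (nat_lit 0xfc00000000000000000000000000000000000000000000000000000000000000000000000000000002472051840c2040) (nat_lit 60) rels c r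
noncomputable def D1 (r : ℕ) : List ℕ := rule (nat_lit 0xfc00000000000000000000000000000000000000000000000000000000000000000000000000000002472051840c2040) (rels ++ subs.map (List.cons 63)) r
noncomputable def chk (v : ℕ) : Bool := chkRow row (nat_lit 5) (nat_lit 32) (nat_lit 4) (nat_lit 0xfc00000000000000000000000000000000000000000000000000000000000000000000000000000002472051840c2040) (nat_lit 9) (nat_lit 3) (nat_lit 3) (nat_lit 17) (nat_lit 131072) (nat_lit 17920) (nat_lit 50) (nat_lit 15) (nat_lit 32768) DC D1 [nat_lit 0,nat_lit 1,nat_lit 2,nat_lit 3,nat_lit 4,nat_lit 5,nat_lit 6,nat_lit 7,nat_lit 8]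
  (mkRow (BT.get tP) (nat_lit 32) (nat_lit 150) (nat_lit 0x40000000000000000000000000000000000000) v) (Nat.rec 0 (fun j _ => BT.get tS j) (Nat.succ (Nat.div v (nat_lit 32)))) (Nat.succ v)
theorem c0 : allB chk 11 0 = true := by decide +kernel
theorem g0 : ∀ i < 1, allB chk 11 (0 + i) = true := (fl (c := 0) fl0 c0)
theorem call : ∀ i < 1, allB chk 11 i = true := (fl_add (a := 0) (b := 1) fl0 g0)
theorem sd : side (row 0) (nat_lit 60) (nat_lit 0x1000000000000000) (nat_lit 5) (nat_lit 4) (nat_lit 0xfc00000000000000000000000000000000000000000000000000000000000000000000000000000002472051840c2040) (nat_lit 9) (nat_lit 3) (nat_lit 3) (nat_lit 50) 11 1 rels subs [nat_lit 0,nat_lit 1,nat_lit 2,nat_lit 3,nat_lit 4,nat_lit 5,nat_lit 6,nat_lit 7,nat_lit 8] = true := by decide +kernel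
theorem idx {G : Type*} [Group G] (gen : ℕ → G) (hrel : ∀ w ∈ rels, ev gen w = 1) (H : Subgroup G)
    (hsub : ∀ w ∈ subs, ev gen w ∈ H) :
    H.relIndex (Subgroup.closure (gen '' Set.Iio 9)) ≠ 0 ∧ H.relIndex (Subgroup.closure (gen '' Set.Iio 9)) ≤ 3 :=
  TC.idx (by decide) (final (fun _ => rfl) (fun _ _ => rfl) (fun _ => rfl) (fun _ h => ⟨_, _, h⟩) sd call hrel hsub)

end H15.TTh4
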