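import Cfsg.Agent.H15.TC2

/-! Coset enumeration certificate TTh7 (presentation Th, letters acdeu, subgroup trivial), complete. -/
set_option maxRecDepth 8000
set_option Elab.async false
namespace H15.TTh7
open TC

noncomputable def tT : BT := (.node (nat_lit 1) (.leaf (nat_lit 0x658000052000006cb01401bc200000fb462000030000a4ce6010000000a60004384000000003d0076040000003c8000ca1000000000f0015010000000ee0002084000000003b003010000f600000004008000b4000c32c4000000000eb2f0800003e7400039f2))
 (.leaf (nat_lit 0x0))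
)
noncomputable def tP : BT := (.node (nat_lit 1) (.leaf (nat_lit 0x1403000000000000100050050020000000000000000000200400000090180040000000000001810000000000000000000000000000000000000000000000000000000000000000000000000000000000000000000000000000000000000000000000000000000000000000000000000000004804000000100b424000000000000000020100080000000000000000000000))
 (.leaf (nat_lit 0x0))
)
noncomputable def tS : BT := (.node (nat_lit 1) (.leaf (nat_lit 0x0))
 (.leaf (nat_lit 0x0))
)
def rels : List (List ℕ) := [[nat_lit 0,nat_lit 0],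
  [nat_lit 1,nat_lit 1],
  [nat_lit 2,nat_lit 2],
  [nat_lit 3,nat_lit 3],
  [nat_lit 4,nat_lit 5],
  [nat_lit 0,nat_lit 3,nat_lit 0,nat_lit 3],
  [nat_lit 0,nat_lit 2,nat_lit 1,nat_lit 2,nat_lit 1,nat_lit 2,nat_lit 1,nat_lit 2,nat_lit 1],
  [nat_lit 1,nat_lit 3,nat_lit 1,nat_lit 3],
  [nat_lit 2,nat_lit 3,nat_lit 2,nat_lit 3,nat_lit 2,nat_lit 3],
  [nat_lit 4,nat_lit 4,nat_lit 1,nat_lit 0],
  [nat_lit 5,nat_lit 0,nat_lit 4,nat_lit 0],
  [nat_lit 5,nat_lit 1,nat_lit 4,nat_lit 1],
  [nat_lit 5,nat_lit 3,nat_lit 4,nat_lit 3],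
  [nat_lit 2,nat_lit 3,nat_lit 5,nat_lit 2,nat_lit 4,nat_lit 2,nat_lit 3,nat_lit 5,nat_lit 2,nat_lit 4]]
def subs : List (List ℕ) := []
def tgts : List (List ℕ) := [[nat_lit 4,nat_lit 4,nat_lit 4,nat_lit 4]]
noncomputable def row (v : ℕ) : ℕ := mkRow (BT.get tT) (nat_lit 32) (nat_lit 63) (nat_lit 0x8000000000000000) v
noncomputable def DC (c r : ℕ) : List ℕ := ruleC (nat_lit 0xfc00000000000000000000000000000000000000000000000000000000000000000000000000000000000061050c2040) (nat_lit 63) rels c r
noncomputable def D1 (r : ℕ) : List ℕ := rule (nat_lit 0xfc00000000000000000000000000000000000000000000000000000000000000000000000000000000000061050c2040) (rels ++ subs.map (List.cons 63)) r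
noncomputable def chk (v : ℕ) : Bool := chkRow row (nat_lit 7) (nat_lit 128) (nat_lit 16) (nat_lit 0xfc00000000000000000000000000000000000000000000000000000000000000000000000000000000000061050c2040) (nat_lit 6) (nat_lit 0) (nat_lit 13) (nat_lit 17) (nat_lit 131072) (nat_lit 7168) (nat_lit 49) (nat_lit 13) (nat_lit 8192) DC D1 [nat_lit 0,nat_lit 1,nat_lit 2,nat_lit 3,nat_lit 4,nat_lit 5]
  (mkRow (BT.get tP) (nat_lit 32) (nat_lit 91) (nat_lit 0x80000000000000000000000) v) (Nat.rec 0 (fun j _ => BT.get tS j) (Nat.succ (Nat.div v (nat_lit 32)))) (Nat.succ v)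
theorem c0 : allB chk 11 0 = true := by decide +kernel
theorem g0 : ∀ i < 1, allB chk 11 (0 + i) = true := (fl (c := 0) fl0 c0)
theorem call : ∀ i < 1, allB chk 11 i = true := (fl_add (a := 0) (b := 1) fl0 g0)
theorem sd : side (row 0) (nat_lit 63) (nat_lit 0x8000000000000000) (nat_lit 7) (nat_lit 16) (nat_lit 0xfc00000000000000000000000000000000000000000000000000000000000000000000000000000000000061050c2040) (nat_lit 6) (nat_lit 0) (nat_lit 13) (nat_lit 49) 11 1 rels subs [nat_lit 0,nat_lit 1,nat_lit 2,nat_lit 3,nat_lit 4,nat_lit 5] = true := by decide +kernel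
theorem tc : tgts.all (fun w => w.all (fun x => decide (x < (nat_lit 6))) && Nat.beq (walk row (nat_lit 7) (nat_lit 128) (nat_lit 16) 0 w 1) 1) = true := by decide +kernel
theorem mem {G : Type*} [Group G] (gen : ℕ → G) (hrel : ∀ w ∈ rels, ev gen w = 1) (H : Subgroup G)
    (hsub : ∀ w ∈ subs, ev gen w ∈ H) : ∀ w ∈ tgts, ev gen w ∈ H := fun w hw =>
  TC.mem (final (fun _ => rfl) (fun _ _ => rfl) (fun _ => rfl) (fun _ h => ⟨_, _, h⟩) sd call hrel hsub) (List.all_eq_true.1 tc w hw)

end H15.TTh7
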