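import Cfsg.Agent.H15.ThXD

/-! Generated certificate of a double coset enumeration (ThX). -/
set_option Elab.async false
set_option autoImplicit false
set_option maxRecDepth 100000

namespace H15.ThX
open H14 L DC

theorem kB : chkB F tb (4 * 205) 16 P0 (bas H15.ThH.lv0) = true := by decide +kernel
theorem kC : allLt (fun d => chkC st P0 245 373 16 gs d (getL 0 vs d)) 128 = true := by decide +kernel
theorem kR : rels.all (fun p => chkR st P0 16 p.1 ((getL [] (invR ra rb R1) p.2.1).drop p.2.2 ++ (getL [] (invR ra rb R1) p.2.1).take p.2.2)) = true := by decide +kernel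
theorem k0 : (Nat.blt 0 634023936 && (Nat.blt 820 18019 && (invChk H15.ThH.nets lc.gens (bit 820) && (subs O (orbRun H15.ThH.nets (lets 8) ls0 (bit 820)) &&
    (Nat.ble 634023936 (Nat.mul (pop 18019 O) (lc.val 18019 H15.ThH.nets)) && (bas lc).all fun b => Nat.blt b 18019 && H14.tb O b))))) = true := by decide +kernel
theorem kL : (lc.gens.zip lls).all (fun p => eqW st P0 16 (run st 128 245 100 p.2 P0) p.1) = true := by decide +kernel
theorem kI : chkI 18019 O 17199 cs cl0 cls szs = true := by decide +kernel

end H15.ThX
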