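import Cfsg.Agent.H15.ThXD

/-! Generated certificate of a double coset enumeration (ThX). -/
set_option Elab.async false
set_option autoImplicit false
set_option maxRecDepth 100000

namespace H15.ThX
open H14 L DC

theorem kf0 : chkL st P0 245 373 row rels1 pg0 0 = true := by decide +kernel
theorem kf1 : chkL st P0 245 373 row rels1 pg1 400 = true := by decide +kernel
theorem kf2 : chkL st P0 245 373 row rels1 pg2 800 = true := by decide +kernel
theorem kf3 : chkL st P0 245 373 row rels1 pg3 1200 = true := by decide +kernel
theorem kf4 : chkL st P0 245 373 row rels1 pg4 1600 = true := by decide +kernel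
theorem kf5 : chkL st P0 245 373 row rels1 pg5 2000 = true := by decide +kernel
theorem kf6 : chkL st P0 245 373 row rels1 pg6 2400 = true := by decide +kernel
theorem kf7 : chkL st P0 245 373 row rels1 pg7 2800 = true := by decide +kernel
theorem kf8 : chkL st P0 245 373 row rels1 pg8 3200 = true := by decide +kernel
theorem kf9 : chkL st P0 245 373 row rels1 pg9 3600 = true := by decide +kernel
theorem kf10 : chkL st P0 245 373 row rels1 pg10 4000 = true := by decide +kernel

end H15.ThX
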