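import Cfsg.Agent.H15.ThR2
import Cfsg.Agent.H15.ThX
import Cfsg.Agent.H15.ThG
import Cfsg.Agent.H15.TTh1
import Cfsg.Agent.H15.TTh2
import Cfsg.Agent.H15.TTh3
import Cfsg.Agent.H15.TTh4
import Cfsg.Agent.H15.TTh5
import Cfsg.Agent.H15.TTh6
import Cfsg.Agent.H15.TTh7
import Cfsg.Agent.H15.TTh8

/-! The presented group `Cfsg.Spor.Th`: order, simplicity, the subgroup on `a, ..., t` as machines `H15.Th.M` on
18019 points and `H15.Th.M'` on 819 points, embedded by `theta`, `theta'`, the faithful representation `rho`. -/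

set_option Elab.async false
set_option linter.constructorNameAsVariable false
set_option maxRecDepth 8000

namespace H15.Th
open Cfsg.Spor Cfsg.Spor.Th H14

/-- the inverses of the involutions are replaced -/
def posw (w : List ℕ) : List ℕ := fr (rep 1 [0] (rep 3 [2] (rep 5 [4] (rep 7 [6] (rep 9 [8] w)))))
/-- the relators with the inverses of the involutions replaced -/
def pos (R : List (List ℕ)) : List (List ℕ) := R.map posw

theorem ev_pos {K : Type*} [Group K] {f : ℕ → K} {R : List (List ℕ)} (h : RelL f R)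
    (hc : [[0, 0], [2, 2], [4, 4], [6, 6], [8, 8]].all R.contains = true) (u : List ℕ) :
    ev (letter f) (posw u) = ev (letter f) u := by
  have h' : ∀ w ∈ [[0, 0], [2, 2], [4, 4], [6, 6], [8, 8]], ev (letter f) w = 1 := fun w hw =>
    h w (List.contains_iff_mem.1 (List.all_eq_true.1 hc w hw))
  rw [posw, ev_fr, ev_rep (h' [0, 0] (by decide)), ev_rep (h' [2, 2] (by decide)), ev_rep (h' [4, 4] (by decide)),
    ev_rep (h' [6, 6] (by decide)), ev_rep (h' [8, 8] (by decide))]

theorem rel_pos {K : Type*} [Group K] {f : ℕ → K} {R : List (List ℕ)} (h : RelL f R)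
    (hc : [[0, 0], [2, 2], [4, 4], [6, 6], [8, 8]].all R.contains = true) : RelL f (pos R) := fun w hw => by
  obtain ⟨u, hu, rfl⟩ := List.mem_map.1 hw
  rw [ev_pos h hc, h u hu]

theorem rel : RelL g (pos R0) := rel_pos rel0 (by decide +kernel)

section
variable {K : Type} [Group K] {f : ℕ → K} (h : RelL f (R0.take 27))
include h
theorem bd4 : Bd (Sw f [[0], [4], [6], [8]]) (1 * 96) :=
  bd_step TTh1.idx (rel_pos h (by decide +kernel)) [[0], [4], [6], [8]] (Bd.Sw_nil f) (by decide +kernel)
theorem bd5 : Bd (Sw f (lts 5)) (1 * 96 * 126) :=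
  bd_step TTh2.idx (rel_pos h (by decide +kernel)) [[0], [2], [4], [6], [8]] (bd4 h) (by decide +kernel)
theorem bd6 : Bd (Sw f (lts 6)) 211341312 :=
  bd_step TTh3.idx (rel_pos h (by decide +kernel)) [[0], [2], [4], [6], [8], [10], [11]] (bd5 h) (by decide +kernel)
theorem bd7 : Bd (Sw f (lts 7)) 634023936 :=
  bd_step TTh4.idx (rel_pos h (by decide +kernel)) [[0], [2], [4], [6], [8], [10], [11], [12], [13]] (bd6 h) (by decide +kernel)
end

/-- the permutation machines -/
noncomputable abbrev P := permPM 18019 ThH.nets (by decide) (by decide) ThH.nets_ok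
noncomputable abbrev Q := permPM 819 ThG.nets (by decide) (by decide) ThG.nets_ok
/-- the relators on `a, ..., t` -/
def rq : List (Word × Word) := (R0.take 27).map fun w => (w.reverse, [])

theorem qc0 : relsChk 18019 ThH.nets 15 (idArr 18019 15 15 0) (List.drop 0 rq) = true := by decide +kernel
theorem qd0 : relsChk 819 ThG.nets 10 (idArr 819 10 10 0) (List.drop 0 rq) = true := by decide +kernel
theorem rel2 : RelL (pr g P.gen) (R0.take 27) := RelL.pr (fun w hw => rel0 w (List.mem_of_mem_take hw))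
  (relL_of_rels (show Rels P.gen (List.drop 0 rq) from (P.rels_of_idArr (by decide) qc0)))
theorem rel3 : RelL (pr g Q.gen) (R0.take 27) := RelL.pr (fun w hw => rel0 w (List.mem_of_mem_take hw))
  (relL_of_rels (show Rels Q.gen (List.drop 0 rq) from (Q.rels_of_idArr (by decide) qd0)))

/-- the subgroup on `a, ..., t`, paired with its permutations -/
noncomputable abbrev Y := Sw (pr g P.gen) (lts 7)
noncomputable abbrev Y' := Sw (pr g Q.gen) (lts 7)

theorem ex_M : ∃ π : Y →* Equiv.Perm (Fin 18019), Function.Injective π ∧ Nat.card Y = 634023936 ∧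
    ∃ M : PM Y (Pt π) 18019 ThH.nets, (∀ l < 7, (M.gen l).1.1 = g l) ∧ ∀ l, π (M.gen l) = P.gen l :=
  DC.prod_machine g (fun _ hl => gen_mem_lts (pr g P.gen) hl) (bd7 rel2) ThH.dok ThH.dlen (ThH.relsD_ok P) (ThH.low P)
theorem ex_M' : ∃ π : Y' →* Equiv.Perm (Fin 819), Function.Injective π ∧ Nat.card Y' = 634023936 ∧
    ∃ M : PM Y' (Pt π) 819 ThG.nets, (∀ l < 7, (M.gen l).1.1 = g l) ∧ ∀ l, π (M.gen l) = Q.gen l :=
  DC.prod_machine g (fun _ hl => gen_mem_lts (pr g Q.gen) hl) (bd7 rel3) ThG.dok ThG.dlen (ThG.relsD_ok Q) (ThG.low Q)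

/-- the permutation representation -/
noncomputable def pi : Y →* Equiv.Perm (Fin 18019) := ex_M.choose
theorem pi_inj : Function.Injective pi := ex_M.choose_spec.1
theorem cardY : Nat.card Y = 634023936 := ex_M.choose_spec.2.1
instance instFaithful : FaithfulSMul Y (Pt pi) := faithful_Pt pi_inj
/-- the machine -/
noncomputable def M : PM Y (Pt pi) 18019 ThH.nets := ex_M.choose_spec.2.2.choose
/-- the embedding -/
noncomputable def theta : Y →* Cfsg.Spor.Th := (MonoidHom.fst _ _).comp Y.subtype
theorem theta_gen : ∀ l < 7, theta (M.gen l) = g l := ex_M.choose_spec.2.2.choose_spec.1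
theorem pi_gen (l : ℕ) : pi (M.gen l) = P.gen l := ex_M.choose_spec.2.2.choose_spec.2 l
theorem range_theta : theta.range = Sw g (lts 7) := by
  rw [theta, MonoidHom.range_comp, Subgroup.range_subtype, map_Sw]; rfl

/-- the permutation representation -/
noncomputable def pi' : Y' →* Equiv.Perm (Fin 819) := ex_M'.choose
theorem pi_inj' : Function.Injective pi' := ex_M'.choose_spec.1
theorem cardY' : Nat.card Y' = 634023936 := ex_M'.choose_spec.2.1
instance instFaithful' : FaithfulSMul Y' (Pt pi') := faithful_Pt pi_inj'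
/-- the machine -/
noncomputable def M' : PM Y' (Pt pi') 819 ThG.nets := ex_M'.choose_spec.2.2.choose
/-- the embedding -/
noncomputable def theta' : Y' →* Cfsg.Spor.Th := (MonoidHom.fst _ _).comp Y'.subtype
theorem theta_gen' : ∀ l < 7, theta' (M'.gen l) = g l := ex_M'.choose_spec.2.2.choose_spec.1
theorem pi_gen' (l : ℕ) : pi' (M'.gen l) = Q.gen l := ex_M'.choose_spec.2.2.choose_spec.2 l
theorem range_theta' : theta'.range = Sw g (lts 7) := by
  rw [theta', MonoidHom.range_comp, Subgroup.range_subtype, map_Sw]; rfl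

theorem top' : sub M'.gen ThG.lv0.gens = ⊤ :=
  (eq_of_low le_top (Bd.of_card_top cardY' (by decide)) (ThG.low M')).1
theorem hc' : Nat.card (sub M'.gen ThG.lv0.gens) = 634023936 := by rw [top', Subgroup.card_top, cardY']
theorem yc : relsChk 819 ThG.nets 10 (idArr 819 10 10 0) [(powW yw.reverse 13, [])] = true := by decide +kernel

theorem inj' : Function.Injective (rho.comp theta') :=
  inj_of_prim top' (ThG.lev0 M' hc').1 (ThG.trans M' hc') (ThG.max M' hc') (z := ev (letter M'.gen) yw) (m := 13)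
    (by rw [← ev14, ← ev_powW]; exact M'.rels_of_idArr (by decide) yc _ List.mem_cons_self)
    (by rw [(ThG.lev0 M' hc').2.1]; decide) _
    (by rw [MonoidHom.comp_apply, map_evL, evL_congr theta_gen' (by decide)]; exact y1)

theorem relR2 : RelL g R2 := relL_of_inj inj' (fun w hw => by
  rw [range_theta', ← ev_pos rel0 (by decide +kernel)]
  have h1 := mem_step TTh5.mem rel [[0], [4], [6], [8], [10], [11], [12], [13], [14], [15]] (lts 7) (by decide +kernel)
  have h2 := mem_step TTh6.mem rel [[0], [2], [4], [6], [8], [14], [15]] (lts 7) (by decide +kernel)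
  exact (List.mem_append.1 (List.contains_iff_mem.1 (List.all_eq_true.1 (by decide +kernel :
    R2.all (fun w => (_ ++ _ : List (List ℕ)).contains (posw w)) = true) w hw))).elim (h1 _) (h2 _)) rho_R2

theorem hyp : (∀ p ∈ ThX.gs, g 7 * theta (H14.ev M.gen p.1) = theta (H14.ev M.gen p.2) * g 7) ∧
    ∀ r ∈ [ThX.rb, ThX.ra] :: ThX.R1, DC.rw14 (fun w => theta (H14.ev M.gen w)) (g 7) r = 1 :=
  hyp_of_rels 7 theta_gen relR2 (by decide +kernel)

theorem hgen (X : Subgroup Cfsg.Spor.Th) (h : theta.range ≤ X) (ht : g 7 ∈ X) : X = ⊤ := by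
  rw [eq_top_iff, ← top8]
  refine lts_le fun l hl => ?_
  rcases Nat.lt_succ_iff_lt_or_eq.1 hl with hl | rfl
  · exact h ⟨_, theta_gen l hl⟩
  · exact ht

theorem hncl (X : Subgroup Cfsg.Spor.Th) (hX : X.Normal) (h : ev (letter g) zw ∈ X) : X = ⊤ := by
  have e : zw = [12] ++ ([10, 15, 6] ++ [14] ++ iw [10, 15, 6]) := by decide
  rw [e, ev_append, ev_append, ev_append, ev_iw] at h
  have h1 := (mem_of_coprime (p := 3) (r := 4) (by rw [← ev_powL]; exact rel0.fr (by decide +kernel))
    (by rw [← ev_powL]; exact (rel_step TTh7.mem rel [[0], [4], [6], [8], [14], [15]] (by decide +kernel)).fr (by decide +kernel))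
    (by decide) h).1
  have h2 := mem_of_quot TTh8.mem rel (R' := [[12]]) (fa_cons h1 fa_nil) [[0], [2], [4], [6], [8], [10], [11], [12], [13], [14], [15]] (by decide +kernel)
  rw [eq_top_iff, ← top8]
  exact Sw_le fun w hw => (fa_cons h1 h2 : ∀ w ∈ [12] :: _, ev (letter g) w ∈ X) w (by revert w; decide +kernel)

theorem main : Function.Injective theta ∧ Function.Injective rho ∧ theta.range.index = 143127000 ∧
    Nat.card Cfsg.Spor.Th = 90745943887872000 ∧ IsSimpleGroup Cfsg.Spor.Th :=
  ThX.main M cardY hyp.1 hyp.2 hgen rho z5 z1 (by decide) hncl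

end H15.Th
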