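import Cfsg.Agent.H14.Dw2
import Cfsg.Agent.H15.Std5

/-! Standard machine: `alternatingGroup (Fin 11)`, generators the 3-cycles `0 ↦ 1 ↦ i ↦ 0`
Generated certificate (tools14/pkgen, tools15/std.py) for the permutation group StdAlt11 of degree 11, order 19958400, base 0 1 2 3 4 5 6 7 8. -/
set_option autoImplicit false
set_option maxRecDepth 100000

namespace H15.StdAlt11
open H14

noncomputable def n0 : Net := (.cons (nat_lit 1) (nat_lit 0x4)
(.cons (nat_lit 2) (nat_lit 0x2)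
(.cons (nat_lit 1) (nat_lit 0x5)
.nil)))
theorem n0_ok : Net.ok 11 n0 = true := by decide +kernel
noncomputable def n1 : Net := (.cons (nat_lit 2) (nat_lit 0x2)
(.cons (nat_lit 1) (nat_lit 0x1)
.nil))
theorem n1_ok : Net.ok 11 n1 = true := by decide +kernel
noncomputable def n2 : Net := (.cons (nat_lit 1) (nat_lit 0x10)
(.cons (nat_lit 4) (nat_lit 0x2)
(.cons (nat_lit 1) (nat_lit 0x11)
.nil)))
theorem n2_ok : Net.ok 11 n2 = true := by decide +kernel
noncomputable def n3 : Net := (.cons (nat_lit 4) (nat_lit 0x2)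
(.cons (nat_lit 1) (nat_lit 0x1)
.nil))
theorem n3_ok : Net.ok 11 n3 = true := by decide +kernel
noncomputable def n4 : Net := (.cons (nat_lit 1) (nat_lit 0x40)
(.cons (nat_lit 2) (nat_lit 0x20)
(.cons (nat_lit 4) (nat_lit 0x2)
(.cons (nat_lit 2) (nat_lit 0x20)
(.cons (nat_lit 1) (nat_lit 0x41)
.nil)))))
theorem n4_ok : Net.ok 11 n4 = true := by decide +kernel
noncomputable def n5 : Net := (.cons (nat_lit 2) (nat_lit 0x20)
(.cons (nat_lit 4) (nat_lit 0x2)
(.cons (nat_lit 2) (nat_lit 0x20)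
(.cons (nat_lit 1) (nat_lit 0x1)
.nil))))
theorem n5_ok : Net.ok 11 n5 = true := by decide +kernel
noncomputable def n6 : Net := (.cons (nat_lit 1) (nat_lit 0x100)
(.cons (nat_lit 8) (nat_lit 0x2)
(.cons (nat_lit 1) (nat_lit 0x101)
.nil)))
theorem n6_ok : Net.ok 11 n6 = true := by decide +kernel
noncomputable def n7 : Net := (.cons (nat_lit 8) (nat_lit 0x2)
(.cons (nat_lit 1) (nat_lit 0x1)
.nil))
theorem n7_ok : Net.ok 11 n7 = true := by decide +kernel
noncomputable def n8 : Net := (.cons (nat_lit 1) (nat_lit 0x1)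
(.cons (nat_lit 2) (nat_lit 0x100)
(.cons (nat_lit 8) (nat_lit 0x1)
(.cons (nat_lit 2) (nat_lit 0x100)
.nil))))
theorem n8_ok : Net.ok 11 n8 = true := by decide +kernel
noncomputable def n9 : Net := (.cons (nat_lit 1) (nat_lit 0x140)
(.cons (nat_lit 2) (nat_lit 0x130)
(.cons (nat_lit 8) (nat_lit 0x6)
(.cons (nat_lit 4) (nat_lit 0x6)
(.cons (nat_lit 2) (nat_lit 0x130)
(.cons (nat_lit 1) (nat_lit 0x50)
.nil))))))
theorem n9_ok : Net.ok 11 n9 = true := by decide +kernel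
noncomputable def n10 : Net := (.cons (nat_lit 1) (nat_lit 0x114)
(.cons (nat_lit 2) (nat_lit 0x100)
(.cons (nat_lit 4) (nat_lit 0x2)
(.cons (nat_lit 8) (nat_lit 0x6)
(.cons (nat_lit 4) (nat_lit 0x2)
(.cons (nat_lit 2) (nat_lit 0x2)
(.cons (nat_lit 1) (nat_lit 0x10)
.nil)))))))
theorem n10_ok : Net.ok 11 n10 = true := by decide +kernel
noncomputable def n11 : Net := (.cons (nat_lit 2) (nat_lit 0x20)
(.cons (nat_lit 4) (nat_lit 0x2)
(.cons (nat_lit 2) (nat_lit 0x30)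
.nil)))
theorem n11_ok : Net.ok 11 n11 = true := by decide +kernel
noncomputable def n12 : Net := (.cons (nat_lit 1) (nat_lit 0x140)
(.cons (nat_lit 2) (nat_lit 0x100)
(.cons (nat_lit 4) (nat_lit 0x6)
(.cons (nat_lit 8) (nat_lit 0x6)
(.cons (nat_lit 4) (nat_lit 0x6)
(.cons (nat_lit 2) (nat_lit 0x30)
(.cons (nat_lit 1) (nat_lit 0x144)
.nil)))))))
theorem n12_ok : Net.ok 11 n12 = true := by decide +kernel
noncomputable def n13 : Net := (.cons (nat_lit 2) (nat_lit 0x110)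
(.cons (nat_lit 4) (nat_lit 0x6)
(.cons (nat_lit 8) (nat_lit 0x6)
(.cons (nat_lit 4) (nat_lit 0x2)
(.cons (nat_lit 2) (nat_lit 0x120)
(.cons (nat_lit 1) (nat_lit 0x10)
.nil))))))
theorem n13_ok : Net.ok 11 n13 = true := by decide +kernel
noncomputable def n14 : Net := (.cons (nat_lit 1) (nat_lit 0x10)
(.cons (nat_lit 2) (nat_lit 0x2)
(.cons (nat_lit 4) (nat_lit 0x7)
(.cons (nat_lit 8) (nat_lit 0x7)
(.cons (nat_lit 4) (nat_lit 0x5)
(.cons (nat_lit 2) (nat_lit 0x102)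
(.cons (nat_lit 1) (nat_lit 0x50)
.nil)))))))
theorem n14_ok : Net.ok 11 n14 = true := by decide +kernel
noncomputable def n15 : Net := (.cons (nat_lit 1) (nat_lit 0x10)
(.cons (nat_lit 2) (nat_lit 0x2)
(.cons (nat_lit 4) (nat_lit 0x1)
(.cons (nat_lit 8) (nat_lit 0x3)
(.cons (nat_lit 4) (nat_lit 0x3)
(.cons (nat_lit 2) (nat_lit 0x112)
(.cons (nat_lit 1) (nat_lit 0x140)
.nil)))))))
theorem n15_ok : Net.ok 11 n15 = true := by decide +kernel
noncomputable def n16 : Net := (.cons (nat_lit 2) (nat_lit 0x100)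
(.cons (nat_lit 4) (nat_lit 0x4)
(.cons (nat_lit 8) (nat_lit 0x4)
(.cons (nat_lit 4) (nat_lit 0x4)
(.cons (nat_lit 2) (nat_lit 0x30)
(.cons (nat_lit 1) (nat_lit 0x140)
.nil))))))
theorem n16_ok : Net.ok 11 n16 = true := by decide +kernel
noncomputable def n17 : Net := (.cons (nat_lit 1) (nat_lit 0x10)
(.cons (nat_lit 2) (nat_lit 0x20)
(.cons (nat_lit 4) (nat_lit 0x6)
(.cons (nat_lit 8) (nat_lit 0x6)
(.cons (nat_lit 4) (nat_lit 0x6)
(.cons (nat_lit 2) (nat_lit 0x130)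
(.cons (nat_lit 1) (nat_lit 0x100)
.nil)))))))
theorem n17_ok : Net.ok 11 n17 = true := by decide +kernel
noncomputable def n18 : Net := (.cons (nat_lit 1) (nat_lit 0x110)
(.cons (nat_lit 2) (nat_lit 0x20)
(.cons (nat_lit 4) (nat_lit 0x6)
(.cons (nat_lit 8) (nat_lit 0x6)
(.cons (nat_lit 4) (nat_lit 0x6)
(.cons (nat_lit 2) (nat_lit 0x30)
(.cons (nat_lit 1) (nat_lit 0x150)
.nil)))))))
theorem n18_ok : Net.ok 11 n18 = true := by decide +kernel
noncomputable def n19 : Net := (.cons (nat_lit 2) (nat_lit 0x20)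
(.cons (nat_lit 4) (nat_lit 0x2)
(.cons (nat_lit 8) (nat_lit 0x2)
(.cons (nat_lit 4) (nat_lit 0x2)
(.cons (nat_lit 2) (nat_lit 0x20)
(.cons (nat_lit 1) (nat_lit 0x40)
.nil))))))
theorem n19_ok : Net.ok 11 n19 = true := by decide +kernel
noncomputable def n20 : Net := (.cons (nat_lit 1) (nat_lit 0x100)
(.cons (nat_lit 2) (nat_lit 0x20)
(.cons (nat_lit 4) (nat_lit 0x2)
(.cons (nat_lit 8) (nat_lit 0x2)
(.cons (nat_lit 4) (nat_lit 0x2)
(.cons (nat_lit 2) (nat_lit 0x120)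
(.cons (nat_lit 1) (nat_lit 0x40)
.nil)))))))
theorem n20_ok : Net.ok 11 n20 = true := by decide +kernel
noncomputable def n21 : Net := (.cons (nat_lit 1) (nat_lit 0x100)
(.cons (nat_lit 2) (nat_lit 0x100)
.nil))
theorem n21_ok : Net.ok 11 n21 = true := by decide +kernel
noncomputable def n22 : Net := (.cons (nat_lit 1) (nat_lit 0x40)
(.cons (nat_lit 2) (nat_lit 0x100)
(.cons (nat_lit 4) (nat_lit 0x4)
(.cons (nat_lit 8) (nat_lit 0x4)
(.cons (nat_lit 4) (nat_lit 0x4)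
(.cons (nat_lit 1) (nat_lit 0x40)
.nil))))))
theorem n22_ok : Net.ok 11 n22 = true := by decide +kernel
noncomputable def nets : List Net := [n0, n1, n2, n3, n4, n5, n6, n7, n8, n9, n10, n11, n12, n13, n14, n15, n16, n17, n18, n19, n20, n21, n22]
theorem nets_ok : netsOk 11 nets = true := List.all_eq_true.2 (fa_cons n0_ok (fa_cons n1_ok (fa_cons n2_ok (fa_cons n3_ok (fa_cons n4_ok (fa_cons n5_ok (fa_cons n6_ok (fa_cons n7_ok (fa_cons n8_ok (fa_cons n9_ok (fa_cons n10_ok (fa_cons n11_ok (fa_cons n12_ok (fa_cons n13_ok (fa_cons n14_ok (fa_cons n15_ok (fa_cons n16_ok (fa_cons n17_ok (fa_cons n18_ok (fa_cons n19_ok (fa_cons n20_ok (fa_cons n21_ok (fa_cons n22_ok (fa_nil))))))))))))))))))))))))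
noncomputable def ws9 : List Word := []
noncomputable def lev8 : Level := ⟨nat_lit 8,
[⟨[nat_lit 42], [], [],
[⟨nat_lit 0, [], nat_lit 1, [], []⟩,
⟨nat_lit 1, [], nat_lit 2, [], []⟩,
⟨nat_lit 2, [], nat_lit 0, [], []⟩],
[]⟩],
[⟨dw (nat_lit 0x01), (nat_lit 0x200), [], .nil, []⟩,
⟨dw (nat_lit 0x02), (nat_lit 0x400), [], .nil, []⟩]⟩
noncomputable def ex8 : List Word := []
noncomputable def ws8 : List Word := List.append ex8 (lev8.gens ws9)
noncomputable def rels8 : List (Word × Word) := List.append (lev8.rels ws9) (memRels (lev8.gens ws9) ex8 [])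
noncomputable def lev7 : Level := ⟨nat_lit 7,
[⟨[nat_lit 44], [], [],
[⟨nat_lit 0, [], nat_lit 1, [], []⟩,
⟨nat_lit 1, [], nat_lit 1, dw (nat_lit 0x01), dw (nat_lit 0x01)⟩,
⟨nat_lit 1, dw (nat_lit 0x01), nat_lit 0, [], dw (nat_lit 0x02)⟩,
⟨nat_lit 1, dw (nat_lit 0x02), nat_lit 1, dw (nat_lit 0x02), dw (nat_lit 0x02)⟩],
[]⟩],
[⟨dw (nat_lit 0x01), (nat_lit 0x700), [dw (nat_lit 0x01), dw (nat_lit 0x01)], .nil, []⟩]⟩
noncomputable def ex7 : List Word := []
noncomputable def ws7 : List Word := List.append ex7 (lev7.gens ws8)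
noncomputable def rels7 : List (Word × Word) := List.append (lev7.rels ws8) (memRels (lev7.gens ws8) ex7 [])
noncomputable def lev6 : Level := ⟨nat_lit 6,
[⟨[nat_lit 38], [dw (nat_lit 0x01)], [dw (nat_lit 0x03)],
[⟨nat_lit 0, [], nat_lit 1, [], []⟩,
⟨nat_lit 1, [], nat_lit 1, dw (nat_lit 0x0401), dw (nat_lit 0x0401)⟩,
⟨nat_lit 1, dw (nat_lit 0x0401), nat_lit 0, [], dw (nat_lit 0x0203)⟩],
[dw (nat_lit 0x01), dw (nat_lit 0x01)]⟩],
[⟨dw (nat_lit 0x01), (nat_lit 0x780), [dw (nat_lit 0x01), dw (nat_lit 0x0204)], (.cons (nat_lit 8) [dw (nat_lit 0x03)] [dw (nat_lit 0x01), dw (nat_lit 0x01)]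
.nil), [dw (nat_lit 0x01)]⟩]⟩
noncomputable def ex6 : List Word := [[nat_lit 40]]
noncomputable def ws6 : List Word := List.append ex6 (lev6.gens ws7)
noncomputable def rels6 : List (Word × Word) := List.append (lev6.rels ws7) (memRels (lev6.gens ws7) ex6 [dw (nat_lit 0x0105)])
noncomputable def lev5 : Level := ⟨nat_lit 5,
[⟨[nat_lit 36], [dw (nat_lit 0x03), dw (nat_lit 0x0607)], [dw (nat_lit 0x07), dw (nat_lit 0x040805)],
[⟨nat_lit 0, [], nat_lit 1, [], []⟩,
⟨nat_lit 1, [], nat_lit 1, dw (nat_lit 0x06), dw (nat_lit 0x0501080508)⟩,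
⟨nat_lit 1, dw (nat_lit 0x05), nat_lit 0, [], dw (nat_lit 0x06)⟩],
[dw (nat_lit 0x01), dw (nat_lit 0x01), dw (nat_lit 0x03)]⟩],
[⟨dw (nat_lit 0x01), (nat_lit 0x7c0), [dw (nat_lit 0x01), dw (nat_lit 0x0202), dw (nat_lit 0x01)], (.cons (nat_lit 6) [dw (nat_lit 0x060101)] [dw (nat_lit 0x01), dw (nat_lit 0x03), dw (nat_lit 0x03)]
(.cons (nat_lit 8) [dw (nat_lit 0x07)] [dw (nat_lit 0x01), dw (nat_lit 0x01)]
.nil)), [dw (nat_lit 0x02080508), dw (nat_lit 0x0108)]⟩]⟩
noncomputable def ex5 : List Word := []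
noncomputable def ws5 : List Word := List.append ex5 (lev5.gens ws6)
noncomputable def rels5 : List (Word × Word) := List.append (lev5.rels ws6) (memRels (lev5.gens ws6) ex5 [])
noncomputable def lev4 : Level := ⟨nat_lit 4,
[⟨[nat_lit 32], [dw (nat_lit 0x0203), dw (nat_lit 0x05), dw (nat_lit 0x0908)], [dw (nat_lit 0x010106070a), dw (nat_lit 0x0101030a070a), dw (nat_lit 0x0101030a07)],
[⟨nat_lit 0, [], nat_lit 1, [], []⟩,
⟨nat_lit 1, [], nat_lit 1, dw (nat_lit 0x02), dw (nat_lit 0x010809)⟩,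
⟨nat_lit 1, dw (nat_lit 0x01), nat_lit 0, [], dw (nat_lit 0x0301030a070a)⟩],
[dw (nat_lit 0x03), dw (nat_lit 0x03), dw (nat_lit 0x01), dw (nat_lit 0x01)]⟩],
[⟨dw (nat_lit 0x01), (nat_lit 0x7e0), [dw (nat_lit 0x01), dw (nat_lit 0x03), dw (nat_lit 0x0202)], (.cons (nat_lit 5) [dw (nat_lit 0x0701)] [dw (nat_lit 0x01), dw (nat_lit 0x05), dw (nat_lit 0x05), dw (nat_lit 0x01)]
(.cons (nat_lit 6) [dw (nat_lit 0x080303)] [dw (nat_lit 0x01), dw (nat_lit 0x03), dw (nat_lit 0x03)]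
(.cons (nat_lit 8) [dw (nat_lit 0x09)] [dw (nat_lit 0x01), dw (nat_lit 0x01)]
.nil))), [dw (nat_lit 0x0301040a07), dw (nat_lit 0x0203070a), dw (nat_lit 0x060a0709)]⟩]⟩
noncomputable def ex4 : List Word := [[nat_lit 34]]
noncomputable def ws4 : List Word := List.append ex4 (lev4.gens ws5)
noncomputable def rels4 : List (Word × Word) := List.append (lev4.rels ws5) (memRels (lev4.gens ws5) ex4 [dw (nat_lit 0x01010306)])
noncomputable def lev3 : Level := ⟨nat_lit 3,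
[⟨[nat_lit 28], [dw (nat_lit 0x0307), dw (nat_lit 0x05), dw (nat_lit 0x080d)], [dw (nat_lit 0x050b07), dw (nat_lit 0x05050c), dw (nat_lit 0x0805080b0e)],
[⟨nat_lit 0, [], nat_lit 1, [], []⟩,
⟨nat_lit 1, [], nat_lit 1, dw (nat_lit 0x0302), dw (nat_lit 0x030205080b)⟩,
⟨nat_lit 1, dw (nat_lit 0x0302), nat_lit 0, [], dw (nat_lit 0x03060b070e)⟩],
[dw (nat_lit 0x01), dw (nat_lit 0x03), dw (nat_lit 0x0303), dw (nat_lit 0x03)]⟩],
[⟨dw (nat_lit 0x01), (nat_lit 0x7f0), [dw (nat_lit 0x01), dw (nat_lit 0x03), dw (nat_lit 0x01), dw (nat_lit 0x01)], (.cons (nat_lit 5) [dw (nat_lit 0x05)] [dw (nat_lit 0x01), dw (nat_lit 0x0202), dw (nat_lit 0x03)]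
(.cons (nat_lit 6) [dw (nat_lit 0x07)] [dw (nat_lit 0x01), dw (nat_lit 0x0204), dw (nat_lit 0x01)]
(.cons (nat_lit 7) [dw (nat_lit 0x0b)] [dw (nat_lit 0x01), dw (nat_lit 0x0204)]
(.cons (nat_lit 8) [dw (nat_lit 0x0d)] [dw (nat_lit 0x01), dw (nat_lit 0x01)]
.nil)))), [dw (nat_lit 0x05050b070c0d), dw (nat_lit 0x010a0c0d), dw (nat_lit 0x0805070e), dw (nat_lit 0x010b070e)]⟩]⟩
noncomputable def ex3 : List Word := [[nat_lit 30]]
noncomputable def ws3 : List Word := List.append ex3 (lev3.gens ws4)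
noncomputable def rels3 : List (Word × Word) := List.append (lev3.rels ws4) (memRels (lev3.gens ws4) ex3 [dw (nat_lit 0x06010504080c)])
noncomputable def lev2 : Level := ⟨nat_lit 2,
[⟨[nat_lit 24], [dw (nat_lit 0x05), dw (nat_lit 0x09), dw (nat_lit 0x0b)], [dw (nat_lit 0x060b120f11), dw (nat_lit 0x0b090f0b120f), dw (nat_lit 0x07060b090f12)],
[⟨nat_lit 0, [], nat_lit 1, [], []⟩,
⟨nat_lit 1, [], nat_lit 0, [], dw (nat_lit 0x060b090e1011)⟩,
⟨nat_lit 1, dw (nat_lit 0x04), nat_lit 1, dw (nat_lit 0x02), dw (nat_lit 0x0301080c090b12)⟩],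
[dw (nat_lit 0x01), dw (nat_lit 0x0606), dw (nat_lit 0x0504), dw (nat_lit 0x01)]⟩],
[⟨dw (nat_lit 0x01), (nat_lit 0x7f8), [dw (nat_lit 0x01), dw (nat_lit 0x03), dw (nat_lit 0x01), dw (nat_lit 0x01)], (.cons (nat_lit 4) [dw (nat_lit 0x05)] [dw (nat_lit 0x01), dw (nat_lit 0x0101), dw (nat_lit 0x03), dw (nat_lit 0x01)]
(.cons (nat_lit 5) [dw (nat_lit 0x09)] [dw (nat_lit 0x01), dw (nat_lit 0x0301), dw (nat_lit 0x01)]
(.cons (nat_lit 6) [dw (nat_lit 0x0b)] [dw (nat_lit 0x01), dw (nat_lit 0x0202), dw (nat_lit 0x01)]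
(.cons (nat_lit 7) [dw (nat_lit 0x0f)] [dw (nat_lit 0x01), dw (nat_lit 0x0204)]
(.cons (nat_lit 8) [dw (nat_lit 0x11)] [dw (nat_lit 0x01), dw (nat_lit 0x01)]
.nil))))), [dw (nat_lit 0x050b090c120f), dw (nat_lit 0x05090f11), dw (nat_lit 0x060a0e0f11), dw (nat_lit 0x0709090f11), dw (nat_lit 0x0a0f0b0f12)]⟩]⟩
noncomputable def ex2 : List Word := [[nat_lit 26]]
noncomputable def ws2 : List Word := List.append ex2 (lev2.gens ws3)
noncomputable def rels2 : List (Word × Word) := List.append (lev2.rels ws3) (memRels (lev2.gens ws3) ex2 [dw (nat_lit 0x010301080d0b110d1213)])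
noncomputable def lev1 : Level := ⟨nat_lit 1,
[⟨[nat_lit 18], [dw (nat_lit 0x0203), dw (nat_lit 0x050f), dw (nat_lit 0x0c0d)], [dw (nat_lit 0x0101050909121316), dw (nat_lit 0x03050c0f16), dw (nat_lit 0x010c0f0d130f15)],
[⟨nat_lit 0, [], nat_lit 1, [], []⟩,
⟨nat_lit 1, [], nat_lit 1, dw (nat_lit 0x02), dw (nat_lit 0x09010a0d10161316)⟩,
⟨nat_lit 1, dw (nat_lit 0x0a), nat_lit 0, [], dw (nat_lit 0x060106090d0d10161315)⟩],
[dw (nat_lit 0x01), dw (nat_lit 0x0101), dw (nat_lit 0x01), dw (nat_lit 0x03), dw (nat_lit 0x0502)]⟩],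
[⟨dw (nat_lit 0x01), (nat_lit 0x7fc), [dw (nat_lit 0x01), dw (nat_lit 0x03), dw (nat_lit 0x05), dw (nat_lit 0x03)], (.cons (nat_lit 2) [dw (nat_lit 0x0105)] [dw (nat_lit 0x01), dw (nat_lit 0x07), dw (nat_lit 0x01), dw (nat_lit 0x01), dw (nat_lit 0x01)]
(.cons (nat_lit 3) [dw (nat_lit 0x050f)] [dw (nat_lit 0x01), dw (nat_lit 0x05), dw (nat_lit 0x03), dw (nat_lit 0x01)]
(.cons (nat_lit 4) [dw (nat_lit 0x0b0f)] [dw (nat_lit 0x01), dw (nat_lit 0x03), dw (nat_lit 0x0404), dw (nat_lit 0x03)]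
(.cons (nat_lit 5) [dw (nat_lit 0x0d)] [dw (nat_lit 0x01), dw (nat_lit 0x0101), dw (nat_lit 0x01)]
(.cons (nat_lit 6) [dw (nat_lit 0x1015)] [dw (nat_lit 0x01), dw (nat_lit 0x03), dw (nat_lit 0x03)]
(.cons (nat_lit 7) [dw (nat_lit 0x13)] [dw (nat_lit 0x01), dw (nat_lit 0x01)]
.nil)))))), [dw (nat_lit 0x01010809090d0d1013), dw (nat_lit 0x010106090d1216), dw (nat_lit 0x0b010d101613), dw (nat_lit 0x020c0d0d0f13), dw (nat_lit 0x0601060c0d0d101613), dw (nat_lit 0x0601060c0d0d101315)]⟩]⟩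
noncomputable def ex1 : List Word := [[nat_lit 20], [nat_lit 22]]
noncomputable def ws1 : List Word := List.append ex1 (lev1.gens ws2)
noncomputable def rels1 : List (Word × Word) := List.append (lev1.rels ws2) (memRels (lev1.gens ws2) ex1 [dw (nat_lit 0x09010309070e15111815), dw (nat_lit 0x03010f0f15111518)])
noncomputable def lev0 : Level := ⟨nat_lit 0,
[⟨[nat_lit 0], [dw (nat_lit 0x03), dw (nat_lit 0x0b), dw (nat_lit 0x0f)], [dw (nat_lit 0x0c070c0f0f181c), dw (nat_lit 0x0b), dw (nat_lit 0x0f)],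
[⟨nat_lit 0, [], nat_lit 1, [], []⟩,
⟨nat_lit 1, [], nat_lit 1, dw (nat_lit 0x02), dw (nat_lit 0x0211070d0b11181c191c)⟩,
⟨nat_lit 1, dw (nat_lit 0x02), nat_lit 0, [], dw (nat_lit 0x05070b0b14161c191c)⟩],
[dw (nat_lit 0x01), dw (nat_lit 0x03), dw (nat_lit 0x05), dw (nat_lit 0x03), dw (nat_lit 0x03)]⟩],
[⟨dw (nat_lit 0x01), (nat_lit 0x7fe), [dw (nat_lit 0x01), dw (nat_lit 0x0101), dw (nat_lit 0x09), dw (nat_lit 0x0b)], (.cons (nat_lit 2) [dw (nat_lit 0x07)] [dw (nat_lit 0x01), dw (nat_lit 0x0101), dw (nat_lit 0x03), dw (nat_lit 0x01), dw (nat_lit 0x03)]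
(.cons (nat_lit 3) [dw (nat_lit 0x0b)] [dw (nat_lit 0x01), dw (nat_lit 0x0202), dw (nat_lit 0x03), dw (nat_lit 0x01)]
(.cons (nat_lit 4) [dw (nat_lit 0x0f)] [dw (nat_lit 0x01), dw (nat_lit 0x0401), dw (nat_lit 0x03), dw (nat_lit 0x01)]
(.cons (nat_lit 5) [dw (nat_lit 0x13)] [dw (nat_lit 0x01), dw (nat_lit 0x0301), dw (nat_lit 0x01)]
(.cons (nat_lit 6) [dw (nat_lit 0x15)] [dw (nat_lit 0x01), dw (nat_lit 0x0203), dw (nat_lit 0x01)]
(.cons (nat_lit 7) [dw (nat_lit 0x19)] [dw (nat_lit 0x01), dw (nat_lit 0x0301)]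
(.cons (nat_lit 8) [dw (nat_lit 0x1b)] [dw (nat_lit 0x01), dw (nat_lit 0x01)]
.nil))))))), [dw (nat_lit 0x06080f16131819), dw (nat_lit 0x0b), dw (nat_lit 0x0f), dw (nat_lit 0x13), dw (nat_lit 0x15), dw (nat_lit 0x19), dw (nat_lit 0x1b)]⟩]⟩
noncomputable def ex0 : List Word := [[nat_lit 2], [nat_lit 4], [nat_lit 6], [nat_lit 8], [nat_lit 10], [nat_lit 12], [nat_lit 14], [nat_lit 16]]
noncomputable def ws0 : List Word := List.append ex0 (lev0.gens ws1)
noncomputable def rels0 : List (Word × Word) := List.append (lev0.rels ws1) (memRels (lev0.gens ws1) ex0 [dw (nat_lit 0x0103101115151b171c1e), dw (nat_lit 0x010e03110d1315151a1c1d), dw (nat_lit 0x0113050e090e111715171e1b), dw (nat_lit 0x010811091417151d), dw (nat_lit 0x01050e090e11111a1e), dw (nat_lit 0x010d030d131a1e1b), dw (nat_lit 0x0107091111161d), dw (nat_lit 0x01030311090d11111715171e1b1d)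
])
noncomputable def rels : List (Word × Word) := List.append rels0 (List.append rels1 (List.append rels2 (List.append rels3 (List.append rels4 (List.append rels5 (List.append rels6 (List.append rels7 (List.append rels8 ([])))))))))
noncomputable def defs : List Word := [dw (nat_lit 0x090e080f050502080905), dw (nat_lit 0x020f061104120d12), dw (nat_lit 0x090b06060a), dw (nat_lit 0x131716141417131315151416), dw (nat_lit 0x181418), dw (nat_lit 0x1c1a1b191c), dw (nat_lit 0x1c1a1b1b1a1a1a1a), dw (nat_lit 0x1d1d1d201d201d)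
, dw (nat_lit 0x1e1f1d1f1f), dw (nat_lit 0x2422232121), dw (nat_lit 0x2424222421232223), dw (nat_lit 0x27252726), dw (nat_lit 0x272729), dw (nat_lit 0x272927)]
noncomputable def relsD : List (Word × Word) := defRels defs 9
noncomputable def relsO : List (Word × Word) := memRels ws0 (lets 9) [dw (nat_lit 0x0114231922252a2e2b2e), dw (nat_lit 0x01), dw (nat_lit 0x011e1321191d212125252b272b2e), dw (nat_lit 0x0123151d1d2825272b2d), dw (nat_lit 0x01181a1d1d24252b2d), dw (nat_lit 0x01151d1d2427252b272d), dw (nat_lit 0x011d1321191d23252b2e), dw (nat_lit 0x01171d19202225252b)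
, dw (nat_lit 0x0113131d19211d232228252b272e2b2d)]
noncomputable def relsS : List (Word × Word) := []
noncomputable def allRels : List (Word × Word) := List.append rels (List.append relsD (List.append relsO relsS))
theorem chk8 : lev8.chk 11 nets ws9 1 3 = true := by decide +kernel
theorem chk7 : lev7.chk 11 nets ws8 3 12 = true := by decide +kernel
theorem chk6 : lev6.chk 11 nets ws7 12 60 = true := by decide +kernel
theorem chk5 : lev5.chk 11 nets ws6 60 360 = true := by decide +kernel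
theorem chk4 : lev4.chk 11 nets ws5 360 2520 = true := by decide +kernel
theorem chk3 : lev3.chk 11 nets ws4 2520 20160 = true := by decide +kernel
theorem chk2 : lev2.chk 11 nets ws3 20160 181440 = true := by decide +kernel
theorem chk1 : lev1.chk 11 nets ws2 181440 1814400 = true := by decide +kernel
theorem chk0 : lev0.chk 11 nets ws1 1814400 19958400 = true := by decide +kernel
theorem rc0 : relsChk 11 nets 4 (idArr 11 4 4 0) allRels = true := by decide +kernel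
section
variable {Γ Ω : Type*} [Group Γ] [MulAction Γ Ω] (M : PM Γ Ω 11 nets)

theorem all_ok (hs : M.Sep 4 (idArr 11 4 4 0)) : Rels M.gen allRels := (M.rels_of_chk hs rc0)
theorem sep [FaithfulSMul Γ Ω] : M.Sep 4 (idArr 11 4 4 0) := M.sep_idArr (by decide)
theorem all_ok' [FaithfulSMul Γ Ω] : Rels M.gen allRels := all_ok M (sep M)
theorem rels_of_all {gen : ℕ → Γ} (h : Rels gen allRels) : Rels gen rels := Rels.left h
theorem relsD_of_all {gen : ℕ → Γ} (h : Rels gen allRels) : Rels gen relsD := Rels.left (Rels.right h)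
theorem relsO_of_all {gen : ℕ → Γ} (h : Rels gen allRels) : Rels gen relsO := Rels.left (Rels.right (Rels.right h))
theorem relsS_of_all {gen : ℕ → Γ} (h : Rels gen allRels) : Rels gen relsS := Rels.right (Rels.right (Rels.right h))
theorem card9 (_hR : Rels M.gen rels) : Nat.card (sub M.gen ws9) = 1 := M.card_nil
theorem fixw9 (_hR : Rels M.gen rels) : M.FixTriv ws9 [] := M.fixTriv_nil
theorem r8 (hR : Rels M.gen rels) : Rels M.gen rels8 := (Rels.left (Rels.right (Rels.right (Rels.right (Rels.right (Rels.right (Rels.right (Rels.right (Rels.right hR)))))))))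
theorem res8 (hR : Rels M.gen rels) : M.LevelRes ws9 lev8 3 := M.level (card9 M hR) chk8 (Rels.left (r8 M hR))
theorem ext8 (hR : Rels M.gen rels) : sub M.gen ws8 = sub M.gen (lev8.gens ws9) := sub_extend (Rels.right (r8 M hR))
theorem card8 (hR : Rels M.gen rels) : Nat.card (sub M.gen ws8) = 3 := by rw [ext8 M hR]; exact (res8 M hR).card
theorem fix8 (hR : Rels M.gen rels) : M.FixTriv (lev8.gens ws9) [8] := (res8 M hR).fixTriv M (fixw9 M hR)
theorem fixw8 (hR : Rels M.gen rels) : M.FixTriv ws8 [8] := fun g hg => fix8 M hR g (ext8 M hR ▸ hg)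
theorem stab8 (hR : Rels M.gen rels) : sub M.gen ws8 ⊓ MulAction.stabilizer Γ (M.dec 8) = sub M.gen ws9 := by rw [ext8 M hR]; exact (res8 M hR).stab
theorem orb8 (hR : Rels M.gen rels) (y : Ω) : y ∈ M.S lev8.orb ↔ ∃ g ∈ sub M.gen ws8, g • M.dec 8 = y := by rw [ext8 M hR]; exact (res8 M hR).orb y
theorem r7 (hR : Rels M.gen rels) : Rels M.gen rels7 := (Rels.left (Rels.right (Rels.right (Rels.right (Rels.right (Rels.right (Rels.right (Rels.right hR))))))))
theorem res7 (hR : Rels M.gen rels) : M.LevelRes ws8 lev7 12 := M.level (card8 M hR) chk7 (Rels.left (r7 M hR))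
theorem ext7 (hR : Rels M.gen rels) : sub M.gen ws7 = sub M.gen (lev7.gens ws8) := sub_extend (Rels.right (r7 M hR))
theorem card7 (hR : Rels M.gen rels) : Nat.card (sub M.gen ws7) = 12 := by rw [ext7 M hR]; exact (res7 M hR).card
theorem fix7 (hR : Rels M.gen rels) : M.FixTriv (lev7.gens ws8) [7, 8] := (res7 M hR).fixTriv M (fixw8 M hR)
theorem fixw7 (hR : Rels M.gen rels) : M.FixTriv ws7 [7, 8] := fun g hg => fix7 M hR g (ext7 M hR ▸ hg)
theorem stab7 (hR : Rels M.gen rels) : sub M.gen ws7 ⊓ MulAction.stabilizer Γ (M.dec 7) = sub M.gen ws8 := by rw [ext7 M hR]; exact (res7 M hR).stab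
theorem orb7 (hR : Rels M.gen rels) (y : Ω) : y ∈ M.S lev7.orb ↔ ∃ g ∈ sub M.gen ws7, g • M.dec 7 = y := by rw [ext7 M hR]; exact (res7 M hR).orb y
theorem r6 (hR : Rels M.gen rels) : Rels M.gen rels6 := (Rels.left (Rels.right (Rels.right (Rels.right (Rels.right (Rels.right (Rels.right hR)))))))
theorem res6 (hR : Rels M.gen rels) : M.LevelRes ws7 lev6 60 := M.level (card7 M hR) chk6 (Rels.left (r6 M hR))
theorem ext6 (hR : Rels M.gen rels) : sub M.gen ws6 = sub M.gen (lev6.gens ws7) := sub_extend (Rels.right (r6 M hR))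
theorem card6 (hR : Rels M.gen rels) : Nat.card (sub M.gen ws6) = 60 := by rw [ext6 M hR]; exact (res6 M hR).card
theorem fix6 (hR : Rels M.gen rels) : M.FixTriv (lev6.gens ws7) [6, 7, 8] := (res6 M hR).fixTriv M (fixw7 M hR)
theorem fixw6 (hR : Rels M.gen rels) : M.FixTriv ws6 [6, 7, 8] := fun g hg => fix6 M hR g (ext6 M hR ▸ hg)
theorem stab6 (hR : Rels M.gen rels) : sub M.gen ws6 ⊓ MulAction.stabilizer Γ (M.dec 6) = sub M.gen ws7 := by rw [ext6 M hR]; exact (res6 M hR).stab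
theorem orb6 (hR : Rels M.gen rels) (y : Ω) : y ∈ M.S lev6.orb ↔ ∃ g ∈ sub M.gen ws6, g • M.dec 6 = y := by rw [ext6 M hR]; exact (res6 M hR).orb y
theorem r5 (hR : Rels M.gen rels) : Rels M.gen rels5 := (Rels.left (Rels.right (Rels.right (Rels.right (Rels.right (Rels.right hR))))))
theorem res5 (hR : Rels M.gen rels) : M.LevelRes ws6 lev5 360 := M.level (card6 M hR) chk5 (Rels.left (r5 M hR))
theorem ext5 (hR : Rels M.gen rels) : sub M.gen ws5 = sub M.gen (lev5.gens ws6) := sub_extend (Rels.right (r5 M hR))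
theorem card5 (hR : Rels M.gen rels) : Nat.card (sub M.gen ws5) = 360 := by rw [ext5 M hR]; exact (res5 M hR).card
theorem fix5 (hR : Rels M.gen rels) : M.FixTriv (lev5.gens ws6) [5, 6, 7, 8] := (res5 M hR).fixTriv M (fixw6 M hR)
theorem fixw5 (hR : Rels M.gen rels) : M.FixTriv ws5 [5, 6, 7, 8] := fun g hg => fix5 M hR g (ext5 M hR ▸ hg)
theorem stab5 (hR : Rels M.gen rels) : sub M.gen ws5 ⊓ MulAction.stabilizer Γ (M.dec 5) = sub M.gen ws6 := by rw [ext5 M hR]; exact (res5 M hR).stab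
theorem orb5 (hR : Rels M.gen rels) (y : Ω) : y ∈ M.S lev5.orb ↔ ∃ g ∈ sub M.gen ws5, g • M.dec 5 = y := by rw [ext5 M hR]; exact (res5 M hR).orb y
theorem r4 (hR : Rels M.gen rels) : Rels M.gen rels4 := (Rels.left (Rels.right (Rels.right (Rels.right (Rels.right hR)))))
theorem res4 (hR : Rels M.gen rels) : M.LevelRes ws5 lev4 2520 := M.level (card5 M hR) chk4 (Rels.left (r4 M hR))
theorem ext4 (hR : Rels M.gen rels) : sub M.gen ws4 = sub M.gen (lev4.gens ws5) := sub_extend (Rels.right (r4 M hR))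
theorem card4 (hR : Rels M.gen rels) : Nat.card (sub M.gen ws4) = 2520 := by rw [ext4 M hR]; exact (res4 M hR).card
theorem fix4 (hR : Rels M.gen rels) : M.FixTriv (lev4.gens ws5) [4, 5, 6, 7, 8] := (res4 M hR).fixTriv M (fixw5 M hR)
theorem fixw4 (hR : Rels M.gen rels) : M.FixTriv ws4 [4, 5, 6, 7, 8] := fun g hg => fix4 M hR g (ext4 M hR ▸ hg)
theorem stab4 (hR : Rels M.gen rels) : sub M.gen ws4 ⊓ MulAction.stabilizer Γ (M.dec 4) = sub M.gen ws5 := by rw [ext4 M hR]; exact (res4 M hR).stab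
theorem orb4 (hR : Rels M.gen rels) (y : Ω) : y ∈ M.S lev4.orb ↔ ∃ g ∈ sub M.gen ws4, g • M.dec 4 = y := by rw [ext4 M hR]; exact (res4 M hR).orb y
theorem r3 (hR : Rels M.gen rels) : Rels M.gen rels3 := (Rels.left (Rels.right (Rels.right (Rels.right hR))))
theorem res3 (hR : Rels M.gen rels) : M.LevelRes ws4 lev3 20160 := M.level (card4 M hR) chk3 (Rels.left (r3 M hR))
theorem ext3 (hR : Rels M.gen rels) : sub M.gen ws3 = sub M.gen (lev3.gens ws4) := sub_extend (Rels.right (r3 M hR))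
theorem card3 (hR : Rels M.gen rels) : Nat.card (sub M.gen ws3) = 20160 := by rw [ext3 M hR]; exact (res3 M hR).card
theorem fix3 (hR : Rels M.gen rels) : M.FixTriv (lev3.gens ws4) [3, 4, 5, 6, 7, 8] := (res3 M hR).fixTriv M (fixw4 M hR)
theorem fixw3 (hR : Rels M.gen rels) : M.FixTriv ws3 [3, 4, 5, 6, 7, 8] := fun g hg => fix3 M hR g (ext3 M hR ▸ hg)
theorem stab3 (hR : Rels M.gen rels) : sub M.gen ws3 ⊓ MulAction.stabilizer Γ (M.dec 3) = sub M.gen ws4 := by rw [ext3 M hR]; exact (res3 M hR).stab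
theorem orb3 (hR : Rels M.gen rels) (y : Ω) : y ∈ M.S lev3.orb ↔ ∃ g ∈ sub M.gen ws3, g • M.dec 3 = y := by rw [ext3 M hR]; exact (res3 M hR).orb y
theorem r2 (hR : Rels M.gen rels) : Rels M.gen rels2 := (Rels.left (Rels.right (Rels.right hR)))
theorem res2 (hR : Rels M.gen rels) : M.LevelRes ws3 lev2 181440 := M.level (card3 M hR) chk2 (Rels.left (r2 M hR))
theorem ext2 (hR : Rels M.gen rels) : sub M.gen ws2 = sub M.gen (lev2.gens ws3) := sub_extend (Rels.right (r2 M hR))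
theorem card2 (hR : Rels M.gen rels) : Nat.card (sub M.gen ws2) = 181440 := by rw [ext2 M hR]; exact (res2 M hR).card
theorem fix2 (hR : Rels M.gen rels) : M.FixTriv (lev2.gens ws3) [2, 3, 4, 5, 6, 7, 8] := (res2 M hR).fixTriv M (fixw3 M hR)
theorem fixw2 (hR : Rels M.gen rels) : M.FixTriv ws2 [2, 3, 4, 5, 6, 7, 8] := fun g hg => fix2 M hR g (ext2 M hR ▸ hg)
theorem stab2 (hR : Rels M.gen rels) : sub M.gen ws2 ⊓ MulAction.stabilizer Γ (M.dec 2) = sub M.gen ws3 := by rw [ext2 M hR]; exact (res2 M hR).stab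
theorem orb2 (hR : Rels M.gen rels) (y : Ω) : y ∈ M.S lev2.orb ↔ ∃ g ∈ sub M.gen ws2, g • M.dec 2 = y := by rw [ext2 M hR]; exact (res2 M hR).orb y
theorem r1 (hR : Rels M.gen rels) : Rels M.gen rels1 := (Rels.left (Rels.right hR))
theorem res1 (hR : Rels M.gen rels) : M.LevelRes ws2 lev1 1814400 := M.level (card2 M hR) chk1 (Rels.left (r1 M hR))
theorem ext1 (hR : Rels M.gen rels) : sub M.gen ws1 = sub M.gen (lev1.gens ws2) := sub_extend (Rels.right (r1 M hR))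
theorem card1 (hR : Rels M.gen rels) : Nat.card (sub M.gen ws1) = 1814400 := by rw [ext1 M hR]; exact (res1 M hR).card
theorem fix1 (hR : Rels M.gen rels) : M.FixTriv (lev1.gens ws2) [1, 2, 3, 4, 5, 6, 7, 8] := (res1 M hR).fixTriv M (fixw2 M hR)
theorem fixw1 (hR : Rels M.gen rels) : M.FixTriv ws1 [1, 2, 3, 4, 5, 6, 7, 8] := fun g hg => fix1 M hR g (ext1 M hR ▸ hg)
theorem stab1 (hR : Rels M.gen rels) : sub M.gen ws1 ⊓ MulAction.stabilizer Γ (M.dec 1) = sub M.gen ws2 := by rw [ext1 M hR]; exact (res1 M hR).stab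
theorem orb1 (hR : Rels M.gen rels) (y : Ω) : y ∈ M.S lev1.orb ↔ ∃ g ∈ sub M.gen ws1, g • M.dec 1 = y := by rw [ext1 M hR]; exact (res1 M hR).orb y
theorem r0 (hR : Rels M.gen rels) : Rels M.gen rels0 := (Rels.left hR)
theorem res0 (hR : Rels M.gen rels) : M.LevelRes ws1 lev0 19958400 := M.level (card1 M hR) chk0 (Rels.left (r0 M hR))
theorem ext0 (hR : Rels M.gen rels) : sub M.gen ws0 = sub M.gen (lev0.gens ws1) := sub_extend (Rels.right (r0 M hR))
theorem card0 (hR : Rels M.gen rels) : Nat.card (sub M.gen ws0) = 19958400 := by rw [ext0 M hR]; exact (res0 M hR).card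
theorem fix0 (hR : Rels M.gen rels) : M.FixTriv (lev0.gens ws1) [0, 1, 2, 3, 4, 5, 6, 7, 8] := (res0 M hR).fixTriv M (fixw1 M hR)
theorem fixw0 (hR : Rels M.gen rels) : M.FixTriv ws0 [0, 1, 2, 3, 4, 5, 6, 7, 8] := fun g hg => fix0 M hR g (ext0 M hR ▸ hg)
theorem stab0 (hR : Rels M.gen rels) : sub M.gen ws0 ⊓ MulAction.stabilizer Γ (M.dec 0) = sub M.gen ws1 := by rw [ext0 M hR]; exact (res0 M hR).stab
theorem orb0 (hR : Rels M.gen rels) (y : Ω) : y ∈ M.S lev0.orb ↔ ∃ g ∈ sub M.gen ws0, g • M.dec 0 = y := by rw [ext0 M hR]; exact (res0 M hR).orb y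
theorem orig_eq {gen : ℕ → Γ} (h : Rels gen allRels) : sub gen (lets 9) = sub gen ws0 :=
  sub_lets_eq_of_rels (ds := defs) (by decide +kernel) (relsD_of_all h) (by decide +kernel) (relsO_of_all h)
theorem gen_mem {gen : ℕ → Γ} (h : Rels gen allRels) {X : Subgroup Γ} (h0 : ∀ l < 9, gen l ∈ X) : sub gen ws0 ≤ X :=
  sub_le_of_wsIn (lo := 0) (gen_mem_of_defRels (ds := defs) (fun l _ hl => h0 l hl) (by decide +kernel) (relsD_of_all h)) (by decide +kernel)

end

/-- the permutation group -/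
noncomputable abbrev P := permPM 11 nets (by decide) (by decide) nets_ok
theorem allP : Rels P.gen allRels := all_ok' P
/-- machines of this type -/
abbrev St (X : Type*) [Group X] := Std X 11 nets ws0 19958400 allRels
/-- the presentation on the strong generators -/
theorem hom {X : Type*} [Group X] (S : St X) {Δ : Type*} [Group Δ] (y : ℕ → Δ) (hy : Rels y rels) :
    ∃ φ : X →* Δ, φ.range = sub y ws0 ∧ ∀ w ∈ ws0, φ (H14.ev S.M.gen w) = H14.ev y w :=
  S.hom_ws y (card0 _ ((rels_of_all S.rels).prod hy))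
/-- the presentation on all letters -/
theorem hom' {X : Type*} [Group X] (S : St X) {Δ : Type*} [Group Δ] (y : ℕ → Δ) (hy : Rels y allRels) :
    ∃ φ : X →* Δ, φ.range = sub y (lets 9) ∧ ∀ l < 23, φ (S.M.gen l) = y l :=
  S.hom_all y (card0 _ (rels_of_all (S.rels.prod hy))) (orig_eq (S.rels.prod hy)) (orig_eq hy) (ds := defs)
    (by decide +kernel) (relsD_of_all (S.rels.prod hy)) (by decide +kernel)
theorem std_spec : ∃ S : St (alternatingGroup (Fin 11)), S.π = (alternatingGroup (Fin 11)).subtype ∧ ∀ l, (alternatingGroup (Fin 11)).subtype (S.M.gen l) = P.gen l :=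
  std_of_hom _ (mem_alt (P.rels_of_chk (sep P) (l := cubes 9) (by decide +kernel))) (ds := defs) (by decide +kernel) (by decide +kernel)
    (relsD_of_all allP) (bd_alt (by decide +kernel)) (card0 P (rels_of_all allP)) allP
theorem std : Nonempty (St (alternatingGroup (Fin 11))) := let ⟨S, _⟩ := std_spec; ⟨S⟩

end H15.StdAlt11
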