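import Cfsg.Agent.H14.Dw2
import Cfsg.Agent.H15.Std5

/-! Standard machine: `alternatingGroup (Fin 12)`, generators the 3-cycles `0 ↦ 1 ↦ i ↦ 0`
Generated certificate (tools14/pkgen, tools15/std.py) for the permutation group StdAlt12 of degree 12, order 239500800, base 0 1 2 3 4 5 6 7 8 9. -/
set_option autoImplicit false
set_option maxRecDepth 100000

namespace H15.StdAlt12
open H14

noncomputable def n0 : Net := (.cons (nat_lit 1) (nat_lit 0x4)
(.cons (nat_lit 2) (nat_lit 0x2)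
(.cons (nat_lit 1) (nat_lit 0x5)
.nil)))
theorem n0_ok : Net.ok 12 n0 = true := by decide +kernel
noncomputable def n1 : Net := (.cons (nat_lit 2) (nat_lit 0x2)
(.cons (nat_lit 1) (nat_lit 0x1)
.nil))
theorem n1_ok : Net.ok 12 n1 = true := by decide +kernel
noncomputable def n2 : Net := (.cons (nat_lit 1) (nat_lit 0x10)
(.cons (nat_lit 4) (nat_lit 0x2)
(.cons (nat_lit 1) (nat_lit 0x11)
.nil)))
theorem n2_ok : Net.ok 12 n2 = true := by decide +kernel
noncomputable def n3 : Net := (.cons (nat_lit 4) (nat_lit 0x2)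
(.cons (nat_lit 1) (nat_lit 0x1)
.nil))
theorem n3_ok : Net.ok 12 n3 = true := by decide +kernel
noncomputable def n4 : Net := (.cons (nat_lit 1) (nat_lit 0x40)
(.cons (nat_lit 2) (nat_lit 0x20)
(.cons (nat_lit 4) (nat_lit 0x2)
(.cons (nat_lit 2) (nat_lit 0x20)
(.cons (nat_lit 1) (nat_lit 0x41)
.nil)))))
theorem n4_ok : Net.ok 12 n4 = true := by decide +kernel
noncomputable def n5 : Net := (.cons (nat_lit 2) (nat_lit 0x20)
(.cons (nat_lit 4) (nat_lit 0x2)
(.cons (nat_lit 2) (nat_lit 0x20)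
(.cons (nat_lit 1) (nat_lit 0x1)
.nil))))
theorem n5_ok : Net.ok 12 n5 = true := by decide +kernel
noncomputable def n6 : Net := (.cons (nat_lit 1) (nat_lit 0x100)
(.cons (nat_lit 8) (nat_lit 0x2)
(.cons (nat_lit 1) (nat_lit 0x101)
.nil)))
theorem n6_ok : Net.ok 12 n6 = true := by decide +kernel
noncomputable def n7 : Net := (.cons (nat_lit 8) (nat_lit 0x2)
(.cons (nat_lit 1) (nat_lit 0x1)
.nil))
theorem n7_ok : Net.ok 12 n7 = true := by decide +kernel
noncomputable def n8 : Net := (.cons (nat_lit 1) (nat_lit 0x400)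
(.cons (nat_lit 2) (nat_lit 0x200)
(.cons (nat_lit 8) (nat_lit 0x2)
(.cons (nat_lit 2) (nat_lit 0x200)
(.cons (nat_lit 1) (nat_lit 0x401)
.nil)))))
theorem n8_ok : Net.ok 12 n8 = true := by decide +kernel
noncomputable def n9 : Net := (.cons (nat_lit 2) (nat_lit 0x200)
(.cons (nat_lit 8) (nat_lit 0x2)
(.cons (nat_lit 2) (nat_lit 0x200)
(.cons (nat_lit 1) (nat_lit 0x1)
.nil))))
theorem n9_ok : Net.ok 12 n9 = true := by decide +kernel
noncomputable def n10 : Net := (.cons (nat_lit 1) (nat_lit 0x440)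
(.cons (nat_lit 2) (nat_lit 0x120)
(.cons (nat_lit 8) (nat_lit 0x6)
(.cons (nat_lit 4) (nat_lit 0x8)
(.cons (nat_lit 2) (nat_lit 0x30)
(.cons (nat_lit 1) (nat_lit 0x450)
.nil))))))
theorem n10_ok : Net.ok 12 n10 = true := by decide +kernel
noncomputable def n11 : Net := (.cons (nat_lit 1) (nat_lit 0x400)
(.cons (nat_lit 2) (nat_lit 0x120)
(.cons (nat_lit 4) (nat_lit 0xc)
(.cons (nat_lit 8) (nat_lit 0xc)
(.cons (nat_lit 4) (nat_lit 0xa)
(.cons (nat_lit 2) (nat_lit 0x100)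
(.cons (nat_lit 1) (nat_lit 0x104)
.nil)))))))
theorem n11_ok : Net.ok 12 n11 = true := by decide +kernel
noncomputable def n12 : Net := (.cons (nat_lit 1) (nat_lit 0x40)
(.cons (nat_lit 2) (nat_lit 0x100)
(.cons (nat_lit 4) (nat_lit 0xa)
(.cons (nat_lit 8) (nat_lit 0xe)
(.cons (nat_lit 4) (nat_lit 0xa)
(.cons (nat_lit 2) (nat_lit 0x210)
(.cons (nat_lit 1) (nat_lit 0x414)
.nil)))))))
theorem n12_ok : Net.ok 12 n12 = true := by decide +kernel
noncomputable def n13 : Net := (.cons (nat_lit 1) (nat_lit 0x400)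
(.cons (nat_lit 2) (nat_lit 0x210)
(.cons (nat_lit 4) (nat_lit 0xa)
(.cons (nat_lit 8) (nat_lit 0xe)
(.cons (nat_lit 4) (nat_lit 0x6)
(.cons (nat_lit 2) (nat_lit 0x300)
(.cons (nat_lit 1) (nat_lit 0x550)
.nil)))))))
theorem n13_ok : Net.ok 12 n13 = true := by decide +kernel
noncomputable def n14 : Net := (.cons (nat_lit 1) (nat_lit 0x110)
(.cons (nat_lit 2) (nat_lit 0x20)
(.cons (nat_lit 4) (nat_lit 0x3)
(.cons (nat_lit 8) (nat_lit 0xb)
(.cons (nat_lit 4) (nat_lit 0xb)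
(.cons (nat_lit 2) (nat_lit 0x10)
(.cons (nat_lit 1) (nat_lit 0x440)
.nil)))))))
theorem n14_ok : Net.ok 12 n14 = true := by decide +kernel
noncomputable def n15 : Net := (.cons (nat_lit 1) (nat_lit 0x440)
(.cons (nat_lit 4) (nat_lit 0x9)
(.cons (nat_lit 8) (nat_lit 0x9)
(.cons (nat_lit 4) (nat_lit 0x9)
(.cons (nat_lit 2) (nat_lit 0x100)
(.cons (nat_lit 1) (nat_lit 0x400)
.nil))))))
theorem n15_ok : Net.ok 12 n15 = true := by decide +kernel
noncomputable def n16 : Net := (.cons (nat_lit 1) (nat_lit 0x100)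
(.cons (nat_lit 4) (nat_lit 0xe)
(.cons (nat_lit 8) (nat_lit 0xe)
(.cons (nat_lit 4) (nat_lit 0xe)
(.cons (nat_lit 2) (nat_lit 0x300)
.nil)))))
theorem n16_ok : Net.ok 12 n16 = true := by decide +kernel
noncomputable def n17 : Net := (.cons (nat_lit 1) (nat_lit 0x40)
(.cons (nat_lit 2) (nat_lit 0x300)
(.cons (nat_lit 4) (nat_lit 0x6)
(.cons (nat_lit 8) (nat_lit 0x6)
(.cons (nat_lit 4) (nat_lit 0x6)
(.cons (nat_lit 2) (nat_lit 0x100)
(.cons (nat_lit 1) (nat_lit 0x140)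
.nil)))))))
theorem n17_ok : Net.ok 12 n17 = true := by decide +kernel
noncomputable def n18 : Net := (.cons (nat_lit 1) (nat_lit 0x500)
(.cons (nat_lit 2) (nat_lit 0x100)
(.cons (nat_lit 4) (nat_lit 0xc)
(.cons (nat_lit 8) (nat_lit 0xc)
(.cons (nat_lit 4) (nat_lit 0xc)
(.cons (nat_lit 2) (nat_lit 0x100)
(.cons (nat_lit 1) (nat_lit 0x440)
.nil)))))))
theorem n18_ok : Net.ok 12 n18 = true := by decide +kernel
noncomputable def n19 : Net := (.cons (nat_lit 1) (nat_lit 0x500)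
(.cons (nat_lit 4) (nat_lit 0x8)
(.cons (nat_lit 8) (nat_lit 0x8)
(.cons (nat_lit 4) (nat_lit 0x8)
(.cons (nat_lit 2) (nat_lit 0x100)
(.cons (nat_lit 1) (nat_lit 0x140)
.nil))))))
theorem n19_ok : Net.ok 12 n19 = true := by decide +kernel
noncomputable def n20 : Net := (.cons (nat_lit 1) (nat_lit 0x400)
(.cons (nat_lit 4) (nat_lit 0x8)
(.cons (nat_lit 8) (nat_lit 0x8)
(.cons (nat_lit 4) (nat_lit 0x8)
(.cons (nat_lit 2) (nat_lit 0x200)
(.cons (nat_lit 1) (nat_lit 0x100)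
.nil))))))
theorem n20_ok : Net.ok 12 n20 = true := by decide +kernel
noncomputable def n21 : Net := (.cons (nat_lit 1) (nat_lit 0x400)
(.cons (nat_lit 4) (nat_lit 0x8)
(.cons (nat_lit 8) (nat_lit 0x8)
(.cons (nat_lit 4) (nat_lit 0x8)
(.cons (nat_lit 2) (nat_lit 0x300)
(.cons (nat_lit 1) (nat_lit 0x500)
.nil))))))
theorem n21_ok : Net.ok 12 n21 = true := by decide +kernel
noncomputable def n22 : Net := (.cons (nat_lit 1) (nat_lit 0x400)
(.cons (nat_lit 2) (nat_lit 0x200)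
.nil))
theorem n22_ok : Net.ok 12 n22 = true := by decide +kernel
noncomputable def n23 : Net := (.cons (nat_lit 1) (nat_lit 0x400)
(.cons (nat_lit 2) (nat_lit 0x100)
(.cons (nat_lit 1) (nat_lit 0x500)
.nil)))
theorem n23_ok : Net.ok 12 n23 = true := by decide +kernel
noncomputable def nets : List Net := [n0, n1, n2, n3, n4, n5, n6, n7, n8, n9, n10, n11, n12, n13, n14, n15, n16, n17, n18, n19, n20, n21, n22, n23]
theorem nets_ok : netsOk 12 nets = true := List.all_eq_true.2 (fa_cons n0_ok (fa_cons n1_ok (fa_cons n2_ok (fa_cons n3_ok (fa_cons n4_ok (fa_cons n5_ok (fa_cons n6_ok (fa_cons n7_ok (fa_cons n8_ok (fa_cons n9_ok (fa_cons n10_ok (fa_cons n11_ok (fa_cons n12_ok (fa_cons n13_ok (fa_cons n14_ok (fa_cons n15_ok (fa_cons n16_ok (fa_cons n17_ok (fa_cons n18_ok (fa_cons n19_ok (fa_cons n20_ok (fa_cons n21_ok (fa_cons n22_ok (fa_cons n23_ok (fa_nil)))))))))))))))))))))))))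
noncomputable def ws10 : List Word := []
noncomputable def lev9 : Level := ⟨nat_lit 9,
[⟨[nat_lit 44], [], [],
[⟨nat_lit 0, [], nat_lit 1, [], []⟩,
⟨nat_lit 1, [], nat_lit 2, [], []⟩,
⟨nat_lit 2, [], nat_lit 0, [], []⟩],
[]⟩],
[⟨dw (nat_lit 0x01), (nat_lit 0x800), [], .nil, []⟩,
⟨dw (nat_lit 0x02), (nat_lit 0x400), [], .nil, []⟩]⟩
noncomputable def ex9 : List Word := []
noncomputable def ws9 : List Word := List.append ex9 (lev9.gens ws10)
noncomputable def rels9 : List (Word × Word) := List.append (lev9.rels ws10) (memRels (lev9.gens ws10) ex9 [])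
noncomputable def lev8 : Level := ⟨nat_lit 8,
[⟨[nat_lit 46], [], [],
[⟨nat_lit 0, [], nat_lit 1, [], []⟩,
⟨nat_lit 1, [], nat_lit 1, dw (nat_lit 0x02), dw (nat_lit 0x02)⟩,
⟨nat_lit 1, dw (nat_lit 0x01), nat_lit 1, dw (nat_lit 0x01), dw (nat_lit 0x01)⟩,
⟨nat_lit 1, dw (nat_lit 0x02), nat_lit 0, [], dw (nat_lit 0x01)⟩],
[]⟩],
[⟨dw (nat_lit 0x01), (nat_lit 0xe00), [dw (nat_lit 0x01), dw (nat_lit 0x01)], .nil, []⟩]⟩
noncomputable def ex8 : List Word := []
noncomputable def ws8 : List Word := List.append ex8 (lev8.gens ws9)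
noncomputable def rels8 : List (Word × Word) := List.append (lev8.rels ws9) (memRels (lev8.gens ws9) ex8 [])
noncomputable def lev7 : Level := ⟨nat_lit 7,
[⟨[nat_lit 40], [dw (nat_lit 0x01)], [dw (nat_lit 0x04)],
[⟨nat_lit 0, [], nat_lit 1, [], []⟩,
⟨nat_lit 1, [], nat_lit 1, dw (nat_lit 0x02), dw (nat_lit 0x03)⟩,
⟨nat_lit 1, dw (nat_lit 0x0301), nat_lit 0, [], dw (nat_lit 0x0204)⟩],
[dw (nat_lit 0x01), dw (nat_lit 0x01)]⟩],
[⟨dw (nat_lit 0x01), (nat_lit 0xf00), [dw (nat_lit 0x01), dw (nat_lit 0x0203)], (.cons (nat_lit 9) [dw (nat_lit 0x03)] [dw (nat_lit 0x01), dw (nat_lit 0x01)]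
.nil), [dw (nat_lit 0x02)]⟩]⟩
noncomputable def ex7 : List Word := [[nat_lit 42]]
noncomputable def ws7 : List Word := List.append ex7 (lev7.gens ws8)
noncomputable def rels7 : List (Word × Word) := List.append (lev7.rels ws8) (memRels (lev7.gens ws8) ex7 [dw (nat_lit 0x0104)])
noncomputable def lev6 : Level := ⟨nat_lit 6,
[⟨[nat_lit 36], [dw (nat_lit 0x0107), dw (nat_lit 0x05)], [dw (nat_lit 0x07), dw (nat_lit 0x0301070507)],
[⟨nat_lit 0, [], nat_lit 1, [], []⟩,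
⟨nat_lit 1, [], nat_lit 1, dw (nat_lit 0x03), dw (nat_lit 0x02)⟩,
⟨nat_lit 1, dw (nat_lit 0x0301), nat_lit 0, [], dw (nat_lit 0x0301)⟩],
[dw (nat_lit 0x03), dw (nat_lit 0x03), dw (nat_lit 0x01)]⟩],
[⟨dw (nat_lit 0x01), (nat_lit 0xf80), [dw (nat_lit 0x01), dw (nat_lit 0x03), dw (nat_lit 0x01)], (.cons (nat_lit 7) [dw (nat_lit 0x0205)] [dw (nat_lit 0x01), dw (nat_lit 0x03), dw (nat_lit 0x03)]
(.cons (nat_lit 9) [dw (nat_lit 0x07)] [dw (nat_lit 0x01), dw (nat_lit 0x01)]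
.nil)), [dw (nat_lit 0x010508), dw (nat_lit 0x0107)]⟩]⟩
noncomputable def ex6 : List Word := [[nat_lit 38]]
noncomputable def ws6 : List Word := List.append ex6 (lev6.gens ws7)
noncomputable def rels6 : List (Word × Word) := List.append (lev6.rels ws7) (memRels (lev6.gens ws7) ex6 [dw (nat_lit 0x04010309)])
noncomputable def lev5 : Level := ⟨nat_lit 5,
[⟨[nat_lit 32], [dw (nat_lit 0x01), dw (nat_lit 0x0609), dw (nat_lit 0x0b)], [dw (nat_lit 0x03), dw (nat_lit 0x0205050b090c), dw (nat_lit 0x020c)],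
[⟨nat_lit 0, [], nat_lit 1, [], []⟩,
⟨nat_lit 1, [], nat_lit 1, dw (nat_lit 0x02), dw (nat_lit 0x030a)⟩,
⟨nat_lit 1, dw (nat_lit 0x06), nat_lit 0, [], dw (nat_lit 0x040107050a0b)⟩],
[dw (nat_lit 0x01), dw (nat_lit 0x0106), dw (nat_lit 0x01)]⟩],
[⟨dw (nat_lit 0x01), (nat_lit 0xfc0), [dw (nat_lit 0x01), dw (nat_lit 0x0b04), dw (nat_lit 0x03)], (.cons (nat_lit 6) [dw (nat_lit 0x03)] [dw (nat_lit 0x01), dw (nat_lit 0x0101), dw (nat_lit 0x01)]
(.cons (nat_lit 7) [dw (nat_lit 0x0609)] [dw (nat_lit 0x01), dw (nat_lit 0x0301)]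
(.cons (nat_lit 8) [dw (nat_lit 0x0b09)] [dw (nat_lit 0x01), dw (nat_lit 0x01)]
.nil))), [dw (nat_lit 0x01), dw (nat_lit 0x05050b090c), dw (nat_lit 0x0401050b)]⟩]⟩
noncomputable def ex5 : List Word := [[nat_lit 34]]
noncomputable def ws5 : List Word := List.append ex5 (lev5.gens ws6)
noncomputable def rels5 : List (Word × Word) := List.append (lev5.rels ws6) (memRels (lev5.gens ws6) ex5 [dw (nat_lit 0x0205)])
noncomputable def lev4 : Level := ⟨nat_lit 4,
[⟨[nat_lit 30], [dw (nat_lit 0x0901), dw (nat_lit 0x05), dw (nat_lit 0x0a0d)], [dw (nat_lit 0x01070a0e10), dw (nat_lit 0x07), dw (nat_lit 0x0509090f0d0f)],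
[⟨nat_lit 0, [], nat_lit 1, [], []⟩,
⟨nat_lit 1, [], nat_lit 1, dw (nat_lit 0x0a), dw (nat_lit 0x050509090e0f)⟩,
⟨nat_lit 1, dw (nat_lit 0x0a), nat_lit 0, [], dw (nat_lit 0x08050a)⟩],
[dw (nat_lit 0x03), dw (nat_lit 0x0303), dw (nat_lit 0x01)]⟩],
[⟨dw (nat_lit 0x01), (nat_lit 0xfe0), [dw (nat_lit 0x01), dw (nat_lit 0x0101), dw (nat_lit 0x07), dw (nat_lit 0x03)], (.cons (nat_lit 5) [dw (nat_lit 0x0105)] [dw (nat_lit 0x01), dw (nat_lit 0x03), dw (nat_lit 0x01), dw (nat_lit 0x03)]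
(.cons (nat_lit 6) [dw (nat_lit 0x07)] [dw (nat_lit 0x01), dw (nat_lit 0x0101), dw (nat_lit 0x01)]
(.cons (nat_lit 7) [dw (nat_lit 0x0a0d)] [dw (nat_lit 0x01), dw (nat_lit 0x0204)]
(.cons (nat_lit 8) [dw (nat_lit 0x0f0d)] [dw (nat_lit 0x01), dw (nat_lit 0x01)]
.nil)))), [dw (nat_lit 0x0208050e0f), dw (nat_lit 0x05), dw (nat_lit 0x08050b090d), dw (nat_lit 0x08050b090d0f)]⟩]⟩
noncomputable def ex4 : List Word := []
noncomputable def ws4 : List Word := List.append ex4 (lev4.gens ws5)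
noncomputable def rels4 : List (Word × Word) := List.append (lev4.rels ws5) (memRels (lev4.gens ws5) ex4 [])
noncomputable def lev3 : Level := ⟨nat_lit 3,
[⟨[nat_lit 28], [dw (nat_lit 0x03), dw (nat_lit 0x07), dw (nat_lit 0x0b)], [dw (nat_lit 0x09030c1011), dw (nat_lit 0x04010407070b12), dw (nat_lit 0x0603070b110f)],
[⟨nat_lit 0, [], nat_lit 1, [], []⟩,
⟨nat_lit 1, [], nat_lit 1, dw (nat_lit 0x0e), dw (nat_lit 0x04010d040a071011)⟩,
⟨nat_lit 1, dw (nat_lit 0x020e), nat_lit 0, [], dw (nat_lit 0x0d01090307070c0f12)⟩],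
[dw (nat_lit 0x03), dw (nat_lit 0x0404), dw (nat_lit 0x030601)]⟩],
[⟨dw (nat_lit 0x01), (nat_lit 0xff0), [dw (nat_lit 0x01), dw (nat_lit 0x05), dw (nat_lit 0x0d), dw (nat_lit 0x01), dw (nat_lit 0x03)], (.cons (nat_lit 4) [dw (nat_lit 0x0105)] [dw (nat_lit 0x01), dw (nat_lit 0x03), dw (nat_lit 0x01), dw (nat_lit 0x03), dw (nat_lit 0x03)]
(.cons (nat_lit 5) [dw (nat_lit 0x03)] [dw (nat_lit 0x01), dw (nat_lit 0x0701), dw (nat_lit 0x01), dw (nat_lit 0x03)]
(.cons (nat_lit 6) [dw (nat_lit 0x0809)] [dw (nat_lit 0x01), dw (nat_lit 0x05), dw (nat_lit 0x05), dw (nat_lit 0x01)]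
(.cons (nat_lit 7) [dw (nat_lit 0x0b11)] [dw (nat_lit 0x01), dw (nat_lit 0x03), dw (nat_lit 0x03)]
(.cons (nat_lit 8) [dw (nat_lit 0x0f)] [dw (nat_lit 0x01), dw (nat_lit 0x01)]
.nil))))), [dw (nat_lit 0x03080b0b12), dw (nat_lit 0x0903080b0f), dw (nat_lit 0x0d040b0b11), dw (nat_lit 0x0d040c110f11), dw (nat_lit 0x0d040b0f12)]⟩]⟩
noncomputable def ex3 : List Word := []
noncomputable def ws3 : List Word := List.append ex3 (lev3.gens ws4)
noncomputable def rels3 : List (Word × Word) := List.append (lev3.rels ws4) (memRels (lev3.gens ws4) ex3 [])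
noncomputable def lev2 : Level := ⟨nat_lit 2,
[⟨[nat_lit 24], [dw (nat_lit 0x03), dw (nat_lit 0x05), dw (nat_lit 0x09)], [dw (nat_lit 0x04010f0308050a0f0d12), dw (nat_lit 0x05010104050b0d), dw (nat_lit 0x0408050d12)],
[⟨nat_lit 0, [], nat_lit 1, [], []⟩,
⟨nat_lit 1, [], nat_lit 1, dw (nat_lit 0x07), dw (nat_lit 0x0301080405090d14)⟩,
⟨nat_lit 1, dw (nat_lit 0x0202), nat_lit 0, [], dw (nat_lit 0x010104050509090e1114)⟩],
[dw (nat_lit 0x01), dw (nat_lit 0x03), dw (nat_lit 0x01), dw (nat_lit 0x0401)]⟩],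
[⟨dw (nat_lit 0x01), (nat_lit 0xff8), [dw (nat_lit 0x01), dw (nat_lit 0x03), dw (nat_lit 0x01), dw (nat_lit 0x09), dw (nat_lit 0x01)], (.cons (nat_lit 3) [dw (nat_lit 0x010f)] [dw (nat_lit 0x01), dw (nat_lit 0x07), dw (nat_lit 0x01), dw (nat_lit 0x07), dw (nat_lit 0x01)]
(.cons (nat_lit 4) [dw (nat_lit 0x080503)] [dw (nat_lit 0x01), dw (nat_lit 0x05), dw (nat_lit 0x03), dw (nat_lit 0x03)]
(.cons (nat_lit 5) [dw (nat_lit 0x0509)] [dw (nat_lit 0x01), dw (nat_lit 0x03), dw (nat_lit 0x01), dw (nat_lit 0x03)]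
(.cons (nat_lit 6) [dw (nat_lit 0x0b)] [dw (nat_lit 0x01), dw (nat_lit 0x0202), dw (nat_lit 0x01)]
(.cons (nat_lit 7) [dw (nat_lit 0x0e11)] [dw (nat_lit 0x01), dw (nat_lit 0x0301)]
(.cons (nat_lit 8) [dw (nat_lit 0x1311)] [dw (nat_lit 0x01), dw (nat_lit 0x01)]
.nil)))))), [dw (nat_lit 0x0603050509090f0d13), dw (nat_lit 0x080408050a0d1214), dw (nat_lit 0x080406090f0d131113), dw (nat_lit 0x0f0305090e131114), dw (nat_lit 0x08050b0f0d1113), dw (nat_lit 0x08051114)]⟩]⟩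
noncomputable def ex2 : List Word := [[nat_lit 26]]
noncomputable def ws2 : List Word := List.append ex2 (lev2.gens ws3)
noncomputable def rels2 : List (Word × Word) := List.append (lev2.rels ws3) (memRels (lev2.gens ws3) ex2 [dw (nat_lit 0x080104110511080b110f1416)])
noncomputable def lev1 : Level := ⟨nat_lit 1,
[⟨[nat_lit 20], [dw (nat_lit 0x0c0501), dw (nat_lit 0x060f), dw (nat_lit 0x07)], [dw (nat_lit 0x0b010c0508130a0e111715), dw (nat_lit 0x090313070a0e11111715), dw (nat_lit 0x0501050d171518)],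
[⟨nat_lit 0, [], nat_lit 1, [], []⟩,
⟨nat_lit 1, [], nat_lit 0, [], dw (nat_lit 0x10010905051307090e1618)⟩,
⟨nat_lit 1, dw (nat_lit 0x01), nat_lit 1, dw (nat_lit 0x03), dw (nat_lit 0x020505130a0e1217)⟩],
[dw (nat_lit 0x03), dw (nat_lit 0x05), dw (nat_lit 0x0405), dw (nat_lit 0x05), dw (nat_lit 0x01)]⟩],
[⟨dw (nat_lit 0x01), (nat_lit 0xffc), [dw (nat_lit 0x01), dw (nat_lit 0x03), dw (nat_lit 0x03), dw (nat_lit 0x0b), dw (nat_lit 0x01)], (.cons (nat_lit 2) [dw (nat_lit 0x0c0501)] [dw (nat_lit 0x01), dw (nat_lit 0x05), dw (nat_lit 0x03), dw (nat_lit 0x05), dw (nat_lit 0x03)]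
(.cons (nat_lit 3) [dw (nat_lit 0x060f)] [dw (nat_lit 0x01), dw (nat_lit 0x03), dw (nat_lit 0x0401), dw (nat_lit 0x01)]
(.cons (nat_lit 4) [dw (nat_lit 0x07)] [dw (nat_lit 0x01), dw (nat_lit 0x01), dw (nat_lit 0x03), dw (nat_lit 0x01), dw (nat_lit 0x03)]
(.cons (nat_lit 5) [dw (nat_lit 0x0c0d)] [dw (nat_lit 0x01), dw (nat_lit 0x0601), dw (nat_lit 0x01), dw (nat_lit 0x01)]
(.cons (nat_lit 6) [dw (nat_lit 0x0e11)] [dw (nat_lit 0x01), dw (nat_lit 0x03), dw (nat_lit 0x0205)]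
(.cons (nat_lit 7) [dw (nat_lit 0x1113)] [dw (nat_lit 0x01), dw (nat_lit 0x03), dw (nat_lit 0x01)]
(.cons (nat_lit 8) [dw (nat_lit 0x1517)] [dw (nat_lit 0x01), dw (nat_lit 0x01)]
.nil))))))), [dw (nat_lit 0x0205050b070f09100d131115), dw (nat_lit 0x0b01090505080c09100d13111715), dw (nat_lit 0x030909100d131118), dw (nat_lit 0x0208050c0809090f121618), dw (nat_lit 0x07121618), dw (nat_lit 0x0208050b07130a0e1618), dw (nat_lit 0x0b010c0507130a1111)]⟩]⟩
noncomputable def ex1 : List Word := [[nat_lit 22]]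
noncomputable def ws1 : List Word := List.append ex1 (lev1.gens ws2)
noncomputable def rels1 : List (Word × Word) := List.append (lev1.rels ws2) (memRels (lev1.gens ws2) ex1 [dw (nat_lit 0x0203010b050a070b0b120f1513181a)])
noncomputable def lev0 : Level := ⟨nat_lit 0,
[⟨[nat_lit 0], [dw (nat_lit 0x0407), dw (nat_lit 0x09), dw (nat_lit 0x0b)], [dw (nat_lit 0x050b090d111117151c), dw (nat_lit 0x09), dw (nat_lit 0x0b)],
[⟨nat_lit 0, [], nat_lit 1, [], []⟩,
⟨nat_lit 1, [], nat_lit 1, dw (nat_lit 0x0603), dw (nat_lit 0x06030d07091111161a)⟩,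
⟨nat_lit 1, dw (nat_lit 0x0603), nat_lit 0, [], dw (nat_lit 0x090109050c090c100d131515)⟩],
[dw (nat_lit 0x01), dw (nat_lit 0x03), dw (nat_lit 0x05), dw (nat_lit 0x0405), dw (nat_lit 0x03), dw (nat_lit 0x05), dw (nat_lit 0x03)]⟩],
[⟨dw (nat_lit 0x01), (nat_lit 0xffe), [dw (nat_lit 0x01), dw (nat_lit 0x03), dw (nat_lit 0x01), dw (nat_lit 0x05), dw (nat_lit 0x03)], (.cons (nat_lit 2) [dw (nat_lit 0x05)] [dw (nat_lit 0x01), dw (nat_lit 0x0101), dw (nat_lit 0x03), dw (nat_lit 0x01), dw (nat_lit 0x01)]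
(.cons (nat_lit 3) [dw (nat_lit 0x09)] [dw (nat_lit 0x01), dw (nat_lit 0x0101), dw (nat_lit 0x03), dw (nat_lit 0x01)]
(.cons (nat_lit 4) [dw (nat_lit 0x0b)] [dw (nat_lit 0x01), dw (nat_lit 0x0205), dw (nat_lit 0x03), dw (nat_lit 0x01), dw (nat_lit 0x01)]
(.cons (nat_lit 5) [dw (nat_lit 0x0d)] [dw (nat_lit 0x01), dw (nat_lit 0x0101), dw (nat_lit 0x03), dw (nat_lit 0x03)]
(.cons (nat_lit 6) [dw (nat_lit 0x11)] [dw (nat_lit 0x01), dw (nat_lit 0x0101), dw (nat_lit 0x03)]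
(.cons (nat_lit 7) [dw (nat_lit 0x15)] [dw (nat_lit 0x01), dw (nat_lit 0x0101), dw (nat_lit 0x01)]
(.cons (nat_lit 8) [dw (nat_lit 0x19)] [dw (nat_lit 0x01), dw (nat_lit 0x01), dw (nat_lit 0x03)]
(.cons (nat_lit 9) [dw (nat_lit 0x1b)] [dw (nat_lit 0x01), dw (nat_lit 0x01)]
.nil)))))))), [dw (nat_lit 0x0314050b09100c0e131a1b), dw (nat_lit 0x09), dw (nat_lit 0x0b), dw (nat_lit 0x0d), dw (nat_lit 0x11), dw (nat_lit 0x15), dw (nat_lit 0x19), dw (nat_lit 0x1b)
]⟩]⟩
noncomputable def ex0 : List Word := [[nat_lit 2], [nat_lit 4], [nat_lit 6], [nat_lit 8], [nat_lit 10], [nat_lit 12], [nat_lit 14], [nat_lit 16], [nat_lit 18]]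
noncomputable def ws0 : List Word := List.append ex0 (lev0.gens ws1)
noncomputable def rels0 : List (Word × Word) := List.append (lev0.rels ws1) (memRels (lev0.gens ws1) ex0 [dw (nat_lit 0x0105030a070b110d191013131b), dw (nat_lit 0x01060416070b120f19171e), dw (nat_lit 0x01030b070e0b150f1519171b1d), dw (nat_lit 0x0108030b070c0d1015171d), dw (nat_lit 0x01040f09100d0f0f16131d1b1d), dw (nat_lit 0x010b030b071016131917), dw (nat_lit 0x0105070e0b110d101319171e), dw (nat_lit 0x0107030b070e0c0e19101613)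
, dw (nat_lit 0x01030311070b0b0f1319171c)])
noncomputable def rels : List (Word × Word) := List.append rels0 (List.append rels1 (List.append rels2 (List.append rels3 (List.append rels4 (List.append rels5 (List.append rels6 (List.append rels7 (List.append rels8 (List.append rels9 ([]))))))))))
noncomputable def defs : List Word := [dw (nat_lit 0x0b0f0513040401070d140c), dw (nat_lit 0x0310090b0f0e121001130307), dw (nat_lit 0x1617161715181515181616), dw (nat_lit 0x1715151517), dw (nat_lit 0x1c1a1a1c191c191b191b19), dw (nat_lit 0x1a1c1c1c1a1b19), dw (nat_lit 0x1d1f1f1f1f1d1d1d1f1d1d1d201e), dw (nat_lit 0x20211f1f211f1f)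
, dw (nat_lit 0x2124242424), dw (nat_lit 0x2321), dw (nat_lit 0x2528), dw (nat_lit 0x2726272527), dw (nat_lit 0x2b2a), dw (nat_lit 0x2c2c2a2c2c2a2c2a)]
noncomputable def relsD : List (Word × Word) := defRels defs 10
noncomputable def relsO : List (Word × Word) := memRels ws0 (lets 10) [dw (nat_lit 0x011a171c191d231f2b22272b292d2f), dw (nat_lit 0x01), dw (nat_lit 0x01181623192b1f2125292f2d30), dw (nat_lit 0x01151c211d1d2b1f21212529292f2d2f), dw (nat_lit 0x011a151c19201d2b1f252e30), dw (nat_lit 0x01161c19211d1d24202121252f2d), dw (nat_lit 0x011d151c211d1d221f27292e2f), dw (nat_lit 0x011728191d1d221f2225252a2e30)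
, dw (nat_lit 0x0119151a201e2121282529292f2d), dw (nat_lit 0x01151528192b1f2525292930)]
noncomputable def relsS : List (Word × Word) := []
noncomputable def allRels : List (Word × Word) := List.append rels (List.append relsD (List.append relsO relsS))
theorem chk9 : lev9.chk 12 nets ws10 1 3 = true := by decide +kernel
theorem chk8 : lev8.chk 12 nets ws9 3 12 = true := by decide +kernel
theorem chk7 : lev7.chk 12 nets ws8 12 60 = true := by decide +kernel
theorem chk6 : lev6.chk 12 nets ws7 60 360 = true := by decide +kernel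
theorem chk5 : lev5.chk 12 nets ws6 360 2520 = true := by decide +kernel
theorem chk4 : lev4.chk 12 nets ws5 2520 20160 = true := by decide +kernel
theorem chk3 : lev3.chk 12 nets ws4 20160 181440 = true := by decide +kernel
theorem chk2 : lev2.chk 12 nets ws3 181440 1814400 = true := by decide +kernel
theorem chk1 : lev1.chk 12 nets ws2 1814400 19958400 = true := by decide +kernel
theorem chk0 : lev0.chk 12 nets ws1 19958400 239500800 = true := by decide +kernel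
theorem rc0 : relsChk 12 nets 4 (idArr 12 4 4 0) allRels = true := by decide +kernel
section
variable {Γ Ω : Type*} [Group Γ] [MulAction Γ Ω] (M : PM Γ Ω 12 nets)

theorem all_ok (hs : M.Sep 4 (idArr 12 4 4 0)) : Rels M.gen allRels := (M.rels_of_chk hs rc0)
theorem sep [FaithfulSMul Γ Ω] : M.Sep 4 (idArr 12 4 4 0) := M.sep_idArr (by decide)
theorem all_ok' [FaithfulSMul Γ Ω] : Rels M.gen allRels := all_ok M (sep M)
theorem rels_of_all {gen : ℕ → Γ} (h : Rels gen allRels) : Rels gen rels := Rels.left h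
theorem relsD_of_all {gen : ℕ → Γ} (h : Rels gen allRels) : Rels gen relsD := Rels.left (Rels.right h)
theorem relsO_of_all {gen : ℕ → Γ} (h : Rels gen allRels) : Rels gen relsO := Rels.left (Rels.right (Rels.right h))
theorem relsS_of_all {gen : ℕ → Γ} (h : Rels gen allRels) : Rels gen relsS := Rels.right (Rels.right (Rels.right h))
theorem card10 (_hR : Rels M.gen rels) : Nat.card (sub M.gen ws10) = 1 := M.card_nil
theorem fixw10 (_hR : Rels M.gen rels) : M.FixTriv ws10 [] := M.fixTriv_nil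
theorem r9 (hR : Rels M.gen rels) : Rels M.gen rels9 := (Rels.left (Rels.right (Rels.right (Rels.right (Rels.right (Rels.right (Rels.right (Rels.right (Rels.right (Rels.right hR))))))))))
theorem res9 (hR : Rels M.gen rels) : M.LevelRes ws10 lev9 3 := M.level (card10 M hR) chk9 (Rels.left (r9 M hR))
theorem ext9 (hR : Rels M.gen rels) : sub M.gen ws9 = sub M.gen (lev9.gens ws10) := sub_extend (Rels.right (r9 M hR))
theorem card9 (hR : Rels M.gen rels) : Nat.card (sub M.gen ws9) = 3 := by rw [ext9 M hR]; exact (res9 M hR).card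
theorem fix9 (hR : Rels M.gen rels) : M.FixTriv (lev9.gens ws10) [9] := (res9 M hR).fixTriv M (fixw10 M hR)
theorem fixw9 (hR : Rels M.gen rels) : M.FixTriv ws9 [9] := fun g hg => fix9 M hR g (ext9 M hR ▸ hg)
theorem stab9 (hR : Rels M.gen rels) : sub M.gen ws9 ⊓ MulAction.stabilizer Γ (M.dec 9) = sub M.gen ws10 := by rw [ext9 M hR]; exact (res9 M hR).stab
theorem orb9 (hR : Rels M.gen rels) (y : Ω) : y ∈ M.S lev9.orb ↔ ∃ g ∈ sub M.gen ws9, g • M.dec 9 = y := by rw [ext9 M hR]; exact (res9 M hR).orb y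
theorem r8 (hR : Rels M.gen rels) : Rels M.gen rels8 := (Rels.left (Rels.right (Rels.right (Rels.right (Rels.right (Rels.right (Rels.right (Rels.right (Rels.right hR)))))))))
theorem res8 (hR : Rels M.gen rels) : M.LevelRes ws9 lev8 12 := M.level (card9 M hR) chk8 (Rels.left (r8 M hR))
theorem ext8 (hR : Rels M.gen rels) : sub M.gen ws8 = sub M.gen (lev8.gens ws9) := sub_extend (Rels.right (r8 M hR))
theorem card8 (hR : Rels M.gen rels) : Nat.card (sub M.gen ws8) = 12 := by rw [ext8 M hR]; exact (res8 M hR).card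
theorem fix8 (hR : Rels M.gen rels) : M.FixTriv (lev8.gens ws9) [8, 9] := (res8 M hR).fixTriv M (fixw9 M hR)
theorem fixw8 (hR : Rels M.gen rels) : M.FixTriv ws8 [8, 9] := fun g hg => fix8 M hR g (ext8 M hR ▸ hg)
theorem stab8 (hR : Rels M.gen rels) : sub M.gen ws8 ⊓ MulAction.stabilizer Γ (M.dec 8) = sub M.gen ws9 := by rw [ext8 M hR]; exact (res8 M hR).stab
theorem orb8 (hR : Rels M.gen rels) (y : Ω) : y ∈ M.S lev8.orb ↔ ∃ g ∈ sub M.gen ws8, g • M.dec 8 = y := by rw [ext8 M hR]; exact (res8 M hR).orb y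
theorem r7 (hR : Rels M.gen rels) : Rels M.gen rels7 := (Rels.left (Rels.right (Rels.right (Rels.right (Rels.right (Rels.right (Rels.right (Rels.right hR))))))))
theorem res7 (hR : Rels M.gen rels) : M.LevelRes ws8 lev7 60 := M.level (card8 M hR) chk7 (Rels.left (r7 M hR))
theorem ext7 (hR : Rels M.gen rels) : sub M.gen ws7 = sub M.gen (lev7.gens ws8) := sub_extend (Rels.right (r7 M hR))
theorem card7 (hR : Rels M.gen rels) : Nat.card (sub M.gen ws7) = 60 := by rw [ext7 M hR]; exact (res7 M hR).card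
theorem fix7 (hR : Rels M.gen rels) : M.FixTriv (lev7.gens ws8) [7, 8, 9] := (res7 M hR).fixTriv M (fixw8 M hR)
theorem fixw7 (hR : Rels M.gen rels) : M.FixTriv ws7 [7, 8, 9] := fun g hg => fix7 M hR g (ext7 M hR ▸ hg)
theorem stab7 (hR : Rels M.gen rels) : sub M.gen ws7 ⊓ MulAction.stabilizer Γ (M.dec 7) = sub M.gen ws8 := by rw [ext7 M hR]; exact (res7 M hR).stab
theorem orb7 (hR : Rels M.gen rels) (y : Ω) : y ∈ M.S lev7.orb ↔ ∃ g ∈ sub M.gen ws7, g • M.dec 7 = y := by rw [ext7 M hR]; exact (res7 M hR).orb y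
theorem r6 (hR : Rels M.gen rels) : Rels M.gen rels6 := (Rels.left (Rels.right (Rels.right (Rels.right (Rels.right (Rels.right (Rels.right hR)))))))
theorem res6 (hR : Rels M.gen rels) : M.LevelRes ws7 lev6 360 := M.level (card7 M hR) chk6 (Rels.left (r6 M hR))
theorem ext6 (hR : Rels M.gen rels) : sub M.gen ws6 = sub M.gen (lev6.gens ws7) := sub_extend (Rels.right (r6 M hR))
theorem card6 (hR : Rels M.gen rels) : Nat.card (sub M.gen ws6) = 360 := by rw [ext6 M hR]; exact (res6 M hR).card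
theorem fix6 (hR : Rels M.gen rels) : M.FixTriv (lev6.gens ws7) [6, 7, 8, 9] := (res6 M hR).fixTriv M (fixw7 M hR)
theorem fixw6 (hR : Rels M.gen rels) : M.FixTriv ws6 [6, 7, 8, 9] := fun g hg => fix6 M hR g (ext6 M hR ▸ hg)
theorem stab6 (hR : Rels M.gen rels) : sub M.gen ws6 ⊓ MulAction.stabilizer Γ (M.dec 6) = sub M.gen ws7 := by rw [ext6 M hR]; exact (res6 M hR).stab
theorem orb6 (hR : Rels M.gen rels) (y : Ω) : y ∈ M.S lev6.orb ↔ ∃ g ∈ sub M.gen ws6, g • M.dec 6 = y := by rw [ext6 M hR]; exact (res6 M hR).orb y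
theorem r5 (hR : Rels M.gen rels) : Rels M.gen rels5 := (Rels.left (Rels.right (Rels.right (Rels.right (Rels.right (Rels.right hR))))))
theorem res5 (hR : Rels M.gen rels) : M.LevelRes ws6 lev5 2520 := M.level (card6 M hR) chk5 (Rels.left (r5 M hR))
theorem ext5 (hR : Rels M.gen rels) : sub M.gen ws5 = sub M.gen (lev5.gens ws6) := sub_extend (Rels.right (r5 M hR))
theorem card5 (hR : Rels M.gen rels) : Nat.card (sub M.gen ws5) = 2520 := by rw [ext5 M hR]; exact (res5 M hR).card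
theorem fix5 (hR : Rels M.gen rels) : M.FixTriv (lev5.gens ws6) [5, 6, 7, 8, 9] := (res5 M hR).fixTriv M (fixw6 M hR)
theorem fixw5 (hR : Rels M.gen rels) : M.FixTriv ws5 [5, 6, 7, 8, 9] := fun g hg => fix5 M hR g (ext5 M hR ▸ hg)
theorem stab5 (hR : Rels M.gen rels) : sub M.gen ws5 ⊓ MulAction.stabilizer Γ (M.dec 5) = sub M.gen ws6 := by rw [ext5 M hR]; exact (res5 M hR).stab
theorem orb5 (hR : Rels M.gen rels) (y : Ω) : y ∈ M.S lev5.orb ↔ ∃ g ∈ sub M.gen ws5, g • M.dec 5 = y := by rw [ext5 M hR]; exact (res5 M hR).orb y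
theorem r4 (hR : Rels M.gen rels) : Rels M.gen rels4 := (Rels.left (Rels.right (Rels.right (Rels.right (Rels.right hR)))))
theorem res4 (hR : Rels M.gen rels) : M.LevelRes ws5 lev4 20160 := M.level (card5 M hR) chk4 (Rels.left (r4 M hR))
theorem ext4 (hR : Rels M.gen rels) : sub M.gen ws4 = sub M.gen (lev4.gens ws5) := sub_extend (Rels.right (r4 M hR))
theorem card4 (hR : Rels M.gen rels) : Nat.card (sub M.gen ws4) = 20160 := by rw [ext4 M hR]; exact (res4 M hR).card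
theorem fix4 (hR : Rels M.gen rels) : M.FixTriv (lev4.gens ws5) [4, 5, 6, 7, 8, 9] := (res4 M hR).fixTriv M (fixw5 M hR)
theorem fixw4 (hR : Rels M.gen rels) : M.FixTriv ws4 [4, 5, 6, 7, 8, 9] := fun g hg => fix4 M hR g (ext4 M hR ▸ hg)
theorem stab4 (hR : Rels M.gen rels) : sub M.gen ws4 ⊓ MulAction.stabilizer Γ (M.dec 4) = sub M.gen ws5 := by rw [ext4 M hR]; exact (res4 M hR).stab
theorem orb4 (hR : Rels M.gen rels) (y : Ω) : y ∈ M.S lev4.orb ↔ ∃ g ∈ sub M.gen ws4, g • M.dec 4 = y := by rw [ext4 M hR]; exact (res4 M hR).orb y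
theorem r3 (hR : Rels M.gen rels) : Rels M.gen rels3 := (Rels.left (Rels.right (Rels.right (Rels.right hR))))
theorem res3 (hR : Rels M.gen rels) : M.LevelRes ws4 lev3 181440 := M.level (card4 M hR) chk3 (Rels.left (r3 M hR))
theorem ext3 (hR : Rels M.gen rels) : sub M.gen ws3 = sub M.gen (lev3.gens ws4) := sub_extend (Rels.right (r3 M hR))
theorem card3 (hR : Rels M.gen rels) : Nat.card (sub M.gen ws3) = 181440 := by rw [ext3 M hR]; exact (res3 M hR).card
theorem fix3 (hR : Rels M.gen rels) : M.FixTriv (lev3.gens ws4) [3, 4, 5, 6, 7, 8, 9] := (res3 M hR).fixTriv M (fixw4 M hR)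
theorem fixw3 (hR : Rels M.gen rels) : M.FixTriv ws3 [3, 4, 5, 6, 7, 8, 9] := fun g hg => fix3 M hR g (ext3 M hR ▸ hg)
theorem stab3 (hR : Rels M.gen rels) : sub M.gen ws3 ⊓ MulAction.stabilizer Γ (M.dec 3) = sub M.gen ws4 := by rw [ext3 M hR]; exact (res3 M hR).stab
theorem orb3 (hR : Rels M.gen rels) (y : Ω) : y ∈ M.S lev3.orb ↔ ∃ g ∈ sub M.gen ws3, g • M.dec 3 = y := by rw [ext3 M hR]; exact (res3 M hR).orb y
theorem r2 (hR : Rels M.gen rels) : Rels M.gen rels2 := (Rels.left (Rels.right (Rels.right hR)))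
theorem res2 (hR : Rels M.gen rels) : M.LevelRes ws3 lev2 1814400 := M.level (card3 M hR) chk2 (Rels.left (r2 M hR))
theorem ext2 (hR : Rels M.gen rels) : sub M.gen ws2 = sub M.gen (lev2.gens ws3) := sub_extend (Rels.right (r2 M hR))
theorem card2 (hR : Rels M.gen rels) : Nat.card (sub M.gen ws2) = 1814400 := by rw [ext2 M hR]; exact (res2 M hR).card
theorem fix2 (hR : Rels M.gen rels) : M.FixTriv (lev2.gens ws3) [2, 3, 4, 5, 6, 7, 8, 9] := (res2 M hR).fixTriv M (fixw3 M hR)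
theorem fixw2 (hR : Rels M.gen rels) : M.FixTriv ws2 [2, 3, 4, 5, 6, 7, 8, 9] := fun g hg => fix2 M hR g (ext2 M hR ▸ hg)
theorem stab2 (hR : Rels M.gen rels) : sub M.gen ws2 ⊓ MulAction.stabilizer Γ (M.dec 2) = sub M.gen ws3 := by rw [ext2 M hR]; exact (res2 M hR).stab
theorem orb2 (hR : Rels M.gen rels) (y : Ω) : y ∈ M.S lev2.orb ↔ ∃ g ∈ sub M.gen ws2, g • M.dec 2 = y := by rw [ext2 M hR]; exact (res2 M hR).orb y
theorem r1 (hR : Rels M.gen rels) : Rels M.gen rels1 := (Rels.left (Rels.right hR))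
theorem res1 (hR : Rels M.gen rels) : M.LevelRes ws2 lev1 19958400 := M.level (card2 M hR) chk1 (Rels.left (r1 M hR))
theorem ext1 (hR : Rels M.gen rels) : sub M.gen ws1 = sub M.gen (lev1.gens ws2) := sub_extend (Rels.right (r1 M hR))
theorem card1 (hR : Rels M.gen rels) : Nat.card (sub M.gen ws1) = 19958400 := by rw [ext1 M hR]; exact (res1 M hR).card
theorem fix1 (hR : Rels M.gen rels) : M.FixTriv (lev1.gens ws2) [1, 2, 3, 4, 5, 6, 7, 8, 9] := (res1 M hR).fixTriv M (fixw2 M hR)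
theorem fixw1 (hR : Rels M.gen rels) : M.FixTriv ws1 [1, 2, 3, 4, 5, 6, 7, 8, 9] := fun g hg => fix1 M hR g (ext1 M hR ▸ hg)
theorem stab1 (hR : Rels M.gen rels) : sub M.gen ws1 ⊓ MulAction.stabilizer Γ (M.dec 1) = sub M.gen ws2 := by rw [ext1 M hR]; exact (res1 M hR).stab
theorem orb1 (hR : Rels M.gen rels) (y : Ω) : y ∈ M.S lev1.orb ↔ ∃ g ∈ sub M.gen ws1, g • M.dec 1 = y := by rw [ext1 M hR]; exact (res1 M hR).orb y
theorem r0 (hR : Rels M.gen rels) : Rels M.gen rels0 := (Rels.left hR)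
theorem res0 (hR : Rels M.gen rels) : M.LevelRes ws1 lev0 239500800 := M.level (card1 M hR) chk0 (Rels.left (r0 M hR))
theorem ext0 (hR : Rels M.gen rels) : sub M.gen ws0 = sub M.gen (lev0.gens ws1) := sub_extend (Rels.right (r0 M hR))
theorem card0 (hR : Rels M.gen rels) : Nat.card (sub M.gen ws0) = 239500800 := by rw [ext0 M hR]; exact (res0 M hR).card
theorem fix0 (hR : Rels M.gen rels) : M.FixTriv (lev0.gens ws1) [0, 1, 2, 3, 4, 5, 6, 7, 8, 9] := (res0 M hR).fixTriv M (fixw1 M hR)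
theorem fixw0 (hR : Rels M.gen rels) : M.FixTriv ws0 [0, 1, 2, 3, 4, 5, 6, 7, 8, 9] := fun g hg => fix0 M hR g (ext0 M hR ▸ hg)
theorem stab0 (hR : Rels M.gen rels) : sub M.gen ws0 ⊓ MulAction.stabilizer Γ (M.dec 0) = sub M.gen ws1 := by rw [ext0 M hR]; exact (res0 M hR).stab
theorem orb0 (hR : Rels M.gen rels) (y : Ω) : y ∈ M.S lev0.orb ↔ ∃ g ∈ sub M.gen ws0, g • M.dec 0 = y := by rw [ext0 M hR]; exact (res0 M hR).orb y
theorem orig_eq {gen : ℕ → Γ} (h : Rels gen allRels) : sub gen (lets 10) = sub gen ws0 :=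
  sub_lets_eq_of_rels (ds := defs) (by decide +kernel) (relsD_of_all h) (by decide +kernel) (relsO_of_all h)
theorem gen_mem {gen : ℕ → Γ} (h : Rels gen allRels) {X : Subgroup Γ} (h0 : ∀ l < 10, gen l ∈ X) : sub gen ws0 ≤ X :=
  sub_le_of_wsIn (lo := 0) (gen_mem_of_defRels (ds := defs) (fun l _ hl => h0 l hl) (by decide +kernel) (relsD_of_all h)) (by decide +kernel)

end

/-- the permutation group -/
noncomputable abbrev P := permPM 12 nets (by decide) (by decide) nets_ok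
theorem allP : Rels P.gen allRels := all_ok' P
/-- machines of this type -/
abbrev St (X : Type*) [Group X] := Std X 12 nets ws0 239500800 allRels
/-- the presentation on the strong generators -/
theorem hom {X : Type*} [Group X] (S : St X) {Δ : Type*} [Group Δ] (y : ℕ → Δ) (hy : Rels y rels) :
    ∃ φ : X →* Δ, φ.range = sub y ws0 ∧ ∀ w ∈ ws0, φ (H14.ev S.M.gen w) = H14.ev y w :=
  S.hom_ws y (card0 _ ((rels_of_all S.rels).prod hy))
/-- the presentation on all letters -/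
theorem hom' {X : Type*} [Group X] (S : St X) {Δ : Type*} [Group Δ] (y : ℕ → Δ) (hy : Rels y allRels) :
    ∃ φ : X →* Δ, φ.range = sub y (lets 10) ∧ ∀ l < 24, φ (S.M.gen l) = y l :=
  S.hom_all y (card0 _ (rels_of_all (S.rels.prod hy))) (orig_eq (S.rels.prod hy)) (orig_eq hy) (ds := defs)
    (by decide +kernel) (relsD_of_all (S.rels.prod hy)) (by decide +kernel)
theorem std_spec : ∃ S : St (alternatingGroup (Fin 12)), S.π = (alternatingGroup (Fin 12)).subtype ∧ ∀ l, (alternatingGroup (Fin 12)).subtype (S.M.gen l) = P.gen l :=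
  std_of_hom _ (mem_alt (P.rels_of_chk (sep P) (l := cubes 10) (by decide +kernel))) (ds := defs) (by decide +kernel) (by decide +kernel)
    (relsD_of_all allP) (bd_alt (by decide +kernel)) (card0 P (rels_of_all allP)) allP
theorem std : Nonempty (St (alternatingGroup (Fin 12))) := let ⟨S, _⟩ := std_spec; ⟨S⟩

end H15.StdAlt12
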