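import Cfsg.Agent.H15.TAlt
import Cfsg.Agent.H15.Glue
import Cfsg.Agent.H15.Iso
import Cfsg.Agent.H15.StdAlt9
import Cfsg.Agent.H15.StdAlt11
import Cfsg.Agent.H15.StdAlt12

/-! The Carmichael presentations `carm k` of the alternating groups: `homA9`, `homA11`, `homA12`. -/

set_option Elab.async false

namespace H15
open H14

universe u
variable {G : Type*} [Group G] {g : ℕ → G}

/-- the relators `x_i ^ 3` and `(x_i x_j) ^ 2` -/
def carm (k : ℕ) : List (List ℕ) := (List.range k).flatMap fun j =>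
  [2 * j, 2 * j, 2 * j] :: (List.range j).map fun i => [2 * i, 2 * j, 2 * i, 2 * j]
/-- all letters -/
def idw (k : ℕ) : List (List ℕ) := (List.range k).map fun a => [a]

theorem bdA1 (h : RelL g (carm 1)) : Bd (Sw g (lts 1)) 3 :=
  bd_step TAlt1.idx h (idw 2) (Bd.Sw_nil g) (by decide +kernel)
theorem bdA2 (h : RelL g (carm 2)) : Bd (Sw g (lts 2)) 12 :=
  bd_step TAlt2.idx h (idw 4) (bdA1 (h.sub (by decide +kernel))) (by decide +kernel)
theorem bdA3 (h : RelL g (carm 3)) : Bd (Sw g (lts 3)) 60 :=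
  bd_step TAlt3.idx h (idw 6) (bdA2 (h.sub (by decide +kernel))) (by decide +kernel)
theorem bdA4 (h : RelL g (carm 4)) : Bd (Sw g (lts 4)) 360 :=
  bd_step TAlt4.idx h (idw 8) (bdA3 (h.sub (by decide +kernel))) (by decide +kernel)
theorem bdA5 (h : RelL g (carm 5)) : Bd (Sw g (lts 5)) 2520 :=
  bd_step TAlt5.idx h (idw 10) (bdA4 (h.sub (by decide +kernel))) (by decide +kernel)
theorem bdA6 (h : RelL g (carm 6)) : Bd (Sw g (lts 6)) 20160 :=
  bd_step TAlt6.idx h (idw 12) (bdA5 (h.sub (by decide +kernel))) (by decide +kernel)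
theorem bdA7 (h : RelL g (carm 7)) : Bd (Sw g (lts 7)) 181440 :=
  bd_step TAlt7.idx h (idw 14) (bdA6 (h.sub (by decide +kernel))) (by decide +kernel)
theorem bdA8 (h : RelL g (carm 8)) : Bd (Sw g (lts 8)) 1814400 :=
  bd_step TAlt8.idx h (idw 16) (bdA7 (h.sub (by decide +kernel))) (by decide +kernel)
theorem bdA9 (h : RelL g (carm 9)) : Bd (Sw g (lts 9)) 19958400 :=
  bd_step TAlt9.idx h (idw 18) (bdA8 (h.sub (by decide +kernel))) (by decide +kernel)
theorem bdA10 (h : RelL g (carm 10)) : Bd (Sw g (lts 10)) 239500800 :=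
  bd_step TAlt10.idx h (idw 20) (bdA9 (h.sub (by decide +kernel))) (by decide +kernel)

theorem hom_of_pres {X : Type*} [Group X] {x : ℕ → X} {k N : ℕ} {R : List (List ℕ)} (hx : RelL x R)
    (ht : Sw x (lts k) = ⊤) (hN : Nat.card X = N) (h : RelL g R)
    (hb : RelL (pr x g) R → Bd (Sw (pr x g) (lts k)) N) :
    ∃ φ : X →* G, φ.range = Sw g (lts k) ∧ ∀ l < k, φ (x l) = g l := by
  obtain ⟨f, hf⟩ := hom_of_bd (hb (hx.pr h)) (K := ⊤) ((map_Sw _ _ _).trans ht)
    fun _ => by rw [Subgroup.card_top, hN]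
  have e : ∀ l < k, f.comp Subgroup.topEquiv.symm.toMonoidHom (x l) = g l := fun l hl =>
    hf _ (gen_mem_lts (pr x g) hl) trivial
  generalize f.comp Subgroup.topEquiv.symm.toMonoidHom = φ at e
  refine ⟨φ, ?_, e⟩
  rw [MonoidHom.range_eq_map, ← ht, map_Sw]
  exact le_antisymm (lts_le fun l hl => (e l hl).symm ▸ gen_mem_lts g hl)
    (lts_le fun l hl => e l hl ▸ gen_mem_lts (fun l => φ (x l)) hl)

theorem presA9 : ∃ x : ℕ → alternatingGroup (Fin 9), RelL x (carm 7) ∧ Sw x (lts 7) = ⊤ ∧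
    Nat.card (alternatingGroup (Fin 9)) = 181440 := by
  obtain ⟨S, -, h⟩ := StdAlt9.std_spec
  refine ⟨S.M.gen, fun w hw => Subtype.ext ?_, ?_, S.card⟩
  · have := (relL_of_rels (StdAlt9.P.rels_of_chk (StdAlt9.sep StdAlt9.P)
      (l := (carm 7).map fun w => (w.reverse, [])) (by decide +kernel))) w hw
    rw [← funext h, ← map_evL] at this
    exact this
  · rw [← S.top, ← StdAlt9.orig_eq S.rels]; rfl

theorem homA9 : ∃ x : alternatingGroup (Fin 9), ∀ (Δ : Type u) [Group Δ] (y : ℕ → Δ), RelL y (carm 7) →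
    ∃ φ : alternatingGroup (Fin 9) →* Δ, φ.range = Sw y (lts 7) ∧ φ x = y 0 :=
  let ⟨x, h1, h2, h3⟩ := presA9
  ⟨x 0, fun _ _ _ h => let ⟨φ, a, b⟩ := hom_of_pres h1 h2 h3 h bdA7; ⟨φ, a, b 0 (by decide)⟩⟩
theorem cardA9 : Nat.card (alternatingGroup (Fin 9)) = 181440 := presA9.choose_spec.2.2

theorem presA11 : ∃ x : ℕ → alternatingGroup (Fin 11), RelL x (carm 9) ∧ Sw x (lts 9) = ⊤ ∧
    Nat.card (alternatingGroup (Fin 11)) = 19958400 := by
  obtain ⟨S, -, h⟩ := StdAlt11.std_spec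
  refine ⟨S.M.gen, fun w hw => Subtype.ext ?_, ?_, S.card⟩
  · have := (relL_of_rels (StdAlt11.P.rels_of_chk (StdAlt11.sep StdAlt11.P)
      (l := (carm 9).map fun w => (w.reverse, [])) (by decide +kernel))) w hw
    rw [← funext h, ← map_evL] at this
    exact this
  · rw [← S.top, ← StdAlt11.orig_eq S.rels]; rfl

theorem homA11 : ∃ x : alternatingGroup (Fin 11), ∀ (Δ : Type u) [Group Δ] (y : ℕ → Δ), RelL y (carm 9) →
    ∃ φ : alternatingGroup (Fin 11) →* Δ, φ.range = Sw y (lts 9) ∧ φ x = y 0 :=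
  let ⟨x, h1, h2, h3⟩ := presA11
  ⟨x 0, fun _ _ _ h => let ⟨φ, a, b⟩ := hom_of_pres h1 h2 h3 h bdA9; ⟨φ, a, b 0 (by decide)⟩⟩
theorem cardA11 : Nat.card (alternatingGroup (Fin 11)) = 19958400 := presA11.choose_spec.2.2

theorem presA12 : ∃ x : ℕ → alternatingGroup (Fin 12), RelL x (carm 10) ∧ Sw x (lts 10) = ⊤ ∧
    Nat.card (alternatingGroup (Fin 12)) = 239500800 := by
  obtain ⟨S, -, h⟩ := StdAlt12.std_spec
  refine ⟨S.M.gen, fun w hw => Subtype.ext ?_, ?_, S.card⟩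
  · have := (relL_of_rels (StdAlt12.P.rels_of_chk (StdAlt12.sep StdAlt12.P)
      (l := (carm 10).map fun w => (w.reverse, [])) (by decide +kernel))) w hw
    rw [← funext h, ← map_evL] at this
    exact this
  · rw [← S.top, ← StdAlt12.orig_eq S.rels]; rfl

theorem homA12 : ∃ x : alternatingGroup (Fin 12), ∀ (Δ : Type u) [Group Δ] (y : ℕ → Δ), RelL y (carm 10) →
    ∃ φ : alternatingGroup (Fin 12) →* Δ, φ.range = Sw y (lts 10) ∧ φ x = y 0 :=
  let ⟨x, h1, h2, h3⟩ := presA12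
  ⟨x 0, fun _ _ _ h => let ⟨φ, a, b⟩ := hom_of_pres h1 h2 h3 h bdA10; ⟨φ, a, b 0 (by decide)⟩⟩
theorem cardA12 : Nat.card (alternatingGroup (Fin 12)) = 239500800 := presA12.choose_spec.2.2

end H15
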