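import Cfsg.Agent.H15.DC3
import Cfsg.Agent.H14.BigM
import Cfsg.Agent.H14.MachT

/-! Counting the elements of a subgroup of a permutation machine by enumeration on a small invariant set
(`Cn.count_le`), fixed points (`Cn.fix_le`, `Cn.cent_step`, `Cn.exists_fix`). -/

namespace H15.Cn
open H14 L DC

/-- count the numbers below `k` with `f` -/
noncomputable def cntLt (f : ℕ → Bool) (k : ℕ) : ℕ → ℕ :=
  @Nat.rec (fun _ => ℕ → ℕ) (fun a => a) (fun i ih a => lit (cond (f i) (Nat.succ a) a) ih) k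
/-- the table of a function -/
noncomputable def mk (r : ℕ) (f : ℕ → ℕ) : ℕ := pack 16 (fun j => f (Nat.mul 16 j)) r
/-- the table `τ` belongs to the word `w` -/
noncomputable def chkTab (F : ℕ → ℕ → ℕ) (sp r : ℕ) (w : Word) (τ : ℕ) : Bool :=
  H14.allLt (fun j => lit (st1 τ (Nat.mul 16 j)) fun v => Nat.blt (Nat.div v 16) r &&
    (Nat.beq (Nat.mul 16 (Nat.div v 16)) v && Nat.beq (apW F w (st1 sp (Nat.mul 16 j))) (st1 sp v))) r
/-- products of tables -/
noncomputable def slp (r I : ℕ) (k : List ℕ → Bool) (l : List (ℕ × ℕ)) : List ℕ → Bool :=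
  @List.rec (ℕ × ℕ) (fun _ => List ℕ → Bool) k (fun p _ ih ts => lit (getL I ts p.1) fun a => lit (getL I ts p.2) fun b =>
    lit (mk r fun y => st1 a (st1 b y)) fun c => ih (c :: ts)) l
/-- enumeration of products -/
noncomputable def cnt (test : (ℕ → ℕ) → Bool) (Ts : List (ℕ × List ℕ)) : (ℕ → ℕ) → ℕ → ℕ :=
  @List.rec (ℕ × List ℕ) (fun _ => (ℕ → ℕ) → ℕ → ℕ) (fun f a => cond (test f) (Nat.succ a) a)
    (fun p _ ih f => @List.rec ℕ (fun _ => ℕ → ℕ) (fun a => a)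
      (fun τ _ ih' a => lit τ fun τ' => lit (ih (fun y => f (st1 τ' y)) a) ih') p.2) Ts
/-- the levels are transversals -/
def lvOk (sp r : ℕ) : List (ℕ × List ℕ) → Bool
  | [] => true
  | p :: Ts => Nat.blt p.1 r && (decide (p.2.map fun τ => st1 sp (st1 τ (16 * p.1))).Nodup &&
    (Ts.all (fun q => q.2.all fun τ => Nat.beq (st1 τ (16 * p.1)) (16 * p.1)) && lvOk sp r Ts))
/-- the whole check -/
noncomputable def chk (F : ℕ → ℕ → ℕ) (sp r : ℕ) (ws : List Word) (ts : List ℕ) (l : List (ℕ × ℕ))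
    (Ts : List (ℕ × List ℕ)) (N : ℕ) (test : (ℕ → ℕ) → Bool) (c : ℕ) : Bool :=
  (ws.zip ts).all (fun p => chkTab F sp r p.1 p.2) && (Nat.ble ts.length ws.length && lit (mk r fun y => y) fun I =>
    slp r I (fun ts => (fun Ts' => lvOk sp r Ts' && (Nat.ble N (Ts'.map fun p => p.2.length).prod &&
      Nat.ble (cnt test Ts' (fun y => y) 0) c)) (Ts.map fun p => (p.1, p.2.map (getL I ts)))) l ts)
/-- the points are points -/
noncomputable def spOk (n sp r : ℕ) : Bool := Nat.ble r 4096 && H14.allLt (fun j => Nat.blt (st1 sp (Nat.mul 16 j)) n) r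
/-- the power `p` fixes the points `bs` -/
noncomputable def pw (sp r p : ℕ) (bs : List ℕ) (f : ℕ → ℕ) : Bool :=
  allL (fun b => cond (Nat.blt b r) (Nat.beq (st1 sp (@Nat.rec (fun _ => ℕ) (Nat.mul 16 b) (fun _ y => f y) p))
    (st1 sp (Nat.mul 16 b))) true) bs
/-- there is a fixed point -/
noncomputable def fx (sp r : ℕ) (f : ℕ → ℕ) : Bool :=
  !H14.allLt (fun j => !Nat.beq (st1 sp (f (Nat.mul 16 j))) (st1 sp (Nat.mul 16 j))) r
/-- commuting with a table on the points `bs` -/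
noncomputable def cm (sp r τ : ℕ) (bs : List ℕ) (f : ℕ → ℕ) : Bool :=
  allL (fun b => cond (Nat.blt b r) (Nat.beq (st1 sp (f (st1 τ (Nat.mul 16 b)))) (st1 sp (st1 τ (f (Nat.mul 16 b))))) true) bs
/-- the points of `U` outside of `S` lie in orbits with stabilisers of order prime to `p` -/
noncomputable def cov (n : ℕ) (Ls : List Net) (ws : List Word) (N p U : ℕ) (os : List (ℕ × List Word)) : ℕ → Bool :=
  @List.rec (ℕ × List Word) (fun _ => ℕ → Bool) (fun S => subs U S) (fun o _ ih S =>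
    lit (orbRun Ls ws o.2 (bit o.1)) fun O => Nat.blt o.1 n && (invChk Ls ws O &&
      (!Nat.beq (Nat.mod (Nat.div N (pop n O)) p) 0 && lit (Nat.lor S O) ih))) os
/-- the set of points -/
noncomputable def spS (sp r : ℕ) : ℕ := bits ((List.range r).map fun j => st1 sp (16 * j))
/-- the number of fixed points in `O` -/
noncomputable def fixN (F : ℕ → ℕ → ℕ) (n : ℕ) (w : Word) (O : ℕ) : ℕ :=
  cntLt (fun y => cond (tb O y) (Nat.beq (apW F w y) y) false) n 0

theorem cntLt_eq (f : ℕ → Bool) (k a : ℕ) : cntLt f k a = ((Finset.range k).filter fun i => f i = true).card + a := by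
  induction k generalizing a with
  | zero => simp [cntLt]
  | succ k ih =>
    rw [show cntLt f (k + 1) a = cntLt f k (cond (f k) (a + 1) a) from lit_eq _ _, ih, Finset.range_add_one,
      Finset.filter_insert]
    cases f k
    · simp
    · rw [if_pos rfl, Finset.card_insert_of_notMem (by simp), cond_true]; omega

variable {Γ Ω : Type*} [Group Γ] [MulAction Γ Ω] {n : ℕ} {Ls : List Net} (M : PM Γ Ω n Ls) (sp r : ℕ)

/-- `f` describes `g` -/
def Fn (f : ℕ → ℕ) (g : Γ) : Prop :=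
  ∀ j < r, ∃ i < r, f (16 * j) = 16 * i ∧ g • M.dec (st1 sp (16 * j)) = M.dec (st1 sp (16 * i))

variable {M sp r} {F : ℕ → ℕ → ℕ} {f f' : ℕ → ℕ} {g g' : Γ}

theorem Fn.one : Fn M sp r (fun y => y) 1 := fun j hj => ⟨j, hj, rfl, one_smul _ _⟩

theorem Fn.mul (h : Fn M sp r f g) (h' : Fn M sp r f' g') : Fn M sp r (fun y => f (f' y)) (g * g') := fun j hj => by
  obtain ⟨i, a, b, c⟩ := h' j hj
  obtain ⟨k, a', b', c'⟩ := h i a
  exact ⟨k, a', (congrArg f b).trans b', by rw [mul_smul, c, c']⟩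

theorem Fn.pow (h : Fn M sp r f g) (p : ℕ) :
    Fn M sp r (fun y => @Nat.rec (fun _ => ℕ) y (fun _ y => f y) p) (g ^ p) := by
  induction p with
  | zero => rw [pow_zero]; exact Fn.one
  | succ p ih => rw [pow_succ']; exact h.mul ih

theorem sp_lt (hs : spOk n sp r = true) {j : ℕ} (hj : j < r) : st1 sp (16 * j) < n :=
  Nat.blt_eq.mp (allLt_spec (Bool.and_eq_true_iff.1 hs).2 j hj)

theorem Fn.mk (hs : spOk n sp r = true) (h : Fn M sp r f g) : Fn M sp r (st1 (mk r f)) g := fun j hj => by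
  obtain ⟨i, a, b, c⟩ := h j hj
  have hr : r ≤ 4096 := Nat.le_of_ble_eq_true (Bool.and_eq_true_iff.1 hs).1
  refine ⟨i, a, ?_, c⟩
  rw [← b, st1_eq]
  exact (fld_eq 16 _ j).symm.trans (H14.BM.fld_pack' (fun t ht => by
    obtain ⟨i, a, b, -⟩ := h t ht
    show f (16 * t) < 65536
    omega) hj)

theorem Fn.eq (hs : spOk n sp r = true) (h : Fn M sp r f g) (h' : Fn M sp r f' g) {j : ℕ} (hj : j < r) :
    st1 sp (f (16 * j)) = st1 sp (f' (16 * j)) := by
  obtain ⟨i, a, b, c⟩ := h j hj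
  obtain ⟨k, a', b', c'⟩ := h' j hj
  rw [b, b', ← M.enc_dec _ (sp_lt hs a), ← c, c', M.enc_dec _ (sp_lt hs a')]

theorem pw_of (hs : spOk n sp r = true) (h : Fn M sp r f g) {p : ℕ} (hp : g ^ p = 1) (bs : List ℕ) :
    pw sp r p bs f = true := allL_iff.2 fun b _ => by
  cases hb : Nat.blt b r
  · rfl
  · exact Nat.beq_eq ▸ (hp ▸ h.pow p).eq hs Fn.one (Nat.blt_eq.mp hb)

theorem cm_of (hs : spOk n sp r = true) (h : Fn M sp r f g) {τ : ℕ} (h' : Fn M sp r (st1 τ) g') (hc : g * g' = g' * g)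
    (bs : List ℕ) : cm sp r τ bs f = true := allL_iff.2 fun b _ => by
  cases hb : Nat.blt b r
  · rfl
  · exact Nat.beq_eq ▸ (h.mul h').eq hs (hc ▸ h'.mul h) (Nat.blt_eq.mp hb)

theorem fx_of (hs : spOk n sp r = true) (h : Fn M sp r f g) {y : Ω} (hy : y ∈ M.S (spS sp r)) (e : g • y = y) :
    fx sp r f = true := by
  obtain ⟨j, hj, e'⟩ := List.mem_map.1 ((testBit_bits _ _).1 hy)
  rw [List.mem_range] at hj
  rw [fx, Bool.not_eq_true', Bool.eq_false_iff]
  intro h1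
  obtain ⟨i, a, b, c⟩ := h j hj
  have h2 : (!Nat.beq (st1 sp (f (16 * j))) (st1 sp (16 * j))) = true := allLt_spec h1 j hj
  rw [e', M.dec_enc, e] at c
  rw [b, e', c, M.enc_dec _ (sp_lt hs a), Nat.beq_refl] at h2
  exact absurd h2 (by decide)

theorem exists_fix [Finite Γ] {ws : List Word} {N p U : ℕ} (hN : Nat.card (sub M.gen ws) = N)
    {os : List (ℕ × List Word)} {S : ℕ} (h : cov n Ls ws N p U os S = true) (hg : g ∈ sub M.gen ws)
    (hp : orderOf g = p) {y : Ω} (hy : y ∈ M.S U) (e : g • y = y) : y ∈ M.S S := by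
  induction os generalizing S with
  | nil => exact M.S_mono h hy
  | cons o os ih =>
    replace h : lit (orbRun Ls ws o.2 (bit o.1)) (fun O => Nat.blt o.1 n && (invChk Ls ws O &&
      (!Nat.beq (Nat.mod (Nat.div N (pop n O)) p) 0 && lit (Nat.lor S O) (cov n Ls ws N p U os)))) = true := h
    simp only [lit_eq, Bool.and_eq_true, Nat.blt_eq, Bool.not_eq_true'] at h
    obtain ⟨h1, h2, h3, h4⟩ := h
    refine ((M.mem_S_lor _ _ _).1 (ih h4)).resolve_right fun h5 => Nat.ne_of_beq_eq_false h3 ?_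
    have h6 := PM.card_eq_mul (sub M.gen ws) y
    have h7 : {z | ∃ g ∈ sub M.gen ws, g • y = z} = M.S (orbRun Ls ws o.2 (bit o.1)) := by
      ext z
      refine ⟨fun ⟨k, hk, e⟩ => e ▸ (M.inv_sound h2 hk y).2 h5, fun hz => ?_⟩
      obtain ⟨a, ha, e1⟩ := M.orb_sound_bit _ _ h1 h5
      obtain ⟨b, hb, e2⟩ := M.orb_sound_bit _ _ h1 hz
      exact ⟨b * a⁻¹, mul_mem hb (inv_mem ha), by rw [← e1, mul_smul, inv_smul_smul, e2]⟩
    rw [h7, M.ncard_S, hN] at h6
    have h8 : 0 < pop n (orbRun Ls ws o.2 (bit o.1)) := Nat.pos_of_ne_zero fun h0 => by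
      rw [h0, mul_zero, ← hN] at h6; exact Nat.card_pos.ne' h6
    show N / _ % p = 0
    rw [h6, Nat.mul_div_cancel _ h8, ← hp]
    exact Nat.mod_eq_zero_of_dvd (Subgroup.orderOf_dvd_natCard _ ⟨hg, e⟩)

variable [PtF n Ls F]

theorem fn_of_chk (hs : spOk n sp r = true) {w : Word} {τ : ℕ} (h : chkTab F sp r w τ = true) :
    Fn M sp r (st1 τ) (H14.ev M.gen w) := fun j hj => by
  have := allLt_spec h j hj
  simp only [lit_eq, Bool.and_eq_true, Nat.blt_eq, Nat.beq_eq] at this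
  obtain ⟨a, b, c⟩ := this
  exact ⟨_, a, b.symm, by rw [ev_dec (F := F) M w (sp_lt hs hj)]; exact congrArg _ (c.trans (congrArg _ b.symm))⟩

theorem fix_le (w : Word) (O : ℕ) : {y | y ∈ M.S O ∧ H14.ev M.gen w • y = y}.ncard ≤ fixN F n w O := by
  rw [fixN, cntLt_eq, add_zero, ← Set.ncard_coe_finset]
  refine Set.ncard_le_ncard_of_injOn M.enc (fun y hy => ?_) M.enc_inj.injOn (Finset.finite_toSet _)
  rw [Finset.coe_filter, Set.mem_ofPred_eq, Finset.mem_range, tb_eq, show O.testBit (M.enc y) = true from hy.1,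
    cond_true, ← enc_ev_dec M w (M.enc_lt y), M.dec_enc, hy.2]
  exact ⟨M.enc_lt y, Nat.beq_refl _⟩

theorem cent_step {w : Word} {ws : List Word} {b O c : ℕ} {U : Subgroup Γ}
    (hU : sub M.gen ws ⊓ MulAction.stabilizer Γ (M.dec b) = U)
    (hc : Nat.card (U ⊓ Subgroup.centralizer {H14.ev M.gen w} : Subgroup Γ) ≤ c) {a : ℕ}
    (h : (Nat.blt b n && (tb O b && (Nat.beq (apW F w b) b && (invChk Ls ws O && Nat.ble (fixN F n w O) a)))) = true) :
    Nat.card (sub M.gen ws ⊓ Subgroup.centralizer {H14.ev M.gen w} : Subgroup Γ) ≤ c * a := by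
  simp only [Bool.and_eq_true, Nat.blt_eq, Nat.beq_eq, Nat.ble_eq] at h
  obtain ⟨h1, h2, h3, h4, h5⟩ := h
  rw [PM.card_eq_mul _ (M.dec b), inf_right_comm, hU]
  have := M.finite
  refine Nat.mul_le_mul hc ((Set.ncard_le_ncard ?_).trans ((fix_le (M := M) w O).trans h5))
  rintro _ ⟨g, ⟨hg, hg'⟩, rfl⟩
  refine ⟨(M.inv_sound h4 hg _).2 (by rw [PM.mem_S, M.enc_dec b h1, ← tb_eq, h2]), ?_⟩
  rw [← mul_smul, hg' _ rfl, mul_smul, ev_dec (F := F) M w h1, h3]

omit [PtF n Ls F] in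
theorem slp_spec (hs : spOk n sp r = true) {K : Subgroup Γ} {I : ℕ} (hI : Fn M sp r (st1 I) 1) {k : List ℕ → Bool}
    {l : List (ℕ × ℕ)} {ts : List ℕ} (h : slp r I k l ts = true) (ht : ∀ τ ∈ ts, ∃ g ∈ K, Fn M sp r (st1 τ) g) :
    ∃ ts', k ts' = true ∧ ∀ i, ∃ g ∈ K, Fn M sp r (st1 (getL I ts' i)) g := by
  have key : ∀ i, ∃ g ∈ K, Fn M sp r (st1 (getL I ts i)) g := fun i =>
    (getL_mem_or I ts i).elim (ht _) fun e => ⟨1, one_mem _, e.symm ▸ hI⟩
  induction l generalizing ts with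
  | nil => exact ⟨ts, h, key⟩
  | cons p l ih =>
    replace h : lit (getL I ts p.1) (fun a => lit (getL I ts p.2) fun b =>
      lit (mk r fun y => st1 a (st1 b y)) fun c => slp r I k l (c :: ts)) = true := h
    simp only [lit_eq] at h
    obtain ⟨a, ha, ha'⟩ := key p.1
    obtain ⟨b, hb, hb'⟩ := key p.2
    have ht' := fa_cons (P := fun τ => ∃ g ∈ K, Fn M sp r (st1 τ) g) ⟨_, mul_mem ha hb, (ha'.mul hb').mk hs⟩ ht
    exact ih h ht' fun i => (getL_mem_or I _ i).elim (ht' _) fun e => ⟨1, one_mem _, e.symm ▸ hI⟩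

/-- the enumerated elements -/
def els (φ : ℕ → Γ) : List (ℕ × List ℕ) → List Γ
  | [] => [1]
  | p :: Ts => p.2.flatMap fun τ => (els φ Ts).map (φ τ * ·)

omit [PtF n Ls F] in
theorem cnt_spec {φ : ℕ → Γ} {P : Γ → Prop} [DecidablePred P] {test : (ℕ → ℕ) → Bool}
    (hP : ∀ f g, Fn M sp r f g → P g → test f = true) {Ts : List (ℕ × List ℕ)}
    (hT : ∀ p ∈ Ts, ∀ τ ∈ p.2, Fn M sp r (st1 τ) (φ τ)) (h : Fn M sp r f g) (a : ℕ) :
    (els φ Ts).countP (fun u => P (g * u)) + a ≤ cnt test Ts f a := by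
  induction Ts generalizing f g a with
  | nil =>
    show _ ≤ cond (test f) (a + 1) a
    by_cases hg : P g
    · simp [els, hg, hP f g h hg, add_comm]
    · cases test f <;> simp [els, hg]
  | cons p Ts ih =>
    obtain ⟨b, T⟩ := p
    have h1 := hT _ List.mem_cons_self
    have h2 := fun p hp => hT p (List.mem_cons_of_mem _ hp)
    clear hT
    induction T generalizing a with
    | nil => simp [els, cnt]
    | cons τ T ih' =>
      have e : cnt test ((b, τ :: T) :: Ts) f a = cnt test ((b, T) :: Ts) f (cnt test Ts (fun y => f (st1 τ y)) a) := by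
        show lit τ (fun τ' => lit (cnt test Ts (fun y => f (st1 τ' y)) a) (cnt test ((b, T) :: Ts) f)) = _
        rw [lit_eq, lit_eq]
      have h3 := ih h2 (h.mul (h1 τ List.mem_cons_self)) a
      have h4 := ih' (cnt test Ts (fun y => f (st1 τ y)) a) fun τ h => h1 τ (List.mem_cons_of_mem _ h)
      rw [e, els, List.flatMap_cons, List.countP_append, List.countP_map]
      simp only [els, mul_assoc, Function.comp_def] at h3 h4 ⊢
      omega

omit [PtF n Ls F] in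
theorem els_spec (hs : spOk n sp r = true) {φ : ℕ → Γ} {Ts : List (ℕ × List ℕ)}
    (hT : ∀ p ∈ Ts, ∀ τ ∈ p.2, Fn M sp r (st1 τ) (φ τ)) (h : lvOk sp r Ts = true) :
    (els φ Ts).Nodup ∧ (els φ Ts).length = (Ts.map fun p => p.2.length).prod ∧
      ∀ X : Subgroup Γ, (∀ p ∈ Ts, ∀ τ ∈ p.2, φ τ ∈ X) → ∀ u ∈ els φ Ts, u ∈ X := by
  induction Ts with
  | nil => simp [els]
  | cons p Ts ih =>
    simp only [lvOk, Bool.and_eq_true, Nat.blt_eq, decide_eq_true_eq, List.all_eq_true, Nat.beq_eq] at h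
    obtain ⟨h1, h2, h3, h4⟩ := h
    have hT' := fun p hp => hT p (List.mem_cons_of_mem _ hp)
    obtain ⟨a, b, c⟩ := ih hT' h4
    have d := c (MulAction.stabilizer Γ (M.dec (st1 sp (16 * p.1)))) fun q hq τ hτ => by
      obtain ⟨i, -, e1, e2⟩ := hT' q hq τ hτ p.1 h1
      rw [MulAction.mem_stabilizer_iff, e2, ← e1, h3 q hq τ hτ]
    refine ⟨List.nodup_flatMap.2 ⟨fun τ _ => a.map (mul_right_injective _), ?_⟩, ?_, fun X hX u hu => ?_⟩
    · refine (List.pairwise_map.1 h2).imp_of_mem fun {τ τ'} hτ hτ' hne u hu hu' => hne ?_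
      obtain ⟨v, hv, rfl⟩ := List.mem_map.1 hu
      obtain ⟨v', hv', e⟩ := List.mem_map.1 hu'
      obtain ⟨i, a1, e1, e2⟩ := hT p List.mem_cons_self τ hτ p.1 h1
      obtain ⟨i', a1', e1', e2'⟩ := hT p List.mem_cons_self τ' hτ' p.1 h1
      have e3 := congrArg (· • M.dec (st1 sp (16 * p.1))) e
      simp only [mul_smul, MulAction.mem_stabilizer_iff.1 (d v hv), MulAction.mem_stabilizer_iff.1 (d v' hv'), e2,
        e2'] at e3
      rw [e1, e1', ← M.enc_dec _ (sp_lt hs a1), ← e3, M.enc_dec _ (sp_lt hs a1')]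
    · simp [els, List.length_flatMap, b]
    · obtain ⟨τ, hτ, hu⟩ := List.mem_flatMap.1 hu
      obtain ⟨v, hv, rfl⟩ := List.mem_map.1 hu
      exact mul_mem (hX p List.mem_cons_self τ hτ) (c X (fun q hq => hX q (List.mem_cons_of_mem _ hq)) v hv)

theorem count_le [Finite Γ] (hs : spOk n sp r = true) {K : Subgroup Γ} {N : ℕ} (hN : Nat.card K = N) {ws : List Word}
    (hw : sub M.gen ws ≤ K) {P : Γ → Prop} {test : (ℕ → ℕ) → Bool}
    (hP : ∀ f g, Fn M sp r f g → g ∈ K → P g → test f = true) {ts : List ℕ} {l : List (ℕ × ℕ)}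
    {Ts : List (ℕ × List ℕ)} {c : ℕ} (h : chk F sp r ws ts l Ts N test c = true) :
    {g | g ∈ K ∧ P g}.ncard ≤ c := by
  classical
  simp only [chk, Bool.and_eq_true, lit_eq, Nat.ble_eq] at h
  obtain ⟨h1, h2, h3⟩ := h
  obtain ⟨ts', h4, h5⟩ := slp_spec (M := M) (K := K) hs (Fn.one.mk hs) h3 fun τ hτ => by
    obtain ⟨i, hi, rfl⟩ := List.getElem_of_mem hτ
    have hi' := hi.trans_le h2
    exact ⟨_, hw (ev_mem_sub _ (List.getElem_mem hi')), fn_of_chk hs (List.all_eq_true.1 h1 (ws[i], ts[i])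
      (List.mem_iff_getElem.2 ⟨i, by rw [List.length_zip]; omega, List.getElem_zip⟩))⟩
  simp only [Bool.and_eq_true, Nat.ble_eq] at h4
  obtain ⟨h6, h7, h8⟩ := h4
  generalize hTs : (Ts.map fun p => (p.1, p.2.map (getL (mk r fun y => y) ts'))) = Ts' at h6 h7 h8
  let φ : ℕ → Γ := fun τ => if h : ∃ g ∈ K, Fn M sp r (st1 τ) g then h.choose else 1
  have h9 : ∀ p ∈ Ts', ∀ τ ∈ p.2, φ τ ∈ K ∧ Fn M sp r (st1 τ) (φ τ) := fun p hp τ hτ => by
    obtain ⟨q, -, rfl⟩ := List.mem_map.1 (hTs ▸ hp)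
    obtain ⟨i, -, rfl⟩ := List.mem_map.1 hτ
    simp only [φ, dif_pos (h5 i)]
    exact (h5 i).choose_spec
  obtain ⟨a, b, d⟩ := els_spec hs (fun p hp τ hτ => (h9 p hp τ hτ).2) h6
  have e : (↑(els φ Ts').toFinset : Set Γ) = K := Set.eq_of_subset_of_ncard_le
    (fun u hu => d K (fun p hp τ hτ => (h9 p hp τ hτ).1) u (List.mem_toFinset.1 hu))
    (by rw [Set.ncard_coe_finset, List.toFinset_card_of_nodup a, b, ← Nat.card_coe_set_eq]; exact hN.le.trans h7)
  refine le_trans ?_ ((cnt_spec (P := fun g => g ∈ K ∧ P g) (fun f g h h' => hP f g h h'.1 h'.2)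
    (fun p hp τ hτ => (h9 p hp τ hτ).2) Fn.one 0).trans h8)
  rw [add_zero, List.countP_eq_length_filter, ← List.toFinset_card_of_nodup (a.filter _), ← Set.ncard_coe_finset]
  refine Set.ncard_le_ncard (fun g hg => ?_) (Finset.finite_toSet _)
  simp only [List.coe_toFinset, List.mem_filter, Set.mem_ofPred_eq, one_mul, decide_eq_true_eq]
  exact ⟨List.mem_toFinset.1 (e.ge hg.1), hg⟩

end H15.Cn
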