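import Cfsg.Agent.H15.Cnt
import Cfsg.Agent.H15.BM2

/-! Centralisers in a group with a closed double coset enumeration (`Cl.cent_le`, `Cl.fix_enum`, `Cl.fix_pt`),
central extensions from relations modulo a central element (`cover_of_emb`). -/

namespace H15
open H14 L

namespace DC.Cl
variable {Γ G Ω : Type*} [Group Γ] [Group G] [MulAction Γ Ω] {n : ℕ} {Ls : List Net} {M : PM Γ Ω n Ls}
  {st : ℕ → ℕ → ℕ} {P0 A B K0 : ℕ} {E : Ev Γ st P0} {θ : Γ →* G} {T : G} {row : ℕ → ℕ}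
  {F : ℕ → ℕ → ℕ} [PtF n Ls F] {nF p0 O N : ℕ} {cs : List CI}
  (h : Cl M A B K0 E θ T row F nF p0 O N cs)
include h

theorem stab_eq (hi : θ.range.index = 1 + (cs.map CI.m).sum) {c : CI} (hc : c ∈ cs) :
    sub M.gen c.c.gens = (MulAction.stabilizer G (om E θ T row c.i)).comap θ ∧
      c.m * Nat.card (sub M.gen c.c.gens) = N := by
  have := h.fin
  have h1 := h.chk c hc
  simp only [CI.chk, Bool.and_eq_true] at h1
  have h2 : N ≤ c.m * c.c.val n Ls := Nat.le_of_ble_eq_true h1.2.2.1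
  have h4 := ((MulAction.stabilizer G (om E θ T row c.i)).comap θ).index_mul_card
  rw [← ncard_range, h.ncard_eq hi hc, h.card] at h4
  have h5 := Subgroup.eq_of_le_of_card_ge (h.le_stab hc) (Nat.le_of_mul_le_mul_left (c := c.m)
    (h4.le.trans (h2.trans (Nat.mul_le_mul_left _ (M.low c.c inferInstance)))) (Nat.pos_of_ne_zero fun h0 => by
      rw [h0, zero_mul, ← h.card] at h4; exact Nat.card_pos.ne h4))
  exact ⟨h5, h5 ▸ h4⟩

theorem card_K (hi : θ.range.index = 1 + (cs.map CI.m).sum) {c : CI} (hc : c ∈ cs) {k : ℕ}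
    (hk : (Nat.blt 0 c.m && Nat.beq (c.m * k) N) = true) : Nat.card (sub M.gen c.c.gens) = k := by
  simp only [Bool.and_eq_true, Nat.blt_eq, Nat.beq_eq] at hk
  exact Nat.eq_of_mul_eq_mul_left hk.1 ((h.stab_eq hi hc).2.trans hk.2.symm)

/-- the fixed cosets in a double coset -/
def FixC (E : Ev Γ st P0) (θ : Γ →* G) (T : G) (row : ℕ → ℕ) (t : Γ) (c : CI) (f : ℕ) : Prop :=
  {x | x ∈ Ob θ (om E θ T row c.i) ∧ θ t • x = x}.ncard ≤ f

theorem fix_enum (hi : θ.range.index = 1 + (cs.map CI.m).sum) {c : CI} (hc : c ∈ cs) {t : Γ} {k a b f : ℕ}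
    (hk : Nat.card (sub M.gen c.c.gens) = k) (ha : {g | g ∈ sub M.gen c.c.gens ∧ IsConj t g}.ncard ≤ a)
    (hb : Nat.card (Subgroup.centralizer {t}) ≤ b) (hf : b * a < k * (f + 1)) : FixC E θ T row t c f := by
  have := h.fin
  have e := (h.stab_eq hi hc).1
  have h1 : {g : Γ | θ g⁻¹ • om E θ T row c.i ∈ {x | x ∈ Ob θ (om E θ T row c.i) ∧ θ t • x = x}}.ncard =
      k * {x | x ∈ Ob θ (om E θ T row c.i) ∧ θ t • x = x}.ncard := by
    let := MulAction.compHom (G ⧸ θ.range) θ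
    rw [← hk, e]
    exact ncard_pre (Γ := Γ) (Ω := G ⧸ θ.range) (x := om E θ T row c.i)
      (S := {x | x ∈ Ob θ (om E θ T row c.i) ∧ θ t • x = x}) fun y hy => hy.1
  have h2 : {g : Γ | g⁻¹ * t * g⁻¹⁻¹ ∈ {g | g ∈ sub M.gen c.c.gens ∧ IsConj t g}}.ncard =
      Nat.card (Subgroup.centralizer {t}) * {g | g ∈ sub M.gen c.c.gens ∧ IsConj t g}.ncard := by
    let := MulAction.compHom Γ (MulAut.conj (G := Γ))
    rw [show Subgroup.centralizer {t} = MulAction.stabilizer Γ t from Subgroup.ext fun g =>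
      Subgroup.mem_centralizer_singleton_iff.trans mul_inv_eq_iff_eq_mul.symm]
    exact ncard_pre (Γ := Γ) (Ω := Γ) (x := t) (S := {g | g ∈ sub M.gen c.c.gens ∧ IsConj t g})
      fun y hy => isConj_iff.1 hy.2
  have h3 := Set.ncard_le_ncard_of_injOn (s := {g : Γ | θ g⁻¹ • om E θ T row c.i ∈
      {x | x ∈ Ob θ (om E θ T row c.i) ∧ θ t • x = x}}) (t := {g : Γ | g⁻¹ * t * g⁻¹⁻¹ ∈
      {g | g ∈ sub M.gen c.c.gens ∧ IsConj t g}}) Inv.inv (fun g hg => ⟨by
    rw [e, inv_inv g, Subgroup.mem_comap, MulAction.mem_stabilizer_iff, map_mul, map_mul, mul_smul, mul_smul, hg.2,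
      ← mul_smul, ← map_mul, mul_inv_cancel, map_one, one_smul], isConj_iff.2 ⟨_, rfl⟩⟩) inv_injective.injOn
  rw [h1, h2] at h3
  exact Nat.le_of_lt_succ (Nat.lt_of_mul_lt_mul_left ((h3.trans (Nat.mul_le_mul hb ha)).trans_lt hf))

theorem fix_pt (hi : θ.range.index = 1 + (cs.map CI.m).sum) {c : CI} (hc : c ∈ cs) {w : Word} {p f : ℕ}
    (hp : (Nat.blt p n && (tb O p && (invChk Ls c.c.gens (bit p) && (Nat.beq (pop n O) c.m &&
      Nat.ble (Cn.fixN F n w O) f)))) = true) : FixC E θ T row (H14.ev M.gen w) c f := by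
  have := h.fin
  have := M.finite
  simp only [Bool.and_eq_true, Nat.blt_eq, Nat.beq_eq, Nat.ble_eq] at hp
  obtain ⟨h1, h2, h3, h4, h5⟩ := hp
  obtain ⟨e1, e2⟩ := h.stab_eq hi hc
  obtain ⟨a, ha⟩ := (h.orb (M.dec p)).1 (by rw [PM.mem_S, M.enc_dec p h1, ← tb_eq, h2])
  have h6 := PM.card_eq_mul (⊤ : Subgroup Γ) (M.dec p)
  rw [show {y | ∃ g ∈ (⊤ : Subgroup Γ), g • M.dec p = y} = M.S O from Set.ext fun y => by
    rw [h.orb, ← ha]
    exact ⟨fun ⟨g, _, e⟩ => ⟨g * a, by rw [mul_smul, e]⟩, fun ⟨g, e⟩ => ⟨g * a⁻¹, trivial, by rw [mul_smul, inv_smul_smul, e]⟩⟩,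
    M.ncard_S, h4, top_inf_eq, Subgroup.card_top, h.card, ← e2, mul_comm] at h6
  have e3 := Subgroup.eq_of_le_of_card_ge (M.fix_sound h1 h3) (Nat.eq_of_mul_eq_mul_right (Nat.pos_of_ne_zero fun h0 => by
    rw [h0, zero_mul, ← h.card] at e2; exact Nat.card_pos.ne e2) h6).ge
  have e4 : ∀ g g' : Γ, θ g • om E θ T row c.i = θ g' • om E θ T row c.i ↔ g • M.dec p = g' • M.dec p := fun g g' => by
    rw [← inv_smul_eq_iff, ← mul_smul, ← map_inv, ← map_mul, ← inv_smul_eq_iff (g := g'), ← mul_smul,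
      ← MulAction.mem_stabilizer_iff, ← MulAction.mem_stabilizer_iff, ← e3, e1]; rfl
  choose! φ hφ using fun x (hx : x ∈ Ob θ (om E θ T row c.i)) => hx
  replace hφ : ∀ x ∈ Ob θ (om E θ T row c.i), θ (φ x) • om E θ T row c.i = x := hφ
  refine le_trans (Set.ncard_le_ncard_of_injOn (t := {y | y ∈ M.S O ∧ H14.ev M.gen w • y = y}) (fun x => φ x • M.dec p)
    (fun x hx => ⟨?_, ?_⟩) fun x hx y hy e => ?_) ((Cn.fix_le (M := M) w O).trans h5)
  · rw [h.orb, ← ha]; exact ⟨_, mul_smul _ _ _⟩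
  · rw [← mul_smul, ← e4, map_mul, mul_smul, hφ x hx.1, hx.2]
  · rw [← hφ x hx.1, ← hφ y hy.1]; exact (e4 _ _).2 e

theorem cent_le (hθ : Function.Injective θ) {t : Γ} {fs : List ℕ} (hf : List.Forall₂ (FixC E θ T row t) cs fs) {b : ℕ}
    (hb : Nat.card (Subgroup.centralizer {t}) ≤ b) : Nat.card (Subgroup.centralizer {θ t}) ≤ b * (1 + fs.sum) := by
  have := h.fin
  have : Finite (G ⧸ θ.range) := Nat.finite_of_card_ne_zero h.index_le.1
  rw [PM.card_eq_mul _ (om E θ T row 0)]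
  refine Nat.mul_le_mul (le_trans (Nat.card_le_card_of_surjective (α := Subgroup.centralizer {t})
    (fun g => ⟨θ g, by
      rw [Subgroup.mem_inf, Subgroup.mem_centralizer_singleton_iff, ← map_mul, ← map_mul,
        Subgroup.mem_centralizer_singleton_iff.1 g.2]
      exact ⟨rfl, smul_zero' _⟩⟩) fun ⟨g, h1, h2⟩ => ?_) hb) ?_
  · obtain ⟨k, rfl⟩ : g ∈ θ.range := by
      have h3 : g • om E θ T row 0 = om E θ T row 0 := h2
      rw [om, gel] at h3
      simpa using QuotientGroup.eq.1 h3.symm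
    refine ⟨⟨k, Subgroup.mem_centralizer_singleton_iff.2 (hθ ?_)⟩, rfl⟩
    rw [map_mul, map_mul]; exact Subgroup.mem_centralizer_singleton_iff.1 h1
  · have key : ∀ {l : List CI} {fs : List ℕ}, List.Forall₂ (FixC E θ T row t) l fs →
        {x | (∃ j ∈ 0 :: l.map CI.i, x ∈ Ob θ (om E θ T row j)) ∧ θ t • x = x}.ncard ≤ 1 + fs.sum := by
      intro l fs hl
      induction hl with
      | nil =>
        refine (Set.ncard_le_ncard (t := {om E θ T row 0}) fun x hx => ?_).trans (by simp)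
        simpa [Ob, smul_zero', eq_comm] using hx.1
      | @cons c f l fs hc _ ih =>
        refine (Set.ncard_le_ncard (t := {x | x ∈ Ob θ (om E θ T row c.i) ∧ θ t • x = x} ∪
          {x | (∃ j ∈ 0 :: l.map CI.i, x ∈ Ob θ (om E θ T row j)) ∧ θ t • x = x}) fun x hx => ?_).trans
          ((Set.ncard_union_le _ _).trans ?_)
        · simp only [List.map_cons, List.mem_cons, Set.mem_ofPred_eq, Set.mem_union, exists_eq_or_imp] at hx ⊢
          tauto
        · rw [List.sum_cons]; unfold FixC at hc; omega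
    refine (Set.ncard_le_ncard ?_).trans (key hf)
    rintro _ ⟨g, hg, rfl⟩
    exact ⟨h.cover _, by rw [← mul_smul, hg _ rfl, mul_smul, smul_zero']⟩

end DC.Cl

/-- relations modulo powers of `z` -/
noncomputable def modR (W : List Word) (z : Word) (rels : List (Word × Word)) (es : List ℕ) : List (Word × Word) :=
  (rels.zip es).map fun p => (flat W p.1.1, List.append (powW z p.2) (flat W p.1.2))

universe u in
theorem cover_of_emb {G : Type u} {X : Type*} [Group G] [Group X] [IsSimpleGroup X] {H : Subgroup G} {y : ℕ → G}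
    {W : List Word} {z : Word} (hz : H14.ev y z ∈ H) (hc : H ≤ Subgroup.centralizer {H14.ev y z})
    (hy : sub y W ≤ H) {rels : List (Word × Word)} {es : List ℕ} (hR : Rels y (modR W z rels es))
    (hl : Nat.ble rels.length es.length = true) (h1 : loc y W 0 ∉ Subgroup.zpowers (H14.ev y z)) {x : ℕ → X} {k : ℕ}
    (hom : ∀ (Δ : Type u) [Group Δ] (y : ℕ → Δ), Rels y rels → ∃ φ : X →* Δ, ∀ l < k + 1, φ (x l) = y l) :
    ∃ K ≤ H, H14.ev y z ∈ K ∧ (∀ l < k + 1, loc y W l ∈ K) ∧ Nat.card K = orderOf (H14.ev y z) * Nat.card X ∧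
      ∃ f : K →* X, Function.Surjective f ∧ ∀ g : K, f g = 1 ↔ g.1 ∈ Subgroup.zpowers (H14.ev y z) := by
  have hR' : ∀ p ∈ rels, ∃ e : ℕ, H14.ev (loc y W) p.1 = H14.ev (loc y W) p.2 * H14.ev y z ^ e := fun p hp => by
    obtain ⟨i, hi, rfl⟩ := List.getElem_of_mem hp
    have hi' := hi.trans_le (Nat.le_of_ble_eq_true hl)
    have := hR _ (List.mem_map_of_mem (List.mem_iff_getElem.2 ⟨i, by rw [List.length_zip]; omega, List.getElem_zip⟩))
    exact ⟨es[i], by rw [← ev_flat, ← ev_flat, ← ev_powW, ← H14.ev_append]; exact this⟩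
  generalize H14.ev y z = z at *
  let Z : Subgroup H := Subgroup.zpowers ⟨z, hz⟩
  have hZ : ∀ g : H, g ∈ Z ↔ g.1 ∈ Subgroup.zpowers z := fun g =>
    ⟨fun ⟨k, e⟩ => ⟨k, congrArg Subtype.val e⟩, fun ⟨k, e⟩ => ⟨k, Subtype.ext e⟩⟩
  have : Z.Normal := ⟨fun a ha g => by
    obtain ⟨k, rfl⟩ := ha
    have : Commute g ⟨z, hz⟩ := Subtype.ext (Subgroup.mem_centralizer_singleton_iff.1 (hc g.2))
    show g * _ ^ k * g⁻¹ ∈ Z
    rw [(this.zpow_right k).eq, mul_inv_cancel_right]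
    exact ⟨k, rfl⟩⟩
  let y' : ℕ → H := fun l => ⟨loc y W l, hy (ev_getL_mem _ _ _)⟩
  have hv : ∀ w, ((H14.ev y' w : H) : G) = H14.ev (loc y W) w := fun w => H14.map_ev (gen := y') H.subtype w
  have hz1 : QuotientGroup.mk' Z ⟨z, hz⟩ = 1 := (QuotientGroup.eq_one_iff _).2 (Subgroup.mem_zpowers _)
  obtain ⟨φ, hφ⟩ := hom (H ⧸ Z) (fun l => QuotientGroup.mk' Z (y' l)) fun p hp => by
    obtain ⟨e, he⟩ := hR' p hp
    rw [← H14.map_ev, ← H14.map_ev, ← mul_one (QuotientGroup.mk' Z (H14.ev y' p.2)), ← one_pow e, ← hz1, ← map_pow,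
      ← map_mul]
    exact congrArg _ (Subtype.ext ((hv _).trans (he.trans (by rw [← hv]; rfl))))
  let i := MonoidHom.ofInjective (inj_of_simple φ (g := x 0) fun h => h1 ((hZ (y' 0)).1
    ((QuotientGroup.eq_one_iff _).1 ((hφ 0 k.succ_pos).symm.trans h))))
  let K := (φ.range.comap (QuotientGroup.mk' Z)).map H.subtype
  have hK : ∀ g : K, g.1 ∈ H := fun g => Subgroup.map_subtype_le _ g.2
  have hK' : ∀ g : H, g.1 ∈ K ↔ QuotientGroup.mk' Z g ∈ φ.range := fun g =>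
    Subgroup.mem_map_iff_mem (f := H.subtype) H.subtype_injective
  let f : K →* X := i.symm.toMonoidHom.comp (((QuotientGroup.mk' Z).comp (Subgroup.inclusion fun g hg => hK ⟨g, hg⟩)).codRestrict
    φ.range fun g => (hK' ⟨g, hK g⟩).1 g.2)
  have hf : Function.Surjective f := fun a => by
    obtain ⟨g, hg⟩ := QuotientGroup.mk'_surjective Z (φ a)
    exact ⟨⟨g, (hK' g).2 ⟨a, hg.symm⟩⟩, i.symm_apply_eq.2 (Subtype.ext hg)⟩
  have hf' : ∀ g : K, f g = 1 ↔ g.1 ∈ Subgroup.zpowers z := fun g => by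
    rw [← hZ ⟨g, hK g⟩, ← QuotientGroup.eq_one_iff]
    exact i.symm.map_eq_one_iff.trans Subtype.ext_iff
  have hzK : z ∈ K := (hK' ⟨z, hz⟩).2 (hz1 ▸ one_mem _)
  refine ⟨K, Subgroup.map_subtype_le _, hzK, fun l hl => (hK' (y' l)).2 ⟨_, hφ l hl⟩, ?_, f, hf, hf'⟩
  rw [← f.ker.card_mul_index, Subgroup.index_ker, MonoidHom.range_eq_top.2 hf, Subgroup.card_top,
    show f.ker = (Subgroup.zpowers z).subgroupOf K from Subgroup.ext hf', ← Nat.card_zpowers,
    Nat.card_congr (Subgroup.subgroupOfEquivOfLe (Subgroup.zpowers_le.2 hzK)).toEquiv]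

variable {G X : Type*} [Group G] [Group X]

theorem eq_of_card_lt {K H : Subgroup G} [Finite H] (h : K ≤ H) (hc : Nat.card H < 2 * Nat.card K) : K = H := by
  obtain ⟨m, hm⟩ := Subgroup.card_dvd_of_le h
  have h0 : Nat.card H ≠ 0 := Nat.card_pos.ne'
  have : m = 1 := by
    rcases m with _ | _ | m
    · simp [hm] at h0
    · rfl
    · rw [hm] at hc; nlinarith
  exact Subgroup.eq_of_le_of_card_ge h (by rw [hm, this, mul_one])

theorem center_cover {K : Subgroup G} {z : G} (hc : K ≤ Subgroup.centralizer {z}) {f : K →* X}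
    (hf : Function.Surjective f) (hf' : ∀ g : K, f g = 1 ↔ g.1 ∈ Subgroup.zpowers z) (hX : Subgroup.center X = ⊥) :
    Subgroup.center K = f.ker := by
  refine le_antisymm (fun g hg => ?_) fun g hg => Subgroup.mem_center_iff.2 fun a => Subtype.ext ?_
  · have : f g ∈ Subgroup.center X := Subgroup.mem_center_iff.2 fun a => by
      obtain ⟨a, rfl⟩ := hf a
      rw [← map_mul, ← map_mul, Subgroup.mem_center_iff.1 hg a]
    rwa [hX] at this
  · obtain ⟨k, e⟩ := (hf' g).1 hg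
    have : Commute a.1 z := Subgroup.mem_centralizer_singleton_iff.1 (hc a.2)
    show a.1 * g.1 = g.1 * a.1
    rw [← e]; exact (this.zpow_right k).eq

theorem dc_cover [IsSimpleGroup X] {K : Subgroup G} {z : G} {f : K →* X} (hf : Function.Surjective f)
    (hf' : ∀ g : K, f g = 1 ↔ g.1 ∈ Subgroup.zpowers z) {N : ℕ} (hX : Nat.card X = N) (h0 : N ≠ 0) (hN : ¬ N.Prime)
    (hK : Nat.card K = 2 * N) {a b : G} (ha : a ∈ K) (hb : b ∈ K) (hz : a * b * a⁻¹ * b⁻¹ = z) :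
    Cfsg.IsNonsplitDoubleCover K X := by
  refine DC.nonsplit ⟨f, hf, card_ker_of_surj f hf h0 hK hX, ?_⟩ (center_eq_bot_of_simple hX hN)
  have h5 := Subgroup.map_commutator (⊤ : Subgroup K) ⊤ f
  rw [Subgroup.map_top_of_surjective _ hf, ← commutator_def, ← commutator_def, perfect_of_simple hX hN] at h5
  have h6 := congrArg (Subgroup.comap f) h5
  rw [Subgroup.comap_map_eq, Subgroup.comap_top, sup_eq_left.2] at h6
  · exact h6
  · intro g hg
    obtain ⟨k, e⟩ := (hf' g).1 hg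
    have : (⟨a, ha⟩ * ⟨b, hb⟩ * ⟨a, ha⟩⁻¹ * ⟨b, hb⟩⁻¹ : K) ∈ commutator K :=
      Subgroup.commutator_mem_commutator (Subgroup.mem_top _) (Subgroup.mem_top _)
    rw [show g = (⟨a, ha⟩ * ⟨b, hb⟩ * ⟨a, ha⟩⁻¹ * ⟨b, hb⟩⁻¹ : K) ^ k from Subtype.ext (by rw [← e, ← hz]; rfl)]
    exact zpow_mem this k

end H15
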