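import Cfsg.Agent.H15.Cnt2

/-! Glue for centralisers: `Cn.fix_move`, `BP.gen_eq`, `Rels.pull`, counting involutions and elements of prime order
(`Cn.count_pw`, `Cn.count_fx`, `Cn.count_cm`). -/

namespace H15
open H14 L DC

theorem BP.gen_eq {c : BP} {A B : List (ℕ × ℕ)} {gen gen' : ℕ → GL (Fin c.d) (ZMod c.p)} (h : c.Gen A gen)
    (h' : c.Gen B gen') {l : ℕ} (e : getL (c.one, c.one) A l = getL (c.one, c.one) B l) : gen l = gen' l := by
  have e' : c.letB A (2 * l) = c.letB B (2 * l) := by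
    have : Nat.div (2 * l) 2 = l := Nat.mul_div_cancel_left _ two_pos
    unfold BP.letB
    rw [this, e]
  have a := (h (2 * l)).2
  rw [e', ← (h' (2 * l)).2] at a
  simpa [letter] using Units.ext a

theorem ev14_congr {G : Type*} [Group G] {g g' : ℕ → G} {k : ℕ} (h : ∀ l < k, g l = g' l) {w : Word}
    (hw : w.all (fun a => Nat.blt a (2 * k)) = true) : H14.ev g w = H14.ev g' w := by
  rw [← w.reverse_reverse, ev14, ev14]
  exact evL_congr h (by rwa [List.all_reverse])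

theorem Rels.pull {G K : Type*} [Group G] [Group K] {ρ : G →* K} (hρ : Function.Injective ρ) {y : ℕ → G} {gen : ℕ → K}
    {n : ℕ} (hy : ∀ l < n, ρ (y l) = gen l) {R : List (Word × Word)} (h : Rels gen R)
    (hw : R.all (fun p => p.1.all (fun a => Nat.blt a (2 * n)) && p.2.all fun a => Nat.blt a (2 * n)) = true) :
    Rels y R := fun p hp => by
  obtain ⟨a, b⟩ := Bool.and_eq_true_iff.1 (List.all_eq_true.1 hw p hp)
  exact hρ (by rw [H14.map_ev, H14.map_ev, ev14_congr hy a, ev14_congr hy b, h p hp])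

/-- the words `W` commute with `z` -/
noncomputable def comR (W : List Word) (z : Word) : List (Word × Word) := W.map fun w => (z ++ w, w ++ z)

theorem sub_le_cent {G : Type*} [Group G] {y : ℕ → G} {W : List Word} {z : Word} (h : Rels y (comR W z)) :
    sub y W ≤ Subgroup.centralizer {H14.ev y z} := (sub_le _).2 fun w hw => by
  rw [Subgroup.mem_centralizer_singleton_iff, ← H14.ev_append, ← H14.ev_append]
  exact h _ (List.mem_map_of_mem hw)

theorem card_cent_conj {G : Type*} [Group G] {a b : G} (h : IsConj a b) :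
    Nat.card (Subgroup.centralizer {a}) = Nat.card (Subgroup.centralizer {b}) := by
  obtain ⟨c, rfl⟩ := isConj_iff.1 h
  refine Nat.card_congr (((MulAut.conj c).toEquiv).subtypeEquiv fun g => ?_)
  rw [Subgroup.mem_centralizer_singleton_iff, Subgroup.mem_centralizer_singleton_iff]
  exact ((MulAut.conj c).injective.eq_iff.symm.trans (by rw [map_mul, map_mul]; rfl))

namespace Cn
variable {Γ Ω : Type*} [Group Γ] [MulAction Γ Ω] [Finite Γ] {n : ℕ} {Ls : List Net} {M : PM Γ Ω n Ls}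
  {F : ℕ → ℕ → ℕ} [PtF n Ls F] {sp r : ℕ} {ws : List Word} {N : ℕ} {ts : List ℕ} {l : List (ℕ × ℕ)}
  {Ts : List (ℕ × List ℕ)} {c p : ℕ} {bs : List ℕ}

theorem fix_move (hN : Nat.card (sub M.gen ws) = N) (hp : p.Prime) {a s q S : ℕ} {sc : List Word} {v : Word}
    (h : (Nat.blt a n && (Nat.blt s n && (Nat.blt q n && (invChk Ls ws (orbRun Ls ws sc (bit a)) &&
      (Nat.beq (p * pop n (orbRun Ls ws sc (bit a))) N && (Nat.beq (apW F (flat ws v) a) a &&
      (Nat.beq (apW F (flat ws v) s) s && (!Nat.beq (apW F (flat ws v) q) (apW F [] q) &&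
      (tb S s && invChk Ls ws S))))))))) = true)
    {g : Γ} (hg : g ∈ sub M.gen ws) {y : Ω} (hy : y ∈ M.S (orbRun Ls ws sc (bit a))) (e : g • y = y) :
    ∃ y ∈ M.S S, g • y = y := by
  simp only [Bool.and_eq_true, Nat.blt_eq, Bool.not_eq_true'] at h
  obtain ⟨h1, h2, h3, h4, h5, h6, h7, h8, h9, h10⟩ := h
  obtain ⟨k, hk, rfl⟩ := M.orb_sound_bit _ _ h1 hy
  have h11 := PM.card_eq_mul (sub M.gen ws) (M.dec a)
  have h12 : {z | ∃ g ∈ sub M.gen ws, g • M.dec a = z} = M.S (orbRun Ls ws sc (bit a)) := by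
    ext z
    refine ⟨fun ⟨b, hb, e⟩ => ?_, M.orb_sound_bit _ _ h1⟩
    rw [← e, ← inv_smul_smul k (M.dec a), ← mul_smul]
    exact (M.inv_sound h4 (mul_mem hb (inv_mem hk)) _).2 hy
  rw [h12, M.ncard_S, hN, ← Nat.eq_of_beq_eq_true h5] at h11
  have h13 := Nat.eq_of_mul_eq_mul_right (Nat.pos_of_ne_zero fun h0 => by
    rw [h0, mul_zero, ← hN] at h5; exact Nat.card_pos.ne (Nat.eq_of_beq_eq_true h5)) h11
  have : Fact (Nat.card (sub M.gen ws ⊓ MulAction.stabilizer Γ (M.dec a) : Subgroup Γ)).Prime := ⟨h13 ▸ hp⟩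
  have h14 := ((MulAction.stabilizer Γ (M.dec s)).subgroupOf
    (sub M.gen ws ⊓ MulAction.stabilizer Γ (M.dec a))).eq_bot_or_eq_top_of_prime_card.resolve_left fun h => by
      have := (Subgroup.eq_bot_iff_forall _).1 h ⟨_, Subgroup.mem_inf.2 ⟨ev_flat_mem _ ws v, by
        rw [MulAction.mem_stabilizer_iff, ev_dec (F := F) M _ h1, Nat.eq_of_beq_eq_true h6]⟩⟩ (by
        rw [Subgroup.mem_subgroupOf, MulAction.mem_stabilizer_iff, ev_dec (F := F) M _ h2, Nat.eq_of_beq_eq_true h7])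
      exact ne_of_pt M F h3 h8 (congrArg Subtype.val this)
  have h15 : (k⁻¹ * g * k) • M.dec s = M.dec s := (Subgroup.eq_top_iff' _).1 h14 ⟨k⁻¹ * g * k,
    Subgroup.mem_inf.2 ⟨mul_mem (mul_mem (inv_mem hk) hg) hk, by rw [MulAction.mem_stabilizer_iff, mul_smul, mul_smul, e, inv_smul_smul]⟩⟩
  refine ⟨k • M.dec s, (M.inv_sound h10 hk _).2 (by rw [PM.mem_S, M.enc_dec s h2, ← tb_eq, h9]), ?_⟩
  rwa [mul_smul, mul_smul, inv_smul_eq_iff] at h15

omit [PtF n Ls F] in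
theorem ncard_conj {K : Subgroup Γ} {t : Γ} (h1 : t ≠ 1) {P : Γ → Prop} (h : {g | g ∈ K ∧ P g}.ncard ≤ c + 1)
    (hP : P 1) (hP' : ∀ g ∈ K, IsConj t g → P g) : {g | g ∈ K ∧ IsConj t g}.ncard ≤ c := by
  have := (Set.ncard_le_ncard (s := insert 1 {g | g ∈ K ∧ IsConj t g}) (by
    rintro g (rfl | hg)
    exacts [⟨one_mem _, hP⟩, ⟨hg.1, hP' g hg.1 hg.2⟩])).trans h
  rwa [Set.ncard_insert_of_notMem fun h => h1 (isConj_one_left.1 h.2), add_le_add_iff_right] at this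

theorem count_pw (hN : Nat.card (sub M.gen ws) = N) {t : Γ} (h1 : t ≠ 1) (ht : t ^ p = 1) (hs : spOk n sp r = true)
    (h : chk F sp r ws ts l Ts N (pw sp r p bs) (c + 1) = true) : {g | g ∈ sub M.gen ws ∧ IsConj t g}.ncard ≤ c :=
  ncard_conj h1 (count_le hs hN le_rfl (P := fun g => g ^ p = 1) (fun _ _ h _ h' => pw_of hs h h' bs) h) (one_pow p)
    fun _ _ hg => isConj_one_right.1 (ht ▸ hg.pow p)

theorem count_fx (hN : Nat.card (sub M.gen ws) = N) {t : Γ} (h1 : t ≠ 1) (ht : t ^ p = 1) (hs : spOk n sp r = true)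
    (h0 : ∃ y, y ∈ M.S (spS sp r)) (hf : ∀ g ∈ sub M.gen ws, IsConj t g → ∃ y ∈ M.S (spS sp r), g • y = y)
    (h : chk F sp r ws ts l Ts N (fun f => pw sp r p bs f && fx sp r f) (c + 1) = true) :
    {g | g ∈ sub M.gen ws ∧ IsConj t g}.ncard ≤ c :=
  ncard_conj h1 (count_le hs hN le_rfl (P := fun g => g ^ p = 1 ∧ ∃ y ∈ M.S (spS sp r), g • y = y)
    (fun _ _ h _ ⟨a, _, b, d⟩ => by rw [pw_of hs h a bs, fx_of hs h b d]; rfl) h)
    ⟨one_pow p, let ⟨y, hy⟩ := h0; ⟨y, hy, one_smul _ _⟩⟩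
    fun g hg hc => ⟨isConj_one_right.1 (ht ▸ hc.pow p), hf g hg hc⟩

theorem count_cm (hN : Nat.card (sub M.gen ws) = N) {w : Word} {τ : ℕ} (hs : spOk n sp r = true)
    (h : (chkTab F sp r w τ && chk F sp r ws ts l Ts N (cm sp r τ bs) c) = true) :
    Nat.card (sub M.gen ws ⊓ Subgroup.centralizer {H14.ev M.gen w} : Subgroup Γ) ≤ c :=
  count_le hs hN le_rfl (P := fun g => g ∈ Subgroup.centralizer {H14.ev M.gen w}) (fun _ _ h' _ a => cm_of hs h'
    (fn_of_chk hs (Bool.and_eq_true_iff.1 h).1) (Subgroup.mem_centralizer_singleton_iff.1 a) bs)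
    (Bool.and_eq_true_iff.1 h).2

omit [Finite Γ] in
/-- a conjugate of `w` has a fixed point in an invariant set -/
theorem conj_fix {us : List Word} (ht : sub M.gen us = ⊤) {w : Word} {b U : ℕ}
    (h : (Nat.blt b n && (tb U b && (Nat.beq (apW F w b) b && invChk Ls us U))) = true) {g : Γ}
    (hg : IsConj (H14.ev M.gen w) g) : ∃ y ∈ M.S U, g • y = y := by
  simp only [Bool.and_eq_true, Nat.blt_eq, Nat.beq_eq] at h
  obtain ⟨h1, h2, h3, h4⟩ := h
  obtain ⟨k, rfl⟩ := isConj_iff.1 hg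
  refine ⟨k • M.dec b, (M.inv_sound h4 (ht.ge trivial) _).2 (by rw [PM.mem_S, M.enc_dec b h1, ← tb_eq, h2]), ?_⟩
  rw [mul_smul, mul_smul, inv_smul_smul, ev_dec (F := F) M _ h1, h3]

end Cn

end H15
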