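import Cfsg.Agent.H15.Cnt2
import Cfsg.Agent.H14.Conway2

/-! The presentations of the groups of Higman-Sims and McLaughlin read off from their machines (`homHS`, `homMcL`). -/

namespace H15
open H14

theorem hom_pm {X Ω Δ : Type*} [Group X] [Group Δ] [MulAction X Ω] {n : ℕ} {Ls : List Net} (M : PM X Ω n Ls)
    {ws vs : List Word} (ht : sub M.gen ws = ⊤) {N k : ℕ} (h0 : N ≠ 0) (hN : Nat.card X = N) {y : ℕ → Δ}
    (hD : Nat.card (sub (M.prod y).gen ws) = N) (hO : Rels (M.prod y).gen (memRels ws (lets k) vs)) :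
    ∃ φ : X →* Δ, ∀ l < k, φ (M.gen l) = y l := by
  obtain ⟨φ, -, h2⟩ := exists_hom_of_card (gen := M.gen) (gen' := y) h0 hD (by rw [ht, Subgroup.card_top, hN])
  refine ⟨φ.comp ((MulEquiv.subgroupCongr ht).trans Subgroup.topEquiv).symm.toMonoidHom, fun l hl => ?_⟩
  rw [← ev_single M.gen, ← ev_single y, ← h2 [2 * l] (by
    rw [ev_single]; exact sub_le_of_memRels hO (gen_mem_lets hl)) (ht ▸ Subgroup.mem_top _)]
  exact congrArg φ (Subtype.ext rfl)

/-- the relations -/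
noncomputable def relsHS : List (Word × Word) := HSc.rels ++ HSc.relsO
noncomputable def relsMcL : List (Word × Word) := McLc.rels ++ McLc.relsO

universe u in
theorem homHS : ∃ x : ℕ → Cfsg.Spor.HS, ∀ (Δ : Type u) [Group Δ] (y : ℕ → Δ), Rels y relsHS →
    ∃ φ : Cfsg.Spor.HS →* Δ, ∀ l < 1 + 1, φ (x l) = y l :=
  ⟨fun l => eHS (PH.gen l), fun _ _ _ h =>
    let ⟨φ, hφ⟩ := hom_pm PH PH_top (by decide) card_CH (HSc.card0 _ (PH_rels.prod h.left))
      ((HSc.relsO_of_all PH_all).prod h.right)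
    ⟨φ.comp eHS.symm.toMonoidHom, fun l hl => (congrArg φ (eHS.symm_apply_apply _)).trans (hφ l hl)⟩⟩

universe u in
theorem homMcL (Δ : Type u) [Group Δ] (y : ℕ → Δ) (h : Rels y relsMcL) :
    ∃ φ : CM →* Δ, ∀ l < 1 + 1, φ (PMc.gen l) = y l :=
  hom_pm PMc PMc_top (by decide) card_CM (McLc.card0 _ (PMc_rels.prod h.left))
    ((McLc.relsO_of_all PMc_all).prod h.right)

theorem Rels.map' {G K : Type*} [Group G] [Group K] {g : ℕ → G} {l : List (Word × Word)} (h : Rels g l) (f : G →* K) :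
    Rels (fun l => f (g l)) l := fun p hp => by rw [← H14.map_ev, ← H14.map_ev, h p hp]

theorem not_mem_zpowers {G : Type*} [Group G] {z g : G} {p : ℕ} (hp : z ^ (p + 1) = 1)
    (h : ∀ k < p + 1, g ≠ z ^ k) : g ∉ Subgroup.zpowers z := fun hg => by
  classical
  obtain ⟨k, hk, e⟩ := Finset.mem_image.1 ((isOfFinOrder_iff_pow_eq_one.2
    ⟨_, p.succ_pos, hp⟩).mem_zpowers_iff_mem_range_orderOf.1 hg)
  exact h k ((Finset.mem_range.1 hk).trans_le (orderOf_le_of_pow_eq_one p.succ_pos hp)) e.symm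

end H15
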