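import Cfsg.Agent.H15.Cnt3
import Cfsg.Agent.H15.PresHS
import Cfsg.Agent.H15.Carm

/-! Centralisers that are central extensions (`cent_cover`), `homA11'` in the form needed there. -/

namespace H15
open H14 L

universe u in
theorem cent_cover {G : Type*} {H : Type u} {X : Type*} [Group G] [Finite G] [Group H] [Group X] [IsSimpleGroup X]
    (i : G ≃* H) {y : ℕ → G} {W : List Word} {z : Word} (hC : Rels y (comR W z)) {rels : List (Word × Word)}
    {es : List ℕ} (hR : Rels y (modR W z rels es)) (hl : Nat.ble rels.length es.length = true)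
    (h1 : loc y W 0 ∉ Subgroup.zpowers (H14.ev y z)) {x : ℕ → X} {k : ℕ}
    (hom : ∀ (Δ : Type u) [Group Δ] (y : ℕ → Δ), Rels y rels → ∃ φ : X →* Δ, ∀ l < k + 1, φ (x l) = y l)
    {p : ℕ} (ho : orderOf (H14.ev y z) = p)
    (hb : Nat.card (Subgroup.centralizer {H14.ev y z}) < 2 * (p * Nat.card X)) :
    (∀ w, i (H14.ev y (flat W w)) ∈ Subgroup.centralizer {i (H14.ev y z)}) ∧
    Nat.card (Subgroup.centralizer {i (H14.ev y z)}) = p * Nat.card X ∧
      ∃ f : Subgroup.centralizer {i (H14.ev y z)} →* X, Function.Surjective f ∧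
        ∀ g, f g = 1 ↔ g.1 ∈ Subgroup.zpowers (i (H14.ev y z)) := by
  have hv : ∀ w, H14.ev (fun l => i.toMonoidHom (y l)) w = i (H14.ev y w) := fun w =>
    (H14.map_ev (gen := y) i.toMonoidHom w).symm
  have : Finite H := Finite.of_equiv _ i.toEquiv
  have hs := sub_le_cent (Rels.map' hC i.toMonoidHom)
  obtain ⟨K, hK, -, -, h4, h5⟩ := cover_of_emb (H := Subgroup.centralizer {H14.ev (fun l => i.toMonoidHom (y l)) z})
    (Subgroup.mem_centralizer_singleton_iff.2 rfl) le_rfl hs (Rels.map' hR _) hl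
    (fun ⟨k, e⟩ => h1 ⟨k, i.injective (by rw [loc, hv, hv] at e; exact (map_zpow i _ _).trans e)⟩) hom
  rw [hv, MulEquiv.orderOf_eq, ho] at h4
  have e : Nat.card (Subgroup.centralizer {H14.ev y z}) = Nat.card (Subgroup.centralizer {i (H14.ev y z)}) :=
    Nat.card_congr (i.toEquiv.subtypeEquiv fun g => by
      rw [Subgroup.mem_centralizer_singleton_iff, Subgroup.mem_centralizer_singleton_iff]
      exact i.injective.eq_iff.symm.trans (by rw [map_mul, map_mul]; rfl))
  rw [hv] at hK h5 hs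
  obtain rfl := eq_of_card_lt hK (by rwa [h4, ← e])
  exact ⟨fun w => by rw [← hv (flat W w)]; exact hs (ev_flat_mem _ _ _), h4, h5⟩

universe u in
theorem homA11' : ∃ x : ℕ → alternatingGroup (Fin 11), ∀ (Δ : Type u) [Group Δ] (y : ℕ → Δ),
    Rels y ((carm 9).map fun w => (w.reverse, [])) → ∃ φ : alternatingGroup (Fin 11) →* Δ, ∀ l < 8 + 1, φ (x l) = y l :=
  let ⟨x, h1, h2, h3⟩ := presA11
  ⟨x, fun _ _ _ h => let ⟨φ, _, b⟩ := hom_of_pres h1 h2 h3 (relL_of_rels h) bdA9; ⟨φ, b⟩⟩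

end H15
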