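import Cfsg.Agent.H15.Lite2
import Cfsg.Agent.H15.TFi23a
import Cfsg.Agent.H15.TFi23b
import Cfsg.Agent.H15.TFi23c
import Cfsg.Agent.H15.TFi22c
import Cfsg.Agent.H15.TFi22d
import Cfsg.Agent.H15.TFi22e
import Cfsg.Agent.H15.Fi23P
import Cfsg.Prelude.Def_Spor_Fi23

/-! The presented group `Cfsg.Spor.Fi23`: order, simplicity, faithful action on 31671 points as a machine `H15.Fi23.M`. -/

set_option linter.constructorNameAsVariable false

namespace H15.Fi23
open Cfsg.Spor Cfsg.Spor.Fi23 H14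

/-- generators in order -/
def gl : List Gen := [.a, .b, .c, .d, .e, .f, .g, .j, .h, .i]
/-- nodes of the graph -/
def nl : List Gen := [.a, .b, .c, .d, .e, .f, .g, .j, .h, .i]
def ix (x : Gen) : ℕ := gl.idxOf x
def ld : List (Gen × Bool) := [(.a, true), (.b, true), (.c, true), (.d, true), (.e, true), (.f, true), (.g, true), (.j, true), (.h, true), (.i, true)]
/-- letters of the coset enumerations -/
def gen : ℕ → Cfsg.Spor.Fi23 := genOf ld (pof edges extra)

theorem codes : Codes (pof edges extra) (encOf ld) gen :=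
  codes_cox (fun x => by cases x <;> decide) fun x => by cases x <;> decide

theorem rel : ∀ w ∈ allW (encOf ld) edges extra nl gl, ev gen w = 1 :=
  allW_rel codes (by decide) gl

theorem top0 : Kl gen [0, 1, 2, 3, 4, 5, 6, 7, 8, 9] = ⊤ := Kl_top codes fun x => by cases x <;> decide

theorem bd_bcdef : Bd (Kl gen [1, 2, 3, 4, 5]) 720 := Bd.step (c := 1) (n := 720) (Bd.nil gen)
  (idx_ren TFi22e.idx [1, 2, 3, 4, 5] rfl (rel_ren rel (by decide +kernel)) _ (sub_ren gen (by decide +kernel)))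
theorem bd_bcdefh : Bd (Kl gen [1, 2, 3, 4, 5, 8]) 51840 := Bd.step (c := 720) (n := 72) bd_bcdef
  (idx_ren TFi22d.idx [1, 2, 3, 4, 5, 8] rfl (rel_ren rel (by decide +kernel)) _ (sub_ren gen (by decide +kernel)))
theorem bd_bcdefhi : Bd (Kl gen [1, 2, 3, 4, 5, 8, 9]) 12597120 := Bd.step (c := 51840) (n := 243) bd_bcdefh
  (idx_ren TFi22c.idx [1, 2, 3, 4, 5, 8, 9] rfl (rel_ren rel (by decide +kernel)) _ (sub_ren gen (by decide +kernel)))
theorem bd_bcdefghi : Bd (Kl gen [1, 2, 3, 4, 5, 6, 8, 9]) 9170703360 := Bd.step (c := 12597120) (n := 728) bd_bcdefhi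
  (idx_ren TFi23c.idx [1, 2, 3, 4, 5, 6, 8, 9] rfl (rel_ren rel (by decide +kernel)) _ (sub_ren gen (by decide +kernel)))
theorem bd_abcdefghi : Bd (Kl gen [0, 1, 2, 3, 4, 5, 6, 8, 9]) 129123503308800 := Bd.step (c := 9170703360) (n := 14080) bd_bcdefghi
  (idx_ren TFi23b.idx [0, 1, 2, 3, 4, 5, 6, 8, 9] rfl (rel_ren rel (by decide +kernel)) _ (sub_ren gen (by decide +kernel)))
theorem bd_abcdefgjhi : Bd (Kl gen [0, 1, 2, 3, 4, 5, 6, 7, 8, 9]) 4089470473293004800 := Bd.step (c := 129123503308800) (n := 31671) bd_abcdefghi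
  (idx_ren TFi23a.idx [0, 1, 2, 3, 4, 5, 6, 7, 8, 9] rfl (rel_ren rel (by decide +kernel)) _ (sub_ren gen (by decide +kernel)))
theorem bd0 : Bd (⊤ : Subgroup Cfsg.Spor.Fi23) 4089470473293004800 := top0 ▸ bd_abcdefgjhi

/-- the permutation machine -/
noncomputable abbrev P := permPM 31671 Fi23P.nets (by decide) (by decide) Fi23P.nets_ok

theorem hc0 : relsChk 31671 Fi23P.nets 15 (idArr 31671 15 15 0) (List.take 30 (homW ix edges extra nl)) = true := by decide +kernel
theorem hc1 : relsChk 31671 Fi23P.nets 15 (idArr 31671 15 15 0) (List.take 25 (List.drop 30 (homW ix edges extra nl))) = true := by decide +kernel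
theorem hc2 : relsChk 31671 Fi23P.nets 15 (idArr 31671 15 15 0) (List.take 1 (List.drop 25 (List.drop 30 (homW ix edges extra nl)))) = true := by decide +kernel
theorem hc3 : relsChk 31671 Fi23P.nets 15 (idArr 31671 15 15 0) (List.drop 1 (List.drop 25 (List.drop 30 (homW ix edges extra nl)))) = true := by decide +kernel
theorem homR : Rels P.gen (homW ix edges extra nl) := (Rels.take_drop 30 (P.rels_of_idArr (by decide) hc0) (Rels.take_drop 25 (P.rels_of_idArr (by decide) hc1) (Rels.take_drop 1 (P.rels_of_idArr (by decide) hc2) (P.rels_of_idArr (by decide) hc3))))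

theorem ex_pi : ∃ π : Cfsg.Spor.Fi23 →* Equiv.Perm (Fin 31671), Function.Injective π ∧
    Nat.card Cfsg.Spor.Fi23 = 4089470473293004800 ∧ ∃ M : PM Cfsg.Spor.Fi23 (Pt π) 31671 Fi23P.nets,
      (∀ x, M.gen (ix x) = pof edges extra x) ∧ ∀ l, π (M.gen l) = P.gen l :=
  cox_machine ix (by decide) homR (k := 10) (fun l hl => ⟨gl.getD l .a, by revert l; decide⟩)
    Fi23P.dok Fi23P.dlen (Fi23P.relsD_ok P) bd0 (Fi23P.low P)

/-- the permutation representation -/
noncomputable def pi : Cfsg.Spor.Fi23 →* Equiv.Perm (Fin 31671) := ex_pi.choose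
theorem inj : Function.Injective pi := ex_pi.choose_spec.1
theorem card : Nat.card Cfsg.Spor.Fi23 = 4089470473293004800 := ex_pi.choose_spec.2.1
instance instFaithful : FaithfulSMul Cfsg.Spor.Fi23 (Pt pi) := faithful_Pt inj
/-- the presented group as a permutation machine -/
noncomputable def M : PM Cfsg.Spor.Fi23 (Pt pi) 31671 Fi23P.nets := ex_pi.choose_spec.2.2.choose
theorem M_gen (x : Gen) : M.gen (ix x) = pof edges extra x := ex_pi.choose_spec.2.2.choose_spec.1 x
theorem pi_gen (l : ℕ) : pi (M.gen l) = P.gen l := ex_pi.choose_spec.2.2.choose_spec.2 l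

theorem top : sub M.gen Fi23P.lv0.gens = ⊤ := (eq_of_low le_top bd0 (Fi23P.low M)).1
theorem hc : Nat.card (sub M.gen Fi23P.lv0.gens) = 4089470473293004800 := by rw [top, Subgroup.card_top, card]

theorem simple : IsSimpleGroup Cfsg.Spor.Fi23 := by
  have := Fi23P.simple M hc (by rw [top]; trivial)
  rw [top] at this
  exact Subgroup.topEquiv.symm.isSimpleGroup

theorem stab1 : sub M.gen Fi23P.lv1.gens = MulAction.stabilizer Cfsg.Spor.Fi23 (M.dec 0) := by
  rw [← (Fi23P.lev0 M hc).1, top, top_inf_eq]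

theorem index_stab0 : (MulAction.stabilizer Cfsg.Spor.Fi23 (M.dec 0)).index = 31671 :=
  index_stab_of_trans M (Fi23P.trans M hc)

/-- the point stabiliser in the printed words -/
abbrev H : Subgroup Cfsg.Spor.Fi23 := (Subgroup.closure {r | r ∈ [a, b, c, d, e, f, g, h, i]}).map
  (PresentedGroup.mk (coxRelators edges ∪ {r | r ∈ extra}))

theorem idxH : H.index ≠ 0 ∧ H.index ≤ 31671 := by
  rw [← Subgroup.relIndex_top_right, ← top0]
  exact idx_ren TFi23a.idx [0, 1, 2, 3, 4, 5, 6, 7, 8, 9] rfl (rel_ren rel (by decide +kernel)) _ fun w hw =>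
    mem_map_closure codes (subs := TFi23a.subs.map (List.map (ren [0, 1, 2, 3, 4, 5, 6, 7, 8, 9]))) (by decide +kernel) _
      (List.mem_map_of_mem hw)

theorem stab : H = MulAction.stabilizer Cfsg.Spor.Fi23 (M.dec 0) := by
  refine eq_stab ?_ idxH index_stab0
  rw [H, map_closure_eq_sub M_gen]
  exact M.fix_sound (by decide) (by decide +kernel)

end H15.Fi23
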