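import Cfsg.Agent.H15.Fi24a
import Cfsg.Agent.H15.Fi24PD

/-! The Coxeter relators of `Fi24` on 306936 points, part 2. -/

set_option linter.constructorNameAsVariable false
set_option Elab.async false

namespace H15.Fi24
open Cfsg.Spor Cfsg.Spor.Fi24 H14

theorem hc8_0 : relsChk 306936 Fi24P.nets 4 (idArr 306936 19 4 (4 * 0)) (List.take 6 (List.drop 6 (List.drop 7 (List.drop 7 (List.drop 7 (List.drop 7 (List.drop 7 (List.drop 7 (List.drop 7 (List.take 78 (homW ix edges extra nl))))))))))) = true := by decide +kernel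
theorem hc8_1 : relsChk 306936 Fi24P.nets 4 (idArr 306936 19 4 (4 * 1)) (List.take 6 (List.drop 6 (List.drop 7 (List.drop 7 (List.drop 7 (List.drop 7 (List.drop 7 (List.drop 7 (List.drop 7 (List.take 78 (homW ix edges extra nl))))))))))) = true := by decide +kernel
theorem hc8_2 : relsChk 306936 Fi24P.nets 4 (idArr 306936 19 4 (4 * 2)) (List.take 6 (List.drop 6 (List.drop 7 (List.drop 7 (List.drop 7 (List.drop 7 (List.drop 7 (List.drop 7 (List.drop 7 (List.take 78 (homW ix edges extra nl))))))))))) = true := by decide +kernel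
theorem hc8_3 : relsChk 306936 Fi24P.nets 4 (idArr 306936 19 4 (4 * 3)) (List.take 6 (List.drop 6 (List.drop 7 (List.drop 7 (List.drop 7 (List.drop 7 (List.drop 7 (List.drop 7 (List.drop 7 (List.take 78 (homW ix edges extra nl))))))))))) = true := by decide +kernel
theorem hc8_4 : relsChk 306936 Fi24P.nets 4 (idArr 306936 19 4 (4 * 4)) (List.take 6 (List.drop 6 (List.drop 7 (List.drop 7 (List.drop 7 (List.drop 7 (List.drop 7 (List.drop 7 (List.drop 7 (List.take 78 (homW ix edges extra nl))))))))))) = true := by decide +kernel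
theorem hc9_0 : relsChk 306936 Fi24P.nets 4 (idArr 306936 19 4 (4 * 0)) (List.take 7 (List.drop 6 (List.drop 6 (List.drop 7 (List.drop 7 (List.drop 7 (List.drop 7 (List.drop 7 (List.drop 7 (List.drop 7 (List.take 78 (homW ix edges extra nl)))))))))))) = true := by decide +kernel
theorem hc9_1 : relsChk 306936 Fi24P.nets 4 (idArr 306936 19 4 (4 * 1)) (List.take 7 (List.drop 6 (List.drop 6 (List.drop 7 (List.drop 7 (List.drop 7 (List.drop 7 (List.drop 7 (List.drop 7 (List.drop 7 (List.take 78 (homW ix edges extra nl)))))))))))) = true := by decide +kernel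
theorem hc9_2 : relsChk 306936 Fi24P.nets 4 (idArr 306936 19 4 (4 * 2)) (List.take 7 (List.drop 6 (List.drop 6 (List.drop 7 (List.drop 7 (List.drop 7 (List.drop 7 (List.drop 7 (List.drop 7 (List.drop 7 (List.take 78 (homW ix edges extra nl)))))))))))) = true := by decide +kernel
theorem hc9_3 : relsChk 306936 Fi24P.nets 4 (idArr 306936 19 4 (4 * 3)) (List.take 7 (List.drop 6 (List.drop 6 (List.drop 7 (List.drop 7 (List.drop 7 (List.drop 7 (List.drop 7 (List.drop 7 (List.drop 7 (List.take 78 (homW ix edges extra nl)))))))))))) = true := by decide +kernel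
theorem hc9_4 : relsChk 306936 Fi24P.nets 4 (idArr 306936 19 4 (4 * 4)) (List.take 7 (List.drop 6 (List.drop 6 (List.drop 7 (List.drop 7 (List.drop 7 (List.drop 7 (List.drop 7 (List.drop 7 (List.drop 7 (List.take 78 (homW ix edges extra nl)))))))))))) = true := by decide +kernel
theorem hc10_0 : relsChk 306936 Fi24P.nets 4 (idArr 306936 19 4 (4 * 0)) (List.take 8 (List.drop 7 (List.drop 6 (List.drop 6 (List.drop 7 (List.drop 7 (List.drop 7 (List.drop 7 (List.drop 7 (List.drop 7 (List.drop 7 (List.take 78 (homW ix edges extra nl))))))))))))) = true := by decide +kernel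
theorem hc10_1 : relsChk 306936 Fi24P.nets 4 (idArr 306936 19 4 (4 * 1)) (List.take 8 (List.drop 7 (List.drop 6 (List.drop 6 (List.drop 7 (List.drop 7 (List.drop 7 (List.drop 7 (List.drop 7 (List.drop 7 (List.drop 7 (List.take 78 (homW ix edges extra nl))))))))))))) = true := by decide +kernel
theorem hc10_2 : relsChk 306936 Fi24P.nets 4 (idArr 306936 19 4 (4 * 2)) (List.take 8 (List.drop 7 (List.drop 6 (List.drop 6 (List.drop 7 (List.drop 7 (List.drop 7 (List.drop 7 (List.drop 7 (List.drop 7 (List.drop 7 (List.take 78 (homW ix edges extra nl))))))))))))) = true := by decide +kernel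
theorem hc10_3 : relsChk 306936 Fi24P.nets 4 (idArr 306936 19 4 (4 * 3)) (List.take 8 (List.drop 7 (List.drop 6 (List.drop 6 (List.drop 7 (List.drop 7 (List.drop 7 (List.drop 7 (List.drop 7 (List.drop 7 (List.drop 7 (List.take 78 (homW ix edges extra nl))))))))))))) = true := by decide +kernel
theorem hc10_4 : relsChk 306936 Fi24P.nets 4 (idArr 306936 19 4 (4 * 4)) (List.take 8 (List.drop 7 (List.drop 6 (List.drop 6 (List.drop 7 (List.drop 7 (List.drop 7 (List.drop 7 (List.drop 7 (List.drop 7 (List.drop 7 (List.take 78 (homW ix edges extra nl))))))))))))) = true := by decide +kernel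
theorem hc11_0 : relsChk 306936 Fi24P.nets 4 (idArr 306936 19 4 (4 * 0)) (List.drop 8 (List.drop 7 (List.drop 6 (List.drop 6 (List.drop 7 (List.drop 7 (List.drop 7 (List.drop 7 (List.drop 7 (List.drop 7 (List.drop 7 (List.take 78 (homW ix edges extra nl))))))))))))) = true := by decide +kernel
theorem hc11_1 : relsChk 306936 Fi24P.nets 4 (idArr 306936 19 4 (4 * 1)) (List.drop 8 (List.drop 7 (List.drop 6 (List.drop 6 (List.drop 7 (List.drop 7 (List.drop 7 (List.drop 7 (List.drop 7 (List.drop 7 (List.drop 7 (List.take 78 (homW ix edges extra nl))))))))))))) = true := by decide +kernel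
theorem hc11_2 : relsChk 306936 Fi24P.nets 4 (idArr 306936 19 4 (4 * 2)) (List.drop 8 (List.drop 7 (List.drop 6 (List.drop 6 (List.drop 7 (List.drop 7 (List.drop 7 (List.drop 7 (List.drop 7 (List.drop 7 (List.drop 7 (List.take 78 (homW ix edges extra nl))))))))))))) = true := by decide +kernel
theorem hc11_3 : relsChk 306936 Fi24P.nets 4 (idArr 306936 19 4 (4 * 3)) (List.drop 8 (List.drop 7 (List.drop 6 (List.drop 6 (List.drop 7 (List.drop 7 (List.drop 7 (List.drop 7 (List.drop 7 (List.drop 7 (List.drop 7 (List.take 78 (homW ix edges extra nl))))))))))))) = true := by decide +kernel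
theorem hc11_4 : relsChk 306936 Fi24P.nets 4 (idArr 306936 19 4 (4 * 4)) (List.drop 8 (List.drop 7 (List.drop 6 (List.drop 6 (List.drop 7 (List.drop 7 (List.drop 7 (List.drop 7 (List.drop 7 (List.drop 7 (List.drop 7 (List.take 78 (homW ix edges extra nl))))))))))))) = true := by decide +kernel

end H15.Fi24
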