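import Cfsg.Agent.H15.Fi24PD

/-! Generated certificate (pklite) for the permutation group Fi24P of degree 306936, order 1255205709190661721292800, base 0 1 704 4232 320. -/
set_option Elab.async false
set_option autoImplicit false
set_option maxRecDepth 100000

namespace H15.Fi24P
open H14

theorem rc4_0 : relsChk 306936 nets 4 (idArr 306936 19 4 (4 * 0)) (List.take 1 (List.drop 1 (List.drop 2 (List.drop 3 (List.drop 3 allRels))))) = true := by decide +kernel
theorem rc4_1 : relsChk 306936 nets 4 (idArr 306936 19 4 (4 * 1)) (List.take 1 (List.drop 1 (List.drop 2 (List.drop 3 (List.drop 3 allRels))))) = true := by decide +kernel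
theorem rc4_2 : relsChk 306936 nets 4 (idArr 306936 19 4 (4 * 2)) (List.take 1 (List.drop 1 (List.drop 2 (List.drop 3 (List.drop 3 allRels))))) = true := by decide +kernel
theorem rc4_3 : relsChk 306936 nets 4 (idArr 306936 19 4 (4 * 3)) (List.take 1 (List.drop 1 (List.drop 2 (List.drop 3 (List.drop 3 allRels))))) = true := by decide +kernel
theorem rc4_4 : relsChk 306936 nets 4 (idArr 306936 19 4 (4 * 4)) (List.take 1 (List.drop 1 (List.drop 2 (List.drop 3 (List.drop 3 allRels))))) = true := by decide +kernel
theorem rc5_0 : relsChk 306936 nets 4 (idArr 306936 19 4 (4 * 0)) (List.take 1 (List.drop 1 (List.drop 1 (List.drop 2 (List.drop 3 (List.drop 3 allRels)))))) = true := by decide +kernel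
theorem rc5_1 : relsChk 306936 nets 4 (idArr 306936 19 4 (4 * 1)) (List.take 1 (List.drop 1 (List.drop 1 (List.drop 2 (List.drop 3 (List.drop 3 allRels)))))) = true := by decide +kernel
theorem rc5_2 : relsChk 306936 nets 4 (idArr 306936 19 4 (4 * 2)) (List.take 1 (List.drop 1 (List.drop 1 (List.drop 2 (List.drop 3 (List.drop 3 allRels)))))) = true := by decide +kernel
theorem rc5_3 : relsChk 306936 nets 4 (idArr 306936 19 4 (4 * 3)) (List.take 1 (List.drop 1 (List.drop 1 (List.drop 2 (List.drop 3 (List.drop 3 allRels)))))) = true := by decide +kernel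
theorem rc5_4 : relsChk 306936 nets 4 (idArr 306936 19 4 (4 * 4)) (List.take 1 (List.drop 1 (List.drop 1 (List.drop 2 (List.drop 3 (List.drop 3 allRels)))))) = true := by decide +kernel
theorem rc6_0 : relsChk 306936 nets 4 (idArr 306936 19 4 (4 * 0)) (List.take 1 (List.drop 1 (List.drop 1 (List.drop 1 (List.drop 2 (List.drop 3 (List.drop 3 allRels))))))) = true := by decide +kernel
theorem rc6_1 : relsChk 306936 nets 4 (idArr 306936 19 4 (4 * 1)) (List.take 1 (List.drop 1 (List.drop 1 (List.drop 1 (List.drop 2 (List.drop 3 (List.drop 3 allRels))))))) = true := by decide +kernel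
theorem rc6_2 : relsChk 306936 nets 4 (idArr 306936 19 4 (4 * 2)) (List.take 1 (List.drop 1 (List.drop 1 (List.drop 1 (List.drop 2 (List.drop 3 (List.drop 3 allRels))))))) = true := by decide +kernel
theorem rc6_3 : relsChk 306936 nets 4 (idArr 306936 19 4 (4 * 3)) (List.take 1 (List.drop 1 (List.drop 1 (List.drop 1 (List.drop 2 (List.drop 3 (List.drop 3 allRels))))))) = true := by decide +kernel
theorem rc6_4 : relsChk 306936 nets 4 (idArr 306936 19 4 (4 * 4)) (List.take 1 (List.drop 1 (List.drop 1 (List.drop 1 (List.drop 2 (List.drop 3 (List.drop 3 allRels))))))) = true := by decide +kernel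
theorem rc7_0 : relsChk 306936 nets 4 (idArr 306936 19 4 (4 * 0)) (List.take 1 (List.drop 1 (List.drop 1 (List.drop 1 (List.drop 1 (List.drop 2 (List.drop 3 (List.drop 3 allRels)))))))) = true := by decide +kernel
theorem rc7_1 : relsChk 306936 nets 4 (idArr 306936 19 4 (4 * 1)) (List.take 1 (List.drop 1 (List.drop 1 (List.drop 1 (List.drop 1 (List.drop 2 (List.drop 3 (List.drop 3 allRels)))))))) = true := by decide +kernel
theorem rc7_2 : relsChk 306936 nets 4 (idArr 306936 19 4 (4 * 2)) (List.take 1 (List.drop 1 (List.drop 1 (List.drop 1 (List.drop 1 (List.drop 2 (List.drop 3 (List.drop 3 allRels)))))))) = true := by decide +kernel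
theorem rc7_3 : relsChk 306936 nets 4 (idArr 306936 19 4 (4 * 3)) (List.take 1 (List.drop 1 (List.drop 1 (List.drop 1 (List.drop 1 (List.drop 2 (List.drop 3 (List.drop 3 allRels)))))))) = true := by decide +kernel
theorem rc7_4 : relsChk 306936 nets 4 (idArr 306936 19 4 (4 * 4)) (List.take 1 (List.drop 1 (List.drop 1 (List.drop 1 (List.drop 1 (List.drop 2 (List.drop 3 (List.drop 3 allRels)))))))) = true := by decide +kernel

end H15.Fi24P
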