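import Cfsg.Agent.H15.Fi24PD

/-! Generated certificate (pklite) for the permutation group Fi24P of degree 306936, order 1255205709190661721292800, base 0 1 704 4232 320. -/
set_option Elab.async false
set_option autoImplicit false
set_option maxRecDepth 100000

namespace H15.Fi24P
open H14

theorem rc8_0 : relsChk 306936 nets 4 (idArr 306936 19 4 (4 * 0)) (List.take 2 (List.drop 1 (List.drop 1 (List.drop 1 (List.drop 1 (List.drop 1 (List.drop 2 (List.drop 3 (List.drop 3 allRels))))))))) = true := by decide +kernel
theorem rc8_1 : relsChk 306936 nets 4 (idArr 306936 19 4 (4 * 1)) (List.take 2 (List.drop 1 (List.drop 1 (List.drop 1 (List.drop 1 (List.drop 1 (List.drop 2 (List.drop 3 (List.drop 3 allRels))))))))) = true := by decide +kernel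
theorem rc8_2 : relsChk 306936 nets 4 (idArr 306936 19 4 (4 * 2)) (List.take 2 (List.drop 1 (List.drop 1 (List.drop 1 (List.drop 1 (List.drop 1 (List.drop 2 (List.drop 3 (List.drop 3 allRels))))))))) = true := by decide +kernel
theorem rc8_3 : relsChk 306936 nets 4 (idArr 306936 19 4 (4 * 3)) (List.take 2 (List.drop 1 (List.drop 1 (List.drop 1 (List.drop 1 (List.drop 1 (List.drop 2 (List.drop 3 (List.drop 3 allRels))))))))) = true := by decide +kernel
theorem rc8_4 : relsChk 306936 nets 4 (idArr 306936 19 4 (4 * 4)) (List.take 2 (List.drop 1 (List.drop 1 (List.drop 1 (List.drop 1 (List.drop 1 (List.drop 2 (List.drop 3 (List.drop 3 allRels))))))))) = true := by decide +kernel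
theorem rc9_0 : relsChk 306936 nets 4 (idArr 306936 19 4 (4 * 0)) (List.take 1 (List.drop 2 (List.drop 1 (List.drop 1 (List.drop 1 (List.drop 1 (List.drop 1 (List.drop 2 (List.drop 3 (List.drop 3 allRels)))))))))) = true := by decide +kernel
theorem rc9_1 : relsChk 306936 nets 4 (idArr 306936 19 4 (4 * 1)) (List.take 1 (List.drop 2 (List.drop 1 (List.drop 1 (List.drop 1 (List.drop 1 (List.drop 1 (List.drop 2 (List.drop 3 (List.drop 3 allRels)))))))))) = true := by decide +kernel
theorem rc9_2 : relsChk 306936 nets 4 (idArr 306936 19 4 (4 * 2)) (List.take 1 (List.drop 2 (List.drop 1 (List.drop 1 (List.drop 1 (List.drop 1 (List.drop 1 (List.drop 2 (List.drop 3 (List.drop 3 allRels)))))))))) = true := by decide +kernel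
theorem rc9_3 : relsChk 306936 nets 4 (idArr 306936 19 4 (4 * 3)) (List.take 1 (List.drop 2 (List.drop 1 (List.drop 1 (List.drop 1 (List.drop 1 (List.drop 1 (List.drop 2 (List.drop 3 (List.drop 3 allRels)))))))))) = true := by decide +kernel
theorem rc9_4 : relsChk 306936 nets 4 (idArr 306936 19 4 (4 * 4)) (List.take 1 (List.drop 2 (List.drop 1 (List.drop 1 (List.drop 1 (List.drop 1 (List.drop 1 (List.drop 2 (List.drop 3 (List.drop 3 allRels)))))))))) = true := by decide +kernel
theorem rc10_0 : relsChk 306936 nets 4 (idArr 306936 19 4 (4 * 0)) (List.drop 1 (List.drop 2 (List.drop 1 (List.drop 1 (List.drop 1 (List.drop 1 (List.drop 1 (List.drop 2 (List.drop 3 (List.drop 3 allRels)))))))))) = true := by decide +kernel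
theorem rc10_1 : relsChk 306936 nets 4 (idArr 306936 19 4 (4 * 1)) (List.drop 1 (List.drop 2 (List.drop 1 (List.drop 1 (List.drop 1 (List.drop 1 (List.drop 1 (List.drop 2 (List.drop 3 (List.drop 3 allRels)))))))))) = true := by decide +kernel
theorem rc10_2 : relsChk 306936 nets 4 (idArr 306936 19 4 (4 * 2)) (List.drop 1 (List.drop 2 (List.drop 1 (List.drop 1 (List.drop 1 (List.drop 1 (List.drop 1 (List.drop 2 (List.drop 3 (List.drop 3 allRels)))))))))) = true := by decide +kernel
theorem rc10_3 : relsChk 306936 nets 4 (idArr 306936 19 4 (4 * 3)) (List.drop 1 (List.drop 2 (List.drop 1 (List.drop 1 (List.drop 1 (List.drop 1 (List.drop 1 (List.drop 2 (List.drop 3 (List.drop 3 allRels)))))))))) = true := by decide +kernel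
theorem rc10_4 : relsChk 306936 nets 4 (idArr 306936 19 4 (4 * 4)) (List.drop 1 (List.drop 2 (List.drop 1 (List.drop 1 (List.drop 1 (List.drop 1 (List.drop 1 (List.drop 2 (List.drop 3 (List.drop 3 allRels)))))))))) = true := by decide +kernel
theorem lvc4 : (Nat.ble (320 + 1) 306936 && invChk nets lv5.gens (bit 320) && Nat.beq (pop 306936 (orbRun nets (List.append lvw4 lv5.gens) lvs4 (bit 320))) 729) = true := by decide +kernel
theorem lvc3 : (Nat.ble (4232 + 1) 306936 && invChk nets lv4.gens (bit 4232) && Nat.beq (pop 306936 (orbRun nets (List.append lvw3 lv4.gens) lvs3 (bit 4232))) 93312) = true := by decide +kernel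
theorem lvc2 : (Nat.ble (704 + 1) 306936 && invChk nets lv3.gens (bit 704) && Nat.beq (pop 306936 (orbRun nets (List.append lvw2 lv3.gens) lvs2 (bit 704))) 218400) = true := by decide +kernel
theorem lvc1 : (Nat.ble (1 + 1) 306936 && invChk nets lv2.gens (bit 1) && Nat.beq (pop 306936 (orbRun nets (List.append lvw1 lv2.gens) lvs1 (bit 1))) 275264) = true := by decide +kernel

end H15.Fi24P
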