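import Cfsg.Agent.H15.Fi24PC0
import Cfsg.Agent.H15.Fi24PC1
import Cfsg.Agent.H15.Fi24PC2
import Cfsg.Agent.H15.Fi24PC3

/-! Generated certificate (pklite) for the permutation group Fi24P of degree 306936, order 1255205709190661721292800, base 0 1 704 4232 320. -/
set_option autoImplicit false
set_option maxRecDepth 100000

namespace H15.Fi24P
open H14

theorem lvval5 : lv5.val 306936 nets = 1 := rfl
theorem lvval4 : lv4.val 306936 nets = 729 := val_cons lvc4 lvval5
theorem lvval3 : lv3.val 306936 nets = 68024448 := val_cons lvc3 lvval4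
theorem lvval2 : lv2.val 306936 nets = 14856539443200 := val_cons lvc2 lvval3
theorem lvval1 : lv1.val 306936 nets = 4089470473293004800 := val_cons lvc1 lvval2
theorem lvval0 : lv0.val 306936 nets = 1255205709190661721292800 := val_cons lvc0 lvval1
theorem lwval5 : lw5.val 306936 nets = 1 := rfl
theorem lwval4 : lw4.val 306936 nets = 1458 := val_cons lwc4 lwval5
theorem lwval3 : lw3.val 306936 nets = 136048896 := val_cons lwc3 lwval4
theorem lwval2 : lw2.val 306936 nets = 29713078886400 := val_cons lwc2 lwval3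
theorem lwval1 : lw1.val 306936 nets = 8178940946586009600 := val_cons lwc1 lwval2
theorem lwval0 : lw0.val 306936 nets = 2510411418381323442585600 := val_cons lwc0 lwval1
section
variable {Γ Ω : Type*} [Group Γ] [MulAction Γ Ω] (M : PM Γ Ω 306936 nets)

theorem all_ok [FaithfulSMul Γ Ω] : Rels M.gen allRels := (Rels.take_drop 3 (rels_of_parts M (D := 19) (J := 4) (C := 5) (by decide) (by decide) (by decide) (fl (c := 4) (fl (c := 3) (fl (c := 2) (fl (c := 1) (fl (c := 0) fl0 rc0_0) rc0_1) rc0_2) rc0_3) rc0_4)) (Rels.take_drop 3 (rels_of_parts M (D := 19) (J := 4) (C := 5) (by decide) (by decide) (by decide) (fl (c := 4) (fl (c := 3) (fl (c := 2) (fl (c := 1) (fl (c := 0) fl0 rc1_0) rc1_1) rc1_2) rc1_3) rc1_4)) (Rels.take_drop 2 (rels_of_parts M (D := 19) (J := 4) (C := 5) (by decide) (by decide) (by decide) (fl (c := 4) (fl (c := 3) (fl (c := 2) (fl (c := 1) (fl (c := 0) fl0 rc2_0) rc2_1) rc2_2) rc2_3) rc2_4)) (Rels.take_drop 1 (rels_of_parts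 M (D := 19) (J := 4) (C := 5) (by decide) (by decide) (by decide) (fl (c := 4) (fl (c := 3) (fl (c := 2) (fl (c := 1) (fl (c := 0) fl0 rc3_0) rc3_1) rc3_2) rc3_3) rc3_4)) (Rels.take_drop 1 (rels_of_parts M (D := 19) (J := 4) (C := 5) (by decide) (by decide) (by decide) (fl (c := 4) (fl (c := 3) (fl (c := 2) (fl (c := 1) (fl (c := 0) fl0 rc4_0) rc4_1) rc4_2) rc4_3) rc4_4)) (Rels.take_drop 1 (rels_of_parts M (D := 19) (J := 4) (C := 5) (by decide) (by decide) (by decide) (fl (c := 4) (fl (c := 3) (fl (c := 2) (fl (c := 1) (fl (c := 0) fl0 rc5_0) rc5_1) rc5_2) rc5_3) rc5_4)) (Rels.take_drop 1 (rels_of_parts M (D := 19) (J := 4) (C := 5) (by decide) (by decide) (by decide) (fl (c := 4) (fl (c := 3) (fl (c := 2) (fl (c := 1) (fl (c := 0) fl0 rc6_0) rc6_1) rc6_2) rc6_3) rc6_4)) (Rels.take_drop 1 (rels_of_parts M (D := 19) (J := 4) (C := 5) (by decide) (by decide) (by decide) (fl (c := 4) (fl (c := 3) (fl (c := 2) (fl (c := 1) (fl (c := 0) fl0 rc7_0)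 rc7_1) rc7_2) rc7_3) rc7_4)) (Rels.take_drop 2 (rels_of_parts M (D := 19) (J := 4) (C := 5) (by decide) (by decide) (by decide) (fl (c := 4) (fl (c := 3) (fl (c := 2) (fl (c := 1) (fl (c := 0) fl0 rc8_0) rc8_1) rc8_2) rc8_3) rc8_4)) (Rels.take_drop 1 (rels_of_parts M (D := 19) (J := 4) (C := 5) (by decide) (by decide) (by decide) (fl (c := 4) (fl (c := 3) (fl (c := 2) (fl (c := 1) (fl (c := 0) fl0 rc9_0) rc9_1) rc9_2) rc9_3) rc9_4)) (rels_of_parts M (D := 19) (J := 4) (C := 5) (by decide) (by decide) (by decide) (fl (c := 4) (fl (c := 3) (fl (c := 2) (fl (c := 1) (fl (c := 0) fl0 rc10_0) rc10_1) rc10_2) rc10_3) rc10_4))))))))))))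
theorem relsD_ok [FaithfulSMul Γ Ω] : Rels M.gen relsD := Rels.left (all_ok M)
theorem relsE_ok [FaithfulSMul Γ Ω] : Rels M.gen relsE := Rels.right (Rels.right (all_ok M))
theorem dok : defOk defs 12 = true := by decide +kernel
theorem dlen : nets.length ≤ 12 + defs.length := by decide +kernel
theorem gen_mem [FaithfulSMul Γ Ω] {X : Subgroup Γ} (h0 : ∀ l < 12, M.gen l ∈ X) {ws : List Word} (hw : wsIn 0 27 ws = true) : sub M.gen ws ≤ X :=
  sub_le_of_wsIn (lo := 0) (gen_mem_of_defRels (ds := defs) (fun l _ hl => h0 l hl) (by decide +kernel) (relsD_ok M)) hw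
theorem low (h : Finite (sub M.gen lv0.gens)) : 1255205709190661721292800 ≤ Nat.card (sub M.gen lv0.gens) := lvval0 ▸ M.low lv0 h
theorem low2 (h : Finite (sub M.gen lw0.gens)) : 2510411418381323442585600 ≤ Nat.card (sub M.gen lw0.gens) := lwval0 ▸ M.low lw0 h
variable (hc : Nat.card (sub M.gen lv0.gens) = 1255205709190661721292800)
include hc
theorem lev0 : sub M.gen lv0.gens ⊓ MulAction.stabilizer Γ (M.dec 0) = sub M.gen lv1.gens ∧ Nat.card (sub M.gen lv1.gens) = 4089470473293004800 ∧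
    Set.ncard {y | ∃ g ∈ sub M.gen lv0.gens, g • M.dec 0 = y} = 306936 :=
  level_lite M lvc0 lvval1 rfl hc (by decide)
theorem lev1 : sub M.gen lv1.gens ⊓ MulAction.stabilizer Γ (M.dec 1) = sub M.gen lv2.gens ∧ Nat.card (sub M.gen lv2.gens) = 14856539443200 ∧
    Set.ncard {y | ∃ g ∈ sub M.gen lv1.gens, g • M.dec 1 = y} = 275264 :=
  level_lite M lvc1 lvval2 rfl (lev0 M hc).2.1 (by decide)
theorem lev2 : sub M.gen lv2.gens ⊓ MulAction.stabilizer Γ (M.dec 704) = sub M.gen lv3.gens ∧ Nat.card (sub M.gen lv3.gens) = 68024448 ∧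
    Set.ncard {y | ∃ g ∈ sub M.gen lv2.gens, g • M.dec 704 = y} = 218400 :=
  level_lite M lvc2 lvval3 rfl (lev1 M hc).2.1 (by decide)
theorem lev3 : sub M.gen lv3.gens ⊓ MulAction.stabilizer Γ (M.dec 4232) = sub M.gen lv4.gens ∧ Nat.card (sub M.gen lv4.gens) = 729 ∧
    Set.ncard {y | ∃ g ∈ sub M.gen lv3.gens, g • M.dec 4232 = y} = 93312 :=
  level_lite M lvc3 lvval4 rfl (lev2 M hc).2.1 (by decide)
theorem lev4 : sub M.gen lv4.gens ⊓ MulAction.stabilizer Γ (M.dec 320) = sub M.gen lv5.gens ∧ Nat.card (sub M.gen lv5.gens) = 1 ∧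
    Set.ncard {y | ∃ g ∈ sub M.gen lv4.gens, g • M.dec 320 = y} = 729 :=
  level_lite M lvc4 lvval5 rfl (lev3 M hc).2.1 (by decide)
theorem trans (y : Ω) : ∃ g ∈ sub M.gen lv0.gens, g • M.dec 0 = y := trans_of_ncard M (lev0 M hc).2.2 y
theorem max (Y : Subgroup Γ) (h1 : sub M.gen lv1.gens ≤ Y) (h2 : Y ≤ sub M.gen lv0.gens) : Y = sub M.gen lv1.gens ∨ Y = sub M.gen lv0.gens :=
  max_lite M (by decide) (lev0 M hc).1 (l := sis) (fa_cons (ev_mem_of_chk (by decide +kernel)) (fa_cons (ev_mem_of_chk (by decide +kernel)) (fa_nil))) cov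
    (fa_cons (orb_of_chk M so0).1 (fa_cons (orb_of_chk M so1).1 (fa_nil)))
    (fa_cons sp0 (fa_cons sp1 (fa_nil))) Y h1 h2
theorem simple [FaithfulSMul Γ Ω] (hz : H14.ev M.gen zc ∈ sub M.gen lv0.gens) : IsSimpleGroup (sub M.gen lv0.gens) :=
  simple_lite (lev0 M hc).1 (trans M hc) (fun h => by rw [h] at hc; simp at hc) (max M hc)
    (z := M.gen 14) (by rw [← ev_single M.gen 14]; exact ev_mem_of_chk (by decide +kernel)) (m := 29)
    (by rw [← ev_single M.gen 14]; exact pow_eq_one_of_rels (Rels.left (Rels.right (all_ok M)))) (by rw [(lev0 M hc).2.1]; norm_num)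
    (ncl_lite (zw := zw) (c := zc) (ds := defs2) (defRels_mid defs0 defs1 defs3 12 (relsD_ok M)) (by decide +kernel) (by decide +kernel) rfl hz)

end

end H15.Fi24P
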