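import Cfsg.Agent.H15.Fi24H0
import Cfsg.Agent.H15.Fi24H1
import Cfsg.Agent.H15.Fi24H2
import Cfsg.Agent.H15.Fi24P
import Cfsg.Agent.H15.TFi24a

/-! The presented group `Cfsg.Spor.Fi24`: order, faithful action on 306936 points as a machine `H15.Fi24.M`, simplicity of the commutator subgroup. -/

set_option linter.constructorNameAsVariable false
set_option Elab.async false

namespace H15.Fi24
open Cfsg.Spor Cfsg.Spor.Fi24 H14

theorem idxK : (Kl gen [0, 2, 3, 4, 5, 6, 7, 8, 9, 10, 11]).relIndex (Kl gen [0, 1, 2, 3, 4, 5, 6, 7, 8, 9, 10, 11]) ≠ 0 ∧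
    (Kl gen [0, 2, 3, 4, 5, 6, 7, 8, 9, 10, 11]).relIndex (Kl gen [0, 1, 2, 3, 4, 5, 6, 7, 8, 9, 10, 11]) ≤ 306936 :=
  idx_ren TFi24a.idx [0, 1, 2, 3, 4, 5, 6, 7, 8, 9, 10, 11] rfl (rel_ren rel' (by decide +kernel)) _ (sub_ren gen (by decide +kernel))
theorem bd0 : Bd (⊤ : Subgroup Cfsg.Spor.Fi24) 2510411418381323442585600 := top0 ▸ Bd.step (n := 306936) bdH idxK

/-- the permutation machine -/
noncomputable abbrev P := permPM 306936 Fi24P.nets (by decide) (by decide) Fi24P.nets_ok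

theorem homR1 : Rels P.gen (List.take 78 (homW ix edges extra nl)) := (Rels.take_drop 7 (rels_of_parts P (D := 19) (J := 4) (C := 5) (by decide) (by decide) (by decide) (fl (c := 4) (fl (c := 3) (fl (c := 2) (fl (c := 1) (fl (c := 0) fl0 hc0_0) hc0_1) hc0_2) hc0_3) hc0_4)) (Rels.take_drop 7 (rels_of_parts P (D := 19) (J := 4) (C := 5) (by decide) (by decide) (by decide) (fl (c := 4) (fl (c := 3) (fl (c := 2) (fl (c := 1) (fl (c := 0) fl0 hc1_0) hc1_1) hc1_2) hc1_3) hc1_4)) (Rels.take_drop 7 (rels_of_parts P (D := 19) (J := 4) (C := 5) (by decide) (by decide) (by decide) (fl (c := 4) (fl (c := 3) (fl (c := 2) (fl (c := 1) (fl (c := 0) fl0 hc2_0) hc2_1) hc2_2) hc2_3) hc2_4)) (Rels.take_drop 7 (rels_of_parts P (D := 19) (J := 4) (C := 5) (by decide) (by decide) (by decide) (fl (c := 4) (fl (c := 3) (fl (c := 2) (fl (c := 1) (fl (c := 0) fl0 hc3_0) hc3_1) hc3_2) hc3_3) hc3_4)) (Rels.take_drop 7 (rels_of_parts P (D := 19) (J := 4) (C := 5) (by decide)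 (by decide) (by decide) (fl (c := 4) (fl (c := 3) (fl (c := 2) (fl (c := 1) (fl (c := 0) fl0 hc4_0) hc4_1) hc4_2) hc4_3) hc4_4)) (Rels.take_drop 7 (rels_of_parts P (D := 19) (J := 4) (C := 5) (by decide) (by decide) (by decide) (fl (c := 4) (fl (c := 3) (fl (c := 2) (fl (c := 1) (fl (c := 0) fl0 hc5_0) hc5_1) hc5_2) hc5_3) hc5_4)) (Rels.take_drop 7 (rels_of_parts P (D := 19) (J := 4) (C := 5) (by decide) (by decide) (by decide) (fl (c := 4) (fl (c := 3) (fl (c := 2) (fl (c := 1) (fl (c := 0) fl0 hc6_0) hc6_1) hc6_2) hc6_3) hc6_4)) (Rels.take_drop 6 (rels_of_parts P (D := 19) (J := 4) (C := 5) (by decide) (by decide) (by decide) (fl (c := 4) (fl (c := 3) (fl (c := 2) (fl (c := 1) (fl (c := 0) fl0 hc7_0) hc7_1) hc7_2) hc7_3) hc7_4)) (Rels.take_drop 6 (rels_of_parts P (D := 19) (J := 4) (C := 5) (by decide) (by decide) (by decide) (fl (c := 4) (fl (c := 3) (fl (c := 2) (fl (c := 1) (fl (c := 0) fl0 hc8_0) hc8_1) hc8_2) hc8_3) hc8_4)) (Rels.take_drop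 7 (rels_of_parts P (D := 19) (J := 4) (C := 5) (by decide) (by decide) (by decide) (fl (c := 4) (fl (c := 3) (fl (c := 2) (fl (c := 1) (fl (c := 0) fl0 hc9_0) hc9_1) hc9_2) hc9_3) hc9_4)) (Rels.take_drop 8 (rels_of_parts P (D := 19) (J := 4) (C := 5) (by decide) (by decide) (by decide) (fl (c := 4) (fl (c := 3) (fl (c := 2) (fl (c := 1) (fl (c := 0) fl0 hc10_0) hc10_1) hc10_2) hc10_3) hc10_4)) (rels_of_parts P (D := 19) (J := 4) (C := 5) (by decide) (by decide) (by decide) (fl (c := 4) (fl (c := 3) (fl (c := 2) (fl (c := 1) (fl (c := 0) fl0 hc11_0) hc11_1) hc11_2) hc11_3) hc11_4)))))))))))))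
theorem auxR : Rels P.gen (([0], [0]) :: List.take 2 Fi24P.relsD) := fun p hp =>
  (List.mem_cons.1 hp).elim (fun e => by rw [e]) fun h => Fi24P.relsD_ok P p (List.mem_of_mem_take h)
theorem homR2 : Rels P.gen (List.drop 78 (homW ix edges extra nl)) := by
  refine Rels.take_drop 1 ?_ ?_
  · exact rels_of_sub (rel_of_flat auxR (v := [3, 3, 3, 3, 3, 3, 3, 3, 3, 0])
      (rels_of_sub (Fi24P.relsE_ok P) (by decide +kernel)) rfl) (by decide +kernel)
  · exact rels_of_sub (rel_of_flat auxR (v := List.replicate 17 4)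
      (rels_of_sub (Fi24P.relsE_ok P) (by decide +kernel)) rfl) (by decide +kernel)
theorem homR : Rels P.gen (homW ix edges extra nl) := Rels.take_drop 78 homR1 homR2

theorem ex_pi : ∃ π : Cfsg.Spor.Fi24 →* Equiv.Perm (Fin 306936), Function.Injective π ∧
    Nat.card Cfsg.Spor.Fi24 = 2510411418381323442585600 ∧ ∃ M : PM Cfsg.Spor.Fi24 (Pt π) 306936 Fi24P.nets,
      (∀ x, M.gen (ix x) = pof edges extra x) ∧ ∀ l, π (M.gen l) = P.gen l :=
  cox_machine ix (by decide) homR (k := 12) (fun l hl => ⟨gl.getD l .l, by revert l; decide⟩)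
    Fi24P.dok Fi24P.dlen (Fi24P.relsD_ok P) bd0 (Fi24P.low2 P)

/-- the permutation representation -/
noncomputable def pi : Cfsg.Spor.Fi24 →* Equiv.Perm (Fin 306936) := ex_pi.choose
theorem inj : Function.Injective pi := ex_pi.choose_spec.1
theorem card : Nat.card Cfsg.Spor.Fi24 = 2510411418381323442585600 := ex_pi.choose_spec.2.1
instance instFaithful : FaithfulSMul Cfsg.Spor.Fi24 (Pt pi) := faithful_Pt inj
/-- the presented group as a permutation machine -/
noncomputable def M : PM Cfsg.Spor.Fi24 (Pt pi) 306936 Fi24P.nets := ex_pi.choose_spec.2.2.choose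
theorem M_gen (x : Gen) : M.gen (ix x) = pof edges extra x := ex_pi.choose_spec.2.2.choose_spec.1 x
theorem pi_gen (l : ℕ) : pi (M.gen l) = P.gen l := ex_pi.choose_spec.2.2.choose_spec.2 l

theorem card_comm : Nat.card (commutator Cfsg.Spor.Fi24) = 1255205709190661721292800 := by
  have := (commutator Cfsg.Spor.Fi24).card_mul_index
  rw [comm.2, card] at this
  omega

theorem z_mem : M.gen 14 ∈ commutator Cfsg.Spor.Fi24 := by
  have h : M.gen 14 ^ 29 = 1 := by
    rw [← ev_single M.gen 14]; exact pow_eq_one_of_rels (Rels.left (Rels.right (Fi24P.all_ok M)))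
  have h2 := pow_mem (Subgroup.mul_self_mem_of_index_two comm.2 (M.gen 14)) 15
  rwa [← sq, ← pow_mul, show 2 * 15 = 29 + 1 from rfl, pow_succ, h, one_mul] at h2

theorem top : sub M.gen Fi24P.lv0.gens = commutator Cfsg.Spor.Fi24 :=
  (eq_of_low (ncl_lite' (z := 14) (zw := Fi24P.zw) (c := Fi24P.zc) (ds := Fi24P.defs2)
    (defRels_mid Fi24P.defs0 Fi24P.defs1 Fi24P.defs3 12 (Fi24P.relsD_ok M)) (by decide +kernel)
    (by decide +kernel) _ z_mem) (Bd.of_card card_comm (by decide)) (Fi24P.low M)).1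

theorem hc : Nat.card (sub M.gen Fi24P.lv0.gens) = 1255205709190661721292800 := by rw [top, card_comm]

theorem sg_M : ∀ l < 12, sg (M.gen l) = -1 := fun l hl => by
  obtain ⟨x, rfl⟩ : ∃ x, ix x = l := ⟨gl.getD l .a, by revert l; decide⟩
  rw [M_gen, sg_gen]

theorem simple : IsSimpleGroup (commutator Cfsg.Spor.Fi24) := by
  rw [← top]
  refine Fi24P.simple M hc ?_
  rw [top, comm.1, MonoidHom.mem_ker, H14.map_ev, H14.ev_congr (gen' := fun _ => -1) sg_M (by decide +kernel)]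
  decide +kernel

theorem stab1 : commutator Cfsg.Spor.Fi24 ⊓ MulAction.stabilizer Cfsg.Spor.Fi24 (M.dec 0) =
    sub M.gen Fi24P.lv1.gens := top ▸ (Fi24P.lev0 M hc).1

theorem index_stab0 : (MulAction.stabilizer Cfsg.Spor.Fi24 (M.dec 0)).index = 306936 :=
  index_stab_of_trans M (Fi24P.trans M hc)

/-- the point stabiliser in the printed words -/
abbrev H : Subgroup Cfsg.Spor.Fi24 := (Subgroup.closure {r | r ∈ [a, b, c, d, e, f, g, h, i, j, l]}).map
  (PresentedGroup.mk (coxRelators edges ∪ {r | r ∈ extra}))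

theorem H_eq : H = Kl gen [0, 2, 3, 4, 5, 6, 7, 8, 9, 10, 11] :=
  map_closure_eq_Kl codes (by decide +kernel) (by decide +kernel)

theorem stab : H = MulAction.stabilizer Cfsg.Spor.Fi24 (M.dec 0) := by
  refine eq_stab ?_ ?_ index_stab0
  · rw [H, map_closure_eq_sub M_gen]
    exact M.fix_sound (by decide) (by decide +kernel)
  · rw [H_eq, ← Subgroup.relIndex_top_right, ← top0]; exact idxK

end H15.Fi24
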