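import Cfsg.Agent.H15.Fi24a
import Cfsg.Agent.H15.Fi24PD

/-! The Coxeter relators of `Fi24` on 306936 points, part 0. -/

set_option linter.constructorNameAsVariable false
set_option Elab.async false

namespace H15.Fi24
open Cfsg.Spor Cfsg.Spor.Fi24 H14

theorem hc0_0 : relsChk 306936 Fi24P.nets 4 (idArr 306936 19 4 (4 * 0)) (List.take 7 (List.take 78 (homW ix edges extra nl))) = true := by decide +kernel
theorem hc0_1 : relsChk 306936 Fi24P.nets 4 (idArr 306936 19 4 (4 * 1)) (List.take 7 (List.take 78 (homW ix edges extra nl))) = true := by decide +kernel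
theorem hc0_2 : relsChk 306936 Fi24P.nets 4 (idArr 306936 19 4 (4 * 2)) (List.take 7 (List.take 78 (homW ix edges extra nl))) = true := by decide +kernel
theorem hc0_3 : relsChk 306936 Fi24P.nets 4 (idArr 306936 19 4 (4 * 3)) (List.take 7 (List.take 78 (homW ix edges extra nl))) = true := by decide +kernel
theorem hc0_4 : relsChk 306936 Fi24P.nets 4 (idArr 306936 19 4 (4 * 4)) (List.take 7 (List.take 78 (homW ix edges extra nl))) = true := by decide +kernel
theorem hc1_0 : relsChk 306936 Fi24P.nets 4 (idArr 306936 19 4 (4 * 0)) (List.take 7 (List.drop 7 (List.take 78 (homW ix edges extra nl)))) = true := by decide +kernel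
theorem hc1_1 : relsChk 306936 Fi24P.nets 4 (idArr 306936 19 4 (4 * 1)) (List.take 7 (List.drop 7 (List.take 78 (homW ix edges extra nl)))) = true := by decide +kernel
theorem hc1_2 : relsChk 306936 Fi24P.nets 4 (idArr 306936 19 4 (4 * 2)) (List.take 7 (List.drop 7 (List.take 78 (homW ix edges extra nl)))) = true := by decide +kernel
theorem hc1_3 : relsChk 306936 Fi24P.nets 4 (idArr 306936 19 4 (4 * 3)) (List.take 7 (List.drop 7 (List.take 78 (homW ix edges extra nl)))) = true := by decide +kernel
theorem hc1_4 : relsChk 306936 Fi24P.nets 4 (idArr 306936 19 4 (4 * 4)) (List.take 7 (List.drop 7 (List.take 78 (homW ix edges extra nl)))) = true := by decide +kernel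
theorem hc2_0 : relsChk 306936 Fi24P.nets 4 (idArr 306936 19 4 (4 * 0)) (List.take 7 (List.drop 7 (List.drop 7 (List.take 78 (homW ix edges extra nl))))) = true := by decide +kernel
theorem hc2_1 : relsChk 306936 Fi24P.nets 4 (idArr 306936 19 4 (4 * 1)) (List.take 7 (List.drop 7 (List.drop 7 (List.take 78 (homW ix edges extra nl))))) = true := by decide +kernel
theorem hc2_2 : relsChk 306936 Fi24P.nets 4 (idArr 306936 19 4 (4 * 2)) (List.take 7 (List.drop 7 (List.drop 7 (List.take 78 (homW ix edges extra nl))))) = true := by decide +kernel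
theorem hc2_3 : relsChk 306936 Fi24P.nets 4 (idArr 306936 19 4 (4 * 3)) (List.take 7 (List.drop 7 (List.drop 7 (List.take 78 (homW ix edges extra nl))))) = true := by decide +kernel
theorem hc2_4 : relsChk 306936 Fi24P.nets 4 (idArr 306936 19 4 (4 * 4)) (List.take 7 (List.drop 7 (List.drop 7 (List.take 78 (homW ix edges extra nl))))) = true := by decide +kernel
theorem hc3_0 : relsChk 306936 Fi24P.nets 4 (idArr 306936 19 4 (4 * 0)) (List.take 7 (List.drop 7 (List.drop 7 (List.drop 7 (List.take 78 (homW ix edges extra nl)))))) = true := by decide +kernel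
theorem hc3_1 : relsChk 306936 Fi24P.nets 4 (idArr 306936 19 4 (4 * 1)) (List.take 7 (List.drop 7 (List.drop 7 (List.drop 7 (List.take 78 (homW ix edges extra nl)))))) = true := by decide +kernel
theorem hc3_2 : relsChk 306936 Fi24P.nets 4 (idArr 306936 19 4 (4 * 2)) (List.take 7 (List.drop 7 (List.drop 7 (List.drop 7 (List.take 78 (homW ix edges extra nl)))))) = true := by decide +kernel
theorem hc3_3 : relsChk 306936 Fi24P.nets 4 (idArr 306936 19 4 (4 * 3)) (List.take 7 (List.drop 7 (List.drop 7 (List.drop 7 (List.take 78 (homW ix edges extra nl)))))) = true := by decide +kernel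
theorem hc3_4 : relsChk 306936 Fi24P.nets 4 (idArr 306936 19 4 (4 * 4)) (List.take 7 (List.drop 7 (List.drop 7 (List.drop 7 (List.take 78 (homW ix edges extra nl)))))) = true := by decide +kernel

end H15.Fi24
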