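import Cfsg.Agent.H15.Glue
import Cfsg.Agent.H15.HNM
import Cfsg.Prelude.Def_Spor_HN

/-! The representation `rho` of degree 133 over the field with 5 elements of the presented group `Cfsg.Spor.HN`,
and an element of order 19. -/

set_option Elab.async false
set_option linter.constructorNameAsVariable false

namespace H15.HN
open Cfsg.Spor Cfsg.Spor.HN H14

/-- generators in order -/
def gl : List Gen := [.x, .y, .z, .t]
def ix (a : Gen) : ℕ := gl.idxOf a
/-- the generators -/
def g (l : ℕ) : Cfsg.Spor.HN := pof edges extra (gl.getD l .x)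
theorem g_ix (a : Gen) : g (ix a) = pof edges extra a := by cases a <;> rfl
/-- the relators -/
def R0 : List (List ℕ) := allW (enc14 ix) edges extra [] gl
theorem rel : RelL g R0 := allW_rel (codes14 g_ix) (by simp) gl

theorem hc0 : HNM.c.rels HNM.ms (List.take 4 (List.drop 0 (homW ix edges extra []))) = true := by decide +kernel
theorem hc1 : HNM.c.rels HNM.ms (List.take 4 (List.drop 4 (homW ix edges extra []))) = true := by decide +kernel
theorem hc2 : HNM.c.rels HNM.ms (List.take 1 (List.drop 8 (homW ix edges extra []))) = true := by decide +kernel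
theorem hc3 : HNM.c.rels HNM.ms (List.take 1 (List.drop 9 (homW ix edges extra []))) = true := by decide +kernel
theorem hc4 : HNM.c.rels HNM.ms (List.drop 10 (homW ix edges extra [])) = true := by decide +kernel
theorem homR : Rels HNM.gen (List.drop 0 (homW ix edges extra [])) := (rels_td 0 4 4 rfl (BP.rels_of_chk HNM.c_ok HNM.hgen hc0) (rels_td 4 4 8 rfl (BP.rels_of_chk HNM.c_ok HNM.hgen hc1) (rels_td 8 1 9 rfl (BP.rels_of_chk HNM.c_ok HNM.hgen hc2) (rels_td 9 1 10 rfl (BP.rels_of_chk HNM.c_ok HNM.hgen hc3) (BP.rels_of_chk HNM.c_ok HNM.hgen hc4)))))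

theorem ex_rho : ∃ ρ : Cfsg.Spor.HN →* GL (Fin 133) (ZMod 5), ∀ a, ρ (pof edges extra a) = HNM.gen (ix a) :=
  exists_hom ix HNM.gen (fun x hx => by simp [coxNodes, edges] at hx) homR

/-- the representation -/
noncomputable def rho : Cfsg.Spor.HN →* GL (Fin 133) (ZMod 5) := ex_rho.choose
theorem rho_g : ∀ l < 4, rho (g l) = HNM.gen l := fun l hl => by
  rw [g, rho, ex_rho.choose_spec]; congr 1; revert l; decide

/-- a word for an element of order 19 -/
def zw : List ℕ := [6, 3, 4, 6, 2, 4, 2, 4, 2, 5, 3, 5, 3, 7, 5, 2]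
theorem zc : HNM.c.rels HNM.ms [([8], zw.reverse), (powW [8] 19, [])] = true := by decide +kernel
theorem rho_z : rho (ev (letter g) zw) = HNM.gen 4 := by
  rw [map_evL, evL_congr rho_g (by decide), ← ev14, ← BP.rels_of_chk HNM.c_ok HNM.hgen zc _ List.mem_cons_self]
  exact ev_single _ 4
theorem z19 : rho (ev (letter g) zw) ^ 19 = 1 := by
  have := BP.rels_of_chk HNM.c_ok HNM.hgen zc (powW [8] 19, []) (by simp)
  rwa [ev_powW, ev_single _ 4, ← rho_z] at this
theorem z1 : rho (ev (letter g) zw) ≠ 1 := by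
  rw [rho_z]; exact BP.ne_one HNM.c_ok HNM.hgen (l := 4) (by decide +kernel)

end H15.HN
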