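import Cfsg.Agent.H15.HN
import Cfsg.Agent.H15.PresHS

/-! The double cover of the Higman-Sims group in the subgroup of `Cfsg.Spor.HN` on `x, y, z`. -/

set_option Elab.async false
set_option maxRecDepth 8000

namespace H15.HN
open Cfsg.Spor Cfsg.Spor.HN H14 L

/-- words for the letters of the Higman-Sims group -/
def hsW : List Word := [[8, 10, 13, 6, 8, 10, 1, 4, 7, 4, 12], [10, 12, 14, 7, 9, 4, 3, 4, 12], [14, 9, 9, 13, 7, 10, 2, 4, 13, 4, 6], [14, 8, 10, 13, 13, 2, 8, 4, 3, 9, 4, 10], [14, 8, 10, 8, 13, 9, 3, 7, 3, 0, 4, 2, 4, 13, 3], [14, 10, 8, 13, 9, 2, 7, 8, 4, 2, 4, 9, 6], [10, 9, 12, 14, 2, 1, 4, 12, 4], [9, 10, 2, 10, 7, 9, 4, 9, 4, 9, 13], [14, 10, 12, 12, 6, 6, 4, 9, 4, 9, 13], [9, 14, 3, 10, 12, 0, 0, 4, 9, 4, 12]]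
def hsE : List ℕ := [0, 0, 1, 1, 1, 1, 1, 0, 1, 1, 0, 0, 1, 1, 0, 0, 0, 0, 1, 0, 1, 0, 0, 1, 0, 0, 1, 0, 0, 0, 0, 1, 0, 0, 0, 0, 1, 1, 1, 0, 1, 1, 1, 0, 0, 0, 1, 1, 0, 0, 0, 0, 0, 0, 0, 1, 0, 0, 0, 1, 0, 1, 0, 0, 0, 1, 0, 0, 0, 0, 0, 0, 0, 0, 0, 0, 0, 0, 0, 0, 0, 0, 0, 0, 0, 0, 0, 0, 0, 0, 0, 0]
def hsA : Word := [1, 1, 2, 1, 3, 3, 1, 1, 2, 1, 3, 3, 1, 1, 2, 1, 3, 3]
def hsB : Word := [1, 3, 2, 2, 0, 3, 0, 0, 2, 2, 0, 3, 0, 0, 2, 2, 0, 3, 0, 0, 2, 0, 1, 1, 2, 1, 3, 3, 1, 1, 2, 1, 3, 3, 1, 1, 2, 1, 3, 3, 1, 3]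
instance hsF : PtF 1408 HNH.nets (ptF 64 11 HNH.nets) := ptF_ok HNH.nets_ok (by decide)
theorem hsBase : Base M (bas HNH.lv0) := base_of_lv M cardY (by decide) HNH.lvval0
theorem hsR : Rels M.gen (modR hsW [0, 0] relsHS hsE) :=
  hsBase.rels (ptF 64 11 HNH.nets) (by decide +kernel) (by decide +kernel)
theorem hsR' : Rels M.gen ((flat hsW (H14.invW hsB ++ (H14.invW hsA ++ (hsB ++ hsA))), [0, 0]) :: (powW [0, 0] 2, []) ::
    HNH.lv0.gens.map fun w => ([0, 0] ++ w, w ++ [0, 0])) :=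
  hsBase.rels (ptF 64 11 HNH.nets) (by decide +kernel) (by decide +kernel)

theorem dcHS {N : Subgroup Cfsg.Spor.HN} (hN : N = Sw g (lts 3)) :
    ∃ K : Subgroup N, K.Normal ∧ K.index = 2 ∧ Cfsg.IsNonsplitDoubleCover K Cfsg.Spor.HS := by
  let e : Y ≃* N := (MonoidHom.ofInjective main.1).trans (MulEquiv.subgroupCongr (range_theta.trans hN.symm))
  have hv := fun w => H14.map_ev (gen := M.gen) e.toMonoidHom w
  have ht : sub M.gen HNH.lv0.gens = ⊤ := (eq_of_low le_top (Bd.of_card_top cardY (by decide)) (HNH.low M)).1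
  have hc : ⊤ ≤ Subgroup.centralizer {H14.ev M.gen [0, 0]} := ht.ge.trans ((sub_le _).2 fun w hw => by
    rw [Subgroup.mem_centralizer_singleton_iff, ← H14.ev_append, ← H14.ev_append]
    exact hsR' _ (List.mem_cons_of_mem _ (List.mem_cons_of_mem _ (List.mem_map_of_mem hw))))
  have h2 : H14.ev M.gen [0, 0] ^ 2 = 1 := (ev_powW _ _).symm.trans (hsR' _ (List.mem_cons_of_mem _ List.mem_cons_self))
  obtain ⟨hs, hX⟩ := isHS
  obtain ⟨x, hom⟩ := homHS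
  obtain ⟨K, -, -, h3, h4, f, h5, h6⟩ := cover_of_emb (H := ⊤) (y := fun l => e.toMonoidHom (M.gen l)) (W := hsW)
    (z := [0, 0]) trivial (fun a _ => by
      obtain ⟨a, rfl⟩ := e.surjective a
      rw [Subgroup.mem_centralizer_singleton_iff, ← hv]
      exact (map_mul e _ _).symm.trans ((congrArg e (Subgroup.mem_centralizer_singleton_iff.1 (hc trivial))).trans
        (map_mul e _ _))) le_top (Rels.map' hsR _) (by decide +kernel) (not_mem_zpowers (p := 1)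
      (by rw [← hv, ← map_pow, h2, map_one]) fun k hk h => by
        rw [loc, ← ev_powW, ← hv, ← hv] at h
        exact ne_of_pt M (ptF 64 11 HNH.nets) (c := 0) (by decide) (by clear h; revert k; decide +kernel) (e.injective h)) hom
  rw [← hv, show orderOf (e.toMonoidHom (H14.ev M.gen [0, 0])) = 2 from (orderOf_injective _ e.injective _).trans
    (orderOf_eq_prime h2 (ne_of_pt M (ptF 64 11 HNH.nets) (v := []) (c := 0) (by decide) (by decide +kernel))), hX] at h4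
  have h7 := K.index_mul_card
  rw [h4, ← Nat.card_congr e.toEquiv, cardY] at h7
  have h8 : K.index = 2 := by omega
  have h9 := fun w (h : wsIn 0 2 [w] = true) => sub_le_of_wsIn (fun l _ => h3 l) h (ev_mem_sub _ List.mem_cons_self)
  refine ⟨K, Subgroup.normal_of_index_eq_two h8, h8, dc_cover h5 h6 hX (by decide) (by norm_num) h4
    (h9 hsA (by decide)) (h9 hsB (by decide)) ?_⟩
  rw [← show _ = H14.ev _ [0, 0] from Rels.map' hsR' e.toMonoidHom _ List.mem_cons_self, ev_flat, H14.ev_append,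
    H14.ev_append, H14.ev_append, H14.ev_invW, H14.ev_invW]

end H15.HN
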