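import Cfsg.Agent.H15.HNXD

/-! Generated certificate of a double coset enumeration (HNX). -/
set_option Elab.async false
set_option autoImplicit false
set_option maxRecDepth 100000

namespace H15.HNX
open H14 L DC

theorem ke0_0 : e0_0.all (chkE st P0 16 row F 1408 222 0 1 0) = true := by decide +kernel
theorem ke0_1 : e0_1.all (chkE st P0 16 row F 1408 222 0 1 1) = true := by decide +kernel
theorem ke0_2 : e0_2.all (chkE st P0 16 row F 1408 222 0 1 2) = true := by decide +kernel
theorem ke0_3 : e0_3.all (chkE st P0 16 row F 1408 222 0 1 3) = true := by decide +kernel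
theorem ke0_4 : e0_4.all (chkE st P0 16 row F 1408 222 0 1 4) = true := by decide +kernel
theorem ke0_5 : e0_5.all (chkE st P0 16 row F 1408 222 0 1 5) = true := by decide +kernel
theorem kc0 : c0.chk st P0 239 367 16 row 1408 H15.HNH.nets 222 O 177408000 = true := by decide +kernel
theorem ke1_0 : e1_0.all (chkE st P0 16 row F 1408 222 0 2 1) = true := by decide +kernel
theorem ke1_1 : e1_1.all (chkE st P0 16 row F 1408 222 0 2 3) = true := by decide +kernel
theorem ke1_2 : e1_2.all (chkE st P0 16 row F 1408 222 0 2 4) = true := by decide +kernel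
theorem ke1_3 : e1_3.all (chkE st P0 16 row F 1408 222 0 2 6) = true := by decide +kernel
theorem kc1 : c1.chk st P0 239 367 16 row 1408 H15.HNH.nets 222 O 177408000 = true := by decide +kernel
theorem ke2_0 : e2_0.all (chkE st P0 16 row F 1408 222 0 3 1) = true := by decide +kernel
theorem ke2_1 : e2_1.all (chkE st P0 16 row F 1408 222 0 3 2) = true := by decide +kernel
theorem ke2_2 : e2_2.all (chkE st P0 16 row F 1408 222 0 3 3) = true := by decide +kernel
theorem ke2_3 : e2_3.all (chkE st P0 16 row F 1408 222 0 3 4) = true := by decide +kernel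
theorem ke2_4 : e2_4.all (chkE st P0 16 row F 1408 222 0 3 5) = true := by decide +kernel
theorem ke2_5 : e2_5.all (chkE st P0 16 row F 1408 222 0 3 6) = true := by decide +kernel
theorem kc2 : c2.chk st P0 239 367 16 row 1408 H15.HNH.nets 222 O 177408000 = true := by decide +kernel
theorem ke3_0 : e3_0.all (chkE st P0 16 row F 1408 222 0 4 1) = true := by decide +kernel
theorem ke3_1 : e3_1.all (chkE st P0 16 row F 1408 222 0 4 2) = true := by decide +kernel
theorem ke3_2 : e3_2.all (chkE st P0 16 row F 1408 222 0 4 3) = true := by decide +kernel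
theorem ke3_3 : e3_3.all (chkE st P0 16 row F 1408 222 0 4 4) = true := by decide +kernel
theorem ke3_4 : e3_4.all (chkE st P0 16 row F 1408 222 0 4 5) = true := by decide +kernel
theorem ke3_5 : e3_5.all (chkE st P0 16 row F 1408 222 0 4 6) = true := by decide +kernel
theorem ke3_6 : e3_6.all (chkE st P0 16 row F 1408 222 0 4 7) = true := by decide +kernel
theorem kc3 : c3.chk st P0 239 367 16 row 1408 H15.HNH.nets 222 O 177408000 = true := by decide +kernel
theorem ke4_0 : e4_0.all (chkE st P0 16 row F 1408 222 0 5 1) = true := by decide +kernel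
theorem ke4_1 : e4_1.all (chkE st P0 16 row F 1408 222 0 5 3) = true := by decide +kernel
theorem ke4_2 : e4_2.all (chkE st P0 16 row F 1408 222 0 5 4) = true := by decide +kernel
theorem ke4_3 : e4_3.all (chkE st P0 16 row F 1408 222 0 5 5) = true := by decide +kernel
theorem ke4_4 : e4_4.all (chkE st P0 16 row F 1408 222 0 5 6) = true := by decide +kernel
theorem ke4_5 : e4_5.all (chkE st P0 16 row F 1408 222 0 5 7) = true := by decide +kernel
theorem kc4 : c4.chk st P0 239 367 16 row 1408 H15.HNH.nets 222 O 177408000 = true := by decide +kernel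
theorem ke5_0 : e5_0.all (chkE st P0 16 row F 1408 222 0 6 2) = true := by decide +kernel
theorem ke5_1 : e5_1.all (chkE st P0 16 row F 1408 222 0 6 3) = true := by decide +kernel
theorem ke5_2 : e5_2.all (chkE st P0 16 row F 1408 222 0 6 4) = true := by decide +kernel
theorem ke5_3 : e5_3.all (chkE st P0 16 row F 1408 222 0 6 5) = true := by decide +kernel
theorem ke5_4 : e5_4.all (chkE st P0 16 row F 1408 222 0 6 6) = true := by decide +kernel
theorem ke5_5 : e5_5.all (chkE st P0 16 row F 1408 222 0 6 7) = true := by decide +kernel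
theorem ke5_6 : e5_6.all (chkE st P0 16 row F 1408 222 0 6 8) = true := by decide +kernel
theorem kc5 : c5.chk st P0 239 367 16 row 1408 H15.HNH.nets 222 O 177408000 = true := by decide +kernel
theorem ke6_0 : e6_0.all (chkE st P0 16 row F 1408 222 0 7 4) = true := by decide +kernel
theorem ke6_1 : e6_1.all (chkE st P0 16 row F 1408 222 0 7 5) = true := by decide +kernel
theorem ke6_2 : e6_2.all (chkE st P0 16 row F 1408 222 0 7 6) = true := by decide +kernel
theorem ke6_3 : e6_3.all (chkE st P0 16 row F 1408 222 0 7 7) = true := by decide +kernel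
theorem kc6 : c6.chk st P0 239 367 16 row 1408 H15.HNH.nets 222 O 177408000 = true := by decide +kernel
theorem ke7_0 : e7_0.all (chkE st P0 16 row F 1408 222 0 8 6) = true := by decide +kernel
theorem ke7_1 : e7_1.all (chkE st P0 16 row F 1408 222 0 8 8) = true := by decide +kernel
theorem kc7 : c7.chk st P0 239 367 16 row 1408 H15.HNH.nets 222 O 177408000 = true := by decide +kernel
theorem kt0 : chkTs F tb 352 16 tw0 0 = true := by decide +kernel
theorem kt1 : chkTs F tb 352 16 tw1 97 = true := by decide +kernel
theorem kt2 : chkTs F tb 352 16 tw2 192 = true := by decide +kernel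
theorem kt3 : chkTs F tb 352 16 tw3 300 = true := by decide +kernel
theorem kt4 : chkTs F tb 352 16 tw4 450 = true := by decide +kernel
theorem kf0 : chkL st P0 239 367 row rels1 pg0 0 = true := by decide +kernel
theorem kB : chkB F tb (4 * 352) 16 P0 (bas H15.HNH.lv0) = true := by decide +kernel
theorem kC : allLt (fun d => chkC st P0 239 367 16 gs d (getL 0 vs d)) 128 = true := by decide +kernel
theorem kR : rels.all (fun p => chkR st P0 16 p.1 ((getL [] (invR ra rb R1) p.2.1).drop p.2.2 ++ (getL [] (invR ra rb R1) p.2.1).take p.2.2)) = true := by decide +kernel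
theorem k0 : (Nat.blt 0 177408000 && (Nat.blt 0 1408 && (invChk H15.HNH.nets lc.gens (bit 0) && (subs O (orbRun H15.HNH.nets (lets 8) ls0 (bit 0)) &&
    (Nat.ble 177408000 (Nat.mul (pop 1408 O) (lc.val 1408 H15.HNH.nets)) && (bas lc).all fun b => Nat.blt b 1408 && H14.tb O b))))) = true := by decide +kernel
theorem kL : (lc.gens.zip lls).all (fun p => eqW st P0 16 (run st 128 239 100 p.2 P0) p.1) = true := by decide +kernel
theorem kI : chkI 1408 O 1408 cs cl0 cls szs = true := by decide +kernel

end H15.HNX
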