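import Cfsg.Agent.H15.Gen
import Cfsg.Agent.H15.StdJ3
import Cfsg.Prelude.Def_Spor_J3

/-! The third Janko group `Spor.J3 F ω` as a standard machine (`J3.std`, type `StdJ3.St`, 6156 points); the matrix
machine `J3.exists_mm` for the triple cover. -/

set_option Elab.async false

namespace H15.J3
open H14 Cfsg.Spor Matrix

/-- coordinates -/
def e9 : F9 ≃ Fin 9 := (finProdFinEquiv : Fin 3 × Fin 3 ≃ Fin (3 * 3))
/-- the index with number `i` -/
def u9 (i : ℕ) : F9 := (((i / 3 : ℕ) : ZMod 3), (i : ZMod 3))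
theorem u9_e9 : ∀ z, u9 (e9 z) = z := by decide
/-- the code of a matrix -/
noncomputable def cd (f : F9 → F9 → ℕ) : ℕ := mkN 2 9 fun i j => Nat.mod (f (u9 i) (u9 j)) 4
/-- the codes of the generating matrices -/
def fG (t : ℕ) (Z w z : F9) : ℕ :=
  if t = 0 then (if w = z then (Z.1 * z.1 + Z.2 * z.2).val + 1 else 0)
  else if t = 1 then (if w = z then ((Z.1 - z.1) ^ 2 + (Z.2 - z.2) ^ 2).val + 1 else 0)
  else if t = 2 then (if w = z + Z then (if z = 0 then 1 else if F9.div Z z = F9.I - F9.one then 2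
    else if F9.div Z z = -F9.I - F9.one then 3 else 1) else 0)
  else if t = 3 then (if w = F9.mul Z z then 1 else 0)
  else if z = 0 then (if w = 0 then 1 else 0)
  else if w = -F9.div Z z ∨ w = F9.mul F9.I (F9.div Z z) ∨ w = -F9.mul F9.I (F9.div Z z) then 1 else 0
/-- five generators -/
noncomputable def B5 : List (ℕ × ℕ) := [(cd (fG 0 (1, 0)), nat_lit 0x20000200002000030000300003000010000100001), (cd (fG 1 (0, 0)), nat_lit 0x20000200003000020000200003000030000300001), (cd (fG 2 (1, 0)), nat_lit 0x1000010000180000c000040000400004000040), (cd (fG 3 (1, 1)), nat_lit 0x4001010000040000010004000400100000001), (cd (fG 4 (1, 0)), nat_lit 0x14100510000054114010500040501050041100001)]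
/-- the matrices of the letters -/
def L : List (ℕ × ℕ) :=
[(nat_lit 0x14100510000054114010500040501050041100001, nat_lit 0x14100510000054114010500040501050041100001),
  (nat_lit 0x348f75d578aa52ec570b19595e5e557f5319ebba0, nat_lit 0x248f75fd5cba52dc16c759295f5e556f62592f1a8),
  (nat_lit 0x35c8bf57fc08baa9ccc34862f1fe862f99bc06bfc, nat_lit 0x28c3c633d54e8f9d65c483eecd28a8baec68abba0),
  (nat_lit 0x3423211fed8bdc9ea794d3ed9964b8ead9386f1a8, nat_lit 0x21d8b5d5d808ee1f9d3adc12b1ae967f3abcf8f74),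
  (nat_lit 0x35815a32fcd7f8dc8d67301535b09321d969bd189, nat_lit 0x2cb4a795d91a1de42102e653813da8fc6d21d851d),
  (nat_lit 0xbca5d2cf6005ab0ff48826c61eb9b976e75d77e9, nat_lit 0xbca5d2cf6005ab0ff48826c61eb9b976e75d77e9),
  (nat_lit 0xaf2e146de0c537ef554992f505d92d351b360bc3, nat_lit 0x3597d26d348508bd1e493e36cab955091123a7a6),
  (nat_lit 0x1e50a92fca8e8a23094d3826cd2db6fee32aefdfb, nat_lit 0x1f05b9fbfb01a27a069b2b12cdb88c2ecd3bff7ba),
  (nat_lit 0x3a922c94b63a78af743009f06d0bb20c330deaed0, nat_lit 0x2be23c30efe863de32974b306d0be5092c89342c8),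
  (nat_lit 0x3fe07fd887a8cf53e15d146087005f3b820796a84, nat_lit 0x2a50dad846b1d39e0bfc9630b60cc024494e6672c),
  (nat_lit 0x16dad43aa7263b6c0cff72234a754ca72d8ffab69, nat_lit 0x1661243a7f3a4ba449df2cef03c7eb7bbc26d6b69),
  (nat_lit 0x17a22cb47d2d94be6c200e90a50aa108230eeeab0, nat_lit 0x19f33420faf8f3eb32f54530f90f5b0a24cf381c8),
  (nat_lit 0x2c41180053a236df32dff180b60d9b0e3205b4aca, nat_lit 0x3e9128d8e43ad042afc326302309610417c9d38bf)]
/-- words for the generators -/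
def ws : List (List Word) := [[[], [23, 18, 16, 3, 19, 14, 20, 4, 16], [22, 24, 18, 10, 20, 0, 17, 5, 13], [23, 17, 18, 10, 22, 4, 20, 0], [25, 17, 18, 10, 22, 15, 21, 14, 8], [17, 18, 10, 18, 4, 21, 10], [25, 17, 18, 10, 23, 7, 18, 15, 4], [22, 18, 25, 2, 24, 0, 9, 25, 9], [24, 17, 2, 9, 15, 0, 14, 17]],
[[22, 16, 24, 21, 17, 0, 16, 15, 2], [25, 3, 22, 0, 14, 18, 6], [24, 19, 2, 9, 15, 0, 14], [25, 18, 16, 3, 19, 15, 3, 13], [18, 2, 9, 18, 14, 12, 5], [17, 8, 2, 0, 15, 6, 12], [22, 18, 16, 9, 13, 0, 15, 6, 18], [23, 16, 18, 12, 18, 7, 20, 14, 8], [22, 17, 17, 10, 18, 0, 13, 24, 18]],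
[[], [25, 16, 21, 10, 0, 5, 16, 5, 14], [22, 24, 18, 20, 17, 0, 20, 7, 17], [25, 16, 24, 9, 0, 12, 24, 14], [17, 2, 23, 4, 18, 12, 15], [23, 17, 23, 2, 24, 4, 16, 20, 12], [23, 17, 23, 4, 15, 22, 6], [16, 2, 9, 10, 4, 15, 20, 16], [22, 17, 18, 2, 23, 4, 13, 4, 22]],
[[], [24, 18, 16, 21, 3, 7, 21, 6, 24], [23, 18, 25, 9, 22, 0, 5, 22, 6], [], [22, 24, 16, 2, 24, 0, 12, 18, 6, 21], [16, 18, 8, 19, 0, 13, 25], [24, 16, 24, 9, 3, 4, 10, 16, 7], [22, 18, 25, 2, 8, 15, 4, 14, 9], [24, 18, 17, 10, 18, 0, 13, 21, 18]],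
[[], [22, 17, 3, 18, 7, 22, 9], [24, 16, 22, 2, 24, 0, 5, 12, 19, 14], [0], [25, 17, 17, 9, 22, 0, 12, 0, 23, 4], [24, 18, 17, 3, 17, 0, 13, 14, 21], [24, 17, 23, 9, 13, 0, 23, 5, 20], [23, 16, 22, 20, 2, 0, 14, 18, 22], [16, 18, 8, 19, 0, 13, 25, 0]]]
/-- words for the scalars -/
def zw : List (ℕ × Word) := [(2, [0, 2, 0, 2, 0, 2, 0, 2, 0, 2, 0, 2, 0, 2, 0, 2, 0, 2, 0, 2, 0, 2, 0, 2, 0, 2, 0, 2, 0, 2, 0, 2, 0, 2, 0, 2, 0, 2]), (3, [0, 2, 0, 2, 0, 2, 0, 2, 0, 2, 0, 2, 0, 2, 0, 2, 0, 2, 0, 2, 0, 2, 0, 2, 0, 2, 0, 2, 0, 2, 0, 2, 0, 2, 0, 2, 0, 2, 0, 2, 0, 2, 0, 2, 0, 2, 0, 2, 0, 2, 0, 2, 0, 2, 0, 2, 0, 2, 0, 2, 0, 2, 0, 2, 0, 2, 0, 2, 0, 2, 0, 2, 0, 2, 0, 2])]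
theorem zw_ok : c4.scChk 9 L zw = true := by decide +kernel
theorem rels_ok0 : c4.relsM 9 L (zw.map fun x => c4.scN 9 x.1) (List.take 15 StdJ3.allRels) = true := by decide +kernel
theorem rels_ok1 : c4.relsM 9 L (zw.map fun x => c4.scN 9 x.1) (List.take 15 (List.drop 15 StdJ3.allRels)) = true := by decide +kernel
theorem rels_ok2 : c4.relsM 9 L (zw.map fun x => c4.scN 9 x.1) (List.take 15 (List.drop 15 (List.drop 15 StdJ3.allRels))) = true := by decide +kernel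
theorem rels_ok3 : c4.relsM 9 L (zw.map fun x => c4.scN 9 x.1) (List.take 15 (List.drop 15 (List.drop 15 (List.drop 15 StdJ3.allRels)))) = true := by decide +kernel
theorem rels_ok4 : c4.relsM 9 L (zw.map fun x => c4.scN 9 x.1) (List.take 15 (List.drop 15 (List.drop 15 (List.drop 15 (List.drop 15 StdJ3.allRels))))) = true := by decide +kernel
theorem rels_ok5 : c4.relsM 9 L (zw.map fun x => c4.scN 9 x.1) (List.take 15 (List.drop 15 (List.drop 15 (List.drop 15 (List.drop 15 (List.drop 15 StdJ3.allRels)))))) = true := by decide +kernel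
theorem rels_ok6 : c4.relsM 9 L (zw.map fun x => c4.scN 9 x.1) (List.take 15 (List.drop 15 (List.drop 15 (List.drop 15 (List.drop 15 (List.drop 15 (List.drop 15 StdJ3.allRels))))))) = true := by decide +kernel
theorem rels_ok7 : c4.relsM 9 L (zw.map fun x => c4.scN 9 x.1) (List.take 15 (List.drop 15 (List.drop 15 (List.drop 15 (List.drop 15 (List.drop 15 (List.drop 15 (List.drop 15 StdJ3.allRels)))))))) = true := by decide +kernel
theorem rels_ok8 : c4.relsM 9 L (zw.map fun x => c4.scN 9 x.1) (List.take 15 (List.drop 15 (List.drop 15 (List.drop 15 (List.drop 15 (List.drop 15 (List.drop 15 (List.drop 15 (List.drop 15 StdJ3.allRels))))))))) = true := by decide +kernel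
theorem rels_ok9 : c4.relsM 9 L (zw.map fun x => c4.scN 9 x.1) (List.take 15 (List.drop 15 (List.drop 15 (List.drop 15 (List.drop 15 (List.drop 15 (List.drop 15 (List.drop 15 (List.drop 15 (List.drop 15 StdJ3.allRels)))))))))) = true := by decide +kernel
theorem rels_ok10 : c4.relsM 9 L (zw.map fun x => c4.scN 9 x.1) (List.take 15 (List.drop 15 (List.drop 15 (List.drop 15 (List.drop 15 (List.drop 15 (List.drop 15 (List.drop 15 (List.drop 15 (List.drop 15 (List.drop 15 StdJ3.allRels))))))))))) = true := by decide +kernel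
theorem rels_ok11 : c4.relsM 9 L (zw.map fun x => c4.scN 9 x.1) (List.take 15 (List.drop 15 (List.drop 15 (List.drop 15 (List.drop 15 (List.drop 15 (List.drop 15 (List.drop 15 (List.drop 15 (List.drop 15 (List.drop 15 (List.drop 15 StdJ3.allRels)))))))))))) = true := by decide +kernel
theorem rels_ok12 : c4.relsM 9 L (zw.map fun x => c4.scN 9 x.1) (List.drop 15 (List.drop 15 (List.drop 15 (List.drop 15 (List.drop 15 (List.drop 15 (List.drop 15 (List.drop 15 (List.drop 15 (List.drop 15 (List.drop 15 (List.drop 15 StdJ3.allRels)))))))))))) = true := by decide +kernel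
theorem rels_ok : c4.relsM 9 L (zw.map fun x => c4.scN 9 x.1) StdJ3.allRels = true := (all_take_drop 15 rels_ok0 (all_take_drop 15 rels_ok1 (all_take_drop 15 rels_ok2 (all_take_drop 15 rels_ok3 (all_take_drop 15 rels_ok4 (all_take_drop 15 rels_ok5 (all_take_drop 15 rels_ok6 (all_take_drop 15 rels_ok7 (all_take_drop 15 rels_ok8 (all_take_drop 15 rels_ok9 (all_take_drop 15 rels_ok10 (all_take_drop 15 rels_ok11 rels_ok12))))))))))))
theorem ws_ok : allLt (fun t => allLt (fun i => (Nat.ble 3 t && Nat.beq i 0) || c4.upTo 9 (zw.map fun x => c4.scN 9 x.1)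
    (cd (fG t (u9 i))) (c4.evM 9 L (getL [] (getL [] ws t) i))) 9) 5 = true := by decide +kernel

variable {F : Type*} [Field F] {ω : F} (h2 : (2 : F) = 0) (hω : ω ^ 2 + ω + 1 = 0)

theorem ok : Ok (ar4 h2 hω) c4 2 := ⟨rfl, ar4_inj, Nat.cast_ofNat.trans h2⟩

theorem toM_cd (f : F9 → F9 → ℕ) : (ar4 h2 hω).toM e9 (cd f) = Matrix.of fun w z => v4 ω (f w z) := by
  ext w z
  refine ((ar4 h2 hω).toM_mkN e9 (fun _ _ => (ar4 h2 hω).red_lt _) w z).trans (((ar4 h2 hω).v_red _).trans ?_)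
  rw [u9_e9, u9_e9]; rfl

theorem v0 : v4 ω 0 = 0 := by simp [v4]
theorem v1 : v4 ω 1 = 1 := by simp [v4, Nat.testBit]
theorem v2 : v4 ω 2 = ω := by simp [v4, Nat.testBit]
include h2 hω
theorem v3 : v4 ω 3 = ω ^ 2 := by simp [v4, Nat.testBit]; linear_combination (1 + ω) * h2 - hω
theorem vp (n : ZMod 3) : v4 ω (n.val + 1) = omegaPow F ω n := by
  fin_cases n
  · exact v1.trans (pow_zero _).symm
  · exact v2.trans (pow_one _).symm
  · exact v3 h2 hω

theorem g0 (Z : F9) : (ar4 h2 hω).toM e9 (cd (fG 0 Z)) = j3A F ω Z := by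
  ext w z; rw [toM_cd, j3A, diagonal_apply]; simp only [fG, of_apply, if_true]
  split_ifs with h; exacts [h ▸ vp h2 hω _, v0]
theorem g1 (Z : F9) : (ar4 h2 hω).toM e9 (cd (fG 1 Z)) = j3E F ω Z := by
  ext w z; rw [toM_cd, j3E, diagonal_apply]; simp only [fG, of_apply, if_true, one_ne_zero, if_false]
  split_ifs with h; exacts [h ▸ vp h2 hω _, v0]
theorem g2 (Z : F9) : (ar4 h2 hω).toM e9 (cd (fG 2 Z)) = j3D F ω Z := by
  ext w z; rw [toM_cd, j3D]; simp only [fG, of_apply, if_true, j3Lam, Nat.reduceEqDiff, if_false]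
  split_ifs; exacts [v1, v2, v3 h2 hω, v1, v0]
theorem g3 (Z : F9) : (ar4 h2 hω).toM e9 (cd (fG 3 Z)) = j3B F Z := by
  ext w z; rw [toM_cd, j3B]; simp only [fG, of_apply, if_true, Nat.reduceEqDiff, if_false]
  split_ifs; exacts [v1, v0]
theorem g4 (Z : F9) : (ar4 h2 hω).toM e9 (cd (fG 4 Z)) = j3C F Z := by
  ext w z; rw [toM_cd, j3C]; simp only [fG, of_apply, Nat.reduceEqDiff, if_false]
  split_ifs; exacts [v1, v0, v1, v0]

theorem exists_mm : Nonempty (MM (clM (threeJ3 F ω)) (ar4 h2 hω) e9 L) := by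
  have h : Mem (ar4 h2 hω) e9 (clM (threeJ3 F ω)) B5 B5.length := mem_cl (ok h2 hω).1 (by decide +kernel) fun x hx => by
    simp only [B5, List.mem_cons, List.not_mem_nil, or_false] at hx
    rcases hx with rfl | rfl | rfl | rfl | rfl
    · exact .inl (.inl (.inl (.inl ⟨(1, 0), (g0 h2 hω (1, 0)).symm⟩)))
    · exact .inl (.inl (.inl (.inr ⟨(0, 0), (g1 h2 hω (0, 0)).symm⟩)))
    · exact .inl (.inl (.inr ⟨(1, 0), (g2 h2 hω (1, 0)).symm⟩))
    · exact .inl (.inr ⟨(1, 1), by decide, g3 h2 hω (1, 1)⟩)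
    · exact .inr ⟨(1, 0), by decide, g4 h2 hω (1, 0)⟩
  exact (h.words (ok h2 hω).1 (by decide +kernel) (ws := [[8], [4, 5, 2, 1, 8, 5, 7, 8, 5, 7, 8, 5, 7, 8, 5, 7, 8, 5, 7, 0, 3, 4, 5]]) (As := L) (k := 2)
    (by decide +kernel)).mmD (ok h2 hω).1 (by decide +kernel) (ds := StdJ3.defs) (by decide +kernel)
    (by decide +kernel) (by decide +kernel)

omit h2 hω in
/-- the projection -/
def q (ω : F) : threeJ3 F ω →* Cfsg.Spor.J3 F ω := QuotientGroup.mk' _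

variable {h2 hω} (M : MM (clM (threeJ3 F ω)) (ar4 h2 hω) e9 L)

theorem rels : Rels (fun x => q ω (M.gen x)) StdJ3.allRels :=
  M.relsZ (ok h2 hω).1 (clM_inj _) _ (M.hz (ok h2 hω).1 (clM_inj _) zw_ok) rels_ok

theorem top : sub (fun x => q ω (M.gen x)) (lets 2) = ⊤ := by
  refine top_cl (S := {g : GL F9 F | (g : Matrix F9 F9 F) ∈ j3Gens F ω})
    (q ω) (QuotientGroup.mk'_surjective (Subgroup.center (threeJ3 F ω))) fun (g : threeJ3 F ω) hg => ?_
  have key : ∀ t < 5, ∀ Z, (3 ≤ t → Z ≠ 0) → clM _ g = (ar4 h2 hω).toM e9 (cd (fG t Z)) →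
      q ω g ∈ sub (fun x => q ω (M.gen x)) (lets 2) := fun t ht Z hZ h => by
    have h1 := allLt_spec (allLt_spec ws_ok t ht) _ (e9 Z).2
    rw [Bool.or_eq_true, u9_e9] at h1
    rw [M.upTo (ok h2 hω).1 (clM_inj _) (q ω) (M.hz (ok h2 hω).1 (clM_inj _) zw_ok) (h1.resolve_left fun h3 => by
      rw [Bool.and_eq_true, Nat.ble_eq, Nat.beq_eq] at h3
      exact hZ h3.1 ((u9_e9 Z).symm.trans (congrArg u9 h3.2))) h]
    exact M.ev_mem (clM_inj _) _ (ds := StdJ3.defs) (by decide +kernel) (by decide +kernel)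
      (StdJ3.relsD_of_all (rels M)) _
  rcases hg with (((⟨Z, h⟩ | ⟨Z, h⟩) | ⟨Z, h⟩) | ⟨Z, h0, h⟩) | ⟨Z, h0, h⟩
  · exact key 0 (by decide) Z (by omega) (h.symm.trans (g0 h2 hω Z).symm)
  · exact key 1 (by decide) Z (by omega) (h.symm.trans (g1 h2 hω Z).symm)
  · exact key 2 (by decide) Z (by omega) (h.symm.trans (g2 h2 hω Z).symm)
  · exact key 3 (by decide) Z (fun _ => h0) (h.trans (g3 h2 hω Z).symm)
  · exact key 4 (by decide) Z (fun _ => h0) (h.trans (g4 h2 hω Z).symm)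

theorem std_spec : ∃ S : StdJ3.St (Cfsg.Spor.J3 F ω), ∀ l < 13, S.M.gen l = q ω (M.gen l) :=
  StdJ3.std_of_rels (rels M) (M.ne_ctr (ok h2 hω) (t := 1) (by decide +kernel)) (top M)

omit h2 M in
/-- the third Janko group -/
theorem std [Fintype F] (hF : Fintype.card F = 4) : Nonempty (StdJ3.St (Cfsg.Spor.J3 F ω)) :=
  let ⟨M⟩ := exists_mm (exists_w4 hF).1 hω
  let ⟨S, _⟩ := std_spec M
  ⟨S⟩

end H15.J3
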