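import Cfsg.Agent.H14.Dw2

/-! Generated certificate (tools14/pkgen) for the permutation group J4A of degree 24, order 244823040, base 0 1 2 3 4 5 6. -/
set_option autoImplicit false
set_option maxRecDepth 100000

namespace H15.J4A
open H14

noncomputable def n0 : Net := (.cons (nat_lit 1) (nat_lit 0x511400)
(.cons (nat_lit 2) (nat_lit 0x303100)
(.cons (nat_lit 4) (nat_lit 0xa0200)
(.cons (nat_lit 8) (nat_lit 0x29)
(.cons (nat_lit 16) (nat_lit 0x2d)
(.cons (nat_lit 8) (nat_lit 0x9d)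
(.cons (nat_lit 4) (nat_lit 0x30206)
(.cons (nat_lit 2) (nat_lit 0x30133)
(.cons (nat_lit 1) (nat_lit 0x44155)
.nil)))))))))
theorem n0_ok : Net.ok 24 n0 = true := by decide +kernel
noncomputable def n1 : Net := (.cons (nat_lit 1) (nat_lit 0x405000)
(.cons (nat_lit 2) (nat_lit 0x102000)
(.cons (nat_lit 4) (nat_lit 0x40500)
(.cons (nat_lit 8) (nat_lit 0x7)
(.cons (nat_lit 16) (nat_lit 0x7)
(.cons (nat_lit 8) (nat_lit 0x11)
(.cons (nat_lit 4) (nat_lit 0x10703)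
(.cons (nat_lit 2) (nat_lit 0x10003)
(.cons (nat_lit 1) (nat_lit 0x111)
.nil)))))))))
theorem n1_ok : Net.ok 24 n1 = true := by decide +kernel
noncomputable def n2 : Net := (.cons (nat_lit 1) (nat_lit 0x151040)
(.cons (nat_lit 2) (nat_lit 0x200100)
(.cons (nat_lit 4) (nat_lit 0x80900)
(.cons (nat_lit 8) (nat_lit 0xb)
(.cons (nat_lit 16) (nat_lit 0xb)
(.cons (nat_lit 8) (nat_lit 0xdf)
(.cons (nat_lit 4) (nat_lit 0xa060a)
(.cons (nat_lit 2) (nat_lit 0x323122)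
(.cons (nat_lit 1) (nat_lit 0x504044)
.nil)))))))))
theorem n2_ok : Net.ok 24 n2 = true := by decide +kernel
noncomputable def n3 : Net := (.cons (nat_lit 1) (nat_lit 0x11000)
(.cons (nat_lit 2) (nat_lit 0x113000)
(.cons (nat_lit 4) (nat_lit 0x20c00)
(.cons (nat_lit 8) (nat_lit 0xc3)
(.cons (nat_lit 16) (nat_lit 0xc7)
(.cons (nat_lit 8) (nat_lit 0x61)
(.cons (nat_lit 4) (nat_lit 0x30800)
(.cons (nat_lit 2) (nat_lit 0x13100)
(.cons (nat_lit 1) (nat_lit 0x15004)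
.nil)))))))))
theorem n3_ok : Net.ok 24 n3 = true := by decide +kernel
noncomputable def n4 : Net := (.cons (nat_lit 1) (nat_lit 0x105500)
(.cons (nat_lit 2) (nat_lit 0x310120)
(.cons (nat_lit 4) (nat_lit 0xb0800)
(.cons (nat_lit 8) (nat_lit 0x41)
(.cons (nat_lit 16) (nat_lit 0x6d)
(.cons (nat_lit 8) (nat_lit 0x29)
(.cons (nat_lit 4) (nat_lit 0x60708)
(.cons (nat_lit 2) (nat_lit 0x323030)
(.cons (nat_lit 1) (nat_lit 0x45440)
.nil)))))))))
theorem n4_ok : Net.ok 24 n4 = true := by decide +kernel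
noncomputable def n5 : Net := (.cons (nat_lit 1) (nat_lit 0x110000)
(.cons (nat_lit 2) (nat_lit 0x200100)
(.cons (nat_lit 4) (nat_lit 0x80000)
(.cons (nat_lit 8) (nat_lit 0xa1)
(.cons (nat_lit 16) (nat_lit 0xe1)
(.cons (nat_lit 8) (nat_lit 0xc1)
(.cons (nat_lit 4) (nat_lit 0xb0c0c)
(.cons (nat_lit 2) (nat_lit 0x311210)
(.cons (nat_lit 1) (nat_lit 0x444040)
.nil)))))))))
theorem n5_ok : Net.ok 24 n5 = true := by decide +kernel
noncomputable def n6 : Net := (.cons (nat_lit 1) (nat_lit 0x14040)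
(.cons (nat_lit 2) (nat_lit 0x222200)
(.cons (nat_lit 4) (nat_lit 0x10100)
(.cons (nat_lit 8) (nat_lit 0x2d)
(.cons (nat_lit 16) (nat_lit 0xad)
(.cons (nat_lit 8) (nat_lit 0xd5)
(.cons (nat_lit 4) (nat_lit 0x70208)
(.cons (nat_lit 2) (nat_lit 0x110130)
(.cons (nat_lit 1) (nat_lit 0x101010)
.nil)))))))))
theorem n6_ok : Net.ok 24 n6 = true := by decide +kernel
noncomputable def n7 : Net := (.cons (nat_lit 1) (nat_lit 0x444040)
(.cons (nat_lit 2) (nat_lit 0x12000)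
(.cons (nat_lit 4) (nat_lit 0x20100)
(.cons (nat_lit 8) (nat_lit 0x84)
(.cons (nat_lit 16) (nat_lit 0xec)
(.cons (nat_lit 8) (nat_lit 0x54)
(.cons (nat_lit 4) (nat_lit 0x30f00)
(.cons (nat_lit 2) (nat_lit 0x11220)
(.cons (nat_lit 1) (nat_lit 0x440550)
.nil)))))))))
theorem n7_ok : Net.ok 24 n7 = true := by decide +kernel
noncomputable def n8 : Net := (.cons (nat_lit 1) (nat_lit 0x110000)
(.cons (nat_lit 2) (nat_lit 0x21100)
(.cons (nat_lit 4) (nat_lit 0x20600)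
(.cons (nat_lit 8) (nat_lit 0x21)
(.cons (nat_lit 16) (nat_lit 0x71)
(.cons (nat_lit 8) (nat_lit 0xd1)
(.cons (nat_lit 4) (nat_lit 0xc0900)
(.cons (nat_lit 2) (nat_lit 0x210110)
(.cons (nat_lit 1) (nat_lit 0x1540)
.nil)))))))))
theorem n8_ok : Net.ok 24 n8 = true := by decide +kernel
noncomputable def n9 : Net := (.cons (nat_lit 1) (nat_lit 0x4400)
(.cons (nat_lit 2) (nat_lit 0x200100)
(.cons (nat_lit 4) (nat_lit 0x10a00)
(.cons (nat_lit 8) (nat_lit 0x81)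
(.cons (nat_lit 16) (nat_lit 0xb1)
(.cons (nat_lit 8) (nat_lit 0x21)
(.cons (nat_lit 4) (nat_lit 0xa0a00)
(.cons (nat_lit 2) (nat_lit 0x131320)
(.cons (nat_lit 1) (nat_lit 0x145110)
.nil)))))))))
theorem n9_ok : Net.ok 24 n9 = true := by decide +kernel
noncomputable def n10 : Net := (.cons (nat_lit 1) (nat_lit 0x14100)
(.cons (nat_lit 2) (nat_lit 0x2200)
(.cons (nat_lit 4) (nat_lit 0x800)
(.cons (nat_lit 8) (nat_lit 0x1e)
(.cons (nat_lit 16) (nat_lit 0x3e)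
(.cons (nat_lit 8) (nat_lit 0xbe)
(.cons (nat_lit 4) (nat_lit 0xd0c00)
(.cons (nat_lit 2) (nat_lit 0x21200)
(.cons (nat_lit 1) (nat_lit 0x511540)
.nil)))))))))
theorem n10_ok : Net.ok 24 n10 = true := by decide +kernel
noncomputable def n11 : Net := (.cons (nat_lit 1) (nat_lit 0x11100)
(.cons (nat_lit 2) (nat_lit 0x300)
(.cons (nat_lit 4) (nat_lit 0x90400)
(.cons (nat_lit 8) (nat_lit 0x87)
(.cons (nat_lit 16) (nat_lit 0xa7)
(.cons (nat_lit 8) (nat_lit 0xe7)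
(.cons (nat_lit 4) (nat_lit 0x30500)
(.cons (nat_lit 2) (nat_lit 0x131300)
(.cons (nat_lit 1) (nat_lit 0x454400)
.nil)))))))))
theorem n11_ok : Net.ok 24 n11 = true := by decide +kernel
noncomputable def n12 : Net := (.cons (nat_lit 1) (nat_lit 0x110000)
(.cons (nat_lit 2) (nat_lit 0x113100)
(.cons (nat_lit 4) (nat_lit 0x50000)
(.cons (nat_lit 8) (nat_lit 0x3)
(.cons (nat_lit 16) (nat_lit 0x43)
(.cons (nat_lit 8) (nat_lit 0x63)
(.cons (nat_lit 4) (nat_lit 0xf0900)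
(.cons (nat_lit 2) (nat_lit 0x330220)
(.cons (nat_lit 1) (nat_lit 0x415440)
.nil)))))))))
theorem n12_ok : Net.ok 24 n12 = true := by decide +kernel
noncomputable def n13 : Net := (.cons (nat_lit 2) (nat_lit 0x3300)
(.cons (nat_lit 4) (nat_lit 0x30000)
(.cons (nat_lit 8) (nat_lit 0xf)
(.cons (nat_lit 16) (nat_lit 0xcf)
(.cons (nat_lit 8) (nat_lit 0xcf)
(.cons (nat_lit 4) (nat_lit 0xc0f00)
(.cons (nat_lit 2) (nat_lit 0x303000)
(.cons (nat_lit 1) (nat_lit 0x540540)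
.nil))))))))
theorem n13_ok : Net.ok 24 n13 = true := by decide +kernel
noncomputable def nets : List Net := [n0, n1, n2, n3, n4, n5, n6, n7, n8, n9, n10, n11, n12, n13]
theorem nets_ok : netsOk 24 nets = true := List.all_eq_true.2 (fa_cons n0_ok (fa_cons n1_ok (fa_cons n2_ok (fa_cons n3_ok (fa_cons n4_ok (fa_cons n5_ok (fa_cons n6_ok (fa_cons n7_ok (fa_cons n8_ok (fa_cons n9_ok (fa_cons n10_ok (fa_cons n11_ok (fa_cons n12_ok (fa_cons n13_ok (fa_nil)))))))))))))))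
noncomputable def ws7 : List Word := []
noncomputable def lev6 : Level := ⟨nat_lit 6,
[⟨[nat_lit 26], [], [],
[⟨nat_lit 0, [], nat_lit 1, [], []⟩,
⟨nat_lit 1, [], nat_lit 2, [], []⟩,
⟨nat_lit 2, [], nat_lit 0, [], []⟩],
[]⟩],
[⟨dw (nat_lit 0x01), (nat_lit 0x80000), [], .nil, []⟩,
⟨dw (nat_lit 0x02), (nat_lit 0x2000), [], .nil, []⟩]⟩
noncomputable def ex6 : List Word := []
noncomputable def ws6 : List Word := List.append ex6 (lev6.gens ws7)
noncomputable def rels6 : List (Word × Word) := List.append (lev6.rels ws7) (memRels (lev6.gens ws7) ex6 [])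
noncomputable def lev5 : Level := ⟨nat_lit 5,
[⟨[nat_lit 20], [], [],
[⟨nat_lit 0, [], nat_lit 1, [], []⟩,
⟨nat_lit 1, [], nat_lit 1, dw (nat_lit 0x01), dw (nat_lit 0x01)⟩,
⟨nat_lit 2, [], nat_lit 5, dw (nat_lit 0x01), dw (nat_lit 0x01)⟩,
⟨nat_lit 3, [], nat_lit 4, dw (nat_lit 0x01), dw (nat_lit 0x02)⟩,
⟨nat_lit 4, [], nat_lit 2, [], []⟩,
⟨nat_lit 5, [], nat_lit 3, [], []⟩,
⟨nat_lit 1, dw (nat_lit 0x01), nat_lit 0, [], dw (nat_lit 0x02)⟩,
⟨nat_lit 1, dw (nat_lit 0x02), nat_lit 1, dw (nat_lit 0x02), dw (nat_lit 0x02)⟩,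
⟨nat_lit 2, dw (nat_lit 0x01), nat_lit 4, dw (nat_lit 0x02), []⟩,
⟨nat_lit 2, dw (nat_lit 0x02), nat_lit 3, dw (nat_lit 0x01), dw (nat_lit 0x01)⟩,
⟨nat_lit 3, dw (nat_lit 0x01), nat_lit 5, dw (nat_lit 0x02), []⟩,
⟨nat_lit 3, dw (nat_lit 0x02), nat_lit 2, dw (nat_lit 0x01), dw (nat_lit 0x02)⟩,
⟨nat_lit 4, dw (nat_lit 0x01), nat_lit 5, [], dw (nat_lit 0x01)⟩,
⟨nat_lit 4, dw (nat_lit 0x02), nat_lit 3, dw (nat_lit 0x02), dw (nat_lit 0x01)⟩,
⟨nat_lit 5, dw (nat_lit 0x01), nat_lit 4, [], dw (nat_lit 0x02)⟩,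
⟨nat_lit 5, dw (nat_lit 0x02), nat_lit 2, dw (nat_lit 0x02), dw (nat_lit 0x02)⟩],
[]⟩,
⟨[nat_lit 22], [], [],
[⟨nat_lit 0, [], nat_lit 2, [], []⟩,
⟨nat_lit 1, [], nat_lit 3, [], []⟩,
⟨nat_lit 2, [], nat_lit 2, dw (nat_lit 0x01), dw (nat_lit 0x01)⟩,
⟨nat_lit 3, [], nat_lit 4, [], []⟩,
⟨nat_lit 4, [], nat_lit 1, [], []⟩,
⟨nat_lit 5, [], nat_lit 1, dw (nat_lit 0x01), dw (nat_lit 0x01)⟩,
⟨nat_lit 1, dw (nat_lit 0x01), nat_lit 4, dw (nat_lit 0x02), []⟩,
⟨nat_lit 1, dw (nat_lit 0x02), nat_lit 5, dw (nat_lit 0x02), dw (nat_lit 0x02)⟩,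
⟨nat_lit 2, dw (nat_lit 0x01), nat_lit 0, [], dw (nat_lit 0x02)⟩,
⟨nat_lit 2, dw (nat_lit 0x02), nat_lit 2, dw (nat_lit 0x02), dw (nat_lit 0x02)⟩,
⟨nat_lit 3, dw (nat_lit 0x01), nat_lit 1, dw (nat_lit 0x02), []⟩,
⟨nat_lit 3, dw (nat_lit 0x02), nat_lit 5, dw (nat_lit 0x01), dw (nat_lit 0x02)⟩,
⟨nat_lit 4, dw (nat_lit 0x01), nat_lit 3, dw (nat_lit 0x02), []⟩,
⟨nat_lit 4, dw (nat_lit 0x02), nat_lit 5, [], dw (nat_lit 0x02)⟩,
⟨nat_lit 5, dw (nat_lit 0x01), nat_lit 4, dw (nat_lit 0x01), dw (nat_lit 0x01)⟩,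
⟨nat_lit 5, dw (nat_lit 0x02), nat_lit 3, dw (nat_lit 0x01), dw (nat_lit 0x01)⟩],
[]⟩],
[⟨dw (nat_lit 0x01), (nat_lit 0x104200), [dw (nat_lit 0x01), dw (nat_lit 0x01)], .nil, []⟩,
⟨dw (nat_lit 0x03), (nat_lit 0x41080), [dw (nat_lit 0x01), dw (nat_lit 0x01)], .nil, []⟩,
⟨dw (nat_lit 0x0301), (nat_lit 0x208100), [dw (nat_lit 0x01), dw (nat_lit 0x01)], .nil, []⟩,
⟨dw (nat_lit 0x0401), (nat_lit 0x420800), [dw (nat_lit 0x01), dw (nat_lit 0x01)], .nil, []⟩,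
⟨dw (nat_lit 0x0402), (nat_lit 0x82040), [dw (nat_lit 0x01), dw (nat_lit 0x01)], .nil, []⟩]⟩
noncomputable def ex5 : List Word := [[nat_lit 24]]
noncomputable def ws5 : List Word := List.append ex5 (lev5.gens ws6)
noncomputable def rels5 : List (Word × Word) := List.append (lev5.rels ws6) (memRels (lev5.gens ws6) ex5 [dw (nat_lit 0x0405)])
noncomputable def lev4 : Level := ⟨nat_lit 4,
[⟨[nat_lit 16], [dw (nat_lit 0x0503)], [dw (nat_lit 0x0407)],
[⟨nat_lit 0, [], nat_lit 1, [], []⟩,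
⟨nat_lit 1, [], nat_lit 1, dw (nat_lit 0x0601), dw (nat_lit 0x020408)⟩,
⟨nat_lit 2, [], nat_lit 1, dw (nat_lit 0x01), []⟩,
⟨nat_lit 1, dw (nat_lit 0x01), nat_lit 1, dw (nat_lit 0x04), dw (nat_lit 0x080308)⟩,
⟨nat_lit 1, dw (nat_lit 0x02), nat_lit 1, dw (nat_lit 0x0401), dw (nat_lit 0x050308)⟩,
⟨nat_lit 1, dw (nat_lit 0x03), nat_lit 1, dw (nat_lit 0x0204), dw (nat_lit 0x01)⟩,
⟨nat_lit 1, dw (nat_lit 0x08), nat_lit 2, [], dw (nat_lit 0x0401)⟩,
⟨nat_lit 1, dw (nat_lit 0x0802), nat_lit 0, [], dw (nat_lit 0x0107)⟩],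
[dw (nat_lit 0x01), dw (nat_lit 0x01)]⟩],
[⟨dw (nat_lit 0x01), (nat_lit 0x7efbe0), [dw (nat_lit 0x01), dw (nat_lit 0x03), dw (nat_lit 0x01), dw (nat_lit 0x03), dw (nat_lit 0x05)], (.cons (nat_lit 5) [dw (nat_lit 0x0407)] [dw (nat_lit 0x01), dw (nat_lit 0x01)]
.nil), [dw (nat_lit 0x0503)]⟩,
⟨dw (nat_lit 0x020301), (nat_lit 0x810400), [dw (nat_lit 0x01), dw (nat_lit 0x01)], (.cons (nat_lit 5) [dw (nat_lit 0x0203), dw (nat_lit 0x0205), dw (nat_lit 0x0504), dw (nat_lit 0x0208)] [dw (nat_lit 0x01), dw (nat_lit 0x03), dw (nat_lit 0x05), dw (nat_lit 0x07)]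
.nil), [dw (nat_lit 0x040207), dw (nat_lit 0x080308), dw (nat_lit 0x020407), dw (nat_lit 0x030508)]⟩]⟩
noncomputable def ex4 : List Word := [[nat_lit 18]]
noncomputable def ws4 : List Word := List.append ex4 (lev4.gens ws5)
noncomputable def rels4 : List (Word × Word) := List.append (lev4.rels ws5) (memRels (lev4.gens ws5) ex4 [dw (nat_lit 0x08010a)])
noncomputable def lev3 : Level := ⟨nat_lit 3,
[⟨[nat_lit 12], [dw (nat_lit 0x060301), dw (nat_lit 0x060903), dw (nat_lit 0x0507)], [dw (nat_lit 0x060105), dw (nat_lit 0x0402050c), dw (nat_lit 0x02040705)],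
[⟨nat_lit 0, [], nat_lit 1, [], []⟩,
⟨nat_lit 1, [], nat_lit 1, dw (nat_lit 0x0203), dw (nat_lit 0x05010c070b)⟩,
⟨nat_lit 1, dw (nat_lit 0x05), nat_lit 1, dw (nat_lit 0x0b), dw (nat_lit 0x040705)⟩,
⟨nat_lit 1, dw (nat_lit 0x0a), nat_lit 0, [], dw (nat_lit 0x0a0106)⟩],
[dw (nat_lit 0x05), dw (nat_lit 0x03), dw (nat_lit 0x05), dw (nat_lit 0x01), dw (nat_lit 0x05)]⟩],
[⟨dw (nat_lit 0x01), (nat_lit 0xfffff0), [dw (nat_lit 0x01), dw (nat_lit 0x03), dw (nat_lit 0x05), dw (nat_lit 0x09), dw (nat_lit 0x01), dw (nat_lit 0x01)], (.cons (nat_lit 4) [dw (nat_lit 0x0207), dw (nat_lit 0x0703)] [dw (nat_lit 0x01), dw (nat_lit 0x03), dw (nat_lit 0x01), dw (nat_lit 0x03), dw (nat_lit 0x05), dw (nat_lit 0x01)]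
(.cons (nat_lit 5) [dw (nat_lit 0x0a0507)] [dw (nat_lit 0x01), dw (nat_lit 0x01)]
.nil)), [dw (nat_lit 0x04020805), dw (nat_lit 0x04080b), dw (nat_lit 0x010309)]⟩]⟩
noncomputable def ex3 : List Word := [[nat_lit 14]]
noncomputable def ws3 : List Word := List.append ex3 (lev3.gens ws4)
noncomputable def rels3 : List (Word × Word) := List.append (lev3.rels ws4) (memRels (lev3.gens ws4) ex3 [dw (nat_lit 0x0a0208040a080d)])
noncomputable def lev2 : Level := ⟨nat_lit 2,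
[⟨[nat_lit 8], [dw (nat_lit 0x0109), dw (nat_lit 0x050d05), dw (nat_lit 0x0a0b)], [dw (nat_lit 0x0601050f), dw (nat_lit 0x05030f050c0a), dw (nat_lit 0x04040b06100b)],
[⟨nat_lit 0, [], nat_lit 1, [], []⟩,
⟨nat_lit 1, [], nat_lit 1, dw (nat_lit 0x03), dw (nat_lit 0x090309050b0d)⟩,
⟨nat_lit 1, dw (nat_lit 0x0103), nat_lit 0, [], dw (nat_lit 0x040109050b09)⟩],
[dw (nat_lit 0x05), dw (nat_lit 0x01), dw (nat_lit 0x03), dw (nat_lit 0x01), dw (nat_lit 0x05), dw (nat_lit 0x03), dw (nat_lit 0x01), dw (nat_lit 0x05)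
, dw (nat_lit 0x01)]⟩],
[⟨dw (nat_lit 0x01), (nat_lit 0xfffff8), [dw (nat_lit 0x01), dw (nat_lit 0x05), dw (nat_lit 0x07), dw (nat_lit 0x0b), dw (nat_lit 0x01), dw (nat_lit 0x03)], (.cons (nat_lit 3) [dw (nat_lit 0x0405)] [dw (nat_lit 0x01), dw (nat_lit 0x0101), dw (nat_lit 0x07), dw (nat_lit 0x01), dw (nat_lit 0x05), dw (nat_lit 0x03)]
(.cons (nat_lit 4) [dw (nat_lit 0x0507), dw (nat_lit 0x070f08)] [dw (nat_lit 0x01), dw (nat_lit 0x03), dw (nat_lit 0x01), dw (nat_lit 0x05), dw (nat_lit 0x05)]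
(.cons (nat_lit 5) [dw (nat_lit 0x0c0f)] [dw (nat_lit 0x01), dw (nat_lit 0x01)]
.nil))), [dw (nat_lit 0x01030610), dw (nat_lit 0x080108050e0b0f), dw (nat_lit 0x04040705090b0f), dw (nat_lit 0x02040f05100b0f)]⟩]⟩
noncomputable def ex2 : List Word := [[nat_lit 10]]
noncomputable def ws2 : List Word := List.append ex2 (lev2.gens ws3)
noncomputable def rels2 : List (Word × Word) := List.append (lev2.rels ws3) (memRels (lev2.gens ws3) ex2 [dw (nat_lit 0x0a01050c08100d)])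
noncomputable def lev1 : Level := ⟨nat_lit 1,
[⟨[nat_lit 4], [dw (nat_lit 0x020d), dw (nat_lit 0x060b), dw (nat_lit 0x0a0f)], [dw (nat_lit 0x01010105070f0c1013), dw (nat_lit 0x0209070a0e10), dw (nat_lit 0x0502070c110f13)],
[⟨nat_lit 0, [], nat_lit 1, [], []⟩,
⟨nat_lit 1, [], nat_lit 1, dw (nat_lit 0x14), dw (nat_lit 0x11030c050b0f)⟩,
⟨nat_lit 1, dw (nat_lit 0x03), nat_lit 0, [], dw (nat_lit 0x070111050a0f1113)⟩],
[dw (nat_lit 0x01), dw (nat_lit 0x05), dw (nat_lit 0x01), dw (nat_lit 0x03), dw (nat_lit 0x0303), dw (nat_lit 0x01)]⟩],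
[⟨dw (nat_lit 0x01), (nat_lit 0xfffffc), [dw (nat_lit 0x01), dw (nat_lit 0x03), dw (nat_lit 0x05), dw (nat_lit 0x01), dw (nat_lit 0x05), dw (nat_lit 0x01)], (.cons (nat_lit 2) [dw (nat_lit 0x140501)] [dw (nat_lit 0x01), dw (nat_lit 0x03), dw (nat_lit 0x09), dw (nat_lit 0x05), dw (nat_lit 0x05), dw (nat_lit 0x03), dw (nat_lit 0x09), dw (nat_lit 0x05)
]
(.cons (nat_lit 3) [dw (nat_lit 0x050d)] [dw (nat_lit 0x01), dw (nat_lit 0x03), dw (nat_lit 0x07), dw (nat_lit 0x03), dw (nat_lit 0x01), dw (nat_lit 0x03), dw (nat_lit 0x05)]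
(.cons (nat_lit 4) [dw (nat_lit 0x09), dw (nat_lit 0x0f090f)] [dw (nat_lit 0x01), dw (nat_lit 0x01), dw (nat_lit 0x03), dw (nat_lit 0x01), dw (nat_lit 0x05), dw (nat_lit 0x01)]
(.cons (nat_lit 5) [dw (nat_lit 0x0f11)] [dw (nat_lit 0x01), dw (nat_lit 0x01)]
.nil)))), [dw (nat_lit 0x050f0c100d14), dw (nat_lit 0x04010d070b09120f), dw (nat_lit 0x010c070d09110f14), dw (nat_lit 0x0408081409140f), dw (nat_lit 0x110308050b0e090f13)]⟩]⟩
noncomputable def ex1 : List Word := [[nat_lit 6]]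
noncomputable def ws1 : List Word := List.append ex1 (lev1.gens ws2)
noncomputable def rels1 : List (Word × Word) := List.append (lev1.rels ws2) (memRels (lev1.gens ws2) ex1 [dw (nat_lit 0x14011006150a1316)])
noncomputable def lev0 : Level := ⟨nat_lit 0,
[⟨[nat_lit 0], [dw (nat_lit 0x0107), dw (nat_lit 0x0c0705), dw (nat_lit 0x0d)], [dw (nat_lit 0x06010606100b13101118), dw (nat_lit 0x0408051809120d121417), dw (nat_lit 0x10051809110d131518)],
[⟨nat_lit 0, [], nat_lit 1, [], []⟩,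
⟨nat_lit 1, [], nat_lit 0, [], []⟩,
⟨nat_lit 1, dw (nat_lit 0x03), nat_lit 1, dw (nat_lit 0x04), dw (nat_lit 0x04)⟩],
[dw (nat_lit 0x05), dw (nat_lit 0x05), dw (nat_lit 0x01), dw (nat_lit 0x0101), dw (nat_lit 0x05), dw (nat_lit 0x03), dw (nat_lit 0x05), dw (nat_lit 0x01)
, dw (nat_lit 0x03)]⟩],
[⟨dw (nat_lit 0x01), (nat_lit 0xfffffe), [dw (nat_lit 0x01), dw (nat_lit 0x03), dw (nat_lit 0x05), dw (nat_lit 0x09), dw (nat_lit 0x01), dw (nat_lit 0x03), dw (nat_lit 0x03)], (.cons (nat_lit 1) [dw (nat_lit 0x0107)] [dw (nat_lit 0x01), dw (nat_lit 0x05), dw (nat_lit 0x07), dw (nat_lit 0x05), dw (nat_lit 0x07), dw (nat_lit 0x05), dw (nat_lit 0x0b), dw (nat_lit 0x01)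
]
(.cons (nat_lit 2) [dw (nat_lit 0x0c0705)] [dw (nat_lit 0x01), dw (nat_lit 0x03), dw (nat_lit 0x05), dw (nat_lit 0x09), dw (nat_lit 0x03), dw (nat_lit 0x05), dw (nat_lit 0x03), dw (nat_lit 0x05)
]
(.cons (nat_lit 4) [dw (nat_lit 0x0d)] [dw (nat_lit 0x01), dw (nat_lit 0x0203), dw (nat_lit 0x03), dw (nat_lit 0x07), dw (nat_lit 0x01), dw (nat_lit 0x03), dw (nat_lit 0x0103)]
(.cons (nat_lit 5) [dw (nat_lit 0x11), dw (nat_lit 0x151412)] [dw (nat_lit 0x01), dw (nat_lit 0x0206), dw (nat_lit 0x03), dw (nat_lit 0x01), dw (nat_lit 0x01)]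
(.cons (nat_lit 6) [dw (nat_lit 0x17)] [dw (nat_lit 0x01), dw (nat_lit 0x01)]
.nil))))), [dw (nat_lit 0x06010606100b13101118), dw (nat_lit 0x0408051809120d121417), dw (nat_lit 0x10051809110d131518), dw (nat_lit 0x0c020906100e1117), dw (nat_lit 0x0d0105050e09100e141217), dw (nat_lit 0x0f0106061509100e131217)]⟩]⟩
noncomputable def ex0 : List Word := [[nat_lit 2]]
noncomputable def ws0 : List Word := List.append ex0 (lev0.gens ws1)
noncomputable def rels0 : List (Word × Word) := List.append (lev0.rels ws1) (memRels (lev0.gens ws1) ex0 [dw (nat_lit 0x0501)])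
noncomputable def rels : List (Word × Word) := List.append rels0 (List.append rels1 (List.append rels2 (List.append rels3 (List.append rels4 (List.append rels5 (List.append rels6 ([])))))))
noncomputable def defs : List Word := [dw (nat_lit 0x0302), dw (nat_lit 0x04020301030301040203), dw (nat_lit 0x0508050707), dw (nat_lit 0x050706080606080808), dw (nat_lit 0x0c090b09), dw (nat_lit 0x09090b0b09090b0a), dw (nat_lit 0x0d0f0e0e0f0d100e), dw (nat_lit 0x0e0e10101010100e100d0d0f)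
, dw (nat_lit 0x111111131311), dw (nat_lit 0x141111141411), dw (nat_lit 0x12121213111114), dw (nat_lit 0x1719)]
noncomputable def relsD : List (Word × Word) := defRels defs 2
noncomputable def relsO : List (Word × Word) := memRels ws0 (lets 2) [dw (nat_lit 0x0207), dw (nat_lit 0x01)]
noncomputable def relsS : List (Word × Word) := []
noncomputable def allRels : List (Word × Word) := List.append rels (List.append relsD (List.append relsO relsS))
theorem chk6 : lev6.chk 24 nets ws7 1 3 = true := by decide +kernel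
theorem chk5 : lev5.chk 24 nets ws6 3 48 = true := by decide +kernel
theorem chk4 : lev4.chk 24 nets ws5 48 960 = true := by decide +kernel
theorem chk3 : lev3.chk 24 nets ws4 960 20160 = true := by decide +kernel
theorem chk2 : lev2.chk 24 nets ws3 20160 443520 = true := by decide +kernel
theorem chk1 : lev1.chk 24 nets ws2 443520 10200960 = true := by decide +kernel
theorem chk0 : lev0.chk 24 nets ws1 10200960 244823040 = true := by decide +kernel
theorem rc0 : relsChk 24 nets 5 (idArr 24 5 5 0) allRels = true := by decide +kernel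
section
variable {Γ Ω : Type*} [Group Γ] [MulAction Γ Ω] (M : PM Γ Ω 24 nets)

theorem all_ok (hs : M.Sep 5 (idArr 24 5 5 0)) : Rels M.gen allRels := (M.rels_of_chk hs rc0)
theorem sep [FaithfulSMul Γ Ω] : M.Sep 5 (idArr 24 5 5 0) := M.sep_idArr (by decide)
theorem all_ok' [FaithfulSMul Γ Ω] : Rels M.gen allRels := all_ok M (sep M)
theorem rels_of_all {gen : ℕ → Γ} (h : Rels gen allRels) : Rels gen rels := Rels.left h
theorem relsD_of_all {gen : ℕ → Γ} (h : Rels gen allRels) : Rels gen relsD := Rels.left (Rels.right h)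
theorem relsO_of_all {gen : ℕ → Γ} (h : Rels gen allRels) : Rels gen relsO := Rels.left (Rels.right (Rels.right h))
theorem relsS_of_all {gen : ℕ → Γ} (h : Rels gen allRels) : Rels gen relsS := Rels.right (Rels.right (Rels.right h))
theorem card7 (_hR : Rels M.gen rels) : Nat.card (sub M.gen ws7) = 1 := M.card_nil
theorem fixw7 (_hR : Rels M.gen rels) : M.FixTriv ws7 [] := M.fixTriv_nil
theorem r6 (hR : Rels M.gen rels) : Rels M.gen rels6 := (Rels.left (Rels.right (Rels.right (Rels.right (Rels.right (Rels.right (Rels.right hR)))))))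
theorem res6 (hR : Rels M.gen rels) : M.LevelRes ws7 lev6 3 := M.level (card7 M hR) chk6 (Rels.left (r6 M hR))
theorem ext6 (hR : Rels M.gen rels) : sub M.gen ws6 = sub M.gen (lev6.gens ws7) := sub_extend (Rels.right (r6 M hR))
theorem card6 (hR : Rels M.gen rels) : Nat.card (sub M.gen ws6) = 3 := by rw [ext6 M hR]; exact (res6 M hR).card
theorem fix6 (hR : Rels M.gen rels) : M.FixTriv (lev6.gens ws7) [6] := (res6 M hR).fixTriv M (fixw7 M hR)
theorem fixw6 (hR : Rels M.gen rels) : M.FixTriv ws6 [6] := fun g hg => fix6 M hR g (ext6 M hR ▸ hg)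
theorem stab6 (hR : Rels M.gen rels) : sub M.gen ws6 ⊓ MulAction.stabilizer Γ (M.dec 6) = sub M.gen ws7 := by rw [ext6 M hR]; exact (res6 M hR).stab
theorem orb6 (hR : Rels M.gen rels) (y : Ω) : y ∈ M.S lev6.orb ↔ ∃ g ∈ sub M.gen ws6, g • M.dec 6 = y := by rw [ext6 M hR]; exact (res6 M hR).orb y
theorem r5 (hR : Rels M.gen rels) : Rels M.gen rels5 := (Rels.left (Rels.right (Rels.right (Rels.right (Rels.right (Rels.right hR))))))
theorem res5 (hR : Rels M.gen rels) : M.LevelRes ws6 lev5 48 := M.level (card6 M hR) chk5 (Rels.left (r5 M hR))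
theorem ext5 (hR : Rels M.gen rels) : sub M.gen ws5 = sub M.gen (lev5.gens ws6) := sub_extend (Rels.right (r5 M hR))
theorem card5 (hR : Rels M.gen rels) : Nat.card (sub M.gen ws5) = 48 := by rw [ext5 M hR]; exact (res5 M hR).card
theorem fix5 (hR : Rels M.gen rels) : M.FixTriv (lev5.gens ws6) [5, 6] := (res5 M hR).fixTriv M (fixw6 M hR)
theorem fixw5 (hR : Rels M.gen rels) : M.FixTriv ws5 [5, 6] := fun g hg => fix5 M hR g (ext5 M hR ▸ hg)
theorem stab5 (hR : Rels M.gen rels) : sub M.gen ws5 ⊓ MulAction.stabilizer Γ (M.dec 5) = sub M.gen ws6 := by rw [ext5 M hR]; exact (res5 M hR).stab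
theorem orb5 (hR : Rels M.gen rels) (y : Ω) : y ∈ M.S lev5.orb ↔ ∃ g ∈ sub M.gen ws5, g • M.dec 5 = y := by rw [ext5 M hR]; exact (res5 M hR).orb y
theorem r4 (hR : Rels M.gen rels) : Rels M.gen rels4 := (Rels.left (Rels.right (Rels.right (Rels.right (Rels.right hR)))))
theorem res4 (hR : Rels M.gen rels) : M.LevelRes ws5 lev4 960 := M.level (card5 M hR) chk4 (Rels.left (r4 M hR))
theorem ext4 (hR : Rels M.gen rels) : sub M.gen ws4 = sub M.gen (lev4.gens ws5) := sub_extend (Rels.right (r4 M hR))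
theorem card4 (hR : Rels M.gen rels) : Nat.card (sub M.gen ws4) = 960 := by rw [ext4 M hR]; exact (res4 M hR).card
theorem fix4 (hR : Rels M.gen rels) : M.FixTriv (lev4.gens ws5) [4, 5, 6] := (res4 M hR).fixTriv M (fixw5 M hR)
theorem fixw4 (hR : Rels M.gen rels) : M.FixTriv ws4 [4, 5, 6] := fun g hg => fix4 M hR g (ext4 M hR ▸ hg)
theorem stab4 (hR : Rels M.gen rels) : sub M.gen ws4 ⊓ MulAction.stabilizer Γ (M.dec 4) = sub M.gen ws5 := by rw [ext4 M hR]; exact (res4 M hR).stab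
theorem orb4 (hR : Rels M.gen rels) (y : Ω) : y ∈ M.S lev4.orb ↔ ∃ g ∈ sub M.gen ws4, g • M.dec 4 = y := by rw [ext4 M hR]; exact (res4 M hR).orb y
theorem r3 (hR : Rels M.gen rels) : Rels M.gen rels3 := (Rels.left (Rels.right (Rels.right (Rels.right hR))))
theorem res3 (hR : Rels M.gen rels) : M.LevelRes ws4 lev3 20160 := M.level (card4 M hR) chk3 (Rels.left (r3 M hR))
theorem ext3 (hR : Rels M.gen rels) : sub M.gen ws3 = sub M.gen (lev3.gens ws4) := sub_extend (Rels.right (r3 M hR))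
theorem card3 (hR : Rels M.gen rels) : Nat.card (sub M.gen ws3) = 20160 := by rw [ext3 M hR]; exact (res3 M hR).card
theorem fix3 (hR : Rels M.gen rels) : M.FixTriv (lev3.gens ws4) [3, 4, 5, 6] := (res3 M hR).fixTriv M (fixw4 M hR)
theorem fixw3 (hR : Rels M.gen rels) : M.FixTriv ws3 [3, 4, 5, 6] := fun g hg => fix3 M hR g (ext3 M hR ▸ hg)
theorem stab3 (hR : Rels M.gen rels) : sub M.gen ws3 ⊓ MulAction.stabilizer Γ (M.dec 3) = sub M.gen ws4 := by rw [ext3 M hR]; exact (res3 M hR).stab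
theorem orb3 (hR : Rels M.gen rels) (y : Ω) : y ∈ M.S lev3.orb ↔ ∃ g ∈ sub M.gen ws3, g • M.dec 3 = y := by rw [ext3 M hR]; exact (res3 M hR).orb y
theorem r2 (hR : Rels M.gen rels) : Rels M.gen rels2 := (Rels.left (Rels.right (Rels.right hR)))
theorem res2 (hR : Rels M.gen rels) : M.LevelRes ws3 lev2 443520 := M.level (card3 M hR) chk2 (Rels.left (r2 M hR))
theorem ext2 (hR : Rels M.gen rels) : sub M.gen ws2 = sub M.gen (lev2.gens ws3) := sub_extend (Rels.right (r2 M hR))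
theorem card2 (hR : Rels M.gen rels) : Nat.card (sub M.gen ws2) = 443520 := by rw [ext2 M hR]; exact (res2 M hR).card
theorem fix2 (hR : Rels M.gen rels) : M.FixTriv (lev2.gens ws3) [2, 3, 4, 5, 6] := (res2 M hR).fixTriv M (fixw3 M hR)
theorem fixw2 (hR : Rels M.gen rels) : M.FixTriv ws2 [2, 3, 4, 5, 6] := fun g hg => fix2 M hR g (ext2 M hR ▸ hg)
theorem stab2 (hR : Rels M.gen rels) : sub M.gen ws2 ⊓ MulAction.stabilizer Γ (M.dec 2) = sub M.gen ws3 := by rw [ext2 M hR]; exact (res2 M hR).stab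
theorem orb2 (hR : Rels M.gen rels) (y : Ω) : y ∈ M.S lev2.orb ↔ ∃ g ∈ sub M.gen ws2, g • M.dec 2 = y := by rw [ext2 M hR]; exact (res2 M hR).orb y
theorem r1 (hR : Rels M.gen rels) : Rels M.gen rels1 := (Rels.left (Rels.right hR))
theorem res1 (hR : Rels M.gen rels) : M.LevelRes ws2 lev1 10200960 := M.level (card2 M hR) chk1 (Rels.left (r1 M hR))
theorem ext1 (hR : Rels M.gen rels) : sub M.gen ws1 = sub M.gen (lev1.gens ws2) := sub_extend (Rels.right (r1 M hR))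
theorem card1 (hR : Rels M.gen rels) : Nat.card (sub M.gen ws1) = 10200960 := by rw [ext1 M hR]; exact (res1 M hR).card
theorem fix1 (hR : Rels M.gen rels) : M.FixTriv (lev1.gens ws2) [1, 2, 3, 4, 5, 6] := (res1 M hR).fixTriv M (fixw2 M hR)
theorem fixw1 (hR : Rels M.gen rels) : M.FixTriv ws1 [1, 2, 3, 4, 5, 6] := fun g hg => fix1 M hR g (ext1 M hR ▸ hg)
theorem stab1 (hR : Rels M.gen rels) : sub M.gen ws1 ⊓ MulAction.stabilizer Γ (M.dec 1) = sub M.gen ws2 := by rw [ext1 M hR]; exact (res1 M hR).stab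
theorem orb1 (hR : Rels M.gen rels) (y : Ω) : y ∈ M.S lev1.orb ↔ ∃ g ∈ sub M.gen ws1, g • M.dec 1 = y := by rw [ext1 M hR]; exact (res1 M hR).orb y
theorem r0 (hR : Rels M.gen rels) : Rels M.gen rels0 := (Rels.left hR)
theorem res0 (hR : Rels M.gen rels) : M.LevelRes ws1 lev0 244823040 := M.level (card1 M hR) chk0 (Rels.left (r0 M hR))
theorem ext0 (hR : Rels M.gen rels) : sub M.gen ws0 = sub M.gen (lev0.gens ws1) := sub_extend (Rels.right (r0 M hR))
theorem card0 (hR : Rels M.gen rels) : Nat.card (sub M.gen ws0) = 244823040 := by rw [ext0 M hR]; exact (res0 M hR).card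
theorem fix0 (hR : Rels M.gen rels) : M.FixTriv (lev0.gens ws1) [0, 1, 2, 3, 4, 5, 6] := (res0 M hR).fixTriv M (fixw1 M hR)
theorem fixw0 (hR : Rels M.gen rels) : M.FixTriv ws0 [0, 1, 2, 3, 4, 5, 6] := fun g hg => fix0 M hR g (ext0 M hR ▸ hg)
theorem stab0 (hR : Rels M.gen rels) : sub M.gen ws0 ⊓ MulAction.stabilizer Γ (M.dec 0) = sub M.gen ws1 := by rw [ext0 M hR]; exact (res0 M hR).stab
theorem orb0 (hR : Rels M.gen rels) (y : Ω) : y ∈ M.S lev0.orb ↔ ∃ g ∈ sub M.gen ws0, g • M.dec 0 = y := by rw [ext0 M hR]; exact (res0 M hR).orb y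
theorem orig_eq {gen : ℕ → Γ} (h : Rels gen allRels) : sub gen (lets 2) = sub gen ws0 :=
  sub_lets_eq_of_rels (ds := defs) (by decide +kernel) (relsD_of_all h) (by decide +kernel) (relsO_of_all h)
theorem gen_mem {gen : ℕ → Γ} (h : Rels gen allRels) {X : Subgroup Γ} (h0 : ∀ l < 2, gen l ∈ X) : sub gen ws0 ≤ X :=
  sub_le_of_wsIn (lo := 0) (gen_mem_of_defRels (ds := defs) (fun l _ hl => h0 l hl) (by decide +kernel) (relsD_of_all h)) (by decide +kernel)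

end

end H15.J4A
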