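import Cfsg.Agent.H14.Dw2

/-! Generated certificate (tools14/pkgen) for the permutation group J4B of degree 24, order 244823040, base 0 1 2 3 4 5 6. -/
set_option autoImplicit false
set_option maxRecDepth 100000

namespace H15.J4B
open H14

noncomputable def n0 : Net := (.cons (nat_lit 1) (nat_lit 0x414050)
(.cons (nat_lit 2) (nat_lit 0x121300)
(.cons (nat_lit 4) (nat_lit 0x10900)
(.cons (nat_lit 8) (nat_lit 0x1)
(.cons (nat_lit 16) (nat_lit 0x9)
(.cons (nat_lit 8) (nat_lit 0x8)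
(.cons (nat_lit 4) (nat_lit 0x80f06)
(.cons (nat_lit 2) (nat_lit 0x121033)
(.cons (nat_lit 1) (nat_lit 0x141505)
.nil)))))))))
theorem n0_ok : Net.ok 24 n0 = true := by decide +kernel
noncomputable def n1 : Net := (.cons (nat_lit 1) (nat_lit 0x550040)
(.cons (nat_lit 2) (nat_lit 0x203230)
(.cons (nat_lit 4) (nat_lit 0x200)
(.cons (nat_lit 16) (nat_lit 0x41)
(.cons (nat_lit 8) (nat_lit 0x3)
(.cons (nat_lit 4) (nat_lit 0x80b0c)
(.cons (nat_lit 2) (nat_lit 0x3020)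
(.cons (nat_lit 1) (nat_lit 0x554055)
.nil))))))))
theorem n1_ok : Net.ok 24 n1 = true := by decide +kernel
noncomputable def n2 : Net := (.cons (nat_lit 1) (nat_lit 0x500440)
(.cons (nat_lit 2) (nat_lit 0x32120)
(.cons (nat_lit 4) (nat_lit 0xd0200)
(.cons (nat_lit 8) (nat_lit 0x8)
(.cons (nat_lit 16) (nat_lit 0x5a)
(.cons (nat_lit 8) (nat_lit 0x96)
(.cons (nat_lit 4) (nat_lit 0x80204)
(.cons (nat_lit 2) (nat_lit 0x100112)
(.cons (nat_lit 1) (nat_lit 0x510514)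
.nil)))))))))
theorem n2_ok : Net.ok 24 n2 = true := by decide +kernel
noncomputable def n3 : Net := (.cons (nat_lit 2) (nat_lit 0x300)
(.cons (nat_lit 4) (nat_lit 0x40100)
(.cons (nat_lit 8) (nat_lit 0xf0)
(.cons (nat_lit 16) (nat_lit 0xf8)
(.cons (nat_lit 8) (nat_lit 0x48)
(.cons (nat_lit 4) (nat_lit 0xc0b0a)
(.cons (nat_lit 2) (nat_lit 0x32102)
(.cons (nat_lit 1) (nat_lit 0x555554)
.nil))))))))
theorem n3_ok : Net.ok 24 n3 = true := by decide +kernel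
noncomputable def n4 : Net := (.cons (nat_lit 1) (nat_lit 0x455450)
(.cons (nat_lit 2) (nat_lit 0x31130)
(.cons (nat_lit 4) (nat_lit 0x100)
(.cons (nat_lit 8) (nat_lit 0x4c)
(.cons (nat_lit 16) (nat_lit 0xdc)
(.cons (nat_lit 8) (nat_lit 0xd8)
(.cons (nat_lit 4) (nat_lit 0x60b0c)
(.cons (nat_lit 2) (nat_lit 0x123210)
(.cons (nat_lit 1) (nat_lit 0x504004)
.nil)))))))))
theorem n4_ok : Net.ok 24 n4 = true := by decide +kernel
noncomputable def n5 : Net := (.cons (nat_lit 1) (nat_lit 0x100140)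
(.cons (nat_lit 2) (nat_lit 0x10)
(.cons (nat_lit 4) (nat_lit 0xb0c00)
(.cons (nat_lit 8) (nat_lit 0x83)
(.cons (nat_lit 16) (nat_lit 0x97)
(.cons (nat_lit 8) (nat_lit 0x7)
(.cons (nat_lit 4) (nat_lit 0x90604)
(.cons (nat_lit 2) (nat_lit 0x123320)
(.cons (nat_lit 1) (nat_lit 0x45004)
.nil)))))))))
theorem n5_ok : Net.ok 24 n5 = true := by decide +kernel
noncomputable def n6 : Net := (.cons (nat_lit 1) (nat_lit 0x411100)
(.cons (nat_lit 2) (nat_lit 0x321000)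
(.cons (nat_lit 4) (nat_lit 0xc0100)
(.cons (nat_lit 8) (nat_lit 0x81)
(.cons (nat_lit 16) (nat_lit 0xd1)
(.cons (nat_lit 8) (nat_lit 0xb9)
(.cons (nat_lit 4) (nat_lit 0x40b00)
(.cons (nat_lit 2) (nat_lit 0x210300)
(.cons (nat_lit 1) (nat_lit 0x55050)
.nil)))))))))
theorem n6_ok : Net.ok 24 n6 = true := by decide +kernel
noncomputable def n7 : Net := (.cons (nat_lit 1) (nat_lit 0x101050)
(.cons (nat_lit 2) (nat_lit 0x110000)
(.cons (nat_lit 4) (nat_lit 0x70a00)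
(.cons (nat_lit 8) (nat_lit 0xb5)
(.cons (nat_lit 16) (nat_lit 0xb5)
(.cons (nat_lit 8) (nat_lit 0x5)
(.cons (nat_lit 4) (nat_lit 0xd0b08)
(.cons (nat_lit 2) (nat_lit 0x133120)
(.cons (nat_lit 1) (nat_lit 0x444110)
.nil)))))))))
theorem n7_ok : Net.ok 24 n7 = true := by decide +kernel
noncomputable def n8 : Net := (.cons (nat_lit 1) (nat_lit 0x500100)
(.cons (nat_lit 2) (nat_lit 0x21000)
(.cons (nat_lit 4) (nat_lit 0x80600)
(.cons (nat_lit 8) (nat_lit 0x20)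
(.cons (nat_lit 16) (nat_lit 0xe0)
(.cons (nat_lit 8) (nat_lit 0x50)
(.cons (nat_lit 4) (nat_lit 0x70300)
(.cons (nat_lit 2) (nat_lit 0x23200)
(.cons (nat_lit 1) (nat_lit 0x554500)
.nil)))))))))
theorem n8_ok : Net.ok 24 n8 = true := by decide +kernel
noncomputable def n9 : Net := (.cons (nat_lit 1) (nat_lit 0x544140)
(.cons (nat_lit 2) (nat_lit 0x3000)
(.cons (nat_lit 4) (nat_lit 0xc00)
(.cons (nat_lit 8) (nat_lit 0x31)
(.cons (nat_lit 16) (nat_lit 0x31)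
(.cons (nat_lit 8) (nat_lit 0xd1)
(.cons (nat_lit 4) (nat_lit 0x90100)
(.cons (nat_lit 2) (nat_lit 0x131020)
(.cons (nat_lit 1) (nat_lit 0x544140)
.nil)))))))))
theorem n9_ok : Net.ok 24 n9 = true := by decide +kernel
noncomputable def n10 : Net := (.cons (nat_lit 1) (nat_lit 0x414140)
(.cons (nat_lit 2) (nat_lit 0x321300)
(.cons (nat_lit 4) (nat_lit 0x10000)
(.cons (nat_lit 8) (nat_lit 0x36)
(.cons (nat_lit 16) (nat_lit 0xb6)
(.cons (nat_lit 8) (nat_lit 0x76)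
(.cons (nat_lit 4) (nat_lit 0x50d00)
(.cons (nat_lit 2) (nat_lit 0x330020)
(.cons (nat_lit 1) (nat_lit 0x50140)
.nil)))))))))
theorem n10_ok : Net.ok 24 n10 = true := by decide +kernel
noncomputable def n11 : Net := (.cons (nat_lit 1) (nat_lit 0x104000)
(.cons (nat_lit 2) (nat_lit 0x122000)
(.cons (nat_lit 4) (nat_lit 0x40c00)
(.cons (nat_lit 8) (nat_lit 0x2d)
(.cons (nat_lit 16) (nat_lit 0x2d)
(.cons (nat_lit 8) (nat_lit 0xcd)
(.cons (nat_lit 4) (nat_lit 0xe0500)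
(.cons (nat_lit 2) (nat_lit 0x132300)
(.cons (nat_lit 1) (nat_lit 0x11140)
.nil)))))))))
theorem n11_ok : Net.ok 24 n11 = true := by decide +kernel
noncomputable def n12 : Net := (.cons (nat_lit 1) (nat_lit 0x505400)
(.cons (nat_lit 2) (nat_lit 0x111000)
(.cons (nat_lit 4) (nat_lit 0x60800)
(.cons (nat_lit 8) (nat_lit 0x1a)
(.cons (nat_lit 16) (nat_lit 0x5a)
(.cons (nat_lit 8) (nat_lit 0x9a)
(.cons (nat_lit 4) (nat_lit 0x600)
(.cons (nat_lit 2) (nat_lit 0x333300)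
(.cons (nat_lit 1) (nat_lit 0x141400)
.nil)))))))))
theorem n12_ok : Net.ok 24 n12 = true := by decide +kernel
noncomputable def nets : List Net := [n0, n1, n2, n3, n4, n5, n6, n7, n8, n9, n10, n11, n12]
theorem nets_ok : netsOk 24 nets = true := List.all_eq_true.2 (fa_cons n0_ok (fa_cons n1_ok (fa_cons n2_ok (fa_cons n3_ok (fa_cons n4_ok (fa_cons n5_ok (fa_cons n6_ok (fa_cons n7_ok (fa_cons n8_ok (fa_cons n9_ok (fa_cons n10_ok (fa_cons n11_ok (fa_cons n12_ok (fa_nil))))))))))))))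
noncomputable def ws7 : List Word := []
noncomputable def lev6 : Level := ⟨nat_lit 6,
[⟨[nat_lit 24], [], [],
[⟨nat_lit 0, [], nat_lit 1, [], []⟩,
⟨nat_lit 1, [], nat_lit 2, [], []⟩,
⟨nat_lit 2, [], nat_lit 0, [], []⟩],
[]⟩],
[⟨dw (nat_lit 0x01), (nat_lit 0x200000), [], .nil, []⟩,
⟨dw (nat_lit 0x02), (nat_lit 0x10000), [], .nil, []⟩]⟩
noncomputable def ex6 : List Word := []
noncomputable def ws6 : List Word := List.append ex6 (lev6.gens ws7)
noncomputable def rels6 : List (Word × Word) := List.append (lev6.rels ws7) (memRels (lev6.gens ws7) ex6 [])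
noncomputable def lev5 : Level := ⟨nat_lit 5,
[⟨[nat_lit 18], [], [],
[⟨nat_lit 0, [], nat_lit 1, [], []⟩,
⟨nat_lit 1, [], nat_lit 1, dw (nat_lit 0x02), dw (nat_lit 0x02)⟩,
⟨nat_lit 2, [], nat_lit 3, dw (nat_lit 0x01), dw (nat_lit 0x02)⟩,
⟨nat_lit 3, [], nat_lit 2, dw (nat_lit 0x01), dw (nat_lit 0x01)⟩,
⟨nat_lit 4, [], nat_lit 3, dw (nat_lit 0x02), dw (nat_lit 0x01)⟩,
⟨nat_lit 5, [], nat_lit 4, [], []⟩,
⟨nat_lit 1, dw (nat_lit 0x01), nat_lit 1, dw (nat_lit 0x01), dw (nat_lit 0x01)⟩,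
⟨nat_lit 1, dw (nat_lit 0x02), nat_lit 0, [], dw (nat_lit 0x01)⟩,
⟨nat_lit 2, dw (nat_lit 0x01), nat_lit 5, dw (nat_lit 0x02), dw (nat_lit 0x01)⟩,
⟨nat_lit 2, dw (nat_lit 0x02), nat_lit 4, dw (nat_lit 0x02), dw (nat_lit 0x01)⟩,
⟨nat_lit 3, dw (nat_lit 0x01), nat_lit 4, dw (nat_lit 0x01), dw (nat_lit 0x02)⟩,
⟨nat_lit 3, dw (nat_lit 0x02), nat_lit 5, [], dw (nat_lit 0x02)⟩,
⟨nat_lit 4, dw (nat_lit 0x01), nat_lit 2, [], dw (nat_lit 0x02)⟩,
⟨nat_lit 4, dw (nat_lit 0x02), nat_lit 5, dw (nat_lit 0x01), []⟩,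
⟨nat_lit 5, dw (nat_lit 0x01), nat_lit 2, dw (nat_lit 0x02), dw (nat_lit 0x02)⟩,
⟨nat_lit 5, dw (nat_lit 0x02), nat_lit 3, [], dw (nat_lit 0x01)⟩],
[]⟩,
⟨[nat_lit 20], [], [],
[⟨nat_lit 0, [], nat_lit 2, [], []⟩,
⟨nat_lit 1, [], nat_lit 3, [], []⟩,
⟨nat_lit 2, [], nat_lit 2, dw (nat_lit 0x01), dw (nat_lit 0x01)⟩,
⟨nat_lit 3, [], nat_lit 4, [], []⟩,
⟨nat_lit 4, [], nat_lit 1, [], []⟩,
⟨nat_lit 5, [], nat_lit 3, dw (nat_lit 0x01), dw (nat_lit 0x02)⟩,
⟨nat_lit 1, dw (nat_lit 0x01), nat_lit 4, dw (nat_lit 0x02), []⟩,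
⟨nat_lit 1, dw (nat_lit 0x02), nat_lit 5, [], dw (nat_lit 0x01)⟩,
⟨nat_lit 2, dw (nat_lit 0x01), nat_lit 0, [], dw (nat_lit 0x02)⟩,
⟨nat_lit 2, dw (nat_lit 0x02), nat_lit 2, dw (nat_lit 0x02), dw (nat_lit 0x02)⟩,
⟨nat_lit 3, dw (nat_lit 0x01), nat_lit 1, dw (nat_lit 0x02), []⟩,
⟨nat_lit 3, dw (nat_lit 0x02), nat_lit 5, dw (nat_lit 0x02), dw (nat_lit 0x01)⟩,
⟨nat_lit 4, dw (nat_lit 0x01), nat_lit 3, dw (nat_lit 0x02), []⟩,
⟨nat_lit 4, dw (nat_lit 0x02), nat_lit 5, dw (nat_lit 0x01), dw (nat_lit 0x01)⟩,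
⟨nat_lit 5, dw (nat_lit 0x01), nat_lit 1, dw (nat_lit 0x01), dw (nat_lit 0x02)⟩,
⟨nat_lit 5, dw (nat_lit 0x02), nat_lit 4, dw (nat_lit 0x01), dw (nat_lit 0x02)⟩],
[]⟩],
[⟨dw (nat_lit 0x01), (nat_lit 0x2900), [dw (nat_lit 0x01), dw (nat_lit 0x01)], .nil, []⟩,
⟨dw (nat_lit 0x03), (nat_lit 0x210040), [dw (nat_lit 0x01), dw (nat_lit 0x01)], .nil, []⟩,
⟨dw (nat_lit 0x0301), (nat_lit 0x824000), [dw (nat_lit 0x01), dw (nat_lit 0x01)], .nil, []⟩,
⟨dw (nat_lit 0x0401), (nat_lit 0x508000), [dw (nat_lit 0x01), dw (nat_lit 0x01)], .nil, []⟩,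
⟨dw (nat_lit 0x0302), (nat_lit 0xc0200), [dw (nat_lit 0x01), dw (nat_lit 0x01)], .nil, []⟩]⟩
noncomputable def ex5 : List Word := [[nat_lit 22]]
noncomputable def ws5 : List Word := List.append ex5 (lev5.gens ws6)
noncomputable def rels5 : List (Word × Word) := List.append (lev5.rels ws6) (memRels (lev5.gens ws6) ex5 [dw (nat_lit 0x060401)])
noncomputable def lev4 : Level := ⟨nat_lit 4,
[⟨[nat_lit 16], [dw (nat_lit 0x080503)], [dw (nat_lit 0x030108)],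
[⟨nat_lit 0, [], nat_lit 1, [], []⟩,
⟨nat_lit 1, [], nat_lit 1, dw (nat_lit 0x0205), dw (nat_lit 0x0608)⟩,
⟨nat_lit 2, [], nat_lit 1, dw (nat_lit 0x01), []⟩,
⟨nat_lit 1, dw (nat_lit 0x07), nat_lit 1, dw (nat_lit 0x03), dw (nat_lit 0x060108)⟩,
⟨nat_lit 1, dw (nat_lit 0x02), nat_lit 1, dw (nat_lit 0x08), dw (nat_lit 0x0107)⟩,
⟨nat_lit 1, dw (nat_lit 0x03), nat_lit 2, [], dw (nat_lit 0x050408)⟩,
⟨nat_lit 1, dw (nat_lit 0x04), nat_lit 1, dw (nat_lit 0x06), dw (nat_lit 0x060107)⟩,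
⟨nat_lit 1, dw (nat_lit 0x0601), nat_lit 0, [], dw (nat_lit 0x0408)⟩],
[dw (nat_lit 0x01), dw (nat_lit 0x01)]⟩],
[⟨dw (nat_lit 0x01), (nat_lit 0xffeb60), [dw (nat_lit 0x01), dw (nat_lit 0x03), dw (nat_lit 0x05), dw (nat_lit 0x07), dw (nat_lit 0x07)], (.cons (nat_lit 5) [dw (nat_lit 0x080501)] [dw (nat_lit 0x01), dw (nat_lit 0x01)]
.nil), [dw (nat_lit 0x010308)]⟩,
⟨dw (nat_lit 0x020301), (nat_lit 0x1480), [dw (nat_lit 0x01), dw (nat_lit 0x01)], (.cons (nat_lit 5) [dw (nat_lit 0x0203), dw (nat_lit 0x0108), dw (nat_lit 0x0105), dw (nat_lit 0x020508)] [dw (nat_lit 0x01), dw (nat_lit 0x03), dw (nat_lit 0x05), dw (nat_lit 0x07)]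
.nil), [dw (nat_lit 0x0407), dw (nat_lit 0x0602), dw (nat_lit 0x0608), dw (nat_lit 0x0207)]⟩]⟩
noncomputable def ex4 : List Word := []
noncomputable def ws4 : List Word := List.append ex4 (lev4.gens ws5)
noncomputable def rels4 : List (Word × Word) := List.append (lev4.rels ws5) (memRels (lev4.gens ws5) ex4 [])
noncomputable def lev3 : Level := ⟨nat_lit 3,
[⟨[nat_lit 12], [dw (nat_lit 0x0901), dw (nat_lit 0x070106), dw (nat_lit 0x0509)], [dw (nat_lit 0x01010803), dw (nat_lit 0x010105030a), dw (nat_lit 0x040109030a)],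
[⟨nat_lit 0, [], nat_lit 1, [], []⟩,
⟨nat_lit 1, [], nat_lit 1, dw (nat_lit 0x03), dw (nat_lit 0x07010509)⟩,
⟨nat_lit 1, dw (nat_lit 0x06), nat_lit 1, dw (nat_lit 0x09), dw (nat_lit 0x06010604)⟩,
⟨nat_lit 1, dw (nat_lit 0x07), nat_lit 0, [], dw (nat_lit 0x0202060309)⟩],
[dw (nat_lit 0x01), dw (nat_lit 0x01), dw (nat_lit 0x03), dw (nat_lit 0x05), dw (nat_lit 0x01), dw (nat_lit 0x01)]⟩],
[⟨dw (nat_lit 0x01), (nat_lit 0xfffff0), [dw (nat_lit 0x01), dw (nat_lit 0x0602), dw (nat_lit 0x01), dw (nat_lit 0x05), dw (nat_lit 0x07), dw (nat_lit 0x01)], (.cons (nat_lit 4) [dw (nat_lit 0x020301), dw (nat_lit 0x02020504)] [dw (nat_lit 0x01), dw (nat_lit 0x03), dw (nat_lit 0x01), dw (nat_lit 0x05), dw (nat_lit 0x01)]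
(.cons (nat_lit 5) [dw (nat_lit 0x0a0705)] [dw (nat_lit 0x01), dw (nat_lit 0x01)]
.nil)), [dw (nat_lit 0x060101080a), dw (nat_lit 0x05010305), dw (nat_lit 0x01080106030a)]⟩]⟩
noncomputable def ex3 : List Word := [[nat_lit 14]]
noncomputable def ws3 : List Word := List.append ex3 (lev3.gens ws4)
noncomputable def rels3 : List (Word × Word) := List.append (lev3.rels ws4) (memRels (lev3.gens ws4) ex3 [dw (nat_lit 0x030106030305070b)])
noncomputable def lev2 : Level := ⟨nat_lit 2,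
[⟨[nat_lit 8], [dw (nat_lit 0x0407), dw (nat_lit 0x060705), dw (nat_lit 0x0e0b09)], [dw (nat_lit 0x06020805), dw (nat_lit 0x0106090e), dw (nat_lit 0x0106070e)],
[⟨nat_lit 0, [], nat_lit 1, [], []⟩,
⟨nat_lit 1, [], nat_lit 1, dw (nat_lit 0x0b01), dw (nat_lit 0x0b01010d050d070d)⟩,
⟨nat_lit 1, dw (nat_lit 0x0a01), nat_lit 0, [], dw (nat_lit 0x01010d050507090e)⟩],
[dw (nat_lit 0x01), dw (nat_lit 0x03), dw (nat_lit 0x01), dw (nat_lit 0x0101), dw (nat_lit 0x05), dw (nat_lit 0x01)]⟩],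
[⟨dw (nat_lit 0x01), (nat_lit 0xfffff8), [dw (nat_lit 0x01), dw (nat_lit 0x03), dw (nat_lit 0x05), dw (nat_lit 0x03), dw (nat_lit 0x0d), dw (nat_lit 0x03)], (.cons (nat_lit 3) [dw (nat_lit 0x010501)] [dw (nat_lit 0x01), dw (nat_lit 0x05), dw (nat_lit 0x07), dw (nat_lit 0x09), dw (nat_lit 0x0b), dw (nat_lit 0x01)]
(.cons (nat_lit 4) [dw (nat_lit 0x060b06)] [dw (nat_lit 0x01), dw (nat_lit 0x01)]
(.cons (nat_lit 5) [dw (nat_lit 0x0809), dw (nat_lit 0x080d), dw (nat_lit 0x080c), dw (nat_lit 0x0c08)] [dw (nat_lit 0x01), dw (nat_lit 0x03), dw (nat_lit 0x05), dw (nat_lit 0x07)]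
.nil))), [dw (nat_lit 0x01050a08), dw (nat_lit 0x0e02050d), dw (nat_lit 0x06060b0d), dw (nat_lit 0x050509070e), dw (nat_lit 0x0a05050c08), dw (nat_lit 0x050c050c)]⟩]⟩
noncomputable def ex2 : List Word := [[nat_lit 10]]
noncomputable def ws2 : List Word := List.append ex2 (lev2.gens ws3)
noncomputable def rels2 : List (Word × Word) := List.append (lev2.rels ws3) (memRels (lev2.gens ws3) ex2 [dw (nat_lit 0x050205040a070e090f)])
noncomputable def lev1 : Level := ⟨nat_lit 1,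
[⟨[nat_lit 4], [dw (nat_lit 0x0103), dw (nat_lit 0x0711), dw (nat_lit 0x100b09)], [dw (nat_lit 0x0f0107050d09100c), dw (nat_lit 0x12010f050510090c), dw (nat_lit 0x030206090f12)],
[⟨nat_lit 0, [], nat_lit 1, [], []⟩,
⟨nat_lit 1, [], nat_lit 1, dw (nat_lit 0x0101), dw (nat_lit 0x030208050910090d0b12)⟩,
⟨nat_lit 1, dw (nat_lit 0x0a), nat_lit 0, [], dw (nat_lit 0x06020810090b0d12)⟩],
[dw (nat_lit 0x01), dw (nat_lit 0x03), dw (nat_lit 0x01), dw (nat_lit 0x03), dw (nat_lit 0x03), dw (nat_lit 0x03), dw (nat_lit 0x01)]⟩],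
[⟨dw (nat_lit 0x01), (nat_lit 0xfffffc), [dw (nat_lit 0x01), dw (nat_lit 0x03), dw (nat_lit 0x07), dw (nat_lit 0x05), dw (nat_lit 0x01), dw (nat_lit 0x03)], (.cons (nat_lit 2) [dw (nat_lit 0x040b)] [dw (nat_lit 0x01), dw (nat_lit 0x03), dw (nat_lit 0x09), dw (nat_lit 0x03), dw (nat_lit 0x09), dw (nat_lit 0x05), dw (nat_lit 0x03)]
(.cons (nat_lit 3) [dw (nat_lit 0x05)] [dw (nat_lit 0x01), dw (nat_lit 0x0101), dw (nat_lit 0x07), dw (nat_lit 0x03), dw (nat_lit 0x01), dw (nat_lit 0x07), dw (nat_lit 0x01)]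
(.cons (nat_lit 4) [dw (nat_lit 0x1109), dw (nat_lit 0x0d0911)] [dw (nat_lit 0x01), dw (nat_lit 0x05), dw (nat_lit 0x03), dw (nat_lit 0x05), dw (nat_lit 0x05), dw (nat_lit 0x01)]
(.cons (nat_lit 5) [dw (nat_lit 0x0f)] [dw (nat_lit 0x01), dw (nat_lit 0x01)]
.nil)))), [dw (nat_lit 0x1201071109090d), dw (nat_lit 0x03020c060a0a0c11), dw (nat_lit 0x030c09090f0c), dw (nat_lit 0x03020a060c090e11), dw (nat_lit 0x090107060a0b091012)]⟩]⟩
noncomputable def ex1 : List Word := [[nat_lit 6]]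
noncomputable def ws1 : List Word := List.append ex1 (lev1.gens ws2)
noncomputable def rels1 : List (Word × Word) := List.append (lev1.rels ws2) (memRels (lev1.gens ws2) ex1 [dw (nat_lit 0x03010c03130b0b0f13)])
noncomputable def lev0 : Level := ⟨nat_lit 0,
[⟨[nat_lit 0], [dw (nat_lit 0x03), dw (nat_lit 0x0511), dw (nat_lit 0x0c0f)], [dw (nat_lit 0x0b010606110a0f0d0f15), dw (nat_lit 0x0306060c0c140d0d110f), dw (nat_lit 0x100207060c120d121015)],
[⟨nat_lit 0, [], nat_lit 1, [], []⟩,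
⟨nat_lit 1, [], nat_lit 0, [], []⟩,
⟨nat_lit 1, dw (nat_lit 0x0b), nat_lit 1, dw (nat_lit 0x14), dw (nat_lit 0x0c01010c060c0c100d131015)⟩],
[dw (nat_lit 0x01), dw (nat_lit 0x03), dw (nat_lit 0x05), dw (nat_lit 0x01), dw (nat_lit 0x01), dw (nat_lit 0x03), dw (nat_lit 0x03)]⟩],
[⟨dw (nat_lit 0x01), (nat_lit 0xfffffe), [dw (nat_lit 0x01), dw (nat_lit 0x05), dw (nat_lit 0x07), dw (nat_lit 0x09), dw (nat_lit 0x0b), dw (nat_lit 0x01)], (.cons (nat_lit 1) [dw (nat_lit 0x03)] [dw (nat_lit 0x01), dw (nat_lit 0x0101), dw (nat_lit 0x05), dw (nat_lit 0x03), dw (nat_lit 0x01), dw (nat_lit 0x05), dw (nat_lit 0x01)]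
(.cons (nat_lit 2) [dw (nat_lit 0x0511)] [dw (nat_lit 0x01), dw (nat_lit 0x0101), dw (nat_lit 0x03), dw (nat_lit 0x01), dw (nat_lit 0x09), dw (nat_lit 0x03), dw (nat_lit 0x03)]
(.cons (nat_lit 3) [dw (nat_lit 0x0c0f)] [dw (nat_lit 0x01), dw (nat_lit 0x0101), dw (nat_lit 0x07), dw (nat_lit 0x01), dw (nat_lit 0x03), dw (nat_lit 0x01)]
(.cons (nat_lit 4) [dw (nat_lit 0x0e0f0d), dw (nat_lit 0x0e0e1110)] [dw (nat_lit 0x01), dw (nat_lit 0x03), dw (nat_lit 0x01), dw (nat_lit 0x05), dw (nat_lit 0x01)]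
(.cons (nat_lit 5) [dw (nat_lit 0x161311)] [dw (nat_lit 0x01), dw (nat_lit 0x01)]
.nil))))), [dw (nat_lit 0x0b010606110a0f0d0f15), dw (nat_lit 0x0306060c0c140d0d110f), dw (nat_lit 0x100207060c120d121015), dw (nat_lit 0x0c06110a0f0d120f15), dw (nat_lit 0x0b010706110a0e1210), dw (nat_lit 0x0d0108050a0e0f0d150f)]⟩]⟩
noncomputable def ex0 : List Word := [[nat_lit 2]]
noncomputable def ws0 : List Word := List.append ex0 (lev0.gens ws1)
noncomputable def rels0 : List (Word × Word) := List.append (lev0.rels ws1) (memRels (lev0.gens ws1) ex0 [dw (nat_lit 0x03010e0308080d0b140f0f1218)])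
noncomputable def rels : List (Word × Word) := List.append rels0 (List.append rels1 (List.append rels2 (List.append rels3 (List.append rels4 (List.append rels5 (List.append rels6 ([])))))))
noncomputable def defs : List Word := [dw (nat_lit 0x0402030203010301040104040103), dw (nat_lit 0x020302030204020404040401010104020401), dw (nat_lit 0x06080805050507), dw (nat_lit 0x0608050505080606), dw (nat_lit 0x0c0a0a0c0a0a0a0c), dw (nat_lit 0x090c0a0b0b), dw (nat_lit 0x0d0d0d100d0f0e0e0e1010100d0d1010), dw (nat_lit 0x0e0f0d0f0f)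
, dw (nat_lit 0x1212131114111411), dw (nat_lit 0x11111411141212121312), dw (nat_lit 0x13161715151513131617)]
noncomputable def relsD : List (Word × Word) := defRels defs 2
noncomputable def relsO : List (Word × Word) := memRels ws0 (lets 2) [dw (nat_lit 0x03), dw (nat_lit 0x01)]
noncomputable def relsS : List (Word × Word) := []
noncomputable def allRels : List (Word × Word) := List.append rels (List.append relsD (List.append relsO relsS))
theorem chk6 : lev6.chk 24 nets ws7 1 3 = true := by decide +kernel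
theorem chk5 : lev5.chk 24 nets ws6 3 48 = true := by decide +kernel
theorem chk4 : lev4.chk 24 nets ws5 48 960 = true := by decide +kernel
theorem chk3 : lev3.chk 24 nets ws4 960 20160 = true := by decide +kernel
theorem chk2 : lev2.chk 24 nets ws3 20160 443520 = true := by decide +kernel
theorem chk1 : lev1.chk 24 nets ws2 443520 10200960 = true := by decide +kernel
theorem chk0 : lev0.chk 24 nets ws1 10200960 244823040 = true := by decide +kernel
theorem rc0 : relsChk 24 nets 5 (idArr 24 5 5 0) allRels = true := by decide +kernel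
section
variable {Γ Ω : Type*} [Group Γ] [MulAction Γ Ω] (M : PM Γ Ω 24 nets)

theorem all_ok (hs : M.Sep 5 (idArr 24 5 5 0)) : Rels M.gen allRels := (M.rels_of_chk hs rc0)
theorem sep [FaithfulSMul Γ Ω] : M.Sep 5 (idArr 24 5 5 0) := M.sep_idArr (by decide)
theorem all_ok' [FaithfulSMul Γ Ω] : Rels M.gen allRels := all_ok M (sep M)
theorem rels_of_all {gen : ℕ → Γ} (h : Rels gen allRels) : Rels gen rels := Rels.left h
theorem relsD_of_all {gen : ℕ → Γ} (h : Rels gen allRels) : Rels gen relsD := Rels.left (Rels.right h)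
theorem relsO_of_all {gen : ℕ → Γ} (h : Rels gen allRels) : Rels gen relsO := Rels.left (Rels.right (Rels.right h))
theorem relsS_of_all {gen : ℕ → Γ} (h : Rels gen allRels) : Rels gen relsS := Rels.right (Rels.right (Rels.right h))
theorem card7 (_hR : Rels M.gen rels) : Nat.card (sub M.gen ws7) = 1 := M.card_nil
theorem fixw7 (_hR : Rels M.gen rels) : M.FixTriv ws7 [] := M.fixTriv_nil
theorem r6 (hR : Rels M.gen rels) : Rels M.gen rels6 := (Rels.left (Rels.right (Rels.right (Rels.right (Rels.right (Rels.right (Rels.right hR)))))))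
theorem res6 (hR : Rels M.gen rels) : M.LevelRes ws7 lev6 3 := M.level (card7 M hR) chk6 (Rels.left (r6 M hR))
theorem ext6 (hR : Rels M.gen rels) : sub M.gen ws6 = sub M.gen (lev6.gens ws7) := sub_extend (Rels.right (r6 M hR))
theorem card6 (hR : Rels M.gen rels) : Nat.card (sub M.gen ws6) = 3 := by rw [ext6 M hR]; exact (res6 M hR).card
theorem fix6 (hR : Rels M.gen rels) : M.FixTriv (lev6.gens ws7) [6] := (res6 M hR).fixTriv M (fixw7 M hR)
theorem fixw6 (hR : Rels M.gen rels) : M.FixTriv ws6 [6] := fun g hg => fix6 M hR g (ext6 M hR ▸ hg)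
theorem stab6 (hR : Rels M.gen rels) : sub M.gen ws6 ⊓ MulAction.stabilizer Γ (M.dec 6) = sub M.gen ws7 := by rw [ext6 M hR]; exact (res6 M hR).stab
theorem orb6 (hR : Rels M.gen rels) (y : Ω) : y ∈ M.S lev6.orb ↔ ∃ g ∈ sub M.gen ws6, g • M.dec 6 = y := by rw [ext6 M hR]; exact (res6 M hR).orb y
theorem r5 (hR : Rels M.gen rels) : Rels M.gen rels5 := (Rels.left (Rels.right (Rels.right (Rels.right (Rels.right (Rels.right hR))))))
theorem res5 (hR : Rels M.gen rels) : M.LevelRes ws6 lev5 48 := M.level (card6 M hR) chk5 (Rels.left (r5 M hR))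
theorem ext5 (hR : Rels M.gen rels) : sub M.gen ws5 = sub M.gen (lev5.gens ws6) := sub_extend (Rels.right (r5 M hR))
theorem card5 (hR : Rels M.gen rels) : Nat.card (sub M.gen ws5) = 48 := by rw [ext5 M hR]; exact (res5 M hR).card
theorem fix5 (hR : Rels M.gen rels) : M.FixTriv (lev5.gens ws6) [5, 6] := (res5 M hR).fixTriv M (fixw6 M hR)
theorem fixw5 (hR : Rels M.gen rels) : M.FixTriv ws5 [5, 6] := fun g hg => fix5 M hR g (ext5 M hR ▸ hg)
theorem stab5 (hR : Rels M.gen rels) : sub M.gen ws5 ⊓ MulAction.stabilizer Γ (M.dec 5) = sub M.gen ws6 := by rw [ext5 M hR]; exact (res5 M hR).stab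
theorem orb5 (hR : Rels M.gen rels) (y : Ω) : y ∈ M.S lev5.orb ↔ ∃ g ∈ sub M.gen ws5, g • M.dec 5 = y := by rw [ext5 M hR]; exact (res5 M hR).orb y
theorem r4 (hR : Rels M.gen rels) : Rels M.gen rels4 := (Rels.left (Rels.right (Rels.right (Rels.right (Rels.right hR)))))
theorem res4 (hR : Rels M.gen rels) : M.LevelRes ws5 lev4 960 := M.level (card5 M hR) chk4 (Rels.left (r4 M hR))
theorem ext4 (hR : Rels M.gen rels) : sub M.gen ws4 = sub M.gen (lev4.gens ws5) := sub_extend (Rels.right (r4 M hR))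
theorem card4 (hR : Rels M.gen rels) : Nat.card (sub M.gen ws4) = 960 := by rw [ext4 M hR]; exact (res4 M hR).card
theorem fix4 (hR : Rels M.gen rels) : M.FixTriv (lev4.gens ws5) [4, 5, 6] := (res4 M hR).fixTriv M (fixw5 M hR)
theorem fixw4 (hR : Rels M.gen rels) : M.FixTriv ws4 [4, 5, 6] := fun g hg => fix4 M hR g (ext4 M hR ▸ hg)
theorem stab4 (hR : Rels M.gen rels) : sub M.gen ws4 ⊓ MulAction.stabilizer Γ (M.dec 4) = sub M.gen ws5 := by rw [ext4 M hR]; exact (res4 M hR).stab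
theorem orb4 (hR : Rels M.gen rels) (y : Ω) : y ∈ M.S lev4.orb ↔ ∃ g ∈ sub M.gen ws4, g • M.dec 4 = y := by rw [ext4 M hR]; exact (res4 M hR).orb y
theorem r3 (hR : Rels M.gen rels) : Rels M.gen rels3 := (Rels.left (Rels.right (Rels.right (Rels.right hR))))
theorem res3 (hR : Rels M.gen rels) : M.LevelRes ws4 lev3 20160 := M.level (card4 M hR) chk3 (Rels.left (r3 M hR))
theorem ext3 (hR : Rels M.gen rels) : sub M.gen ws3 = sub M.gen (lev3.gens ws4) := sub_extend (Rels.right (r3 M hR))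
theorem card3 (hR : Rels M.gen rels) : Nat.card (sub M.gen ws3) = 20160 := by rw [ext3 M hR]; exact (res3 M hR).card
theorem fix3 (hR : Rels M.gen rels) : M.FixTriv (lev3.gens ws4) [3, 4, 5, 6] := (res3 M hR).fixTriv M (fixw4 M hR)
theorem fixw3 (hR : Rels M.gen rels) : M.FixTriv ws3 [3, 4, 5, 6] := fun g hg => fix3 M hR g (ext3 M hR ▸ hg)
theorem stab3 (hR : Rels M.gen rels) : sub M.gen ws3 ⊓ MulAction.stabilizer Γ (M.dec 3) = sub M.gen ws4 := by rw [ext3 M hR]; exact (res3 M hR).stab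
theorem orb3 (hR : Rels M.gen rels) (y : Ω) : y ∈ M.S lev3.orb ↔ ∃ g ∈ sub M.gen ws3, g • M.dec 3 = y := by rw [ext3 M hR]; exact (res3 M hR).orb y
theorem r2 (hR : Rels M.gen rels) : Rels M.gen rels2 := (Rels.left (Rels.right (Rels.right hR)))
theorem res2 (hR : Rels M.gen rels) : M.LevelRes ws3 lev2 443520 := M.level (card3 M hR) chk2 (Rels.left (r2 M hR))
theorem ext2 (hR : Rels M.gen rels) : sub M.gen ws2 = sub M.gen (lev2.gens ws3) := sub_extend (Rels.right (r2 M hR))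
theorem card2 (hR : Rels M.gen rels) : Nat.card (sub M.gen ws2) = 443520 := by rw [ext2 M hR]; exact (res2 M hR).card
theorem fix2 (hR : Rels M.gen rels) : M.FixTriv (lev2.gens ws3) [2, 3, 4, 5, 6] := (res2 M hR).fixTriv M (fixw3 M hR)
theorem fixw2 (hR : Rels M.gen rels) : M.FixTriv ws2 [2, 3, 4, 5, 6] := fun g hg => fix2 M hR g (ext2 M hR ▸ hg)
theorem stab2 (hR : Rels M.gen rels) : sub M.gen ws2 ⊓ MulAction.stabilizer Γ (M.dec 2) = sub M.gen ws3 := by rw [ext2 M hR]; exact (res2 M hR).stab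
theorem orb2 (hR : Rels M.gen rels) (y : Ω) : y ∈ M.S lev2.orb ↔ ∃ g ∈ sub M.gen ws2, g • M.dec 2 = y := by rw [ext2 M hR]; exact (res2 M hR).orb y
theorem r1 (hR : Rels M.gen rels) : Rels M.gen rels1 := (Rels.left (Rels.right hR))
theorem res1 (hR : Rels M.gen rels) : M.LevelRes ws2 lev1 10200960 := M.level (card2 M hR) chk1 (Rels.left (r1 M hR))
theorem ext1 (hR : Rels M.gen rels) : sub M.gen ws1 = sub M.gen (lev1.gens ws2) := sub_extend (Rels.right (r1 M hR))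
theorem card1 (hR : Rels M.gen rels) : Nat.card (sub M.gen ws1) = 10200960 := by rw [ext1 M hR]; exact (res1 M hR).card
theorem fix1 (hR : Rels M.gen rels) : M.FixTriv (lev1.gens ws2) [1, 2, 3, 4, 5, 6] := (res1 M hR).fixTriv M (fixw2 M hR)
theorem fixw1 (hR : Rels M.gen rels) : M.FixTriv ws1 [1, 2, 3, 4, 5, 6] := fun g hg => fix1 M hR g (ext1 M hR ▸ hg)
theorem stab1 (hR : Rels M.gen rels) : sub M.gen ws1 ⊓ MulAction.stabilizer Γ (M.dec 1) = sub M.gen ws2 := by rw [ext1 M hR]; exact (res1 M hR).stab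
theorem orb1 (hR : Rels M.gen rels) (y : Ω) : y ∈ M.S lev1.orb ↔ ∃ g ∈ sub M.gen ws1, g • M.dec 1 = y := by rw [ext1 M hR]; exact (res1 M hR).orb y
theorem r0 (hR : Rels M.gen rels) : Rels M.gen rels0 := (Rels.left hR)
theorem res0 (hR : Rels M.gen rels) : M.LevelRes ws1 lev0 244823040 := M.level (card1 M hR) chk0 (Rels.left (r0 M hR))
theorem ext0 (hR : Rels M.gen rels) : sub M.gen ws0 = sub M.gen (lev0.gens ws1) := sub_extend (Rels.right (r0 M hR))
theorem card0 (hR : Rels M.gen rels) : Nat.card (sub M.gen ws0) = 244823040 := by rw [ext0 M hR]; exact (res0 M hR).card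
theorem fix0 (hR : Rels M.gen rels) : M.FixTriv (lev0.gens ws1) [0, 1, 2, 3, 4, 5, 6] := (res0 M hR).fixTriv M (fixw1 M hR)
theorem fixw0 (hR : Rels M.gen rels) : M.FixTriv ws0 [0, 1, 2, 3, 4, 5, 6] := fun g hg => fix0 M hR g (ext0 M hR ▸ hg)
theorem stab0 (hR : Rels M.gen rels) : sub M.gen ws0 ⊓ MulAction.stabilizer Γ (M.dec 0) = sub M.gen ws1 := by rw [ext0 M hR]; exact (res0 M hR).stab
theorem orb0 (hR : Rels M.gen rels) (y : Ω) : y ∈ M.S lev0.orb ↔ ∃ g ∈ sub M.gen ws0, g • M.dec 0 = y := by rw [ext0 M hR]; exact (res0 M hR).orb y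
theorem orig_eq {gen : ℕ → Γ} (h : Rels gen allRels) : sub gen (lets 2) = sub gen ws0 :=
  sub_lets_eq_of_rels (ds := defs) (by decide +kernel) (relsD_of_all h) (by decide +kernel) (relsO_of_all h)
theorem gen_mem {gen : ℕ → Γ} (h : Rels gen allRels) {X : Subgroup Γ} (h0 : ∀ l < 2, gen l ∈ X) : sub gen ws0 ≤ X :=
  sub_le_of_wsIn (lo := 0) (gen_mem_of_defRels (ds := defs) (fun l _ hl => h0 l hl) (by decide +kernel) (relsD_of_all h)) (by decide +kernel)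

end

end H15.J4B
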