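import Cfsg.Agent.H15.Glue4
import Cfsg.Agent.H15.J4A
import Cfsg.Agent.H15.J4H
import Cfsg.Agent.H15.TJ4Q
import Cfsg.Agent.H15.DC3

/-! A presentation of `2^11 : M24` on 25 letters (`Hy`, `bdH`); the permutations on 17228 points satisfy it (`hyP`). -/

set_option Elab.async false
set_option maxRecDepth 8000

namespace H15.J4
open H14

/-- relations of `M24` -/
noncomputable def rA : List (Word × Word) := List.append J4A.rels J4A.relsD
/-- relators for the normal subgroup -/
def RQ : List (List ℕ) := [[0, 0], [28, 28], [30, 30], [32, 32], [34, 34], [36, 36], [38, 38], [40, 40], [42, 42], [44, 44], [46, 46], [48, 48], [28, 30, 28, 30], [28, 32, 28, 32], [30, 32, 30, 32], [28, 34, 28, 34], [30, 34, 30, 34], [32, 34, 32, 34], [28, 36, 28, 36], [30, 36, 30, 36], [32, 36, 32, 36], [34, 36, 34, 36], [28, 38, 28, 38], [30, 38, 30, 38], [32, 38, 32, 38], [34, 38, 34, 38], [36, 38, 36, 38], [28, 40, 28, 40], [30, 40, 30, 40], [32, 40, 32, 40], [34, 40, 34, 40], [36, 40, 36,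 40], [38, 40, 38, 40], [28, 42, 28, 42], [30, 42, 30, 42], [32, 42, 32, 42], [34, 42, 34, 42], [36, 42, 36, 42], [38, 42, 38, 42], [40, 42, 40, 42], [28, 44, 28, 44], [30, 44, 30, 44], [32, 44, 32, 44], [34, 44, 34, 44], [36, 44, 36, 44], [38, 44, 38, 44], [40, 44, 40, 44], [42, 44, 42, 44], [28, 46, 28, 46], [30, 46, 30, 46], [32, 46, 32, 46], [34, 46, 34, 46], [36, 46, 36, 46], [38, 46, 38, 46], [40, 46, 40, 46], [42, 46, 42, 46], [44, 46, 44, 46], [28, 48, 28, 48], [30, 48, 30, 48], [32, 48, 32, 48], [34, 48, 34, 48], [36, 48, 36, 48], [38, 48, 38, 48], [40, 48, 40, 48], [42, 48, 42, 48], [44, 48, 44, 48], [46, 48, 46, 48], [5, 28, 4, 30], [5, 30, 4, 32], [5, 32, 4, 34], [5, 34, 4, 36], [5, 36, 4, 38], [5, 38, 4, 40], [5, 40, 4, 42], [5, 42, 4, 44], [5, 44, 4, 46], [5, 46, 4, 48], [0, 28, 0, 30], [0, 30, 0, 28], [0, 32, 0, 28, 30, 32, 36, 46, 48], [0, 34, 0, 28, 30, 32, 34, 40], [0, 36, 0, 28, 32, 38], [0, 38, 0, 28, 32, 46, 48], [0, 40, 0, 28, 30, 36, 40, 46,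 48], [0, 42, 0, 28, 32, 34, 40, 44, 46], [0, 44, 0, 28, 30, 44], [0, 46, 0, 30, 34, 42, 44], [0, 48, 0, 28, 30, 32, 34, 36, 38, 42, 44, 46, 48], [5, 48, 4, 28, 32, 36, 38, 40, 48], [2, 2, 2], [4, 0, 3]]
/-- the same as pairs -/
def rQ : List (Word × Word) := RQ.map fun w => (w.reverse, [])
/-- the relations of `2^11 : M24` -/
def Hy {K : Type*} [Group K] (f : ℕ → K) : Prop := Rels f rA ∧ RelL f RQ

section
variable {K : Type*} [Group K] {f : ℕ → K}

theorem bdA (h : Rels f J4A.rels) : Bd (sub f J4A.ws0) 244823040 := by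
  let P := permPM 24 J4A.nets (by decide) (by decide) J4A.nets_ok
  have := (Bd.of_card (J4A.card0 (P.prod f) ((J4A.rels_of_all (J4A.all_ok' P)).prod h)) (by decide)).map
    (MonoidHom.snd _ _)
  rwa [H14.map_sub] at this

theorem mem14 (h : Rels f rA) {X : Subgroup K} (h0 : f 0 ∈ X) (h1 : f 1 ∈ X) : ∀ l < 14, f l ∈ X := fun l hl =>
  gen_mem_of_defRels (lo := 0) (ds := J4A.defs) (fun l _ hl => by interval_cases l; exacts [h0, h1])
    (by decide +kernel) h.right l (Nat.zero_le _) hl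

theorem bdH (h : Hy f) : Bd (Sw f (lts 25)) 501397585920 := by
  have h1 : Bd (Sw f [[0], [4]]) 244823040 := (bdA h.1.left).mono
    ((sub_le _).2 fun w hw => ev_mem_of_chk (by revert w; decide +kernel)) le_rfl
  have h2 := bd_step TJ4Q.idx h.2 [[0], [4], [5], [28], [30], [32], [34], [36], [38], [40], [42], [44], [46], [48]] (ws' := [[0], [4], [28], [30], [32], [34], [36], [38], [40], [42], [44], [46], [48]]) h1 (by decide +kernel)
  have h3 := fun l (hl : [2 * l] ∈ [[0], [4], [28], [30], [32], [34], [36], [38], [40], [42], [44], [46], [48]]) => by simpa [letter] using mem_Sw f hl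
  refine h2.mono (lts_le fun l hl => (lt_or_ge l 14).elim (mem14 h.1 (h3 0 (by decide)) ?_ l) fun h => h3 l ?_) le_rfl
  · have : f 2 * (f 0 * (f 1)⁻¹) = 1 := by simpa [letter] using h.2.fr (u := [4, 0, 3]) (by decide +kernel)
    rw [← mul_assoc, mul_inv_eq_one] at this
    exact this ▸ mul_mem (h3 2 (by decide)) (h3 0 (by decide))
  · revert l; decide
end

/-- the permutation machine -/
noncomputable abbrev P := permPM 17228 J4H.nets (by decide) (by decide) J4H.nets_ok

theorem pa0 : relsChk 17228 J4H.nets 15 (idArr 17228 15 15 0) (List.take 18 (List.drop 0 rA)) = true := by decide +kernel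
theorem pa1 : relsChk 17228 J4H.nets 15 (idArr 17228 15 15 0) (List.take 22 (List.drop 18 rA)) = true := by decide +kernel
theorem pa2 : relsChk 17228 J4H.nets 15 (idArr 17228 15 15 0) (List.take 29 (List.drop 40 rA)) = true := by decide +kernel
theorem pa3 : relsChk 17228 J4H.nets 15 (idArr 17228 15 15 0) (List.take 34 (List.drop 69 rA)) = true := by decide +kernel
theorem pa4 : relsChk 17228 J4H.nets 15 (idArr 17228 15 15 0) (List.drop 103 rA) = true := by decide +kernel
theorem pq0 : relsChk 17228 J4H.nets 15 (idArr 17228 15 15 0) (List.take 56 (List.drop 0 rQ)) = true := by decide +kernel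
theorem pq1 : relsChk 17228 J4H.nets 15 (idArr 17228 15 15 0) (List.drop 56 rQ) = true := by decide +kernel
theorem hyP : Hy P.gen := ⟨show Rels P.gen (List.drop 0 rA) from (rels_td 0 18 18 rfl (P.rels_of_idArr (by decide) pa0) (rels_td 18 22 40 rfl (P.rels_of_idArr (by decide) pa1) (rels_td 40 29 69 rfl (P.rels_of_idArr (by decide) pa2) (rels_td 69 34 103 rfl (P.rels_of_idArr (by decide) pa3) (P.rels_of_idArr (by decide) pa4))))),
  relL_of_rels (show Rels P.gen (List.drop 0 rQ) from (rels_td 0 56 56 rfl (P.rels_of_idArr (by decide) pq0) (P.rels_of_idArr (by decide) pq1)))⟩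

end H15.J4
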