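import Cfsg.Agent.H15.J4XD

/-! Generated certificate of a double coset enumeration (J4X). -/
set_option Elab.async false
set_option autoImplicit false
set_option maxRecDepth 100000

namespace H15.J4X
open H14 L DC

theorem kt9 : chkTs F tb 512 62 tw9 519 = true := by decide +kernel
theorem kt10 : chkTs F tb 512 62 tw10 574 = true := by decide +kernel
theorem kf0 : chkL st P0 323 451 row rels1 pg0 0 = true := by decide +kernel
theorem kB : chkB F tb (4 * 512) 62 P0 (bas H15.J4H.lv0) = true := by decide +kernel
theorem kC : allLt (fun d => chkC st P0 323 451 62 gs d (getL 0 vs d)) 128 = true := by decide +kernel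
theorem kR : rels.all (fun p => chkR st P0 62 p.1 ((getL [] (invR ra rb R1) p.2.1).drop p.2.2 ++ (getL [] (invR ra rb R1) p.2.1).take p.2.2)) = true := by decide +kernel
theorem k0 : (Nat.blt 0 501397585920 && (Nat.blt 2048 17228 && (invChk H15.J4H.nets lc.gens (bit 2048) && (subs O (orbRun H15.J4H.nets (lets 31) ls0 (bit 2048)) &&
    (Nat.ble 501397585920 (Nat.mul (pop 17228 O) (lc.val 17228 H15.J4H.nets)) && (bas lc).all fun b => Nat.blt b 17228 && H14.tb O b))))) = true := by decide +kernel
theorem kL : (lc.gens.zip lls).all (fun p => eqW st P0 62 (run st 128 323 100 p.2 P0) p.1) = true := by decide +kernel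
theorem kI : chkI 17228 O 15180 cs cl0 cls szs = true := by decide +kernel

end H15.J4X
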