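import Cfsg.Agent.H15.J4XC0
import Cfsg.Agent.H15.J4XC1

/-! Generated certificate of a double coset enumeration (J4X). -/
set_option Elab.async false
set_option autoImplicit false
set_option maxRecDepth 100000

namespace H15.J4X
open H14 L DC

theorem hF : PtF 17228 H15.J4H.nets F := ptF_ok H15.J4H.nets_ok (by decide)

variable {Γ G Ω : Type*} [Group Γ] [Group G] [MulAction Γ Ω] (M : PM Γ Ω 17228 H15.J4H.nets)

theorem tbs : ∀ z < 577 + 1, ∃ g, Tb M (4 * 512) (tb z) g :=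
  have := hF
  (show ∀ z < 578, _ from tbs_of_chk (by decide) kt10 (show ∀ z < 574, _ from tbs_of_chk (by decide) kt9 (show ∀ z < 519, _ from tbs_of_chk (by decide) kt8 (show ∀ z < 448, _ from tbs_of_chk (by decide) kt7 (show ∀ z < 394, _ from tbs_of_chk (by decide) kt6 (show ∀ z < 324, _ from tbs_of_chk (by decide) kt5 (show ∀ z < 273, _ from tbs_of_chk (by decide) kt4 (show ∀ z < 221, _ from tbs_of_chk (by decide) kt3 (show ∀ z < 165, _ from tbs_of_chk (by decide) kt2 (show ∀ z < 93, _ from tbs_of_chk (by decide) kt1 (show ∀ z < 37, _ from tbs_of_chk (by decide) kt0 (fun _ h => absurd h (Nat.not_lt_zero _)))))))))))))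

theorem ex_cl (hN : Nat.card Γ = 501397585920) {θ : Γ →* G} {T : G} (hg : ∀ p ∈ gs, T * θ (H14.ev M.gen p.1) = θ (H14.ev M.gen p.2) * T)
    (hR0 : ∀ r ∈ [rb, ra] :: R1, rw14 (fun w => θ (H14.ev M.gen w)) T r = 1) (hgen : ∀ Y : Subgroup G, θ.range ≤ Y → T ∈ Y → Y = ⊤) :
    ∃ E : Ev Γ st P0, Cl M 323 451 62 E θ T row F 242 2048 O 501397585920 cs := by
  have := hF
  obtain ⟨E, hE⟩ := exists_ev (by decide) (tbs M) (base_of_lv M hN (by decide) H15.J4H.lvval0) kB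
  have hC := conj_of_chk hE hg kC
  have hR := rels_of_chk hE (invR_rel hR0) kR
  obtain ⟨h1, h2, -⟩ := chain0 (M := M) hN k0
  refine ⟨E, hE, hC, (show ∀ f < 242, _ from facts_of_chk hC hR kf0 (fun _ h => absurd h (Nat.not_lt_zero _))), hN,
    fun g hg => stab_of_chk hE hC kL (by decide +kernel) (h2 g hg), h1, (fa_cons kc0 (fa_cons kc1 (fa_cons kc2 (fa_cons kc3 (fa_cons kc4 (fa_cons kc5 fa_nil)))))),
    (fa_cons (fa_cons ke0_0 (fa_cons ke0_1 (fa_cons ke0_2 (fa_cons ke0_3 (fa_cons ke0_4 fa_nil)))))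
      (fa_cons (fa_cons ke1_0 (fa_cons ke1_1 (fa_cons ke1_2 (fa_cons ke1_3 (fa_cons ke1_4 (fa_cons ke1_5 fa_nil))))))
      (fa_cons (fa_cons ke2_0 (fa_cons ke2_1 (fa_cons ke2_2 (fa_cons ke2_3 (fa_cons ke2_4 fa_nil)))))
      (fa_cons (fa_cons ke3_0 (fa_cons ke3_1 (fa_cons ke3_2 (fa_cons ke3_3 fa_nil))))
      (fa_cons (fa_cons ke4_0 (fa_cons ke4_1 (fa_cons ke4_2 (fa_cons ke4_3 fa_nil))))
      (fa_cons (fa_cons ke5_0 (fa_cons ke5_1 (fa_cons ke5_2 (fa_cons ke5_3 (fa_cons ke5_4 fa_nil)))))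
      fa_nil)))))), by decide +kernel, hgen⟩

theorem main (hN : Nat.card Γ = 501397585920) {θ : Γ →* G} {T : G} (hg : ∀ p ∈ gs, T * θ (H14.ev M.gen p.1) = θ (H14.ev M.gen p.2) * T)
    (hR0 : ∀ r ∈ [rb, ra] :: R1, rw14 (fun w => θ (H14.ev M.gen w)) T r = 1) (hgen : ∀ Y : Subgroup G, θ.range ≤ Y → T ∈ Y → Y = ⊤)
    {K : Type*} [Group K] (ρ : G →* K) {z : G} {m : ℕ} (hz : ρ z ^ m = 1) (hz1 : ρ z ≠ 1) (hc : Nat.Coprime m 501397585920)
    (hncl : ∀ X : Subgroup G, X.Normal → z ∈ X → X = ⊤) :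
    Function.Injective θ ∧ Function.Injective ρ ∧ θ.range.index = 173067389 ∧ Nat.card G = 86775571046077562880 ∧ IsSimpleGroup G := by
  have := hF
  obtain ⟨E, h⟩ := ex_cl M hN hg hR0 hgen
  have e : 1 + (cs.map CI.m).sum = 173067389 := by decide +kernel
  have := h.main ρ hz hz1 hc (by simpa [rw14] using hR0 _ List.mem_cons_self) kI (by decide +kernel) (chain0 (M := M) hN k0).2.2 hncl
  rwa [e] at this

end H15.J4X
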