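import Cfsg.Agent.H15.J4C
import Cfsg.Agent.H15.J4X
import Cfsg.Agent.H15.TJ4N

/-! Every group on 26 letters with the relations `Hy` and `RT` and a non-trivial image is simple of the order of `J4`. -/

set_option Elab.async false
set_option maxRecDepth 8000

namespace H15.J4
open H14

/-- relators with the last letter -/
def RT : List (List ℕ) := [[50, 0, 51, 1], [50, 2, 0, 2, 0, 3, 0, 3, 0, 2, 0, 2, 0, 2, 51, 3, 1, 3, 1, 3, 1, 2, 1, 2, 1, 3, 1, 3], [50, 40, 32, 51, 21, 25, 19, 24, 9, 7, 33, 41], [50, 50], [50, 2, 0, 3, 0, 2, 0, 3, 0, 2, 1, 2, 1, 3, 1, 2, 1, 3, 50, 2, 0, 3, 0, 2, 0, 3, 0, 2, 1, 2, 1, 3, 1, 2, 1, 3, 50, 2, 0, 3, 0, 2, 0, 3, 0, 2, 1, 2, 1, 3, 1, 2, 1, 3], [50, 3, 3, 1, 3, 1, 3, 1, 3, 1, 3, 1, 3, 1, 3, 3, 1, 3, 1, 3, 1, 50, 0, 2, 0, 2, 0, 2, 2, 0, 2, 0, 2, 0, 2, 0, 2, 0, 2, 0, 2, 2, 2, 0, 2, 0, 2, 0, 2, 2, 0, 2, 0, 2, 0, 2, 2, 0, 2, 0, 2, 0, 2, 50, 3, 3, 1, 3, 1,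 3, 1, 3, 1, 3, 1, 3, 1, 3, 3, 1, 3, 1, 3, 1, 50, 0, 2, 0, 2, 0, 2, 2, 0, 2, 0, 2, 0, 2, 0, 2, 0, 2, 0, 2, 2, 2, 0, 2, 0, 2, 0, 2, 2, 0, 2, 0, 2, 0, 2, 2, 0, 2, 0, 2, 0, 2], [50, 2, 0, 2, 0, 2, 0, 2, 0, 3, 0, 2, 1, 2, 1, 3, 1, 3, 1, 3, 1, 3, 50, 2, 0, 2, 0, 2, 0, 2, 0, 3, 0, 2, 1, 2, 1, 3, 1, 3, 1, 3, 1, 3, 50, 2, 0, 2, 0, 2, 0, 2, 0, 3, 0, 29, 2, 1, 2, 1, 3, 1, 3, 1, 3, 1, 3]]
/-- an element of order 29 -/
def zw : List ℕ := [0, 2, 5, 50, 2, 51, 4, 3]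

variable {G : Type*} [Group G] {g : ℕ → G}

/-- the subgroup on the first 25 letters, paired with its permutations -/
noncomputable abbrev Y (g : ℕ → G) := Sw (pr g P.gen) (lts 25)

theorem ex_M (h : Hy g) : ∃ π : Y g →* Equiv.Perm (Fin 17228), Function.Injective π ∧ Nat.card (Y g) = 501397585920 ∧
    ∃ M : PM (Y g) (Pt π) 17228 J4H.nets, (∀ l < 25, (M.gen l).1.1 = g l) ∧ ∀ l, π (M.gen l) = P.gen l :=
  DC.prod_machine g (fun _ hl => gen_mem_lts (pr g P.gen) hl) (bdH ⟨h.1.prod hyP.1, h.2.pr hyP.2⟩) J4H.dok J4H.dlen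
    (J4H.relsD_ok P) (J4H.low P)

/-- the permutation representation -/
noncomputable def pi (h : Hy g) : Y g →* Equiv.Perm (Fin 17228) := (ex_M h).choose
theorem pi_inj (h : Hy g) : Function.Injective (pi h) := (ex_M h).choose_spec.1
theorem cardY (h : Hy g) : Nat.card (Y g) = 501397585920 := (ex_M h).choose_spec.2.1
instance instFaithful (h : Hy g) : FaithfulSMul (Y g) (Pt (pi h)) := faithful_Pt (pi_inj h)
/-- the machine -/
noncomputable def M (h : Hy g) : PM (Y g) (Pt (pi h)) 17228 J4H.nets := (ex_M h).choose_spec.2.2.choose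
/-- the embedding -/
noncomputable def theta (g : ℕ → G) : Y g →* G := (MonoidHom.fst _ _).comp (Y g).subtype
theorem theta_gen (h : Hy g) : ∀ l < 25, theta g ((M h).gen l) = g l := (ex_M h).choose_spec.2.2.choose_spec.1
theorem range_theta (g : ℕ → G) : (theta g).range = Sw g (lts 25) := by
  rw [theta, MonoidHom.range_comp, Subgroup.range_subtype, map_Sw]; rfl

theorem hyp (h : Hy g) (hT : RelL g RT) :
    (∀ p ∈ J4X.gs, g 25 * theta g (H14.ev (M h).gen p.1) = theta g (H14.ev (M h).gen p.2) * g 25) ∧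
    ∀ r ∈ [J4X.rb, J4X.ra] :: J4X.R1, DC.rw14 (fun w => theta g (H14.ev (M h).gen w)) (g 25) r = 1 :=
  hyp_of_rels 25 (theta_gen h) hT (by decide +kernel)

theorem hgen (h : Hy g) (ht : Sw g (lts 26) = ⊤) (X : Subgroup G) (h1 : (theta g).range ≤ X) (h2 : g 25 ∈ X) : X = ⊤ := by
  rw [eq_top_iff, ← ht]
  refine lts_le fun l hl => ?_
  rcases Nat.lt_succ_iff_lt_or_eq.1 hl with hl | rfl
  · exact h1 ⟨_, theta_gen h l hl⟩
  · exact h2

theorem hncl (h : Hy g) (hT : RelL g RT) (ht : Sw g (lts 26) = ⊤) (X : Subgroup G) (hX : X.Normal)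
    (hz : ev (letter g) zw ∈ X) : X = ⊤ := by
  have e : zw = [0] ++ ([2, 5, 50] ++ [2] ++ iw [2, 5, 50]) := by decide
  rw [e, ev_append, ev_append, ev_append, ev_iw] at hz
  obtain ⟨h1, h2⟩ := mem_of_coprime (p := 2) (r := 3) (by rw [← ev_powL]; exact h.2.fr (by decide +kernel))
    (by rw [← ev_powL]; exact h.2.fr (by decide +kernel)) (by decide) hz
  have h3 := mem_of_quot TJ4N.mem (h.2.append hT) (R' := [[0], [2]]) (fa_cons h1 (fa_cons h2 fa_nil)) [[0], [1], [2], [3], [4], [5], [28], [29], [30], [32], [34], [36], [38], [40], [42], [44], [46], [48], [50], [51]] (by decide +kernel)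
  rw [eq_top_iff, ← ht]
  refine lts_le fun l hl => (lt_or_ge l 14).elim
    (mem14 h.1 (by simpa [letter] using h1) (by simpa [letter] using h2) l) fun h4 => ?_
  simpa [letter] using h3 [2 * l] (by revert l; decide +kernel)

theorem main (h : Hy g) (hT : RelL g RT) (ht : Sw g (lts 26) = ⊤) {K : Type*} [Group K] (ρ : G →* K)
    (hz : ρ (ev (letter g) zw) ^ 29 = 1) (hz1 : ρ (ev (letter g) zw) ≠ 1) :
    Function.Injective (theta g) ∧ Function.Injective ρ ∧ (theta g).range.index = 173067389 ∧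
      Nat.card G = 86775571046077562880 ∧ IsSimpleGroup G :=
  J4X.main (M h) (cardY h) (hyp h hT).1 (hyp h hT).2 (hgen h ht) ρ hz hz1 (by decide) (hncl h hT ht)

end H15.J4
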