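import Cfsg.Agent.H15.J4Z

/-! Words for the derivation of the relations of `2^11 : M24` in the presented group `J4`. -/

namespace H15.J4
open ZI

/-- a word -/
def w0 : List ℕ := [2, 0, 2, 0, 2, 0, 2, 0, 3, 0]
/-- a word -/
def c2 : List ℕ := [2, 0, 2, 0, 3, 0, 3, 0, 2, 0, 2, 0, 2]
/-- a word -/
def yp : List ℕ := [2, 0, 2, 0, 2, 0, 2, 0, 3, 0, 2, 1, 2, 1, 3, 1, 3, 1, 3, 1, 3]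
/-- a word -/
def hW : List ℕ := [18, 2, 6, 12, 11, 26, 13, 19, 25, 27]
/-- a word -/
def gW : List ℕ := [10, 3, 26, 6, 8, 12, 14, 20, 19, 24, 20, 26]
/-- a word -/
def I1 : List ℕ := [12, 3, 8, 6, 10, 10, 13, 13, 20, 17, 20, 24]
/-- a word -/
def rW : List ℕ := [27, 21, 25, 18, 21, 15, 13, 9, 7, 27, 2, 11, 50, 10, 3, 26, 6, 8, 12, 14, 20, 19, 24, 20, 19, 25, 12, 27, 10, 22, 7, 19, 3, 7, 27, 21, 25, 18, 21, 15, 13, 9, 7, 27, 2, 11, 50, 10, 3, 26, 6, 8, 12, 14, 20, 19, 24, 20, 26, 6, 2, 18, 6, 23, 11, 26, 13, 24, 18, 26, 6, 2, 18, 6, 23, 11, 26, 13, 24, 18, 21, 25, 18, 21, 15, 13, 9, 7, 27, 2, 11, 50, 10, 3, 26, 6, 8, 12, 14, 20, 19, 24, 20, 19, 25, 12, 27, 10, 22, 7, 19, 3, 7, 50]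
/-- a word -/
def vw : List ℕ := [3, 3, 1, 3, 1, 2, 1, 2, 4, 3, 0, 3, 0, 2, 0, 2, 2]
/-- words -/
def swB : List (List ℕ) := [[6, 2, 18, 6, 23, 11, 26, 13, 24, 18, 26], [27, 19, 25, 12, 27, 10, 22, 7, 19, 3, 7], [12, 3, 8, 6, 10, 10, 13, 13, 20, 17, 20, 24], [18, 2, 15, 6, 9, 10, 14, 12, 20, 19, 22], [7, 2, 17, 7, 12, 11, 17, 12, 17, 19, 20, 22], [50], [27, 21, 25, 18, 21, 15, 13, 9, 7, 27, 2, 11, 50, 10, 3, 26, 6, 8, 12, 14, 20, 19, 24, 20, 26]]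
/-- words -/
def swS : List (List ℕ) := [[2, 0, 2, 0, 2, 0, 2, 0, 3, 0, 2, 1, 2, 1, 3, 1, 3, 1, 3, 1, 3], [2, 0, 2, 0, 2, 0, 2, 0, 3, 0, 3, 1, 2, 1, 3, 1, 3, 1, 3, 1, 3], [18, 2, 6, 12, 11, 26, 13, 19, 25, 27], [26, 24, 18, 12, 27, 10, 13, 7, 3, 19], [50], [10, 3, 26, 6, 8, 12, 14, 20, 19, 24, 20, 26], [27, 21, 25, 18, 21, 15, 13, 9, 7, 27, 2, 11], [6, 2, 18, 6, 23, 11, 26, 13, 24, 18, 26], [27, 19, 25, 12, 27, 10, 22, 7, 19, 3, 7]]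
/-- words -/
def swO : List (List ℕ) := [[15, 10, 12, 14, 24, 20], [21, 25, 15, 13, 11, 14], [17, 18, 20, 26], [14, 18, 24, 27], [52]]
/-- words -/
def swQ : List (List ℕ) := [[0], [2], [3], [52]]
/-- words -/
def R52 : List (List ℕ) := [[52, 52], [52, 2, 0, 2, 0, 2, 0, 2, 0, 3, 0, 2, 1, 2, 1, 3, 1, 3, 1, 3, 1, 3, 52, 2, 0, 2, 0, 2, 0, 2, 0, 3, 0, 3, 1, 2, 1, 3, 1, 3, 1, 3, 1, 3], [52, 18, 2, 6, 12, 11, 26, 13, 19, 25, 27, 52, 26, 24, 18, 12, 27, 10, 13, 7, 3, 19], [52, 12, 3, 8, 6, 10, 10, 13, 13, 20, 17, 20, 24, 52, 12, 3, 8, 6, 10, 10, 13, 13, 20, 17, 20, 24, 18, 2, 15, 6, 9, 10, 14, 12, 20, 19, 22, 12, 3, 8, 6, 10, 10, 13, 13, 20, 17, 20, 24, 52, 12, 3, 8, 6, 10, 10, 13, 13, 20, 17, 20, 24, 18, 2, 15, 6, 9, 10, 14, 12, 20, 19,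 22], [2, 0, 2, 0, 2, 0, 2, 0, 3, 0, 2, 1, 2, 1, 3, 1, 3, 1, 3, 1, 3, 50, 2, 0, 2, 0, 2, 0, 2, 0, 3, 0, 2, 1, 2, 1, 3, 1, 3, 1, 3, 1, 3, 50, 2, 0, 2, 0, 2, 0, 2, 0, 3, 0, 2, 1, 2, 1, 3, 1, 3, 1, 3, 1, 3, 50, 52]]
/-- conjugates of relators -/
def LX : List (List Tr) := [[([], [], []), ([], [], [10, 3, 26, 6, 8, 12, 14, 20, 19, 24, 20, 26, 27, 21, 25, 18, 21, 15, 13, 9, 7, 27, 2, 11])],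
  [([], [], [6, 2, 18, 6, 23, 11, 26, 13, 24, 18, 26]), ([0, 3, 0, 2, 0, 3, 0, 3, 0, 2, 0, 2, 0, 3, 0, 2], [], [27, 19, 25, 12, 27, 10, 22, 7, 19, 3, 7])],
  [([], [], [12, 3, 8, 6, 10, 10, 13, 13, 20, 17, 20, 24]), ([0, 3, 0, 2, 2, 0, 2, 0, 2, 2, 0, 2, 0, 3, 0, 2], [], [12, 3, 8, 6, 10, 10, 13, 13, 20, 17, 20, 24])],
  [([], [], [18, 2, 15, 6, 9, 10, 14, 12, 20, 19, 22]), ([0, 3, 0, 2, 2, 0, 2, 0, 3, 0, 2, 0, 2, 2, 0, 2, 2, 0, 2, 0, 2], [], [18, 2, 15, 6, 9, 10, 14, 12, 20, 19, 22])],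
  [([], [], [7, 2, 17, 7, 12, 11, 17, 12, 17, 19, 20, 22]), ([2, 2, 0, 3, 0, 3, 0, 2, 0, 2, 2, 0, 2, 0, 2, 0, 3, 0, 2], [], [7, 2, 17, 7, 12, 11, 17, 12, 17, 19, 20, 22])],
  [([], [], [10, 3, 26, 6, 8, 12, 14, 20, 19, 24, 20, 26, 18, 2, 15, 6, 9, 10, 14, 12, 20, 19, 22, 27, 21, 25, 18, 21, 15, 13, 9, 7, 27, 2, 11]), ([2, 0, 2, 0, 2, 2, 0, 2, 0, 2, 0, 3, 0, 3, 0, 3, 0, 2, 2], [], [10, 3, 26, 6, 8, 12, 14, 20, 19, 24, 20, 26, 18, 2, 15, 6, 9, 10, 14, 12, 20, 19, 22, 27, 21, 25, 18, 21, 15, 13, 9, 7, 27, 2, 11])],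
  [([], [], [10, 3, 26, 6, 8, 12, 14, 20, 19, 24, 20, 26, 12, 3, 8, 6, 10, 10, 13, 13, 20, 17, 20, 24, 7, 2, 17, 7, 12, 11, 17, 12, 17, 19, 20, 22, 12, 3, 8, 6, 10, 10, 13, 13, 20, 17, 20, 24, 27, 21, 25, 18, 21, 15, 13, 9, 7, 27, 2, 11]), ([2, 2, 0, 3, 0, 2, 0, 2, 0, 3, 0, 2, 2, 0, 2, 2, 0, 2, 0, 2], [], [10, 3, 26, 6, 8, 12, 14, 20, 19, 24, 20, 26, 12, 3, 8, 6, 10, 10, 13, 13, 20, 17, 20, 24, 7, 2, 17, 7, 12, 11, 17, 12, 17, 19, 20, 22, 12, 3, 8, 6, 10, 10, 13, 13, 20, 17, 20, 24, 27, 21, 25, 18, 21, 15, 13, 9, 7, 27, 2, 11])],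
  [([], [], [10, 3, 26, 6, 8, 12, 14, 20, 19, 24, 20, 26, 6, 2, 18, 6, 23, 11, 26, 13, 24, 18, 26, 12, 3, 8, 6, 10, 10, 13, 13, 20, 17, 20, 24, 6, 2, 18, 6, 23, 11, 26, 13, 24, 18, 26, 7, 2, 17, 7, 12, 11, 17, 12, 17, 19, 20, 22, 27, 19, 25, 12, 27, 10, 22, 7, 19, 3, 7, 27, 21, 25, 18, 21, 15, 13, 9, 7, 27, 2, 11]), ([2, 0, 2, 2, 0, 3, 0, 2, 0, 2, 0, 3, 0, 2, 2, 0, 2, 2, 0, 2, 2], [], [10, 3, 26, 6, 8, 12, 14, 20, 19, 24, 20, 26, 6, 2, 18, 6, 23, 11, 26, 13, 24, 18, 26, 7, 2, 17, 7, 12, 11, 17, 12, 17, 19, 20, 22, 27, 19, 25, 12, 27, 10, 22, 7, 19, 3, 7, 12, 3, 8, 6, 10, 10, 13, 13, 20, 17, 20, 24, 27, 19, 25, 12, 27, 10, 22, 7, 19, 3, 7, 27, 21, 25, 18, 21, 15, 13, 9, 7, 27, 2, 11])],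
  [([], [], [10, 3, 26, 6, 8, 12, 14, 20, 19, 24, 20, 26, 6, 2, 18, 6, 23, 11, 26, 13, 24, 18, 26, 12, 3, 8, 6, 10, 10, 13, 13, 20, 17, 20, 24, 7, 2, 17, 7, 12, 11, 17, 12, 17, 19, 20, 22, 6, 2, 18, 6, 23, 11, 26, 13, 24, 18, 26, 7, 2, 17, 7, 12, 11, 17, 12, 17, 19, 20, 22, 27, 21, 25, 18, 21, 15, 13, 9, 7, 27, 2, 11]), ([0, 2, 0, 3, 0, 2, 2, 0, 2, 2, 0, 3, 0, 2, 0, 2, 0, 3, 0, 2, 2, 0], [], [10, 3, 26, 6, 8, 12, 14, 20, 19, 24, 20, 26, 7, 2, 17, 7, 12, 11, 17, 12, 17, 19, 20, 22, 27, 19, 25, 12, 27, 10, 22, 7, 19, 3, 7, 7, 2, 17, 7, 12, 11, 17, 12, 17, 19, 20, 22, 12, 3, 8, 6, 10, 10, 13, 13, 20, 17, 20, 24, 27, 19, 25, 12, 27, 10, 22, 7, 19, 3, 7, 27, 21, 25, 18, 21, 15, 13, 9, 7, 27, 2, 11])],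
  [([0, 2, 2, 0, 2, 0, 2, 2, 0, 3, 0, 2], [2, 0, 3, 0, 2, 0, 3, 0, 2, 1, 2, 1, 3, 1, 2, 1, 3], [27, 21, 25, 18, 21, 15, 13, 9, 7, 27, 2, 11]), ([2, 0, 3, 0, 2, 0, 3, 0, 2, 0, 2, 0, 3], [2, 0, 3, 0, 2, 0, 3, 0, 2, 1, 2, 1, 3, 1, 2, 1, 3], [10, 3, 26, 6, 8, 12, 14, 20, 19, 24, 20, 19, 25, 12, 27, 10, 22, 7, 19, 3, 7, 18, 2, 15, 6, 9, 10, 14, 12, 20, 19, 22, 27, 19, 25, 12, 27, 10, 22, 7, 19, 3, 7, 27, 21, 25, 18, 21, 15, 13, 9, 7, 27, 2, 11]), ([0, 3, 0, 3, 0], [2, 0, 3, 0, 2, 0, 3, 0, 2, 1, 2, 1, 3, 1, 2, 1, 3], [10, 3, 26, 6, 8, 12, 14, 20, 19, 24, 20, 26, 6, 2, 18, 6, 23, 11, 26, 13, 24, 18, 26, 18, 2, 15, 6, 9, 10, 14, 12, 20, 19, 22, 6, 2, 18, 6, 23, 11, 26, 13, 24, 18, 26])],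
  [([3], [2, 0, 3, 0, 2, 0, 3, 0, 2, 1, 2, 1, 3, 1, 2, 1, 3], [10, 3, 26, 6, 8, 12, 14, 20, 19, 24, 20, 26, 12, 3, 8, 6, 10, 10, 13, 13, 20, 17, 20, 24, 27, 21, 25, 18, 21, 15, 13, 9, 7, 27, 2, 11]), ([2, 2, 0, 2, 0, 3, 0, 2, 0, 3, 0, 3, 0, 2, 0, 2, 2, 0, 3], [2, 0, 3, 0, 2, 0, 3, 0, 2, 1, 2, 1, 3, 1, 2, 1, 3], [10, 3, 26, 6, 8, 12, 14, 20, 19, 24, 20, 26, 12, 3, 8, 6, 10, 10, 13, 13, 20, 17, 20, 24, 18, 2, 15, 6, 9, 10, 14, 12, 20, 19, 22, 6, 2, 18, 6, 23, 11, 26, 13, 24, 18, 26, 7, 2, 17, 7, 12, 11, 17, 12, 17, 19, 20, 22, 6, 2, 18, 6, 23, 11, 26, 13, 24, 18, 21, 25, 18, 21, 15, 13, 9, 7, 27, 2, 11]), ([2, 2, 0, 3, 0, 2, 0, 2, 2, 0, 2, 2, 0, 2, 2], [2, 0, 3, 0, 2, 0, 3, 0, 2, 1, 2, 1, 3, 1, 2, 1, 3], [10, 3, 26, 6, 8, 12, 14, 20,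 19, 24, 20, 19, 25, 12, 27, 10, 22, 7, 19, 3, 7, 7, 2, 17, 7, 12, 11, 17, 12, 17, 19, 20, 22, 27, 19, 25, 12, 27, 10, 22, 7, 19, 3, 7, 18, 2, 15, 6, 9, 10, 14, 12, 20, 19, 22, 27, 21, 25, 18, 21, 15, 13, 9, 7, 27, 2, 11])],
  [([2, 0, 2, 0, 2, 2, 0, 2, 0, 3, 0, 2, 0, 2, 0, 2, 2, 0, 3], [3, 3, 1, 3, 1, 3, 1, 3, 1, 3, 1, 3, 1, 3, 3, 1, 3, 1, 3, 1], [10, 3, 26, 6, 8, 12, 14, 20, 19, 24, 20, 26, 12, 3, 8, 6, 10, 10, 13, 13, 20, 17, 20, 24, 6, 2, 18, 6, 23, 11, 26, 13, 24, 18, 21, 25, 18, 21, 15, 13, 9, 7, 27, 2, 11]), ([0, 3, 0, 3, 0, 3, 0, 2, 2, 0, 3, 0, 2, 0, 3], [0, 2, 0, 2, 0, 2, 2, 0, 2, 0, 2, 0, 2, 0, 2, 0, 2, 0, 2, 2, 2, 0, 2, 0, 2, 0, 2, 2, 0, 2, 0, 2, 0, 2, 2, 0, 2, 0, 2, 0, 2], [10, 3, 26, 6, 8, 12, 14, 20, 19, 24, 20, 19, 25,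 12, 27, 10, 22, 7, 19, 3, 7, 12, 3, 8, 6, 10, 10, 13, 13, 20, 17, 20, 24, 27, 21, 25, 18, 21, 15, 13, 9, 7, 27, 2, 11]), ([0, 2, 2, 0, 2, 0, 2, 2, 0, 3, 0, 2, 2, 0, 2, 0, 2, 0], [3, 3, 1, 3, 1, 3, 1, 3, 1, 3, 1, 3, 1, 3, 3, 1, 3, 1, 3, 1], [10, 3, 26, 6, 8, 12, 14, 20, 19, 24, 20, 26, 6, 2, 18, 6, 23, 11, 26, 13, 24, 18, 26, 7, 2, 17, 7, 12, 11, 17, 12, 17, 19, 20, 22, 27, 21, 25, 18, 21, 15, 13, 9, 7, 27, 2, 11]), ([2, 0, 2, 0, 2, 0, 2, 2, 0], [0, 2, 0, 2, 0, 2, 2, 0, 2, 0, 2, 0, 2, 0, 2, 0, 2, 0, 2, 2, 2, 0, 2, 0, 2, 0, 2, 2, 0, 2, 0, 2, 0, 2, 2, 0, 2, 0, 2, 0, 2], [10, 3, 26, 6, 8, 12, 14, 20, 19, 24, 20, 26, 7, 2, 17, 7, 12, 11, 17, 12, 17, 19, 20, 22, 18, 2, 15, 6, 9, 10, 14, 12, 20, 19, 22, 12, 3, 8, 6, 10, 10, 13, 13, 20, 17,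 20, 24, 27, 19, 25, 12, 27, 10, 22, 7, 19, 3, 7, 18, 2, 15, 6, 9, 10, 14, 12, 20, 19, 22, 12, 3, 8, 6, 10, 10, 13, 13, 20, 17, 20, 24, 6, 2, 18, 6, 23, 11, 26, 13, 24, 18, 26, 12, 3, 8, 6, 10, 10, 13, 13, 20, 17, 20, 24, 27, 21, 25, 18, 21, 15, 13, 9, 7, 27, 2, 11])]]
/-- rotations -/
def hX : List (ℕ × ℕ × Bool) := [(0, 14, false), (1, 24, false), (2, 26, false), (3, 24, false), (4, 26, false), (5, 60, false), (6, 110, false), (7, 152, false), (8, 154, false), (9, 115, false), (10, 173, false), (11, 245, false)]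
/-- conjugates of relators -/
def LS : List (List Tr) := [[([], [], [18, 2, 6, 12, 11, 26, 13, 19, 25, 27]), ([0, 2, 0, 3], [], [26, 24, 18, 12, 27, 10, 13, 7, 3, 19])],
  [([], [], [2, 0, 2, 0, 2, 0, 2, 0, 3, 0, 2, 1, 2, 1, 3, 1, 3, 1, 3, 1, 3, 18, 2, 6, 12, 11, 26, 13, 19, 25, 27, 2, 0, 2, 0, 2, 0, 2, 0, 3, 0, 2, 1, 2, 1, 3, 1, 3, 1, 3, 1, 3, 18, 2, 6, 12, 11, 26, 13, 19, 25, 27, 2, 0, 2, 0, 2, 0, 2, 0, 3, 0, 2, 1, 2, 1, 3, 1, 3, 1, 3, 1, 3]), ([3, 0, 2, 2, 0, 3, 0, 2, 0, 2, 0, 2, 2], [], [2, 0, 2, 0, 2, 0, 2, 0, 3, 0, 3, 1, 2, 1, 3, 1, 3, 1, 3, 1, 3, 26, 24, 18, 12, 27, 10, 13, 7, 3, 19, 2, 0, 2, 0, 2, 0, 2, 0, 3, 0, 3, 1, 2, 1, 3, 1, 3, 1, 3, 1, 3, 26, 24, 18, 12, 27, 10, 13, 7, 3, 19, 2, 0, 2, 0, 2, 0, 2, 0, 3, 0, 3, 1, 2, 1,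 3, 1, 3, 1, 3, 1, 3])],
  [([0, 3, 0, 2, 0, 2, 2, 0, 3, 0, 3], [2, 0, 3, 0, 2, 0, 3, 0, 2, 1, 2, 1, 3, 1, 2, 1, 3], [27, 21, 25, 18, 21, 15, 13, 9, 7, 27, 2, 11]), ([0, 2, 0, 3, 0, 2, 0, 2, 0, 3], [2, 0, 3, 0, 2, 0, 3, 0, 2, 1, 2, 1, 3, 1, 2, 1, 3], [10, 3, 26, 6, 8, 12, 14, 20, 19, 24, 20, 26, 2, 0, 2, 0, 2, 0, 2, 0, 3, 0, 3, 1, 2, 1, 3, 1, 3, 1, 3, 1, 3, 26, 24, 18, 12, 27, 10, 13, 7, 3, 19, 2, 0, 2, 0, 2, 0, 2, 0, 3, 0, 3, 1, 2, 1, 3, 1, 3, 1, 3, 1, 3, 26, 24, 18, 12, 27, 10, 13, 7, 3, 19, 2, 0, 2, 0, 2, 0, 2, 0, 3, 0, 3, 1, 2, 1, 3, 1, 3, 1, 3, 1, 3, 27, 21, 25, 18, 21, 15, 13, 9, 7, 27, 2, 11]), ([2, 0, 2, 2, 0, 3, 0, 2, 0, 2, 0, 2, 0, 2, 0, 3, 0], [2, 0, 3, 0, 2, 0, 3, 0, 2, 1, 2, 1, 3, 1, 2, 1, 3], [10, 3, 26, 6, 8, 12, 14,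 20, 19, 24, 20, 26, 2, 0, 2, 0, 2, 0, 2, 0, 3, 0, 2, 1, 2, 1, 3, 1, 3, 1, 3, 1, 3, 18, 2, 6, 12, 11, 26, 13, 19, 25, 27, 2, 0, 2, 0, 2, 0, 2, 0, 3, 0, 2, 1, 2, 1, 3, 1, 3, 1, 3, 1, 3, 18, 2, 6, 12, 11, 26, 13, 19, 25, 27, 2, 0, 2, 0, 2, 0, 2, 0, 3, 0, 2, 1, 2, 1, 3, 1, 3, 1, 3, 1, 3])]]
/-- rotations -/
def hS : List (ℕ × ℕ × Bool) := [(0, 22, false), (1, 168, false), (2, 217, false)]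
/-- conjugates of relators -/
def LO : List (List Tr) := [[([], [], [17, 18, 20, 26, 14, 18, 24, 27]), ([1, 2, 1, 2, 2, 2, 1, 2, 0, 2, 0, 2, 2], [], [14, 18, 24, 27, 17, 18, 20, 26])],
  [([], [], [21, 25, 15, 13, 11, 14, 17, 18, 20, 26, 15, 10, 12, 14, 24, 20]), ([1, 3, 3, 3, 0, 2, 2, 2, 1, 3], [], [21, 25, 15, 13, 11, 14, 17, 18, 20, 26, 15, 10, 12, 14, 24, 20])],
  [([], [], [17, 18, 20, 26, 15, 10, 12, 14, 24, 20, 17, 18, 20, 26, 21, 25, 15, 13, 11, 14, 17, 18, 20, 26]), ([2, 1, 2, 2, 2, 1, 3, 3, 3], [], [17, 18, 20, 26, 15, 10, 12, 14, 24, 20, 17, 18, 20, 26, 21, 25, 15, 13, 11, 14, 17, 18, 20, 26])],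
  [([2, 1, 2, 0, 2, 2, 0, 3, 1, 3, 0], [12, 3, 8, 6, 10, 10, 13, 13, 20, 17, 20, 24], [21, 25, 15, 13, 11, 14]), ([0, 3, 1, 3, 3], [12, 3, 8, 6, 10, 10, 13, 13, 20, 17, 20, 24, 18, 2, 15, 6, 9, 10, 14, 12, 20, 19, 22, 12, 3, 8, 6, 10, 10, 13, 13, 20, 17, 20, 24], [15, 10, 12, 14, 24, 20, 17, 18, 20, 26, 15, 10, 12, 14, 24, 20, 14, 18, 24, 27, 15, 10, 12, 14, 24, 20]), ([2, 1, 2, 2, 2, 2, 2, 0], [12, 3, 8, 6, 10, 10, 13, 13, 20, 17, 20, 24, 18, 2, 15, 6, 9, 10, 14, 12, 20, 19, 22], [21, 25, 15, 13, 11, 14, 14, 18, 24, 27, 21, 25, 15, 13, 11, 14, 17, 18, 20, 26])]]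
/-- rotations -/
def hO : List (ℕ × ℕ × Bool) := [(0, 18, false), (1, 34, false), (2, 50, false), (3, 55, false)]
/-- conjugates of relators -/
def LQ : List (List Tr) := [[([], [], [0]), ([0, 2, 0, 3, 3, 0, 2, 2, 0, 2, 2, 2, 0, 3, 0], [], [0])],
  [([], [], [3, 0, 2]), ([1, 2, 0, 3, 3, 3, 3, 1, 3, 1, 2, 2, 2, 2], [], [3, 0, 2])],
  [([], [], [2, 0, 2, 0, 2, 0, 2, 0, 3, 0, 2, 0, 2, 0, 3, 0, 3, 0, 3, 0, 3]), ([0], [], [2, 0, 2, 0, 2, 0, 2, 0, 3, 0, 3, 0, 2, 0, 3, 0, 3, 0, 3, 0, 3])],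
  [([], [], [2, 0, 2, 0, 2, 0, 2, 0, 3, 0, 3, 0, 2, 0, 3, 0, 3, 0, 3, 0, 3]), ([1], [], [2, 0, 2, 0, 2, 0, 2, 0, 3, 0, 2, 0, 2, 0, 3, 0, 3, 0, 3, 0, 3])],
  [([], [], [2, 0, 2, 0, 3, 0, 2, 0, 3, 0, 3, 0, 2, 0, 2, 0, 3, 0, 2, 0, 3, 0, 3]), ([0, 2, 0, 2, 2, 2, 2, 1, 3, 1, 2, 0, 3, 0], [], [2, 0, 2, 0, 3, 0, 2, 0, 3, 0, 3, 0, 2, 0, 2, 0, 3, 0, 2, 0, 3, 0, 3])],
  [([], [], [2, 0, 2, 0, 2, 0, 3, 0, 2, 0, 2, 0, 3, 0, 3, 0, 3, 0, 2, 0, 2, 0, 3, 0, 2, 0, 3]), ([1, 3, 0, 2, 0, 3, 1, 2, 2, 2, 2, 2], [], [2, 0, 3, 0, 2, 0, 3, 0, 3, 0, 2, 0, 2, 0, 2, 0, 3, 0, 3, 0, 2, 0, 3, 0, 3, 0, 3])],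
  [([], [], [2, 0, 2, 0, 3, 0, 2, 0, 2, 0, 2, 0, 3, 0, 2, 0, 2, 0, 2, 0, 2, 0, 2, 0, 3, 0, 3]), ([2, 2, 0, 2, 2, 1, 2, 2, 2, 0, 3, 3, 0], [], [2, 0, 2, 0, 3, 0, 3, 0, 3, 0, 3, 0, 3, 0, 2, 0, 3, 0, 3, 0, 3, 0, 2, 0, 3, 0, 3])],
  [([], [], [2, 0, 2, 0, 3, 0, 3, 0, 2, 0, 2, 0, 2, 0, 3, 0, 3, 0, 3, 0, 2, 0, 2, 0, 3, 0, 3]), ([0, 2, 0, 3, 0, 2, 2, 0, 2, 2, 1, 3, 1, 2, 0], [], [2, 0, 2, 0, 3, 0, 3, 0, 2, 0, 2, 0, 2, 0, 3, 0, 3, 0, 3, 0, 2, 0, 2, 0, 3, 0, 3])],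
  [([3, 3, 3, 3, 3, 0, 3, 1, 3], [12, 3, 8, 6, 10, 10, 13, 13, 20, 17, 20, 24], [3, 0, 3, 0, 2, 0, 3, 0, 2, 0, 3, 0, 3]), ([2, 0, 2, 0, 2, 2, 2, 0, 3], [12, 3, 8, 6, 10, 10, 13, 13, 20, 17, 20, 24, 18, 2, 15, 6, 9, 10, 14, 12, 20, 19, 22, 12, 3, 8, 6, 10, 10, 13, 13, 20, 17, 20, 24], [2, 0, 2, 0, 3, 0, 2, 0, 3, 0, 2, 0, 2, 0, 2, 0, 3, 0, 3, 0, 2, 0, 3]), ([2, 0, 3, 3, 0, 2, 2], [12, 3, 8, 6, 10, 10, 13, 13, 20, 17, 20, 24, 18, 2, 15, 6, 9, 10, 14, 12, 20, 19, 22], [2, 0, 3, 0, 2, 0, 2, 0, 3, 0])],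
  [([0, 3, 3, 3, 0, 2, 1, 2], [17, 18, 20, 26], [3]), ([0, 2, 0, 2, 0, 3], [17, 18, 20, 26], [2]), ([0, 3, 3, 3, 0, 2, 1, 2], [17, 18, 20, 26], [3]), ([0, 2, 0, 2, 0, 3], [17, 18, 20, 26], [2])]]
/-- rotations -/
def hQ : List (ℕ × ℕ × Bool) := [(0, 4, false), (1, 8, false), (2, 44, false), (3, 44, false), (4, 48, false), (5, 56, false), (6, 56, false), (7, 56, false), (8, 49, false), (9, 8, false)]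

end H15.J4
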