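import Cfsg.Agent.H15.J4D
import Cfsg.Agent.H15.J4M
import Cfsg.Agent.H15.Cnt3

/-! The group `XG` of `112 × 112` matrices over the field with 2 elements is simple of the order of `J4`. -/

set_option Elab.async false
set_option maxRecDepth 8000

namespace H15.J4
open H14

/-- relators as pairs -/
def rT : List (Word × Word) := RT.map fun w => (w.reverse, [])
theorem ma0 : J4M.c.rels J4M.ms (List.take 28 (List.drop 0 rA)) = true := by decide +kernel
theorem ma1 : J4M.c.rels J4M.ms (List.take 41 (List.drop 28 rA)) = true := by decide +kernel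
theorem ma2 : J4M.c.rels J4M.ms (List.drop 69 rA) = true := by decide +kernel
theorem mq0 : J4M.c.rels J4M.ms (List.take 79 (List.drop 0 rQ)) = true := by decide +kernel
theorem mq1 : J4M.c.rels J4M.ms (List.drop 79 rQ) = true := by decide +kernel
theorem mt0 : J4M.c.rels J4M.ms (List.drop 0 rT) = true := by decide +kernel
theorem mA : Rels J4M.gen rA := show Rels J4M.gen (List.drop 0 rA) from (rels_td 0 28 28 rfl (BP.rels_of_chk J4M.c_ok J4M.hgen ma0) (rels_td 28 41 69 rfl (BP.rels_of_chk J4M.c_ok J4M.hgen ma1) (BP.rels_of_chk J4M.c_ok J4M.hgen ma2)))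
theorem mQ : RelL J4M.gen RQ := relL_of_rels (show Rels J4M.gen (List.drop 0 rQ) from (rels_td 0 79 79 rfl (BP.rels_of_chk J4M.c_ok J4M.hgen mq0) (BP.rels_of_chk J4M.c_ok J4M.hgen mq1)))
theorem mT0 : Rels J4M.gen (List.drop 0 rT) := BP.rels_of_chk J4M.c_ok J4M.hgen mt0
theorem mT : RelL J4M.gen RT := relL_of_rels (R := RT) (by have h := mT0; rw [List.drop_zero, rT] at h; exact h)
theorem mz0 : J4M.c.rels J4M.ms [(powW zw.reverse 29, [])] = true := by decide +kernel
theorem pw_of {K : Type*} [Group K] {f : ℕ → K} {w : List ℕ} {n : ℕ} (h : Rels f [(powW w.reverse n, [])]) :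
    ev (letter f) w ^ n = 1 := by
  rw [← ev14, ← ev_powW]; exact h _ List.mem_cons_self
theorem mz : ev (letter J4M.gen) zw ^ 29 = 1 := pw_of (BP.rels_of_chk J4M.c_ok J4M.hgen mz0)
theorem mz1 : ev (letter J4M.gen) zw ≠ 1 := fun e => BP.ne_of_fld J4M.c_ok J4M.hgen (u := zw) (v := [0, 1]) 0 0
  (by decide +kernel) (e.trans (RelL.fr (R := []) fa_nil (by decide)).symm)

/-- the matrix group -/
noncomputable abbrev XG := Sw J4M.gen (lts 26)
/-- its generators -/
noncomputable def gx (l : ℕ) : XG := if h : l < 26 then ⟨_, gen_mem_lts J4M.gen h⟩ else 1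
theorem rho_g : ∀ l < 26, XG.subtype (gx l) = J4M.gen l := fun l hl => by rw [gx, dif_pos hl]; rfl
theorem inj : Function.Injective XG.subtype := XG.subtype_injective
theorem top : Sw gx (lts 26) = ⊤ := Subgroup.map_injective inj (by
  rw [map_Sw, ← MonoidHom.range_eq_map, Subgroup.range_subtype]
  exact le_antisymm (lts_le fun l _ => (gx l).2) (lts_le fun l hl => rho_g l hl ▸ gen_mem_lts (fun l => XG.subtype (gx l)) hl))
theorem hy : Hy gx := ⟨Rels.pull inj rho_g mA (by decide +kernel), mQ.pull inj rho_g (by decide +kernel)⟩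
theorem hT : RelL gx RT := mT.pull inj rho_g (by decide +kernel)
theorem mainX : Function.Injective (theta gx) ∧ Function.Injective XG.subtype ∧ (theta gx).range.index = 173067389 ∧
    Nat.card XG = 86775571046077562880 ∧ IsSimpleGroup XG :=
  main hy hT top _ (by rw [map_evL, evL_congr rho_g (by decide)]; exact mz)
    (by rw [map_evL, evL_congr rho_g (by decide)]; exact mz1)

end H15.J4
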