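import Cfsg.Agent.H15.J4HD

/-! Generated certificate (pklite) for the permutation group J4H of degree 17228, order 501397585920, base 0 829 1357 1010. -/
set_option Elab.async false
set_option autoImplicit false
set_option maxRecDepth 100000

namespace H15.J4H
open H14

theorem rc0 : relsChk 17228 nets 15 (idArr 17228 15 15 0) allRels = true := by decide +kernel
theorem lvc3 : (Nat.ble (1010 + 1) 17228 && invChk nets lv4.gens (bit 1010) && Nat.beq (pop 17228 (orbRun nets (List.append lvw3 lv4.gens) lvs3 (bit 1010))) 96) = true := by decide +kernel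
theorem lvc2 : (Nat.ble (1357 + 1) 17228 && invChk nets lv3.gens (bit 1357) && Nat.beq (pop 17228 (orbRun nets (List.append lvw2 lv3.gens) lvs2 (bit 1357))) 1440) = true := by decide +kernel
theorem lvc1 : (Nat.ble (829 + 1) 17228 && invChk nets lv2.gens (bit 829) && Nat.beq (pop 17228 (orbRun nets (List.append lvw1 lv2.gens) lvs1 (bit 829))) 1771) = true := by decide +kernel
theorem lvc0 : (Nat.ble (0 + 1) 17228 && invChk nets lv1.gens (bit 0) && Nat.beq (pop 17228 (orbRun nets (List.append lvw0 lv1.gens) lvs0 (bit 0))) 2048) = true := by decide +kernel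

end H15.J4H
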