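import Cfsg.Agent.H15.Lite6
import Cfsg.Agent.H15.J4HN0

/-! Generated certificate (pklite) for the permutation group J4H of degree 17228, order 501397585920, base 0 829 1357 1010. -/
set_option autoImplicit false
set_option maxRecDepth 100000

namespace H15.J4H
open H14

noncomputable def nets : List Net := [n0, n1, n2, n3, n4, n5, n6, n7, n8, n9, n10, n11, n12, n13, n14, n15, n16, n17, n18, n19, n20, n21, n22, n23, n24, n25, n26, n27, n28, n29, n30]
theorem nets_ok : netsOk 17228 nets = true := List.all_eq_true.2 (fa_cons n0_ok (fa_cons n1_ok (fa_cons n2_ok (fa_cons n3_ok (fa_cons n4_ok (fa_cons n5_ok (fa_cons n6_ok (fa_cons n7_ok (fa_cons n8_ok (fa_cons n9_ok (fa_cons n10_ok (fa_cons n11_ok (fa_cons n12_ok (fa_cons n13_ok (fa_cons n14_ok (fa_cons n15_ok (fa_cons n16_ok (fa_cons n17_ok (fa_cons n18_ok (fa_cons n19_ok (fa_cons n20_ok (fa_cons n21_ok (fa_cons n22_ok (fa_cons n23_ok (fa_cons n24_ok (fa_cons n25_ok (fa_cons n26_ok (fa_cons n27_ok (fa_cons n28_ok (fa_cons n29_ok (fa_cons n30_ok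 (fa_nil))))))))))))))))))))))))))))))))
noncomputable def defs0 : List Word := []
noncomputable def defs2 : List Word := [dw (nat_lit 0x100214070e0414140e), dw (nat_lit 0x0c0d0c1b1a180918), dw (nat_lit 0x04081103180f0a), dw (nat_lit 0x3634363438333534343835), dw (nat_lit 0x33383335333733363736), dw (nat_lit 0x3438343735383633353834)]
noncomputable def defs3 : List Word := []
noncomputable def defs1 : List Word := defs2
noncomputable def defs : List Word := defs0 ++ (defs1 ++ defs3)
noncomputable def relsD : List (Word × Word) := defRels defs 25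
noncomputable def relsS : List (Word × Word) := []
noncomputable def relsE : List (Word × Word) := []
noncomputable def allRels : List (Word × Word) := List.append relsD (List.append relsS relsE)
noncomputable def lv4 : Lv := .nil
noncomputable def lvw3 : List Word := [[nat_lit 56], [nat_lit 58], [nat_lit 60]]
noncomputable def lvs3 : List Word := [dw (nat_lit 0x01), dw (nat_lit 0x03), dw (nat_lit 0x05), dw (nat_lit 0x01), dw (nat_lit 0x03), dw (nat_lit 0x01), dw (nat_lit 0x03), dw (nat_lit 0x01)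
, dw (nat_lit 0x03), dw (nat_lit 0x05)]
noncomputable def lv3 : Lv := .cons 1010 lvw3 lvs3 lv4
noncomputable def lvw2 : List Word := [[nat_lit 52], [nat_lit 54], [nat_lit 50]]
noncomputable def lvs2 : List Word := [dw (nat_lit 0x01), dw (nat_lit 0x03), dw (nat_lit 0x05), dw (nat_lit 0x01), dw (nat_lit 0x07), dw (nat_lit 0x09), dw (nat_lit 0x03), dw (nat_lit 0x05)
, dw (nat_lit 0x01), dw (nat_lit 0x0b), dw (nat_lit 0x09), dw (nat_lit 0x05), dw (nat_lit 0x07), dw (nat_lit 0x01)]
noncomputable def lv2 : Lv := .cons 1357 lvw2 lvs2 lv3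
noncomputable def lvw1 : List Word := [[nat_lit 0], [nat_lit 2], [nat_lit 4], [nat_lit 6], [nat_lit 8], [nat_lit 10], [nat_lit 12], [nat_lit 16], [nat_lit 18], [nat_lit 20], [nat_lit 22], [nat_lit 24], [nat_lit 26], [nat_lit 14]]
noncomputable def lvs1 : List Word := [dw (nat_lit 0x01), dw (nat_lit 0x03), dw (nat_lit 0x07), dw (nat_lit 0x09), dw (nat_lit 0x0b), dw (nat_lit 0x13), dw (nat_lit 0x19), dw (nat_lit 0x23)
, dw (nat_lit 0x0d), dw (nat_lit 0x21), dw (nat_lit 0x03), dw (nat_lit 0x07), dw (nat_lit 0x25), dw (nat_lit 0x01)]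
noncomputable def lv1 : Lv := .cons 829 lvw1 lvs1 lv2
noncomputable def lvw0 : List Word := [[nat_lit 30], [nat_lit 32], [nat_lit 34], [nat_lit 36], [nat_lit 38], [nat_lit 40], [nat_lit 42], [nat_lit 44], [nat_lit 46], [nat_lit 48], [nat_lit 28]]
noncomputable def lvs0 : List Word := [dw (nat_lit 0x01), dw (nat_lit 0x03), dw (nat_lit 0x05), dw (nat_lit 0x07), dw (nat_lit 0x09), dw (nat_lit 0x0b), dw (nat_lit 0x0d), dw (nat_lit 0x0f)
, dw (nat_lit 0x11), dw (nat_lit 0x13), dw (nat_lit 0x15)]
noncomputable def lv0 : Lv := .cons 0 lvw0 lvs0 lv1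

end H15.J4H
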