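import Cfsg.Agent.H14.Dw2

/-! Generated certificate (tools14/pkgen) for the permutation group J4K of degree 77, order 443520, base 0 1 2 4. -/
set_option autoImplicit false
set_option maxRecDepth 100000

namespace H15.J4K
open H14

noncomputable def n0 : Net := (.cons (nat_lit 1) (nat_lit 0x1104155010500451514)
(.cons (nat_lit 2) (nat_lit 0x110013112102033010)
(.cons (nat_lit 4) (nat_lit 0xf0b0a0d04020a0f00)
(.cons (nat_lit 8) (nat_lit 0x2100a1000a0020)
(.cons (nat_lit 16) (nat_lit 0x9acf00000801)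
(.cons (nat_lit 32) (nat_lit 0xba4412c0)
(.cons (nat_lit 64) (nat_lit 0x1ee1)
(.cons (nat_lit 32) (nat_lit 0x17fb)
(.cons (nat_lit 16) (nat_lit 0x7adc000062b1)
(.cons (nat_lit 8) (nat_lit 0x8008a00f20025006a)
(.cons (nat_lit 4) (nat_lit 0x10e0d06080a03070d0f)
(.cons (nat_lit 2) (nat_lit 0x2000210311302010003)
(.cons (nat_lit 1) (nat_lit 0x5401101514501551005)
.nil)))))))))))))
theorem n0_ok : Net.ok 77 n0 = true := by decide +kernel
noncomputable def n1 : Net := (.cons (nat_lit 1) (nat_lit 0x4555445505001550140)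
(.cons (nat_lit 2) (nat_lit 0x2012310230313000031)
(.cons (nat_lit 4) (nat_lit 0x40e040a000f0d0000)
(.cons (nat_lit 8) (nat_lit 0x13001100e400460000)
(.cons (nat_lit 16) (nat_lit 0x783d00001ba0)
(.cons (nat_lit 32) (nat_lit 0x203fc9c9)
(.cons (nat_lit 64) (nat_lit 0x1be9)
(.cons (nat_lit 32) (nat_lit 0x1041)
(.cons (nat_lit 16) (nat_lit 0xb51b00009cf9)
(.cons (nat_lit 8) (nat_lit 0xb000a004d00a9007c)
(.cons (nat_lit 4) (nat_lit 0x10f04000f0007010b0d)
(.cons (nat_lit 2) (nat_lit 0x3033023200123333301)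
(.cons (nat_lit 1) (nat_lit 0x4040445404140451455)
.nil)))))))))))))
theorem n1_ok : Net.ok 77 n1 = true := by decide +kernel
noncomputable def n2 : Net := (.cons (nat_lit 1) (nat_lit 0x5051010554411411110)
(.cons (nat_lit 2) (nat_lit 0x1103033013232203211)
(.cons (nat_lit 4) (nat_lit 0x1070f04020a0f0f0200)
(.cons (nat_lit 8) (nat_lit 0x1d0029008600840020)
(.cons (nat_lit 16) (nat_lit 0x13b800001c69)
(.cons (nat_lit 32) (nat_lit 0x356d0d5a)
(.cons (nat_lit 64) (nat_lit 0x1fff)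
(.cons (nat_lit 32) (nat_lit 0x6db)
(.cons (nat_lit 16) (nat_lit 0x4a1300005fe1)
(.cons (nat_lit 8) (nat_lit 0x8004d006e00ef00f8)
(.cons (nat_lit 4) (nat_lit 0x1090a0c070b0d050a02)
(.cons (nat_lit 2) (nat_lit 0x3230222221002211303)
(.cons (nat_lit 1) (nat_lit 0x5014450104041044550)
.nil)))))))))))))
theorem n2_ok : Net.ok 77 n2 = true := by decide +kernel
noncomputable def n3 : Net := (.cons (nat_lit 1) (nat_lit 0x4010041041550115441)
(.cons (nat_lit 2) (nat_lit 0x2320012003300221101)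
(.cons (nat_lit 4) (nat_lit 0xf0c090a040c030100)
(.cons (nat_lit 8) (nat_lit 0x4004f000800a80000)
(.cons (nat_lit 16) (nat_lit 0x48b300000058)
(.cons (nat_lit 32) (nat_lit 0x93244b31)
(.cons (nat_lit 64) (nat_lit 0x1fff)
(.cons (nat_lit 32) (nat_lit 0x5c2)
(.cons (nat_lit 16) (nat_lit 0x95f0000f5a5)
(.cons (nat_lit 8) (nat_lit 0x500f0009b007d0062)
(.cons (nat_lit 4) (nat_lit 0x102000d090f0802040d)
(.cons (nat_lit 2) (nat_lit 0x11331001323013111)
(.cons (nat_lit 1) (nat_lit 0x4544100051055154101)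
.nil)))))))))))))
theorem n3_ok : Net.ok 77 n3 = true := by decide +kernel
noncomputable def n4 : Net := (.cons (nat_lit 1) (nat_lit 0x55155455404101400)
(.cons (nat_lit 2) (nat_lit 0x22231203331001030)
(.cons (nat_lit 4) (nat_lit 0xc0c0b090f01060300)
(.cons (nat_lit 8) (nat_lit 0x4008100c600a30000)
(.cons (nat_lit 16) (nat_lit 0x4cae00000020)
(.cons (nat_lit 32) (nat_lit 0x51a68628)
(.cons (nat_lit 64) (nat_lit 0x628)
(.cons (nat_lit 32) (nat_lit 0xf28)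
(.cons (nat_lit 16) (nat_lit 0x176900006936)
(.cons (nat_lit 8) (nat_lit 0x1200bb00df00d6000e)
(.cons (nat_lit 4) (nat_lit 0x1030e090c060d060704)
(.cons (nat_lit 2) (nat_lit 0x2020000102222302302)
(.cons (nat_lit 1) (nat_lit 0x1001511444414145054)
.nil)))))))))))))
theorem n4_ok : Net.ok 77 n4 = true := by decide +kernel
noncomputable def n5 : Net := (.cons (nat_lit 1) (nat_lit 0x1454141111505000415)
(.cons (nat_lit 2) (nat_lit 0x1330030232230220300)
(.cons (nat_lit 4) (nat_lit 0xc090f0e010b0e0400)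
(.cons (nat_lit 8) (nat_lit 0x400ac002700780000)
(.cons (nat_lit 16) (nat_lit 0x670800000400)
(.cons (nat_lit 32) (nat_lit 0xf50e840a)
(.cons (nat_lit 64) (nat_lit 0x40a)
(.cons (nat_lit 32) (nat_lit 0x6ea)
(.cons (nat_lit 16) (nat_lit 0xff7b0000c31c)
(.cons (nat_lit 8) (nat_lit 0x11000c0054008f0010)
(.cons (nat_lit 4) (nat_lit 0xb000c04090903060d)
(.cons (nat_lit 2) (nat_lit 0x2012231010101102120)
(.cons (nat_lit 1) (nat_lit 0x5454045415410410545)
.nil)))))))))))))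
theorem n5_ok : Net.ok 77 n5 = true := by decide +kernel
noncomputable def n6 : Net := (.cons (nat_lit 1) (nat_lit 0x5400145500540100410)
(.cons (nat_lit 2) (nat_lit 0x1011312211101023030)
(.cons (nat_lit 4) (nat_lit 0x1040e090400060c0004)
(.cons (nat_lit 8) (nat_lit 0x800350016005d0080)
(.cons (nat_lit 16) (nat_lit 0x3bf800000000)
(.cons (nat_lit 32) (nat_lit 0xc61828f0)
(.cons (nat_lit 64) (nat_lit 0x8f0)
(.cons (nat_lit 32) (nat_lit 0x1df0)
(.cons (nat_lit 16) (nat_lit 0xcad9000053dc)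
(.cons (nat_lit 8) (nat_lit 0xf006600ef000f0014)
(.cons (nat_lit 4) (nat_lit 0x10b010b08080c0800)
(.cons (nat_lit 2) (nat_lit 0x100032133203012210)
(.cons (nat_lit 1) (nat_lit 0x454414550110141410)
.nil)))))))))))))
theorem n6_ok : Net.ok 77 n6 = true := by decide +kernel
noncomputable def n7 : Net := (.cons (nat_lit 1) (nat_lit 0x450014454050041510)
(.cons (nat_lit 2) (nat_lit 0x3300222032320202030)
(.cons (nat_lit 4) (nat_lit 0x20c060f0b08050208)
(.cons (nat_lit 8) (nat_lit 0x10043004700e20080)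
(.cons (nat_lit 16) (nat_lit 0x9fa200000900)
(.cons (nat_lit 32) (nat_lit 0x8d1f49a0)
(.cons (nat_lit 64) (nat_lit 0x9a0)
(.cons (nat_lit 32) (nat_lit 0x1b28)
(.cons (nat_lit 16) (nat_lit 0x8d670000d9bc)
(.cons (nat_lit 8) (nat_lit 0x1100d3004b00410028)
(.cons (nat_lit 4) (nat_lit 0x10c0d00070e07030100)
(.cons (nat_lit 2) (nat_lit 0x3120210300001313010)
(.cons (nat_lit 1) (nat_lit 0x4401550405511504110)
.nil)))))))))))))
theorem n7_ok : Net.ok 77 n7 = true := by decide +kernel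
noncomputable def n8 : Net := (.cons (nat_lit 1) (nat_lit 0x5551440015501510500)
(.cons (nat_lit 2) (nat_lit 0x2102001110222331000)
(.cons (nat_lit 4) (nat_lit 0x10e0a000e080c040e08)
(.cons (nat_lit 8) (nat_lit 0xfa008400920040)
(.cons (nat_lit 16) (nat_lit 0x86c600000044)
(.cons (nat_lit 32) (nat_lit 0xe44800c6)
(.cons (nat_lit 64) (nat_lit 0xc6)
(.cons (nat_lit 32) (nat_lit 0x2c2)
(.cons (nat_lit 16) (nat_lit 0x48fa00009a64)
(.cons (nat_lit 8) (nat_lit 0x1c0003009200680038)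
(.cons (nat_lit 4) (nat_lit 0x1050a08050f06050008)
(.cons (nat_lit 2) (nat_lit 0x3203112133321113220)
(.cons (nat_lit 1) (nat_lit 0x440541410015041410)
.nil)))))))))))))
theorem n8_ok : Net.ok 77 n8 = true := by decide +kernel
noncomputable def nets : List Net := [n0, n1, n2, n3, n4, n5, n6, n7, n8]
theorem nets_ok : netsOk 77 nets = true := List.all_eq_true.2 (fa_cons n0_ok (fa_cons n1_ok (fa_cons n2_ok (fa_cons n3_ok (fa_cons n4_ok (fa_cons n5_ok (fa_cons n6_ok (fa_cons n7_ok (fa_cons n8_ok (fa_nil))))))))))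
noncomputable def ws4 : List Word := []
noncomputable def lev3 : Level := ⟨nat_lit 4,
[⟨[nat_lit 16], [], [],
[⟨nat_lit 0, [], nat_lit 1, [], []⟩,
⟨nat_lit 1, [], nat_lit 2, [], []⟩,
⟨nat_lit 2, [], nat_lit 0, [], []⟩],
[]⟩],
[⟨dw (nat_lit 0x01), (nat_lit 0x4000), [], .nil, []⟩,
⟨dw (nat_lit 0x02), (nat_lit 0x20000000), [], .nil, []⟩]⟩
noncomputable def ex3 : List Word := []
noncomputable def ws3 : List Word := List.append ex3 (lev3.gens ws4)
noncomputable def rels3 : List (Word × Word) := List.append (lev3.rels ws4) (memRels (lev3.gens ws4) ex3 [])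
noncomputable def lev2 : Level := ⟨nat_lit 2,
[⟨[nat_lit 12], [], [],
[⟨nat_lit 0, [], nat_lit 1, [], []⟩,
⟨nat_lit 1, [], nat_lit 3, [], []⟩,
⟨nat_lit 2, [], nat_lit 0, [], []⟩,
⟨nat_lit 3, [], nat_lit 2, [], []⟩,
⟨nat_lit 4, [], nat_lit 8, dw (nat_lit 0x01), dw (nat_lit 0x02)⟩,
⟨nat_lit 5, [], nat_lit 1, dw (nat_lit 0x01), []⟩,
⟨nat_lit 6, [], nat_lit 9, dw (nat_lit 0x02), dw (nat_lit 0x02)⟩,
⟨nat_lit 7, [], nat_lit 9, dw (nat_lit 0x01), dw (nat_lit 0x02)⟩,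
⟨nat_lit 8, [], nat_lit 3, dw (nat_lit 0x02), dw (nat_lit 0x02)⟩,
⟨nat_lit 9, [], nat_lit 3, dw (nat_lit 0x01), []⟩,
⟨nat_lit 10, [], nat_lit 6, dw (nat_lit 0x01), dw (nat_lit 0x02)⟩,
⟨nat_lit 11, [], nat_lit 7, dw (nat_lit 0x02), []⟩,
⟨nat_lit 1, dw (nat_lit 0x01), nat_lit 4, [], []⟩,
⟨nat_lit 1, dw (nat_lit 0x02), nat_lit 6, [], []⟩,
⟨nat_lit 2, dw (nat_lit 0x01), nat_lit 7, [], []⟩,
⟨nat_lit 2, dw (nat_lit 0x02), nat_lit 7, dw (nat_lit 0x01), dw (nat_lit 0x01)⟩,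
⟨nat_lit 3, dw (nat_lit 0x01), nat_lit 8, [], []⟩,
⟨nat_lit 3, dw (nat_lit 0x02), nat_lit 9, [], dw (nat_lit 0x01)⟩,
⟨nat_lit 4, dw (nat_lit 0x01), nat_lit 2, dw (nat_lit 0x02), dw (nat_lit 0x02)⟩,
⟨nat_lit 4, dw (nat_lit 0x02), nat_lit 10, [], []⟩,
⟨nat_lit 5, dw (nat_lit 0x01), nat_lit 1, dw (nat_lit 0x02), dw (nat_lit 0x02)⟩,
⟨nat_lit 5, dw (nat_lit 0x02), nat_lit 11, [], []⟩,
⟨nat_lit 6, dw (nat_lit 0x01), nat_lit 10, dw (nat_lit 0x01), dw (nat_lit 0x02)⟩,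
⟨nat_lit 6, dw (nat_lit 0x02), nat_lit 2, dw (nat_lit 0x01), dw (nat_lit 0x01)⟩,
⟨nat_lit 7, dw (nat_lit 0x01), nat_lit 8, dw (nat_lit 0x02), dw (nat_lit 0x01)⟩,
⟨nat_lit 7, dw (nat_lit 0x02), nat_lit 10, dw (nat_lit 0x02), dw (nat_lit 0x02)⟩,
⟨nat_lit 8, dw (nat_lit 0x01), nat_lit 5, [], dw (nat_lit 0x01)⟩,
⟨nat_lit 8, dw (nat_lit 0x02), nat_lit 4, dw (nat_lit 0x01), dw (nat_lit 0x02)⟩,
⟨nat_lit 9, dw (nat_lit 0x01), nat_lit 6, dw (nat_lit 0x02), []⟩,
⟨nat_lit 9, dw (nat_lit 0x02), nat_lit 5, dw (nat_lit 0x01), dw (nat_lit 0x02)⟩,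
⟨nat_lit 10, dw (nat_lit 0x01), nat_lit 4, dw (nat_lit 0x02), dw (nat_lit 0x02)⟩,
⟨nat_lit 10, dw (nat_lit 0x02), nat_lit 5, dw (nat_lit 0x02), dw (nat_lit 0x01)⟩],
[]⟩],
[⟨dw (nat_lit 0x01), (nat_lit 0x80002000010000), [dw (nat_lit 0x01), dw (nat_lit 0x01)], .nil, []⟩,
⟨dw (nat_lit 0x02), (nat_lit 0x40004200000000), [dw (nat_lit 0x01), dw (nat_lit 0x01)], .nil, []⟩,
⟨dw (nat_lit 0x0101), (nat_lit 0x380), [dw (nat_lit 0x01), dw (nat_lit 0x01)], .nil, []⟩,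
⟨dw (nat_lit 0x010301), (nat_lit 0x200000840000000), [dw (nat_lit 0x01), dw (nat_lit 0x01)], .nil, []⟩,
⟨dw (nat_lit 0x020301), (nat_lit 0x480400000000), [dw (nat_lit 0x01), dw (nat_lit 0x01)], .nil, []⟩,
⟨dw (nat_lit 0x010401), (nat_lit 0x10080400), [dw (nat_lit 0x01), dw (nat_lit 0x01)], .nil, []⟩,
⟨dw (nat_lit 0x010302), (nat_lit 0x102000080000000), [dw (nat_lit 0x01), dw (nat_lit 0x01)], .nil, []⟩,
⟨dw (nat_lit 0x01030101), (nat_lit 0x20004010), [dw (nat_lit 0x01), dw (nat_lit 0x01)], .nil, []⟩,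
⟨dw (nat_lit 0x02030101), (nat_lit 0xa020000), [dw (nat_lit 0x01), dw (nat_lit 0x01)], .nil, []⟩,
⟨dw (nat_lit 0x0104010301), (nat_lit 0x100001800), [dw (nat_lit 0x01), dw (nat_lit 0x01)], .nil, []⟩,
⟨dw (nat_lit 0x0104020301), (nat_lit 0x8), [], (.cons (nat_lit 4) [dw (nat_lit 0x01)] [dw (nat_lit 0x01), dw (nat_lit 0x01)]
.nil), [dw (nat_lit 0x02)]⟩]⟩
noncomputable def ex2 : List Word := [[nat_lit 14]]
noncomputable def ws2 : List Word := List.append ex2 (lev2.gens ws3)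
noncomputable def rels2 : List (Word × Word) := List.append (lev2.rels ws3) (memRels (lev2.gens ws3) ex2 [dw (nat_lit 0x0103)])
noncomputable def lev1 : Level := ⟨nat_lit 1,
[⟨[nat_lit 8], [dw (nat_lit 0x03), dw (nat_lit 0x0202050405)], [dw (nat_lit 0x0106), dw (nat_lit 0x05030205)],
[⟨nat_lit 0, [], nat_lit 1, [], []⟩,
⟨nat_lit 1, [], nat_lit 0, [], dw (nat_lit 0x0106)⟩,
⟨nat_lit 2, [], nat_lit 1, dw (nat_lit 0x0301), []⟩,
⟨nat_lit 3, [], nat_lit 1, dw (nat_lit 0x0501), dw (nat_lit 0x030106)⟩,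
⟨nat_lit 4, [], nat_lit 1, dw (nat_lit 0x060301), dw (nat_lit 0x04)⟩,
⟨nat_lit 1, dw (nat_lit 0x01), nat_lit 2, [], []⟩,
⟨nat_lit 2, dw (nat_lit 0x01), nat_lit 2, dw (nat_lit 0x0602), dw (nat_lit 0x030101)⟩,
⟨nat_lit 2, dw (nat_lit 0x06), nat_lit 3, dw (nat_lit 0x0103), dw (nat_lit 0x0402)⟩,
⟨nat_lit 3, dw (nat_lit 0x01), nat_lit 2, dw (nat_lit 0x0603), dw (nat_lit 0x05030106)⟩,
⟨nat_lit 4, dw (nat_lit 0x01), nat_lit 3, dw (nat_lit 0x0101), dw (nat_lit 0x010402)⟩,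
⟨nat_lit 1, dw (nat_lit 0x0101), nat_lit 3, [], []⟩,
⟨nat_lit 2, dw (nat_lit 0x030104), nat_lit 2, dw (nat_lit 0x05), dw (nat_lit 0x03030206)⟩,
⟨nat_lit 3, dw (nat_lit 0x0101), nat_lit 4, dw (nat_lit 0x05), dw (nat_lit 0x04060101)⟩,
⟨nat_lit 1, dw (nat_lit 0x060301), nat_lit 4, [], []⟩],
[dw (nat_lit 0x01), dw (nat_lit 0x0202), dw (nat_lit 0x03)]⟩],
[⟨dw (nat_lit 0x01), (nat_lit 0x203c04960004100000), [dw (nat_lit 0x01), dw (nat_lit 0x05), dw (nat_lit 0x01), dw (nat_lit 0x01), dw (nat_lit 0x01)], (.cons (nat_lit 2) [dw (nat_lit 0x03), dw (nat_lit 0x0202050405)] [dw (nat_lit 0x01), dw (nat_lit 0x0101), dw (nat_lit 0x03)]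
.nil), [dw (nat_lit 0x0106), dw (nat_lit 0x02050105)]⟩,
⟨dw (nat_lit 0x010301), (nat_lit 0x3c2486ffa0b5f9c), [dw (nat_lit 0x01), dw (nat_lit 0x03), dw (nat_lit 0x05), dw (nat_lit 0x01), dw (nat_lit 0x03), dw (nat_lit 0x01), dw (nat_lit 0x01), dw (nat_lit 0x01)
], (.cons (nat_lit 2) [dw (nat_lit 0x06010501)] [dw (nat_lit 0x01), dw (nat_lit 0x01)]
.nil), [dw (nat_lit 0x040205)]⟩,
⟨dw (nat_lit 0x01030301), (nat_lit 0x2821900064a040), [dw (nat_lit 0x01), dw (nat_lit 0x03), dw (nat_lit 0x01), dw (nat_lit 0x05), dw (nat_lit 0x01)], (.cons (nat_lit 2) [dw (nat_lit 0x0303), dw (nat_lit 0x06010402), dw (nat_lit 0x010306020206)] [dw (nat_lit 0x01), dw (nat_lit 0x03), dw (nat_lit 0x05)]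
.nil), [dw (nat_lit 0x030106), dw (nat_lit 0x0302050105), dw (nat_lit 0x01030105)]⟩,
⟨dw (nat_lit 0x0108050301), (nat_lit 0x1800020), [dw (nat_lit 0x01), dw (nat_lit 0x03)], (.cons (nat_lit 2) [dw (nat_lit 0x03), dw (nat_lit 0x0604060303), dw (nat_lit 0x060301)] [dw (nat_lit 0x01), dw (nat_lit 0x0101), dw (nat_lit 0x05), dw (nat_lit 0x03), dw (nat_lit 0x01), dw (nat_lit 0x03)]
.nil), [dw (nat_lit 0x04), dw (nat_lit 0x03010405), dw (nat_lit 0x05030105)]⟩]⟩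
noncomputable def ex1 : List Word := [[nat_lit 10]]
noncomputable def ws1 : List Word := List.append ex1 (lev1.gens ws2)
noncomputable def rels1 : List (Word × Word) := List.append (lev1.rels ws2) (memRels (lev1.gens ws2) ex1 [dw (nat_lit 0x07010301030607)])
noncomputable def lev0 : Level := ⟨nat_lit 0,
[⟨[nat_lit 4], [dw (nat_lit 0x0107), dw (nat_lit 0x08090707), dw (nat_lit 0x0a050508)], [dw (nat_lit 0x020402070505), dw (nat_lit 0x0503070609), dw (nat_lit 0x050401050a)],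
[⟨nat_lit 0, [], nat_lit 1, [], []⟩,
⟨nat_lit 1, [], nat_lit 2, [], []⟩,
⟨nat_lit 2, [], nat_lit 1, dw (nat_lit 0x0501), dw (nat_lit 0x0702)⟩,
⟨nat_lit 1, dw (nat_lit 0x02), nat_lit 0, [], dw (nat_lit 0x010505)⟩,
⟨nat_lit 2, dw (nat_lit 0x04), nat_lit 2, dw (nat_lit 0x0804), dw (nat_lit 0x010a02090509)⟩],
[dw (nat_lit 0x01), dw (nat_lit 0x03), dw (nat_lit 0x01), dw (nat_lit 0x03), dw (nat_lit 0x01), dw (nat_lit 0x01), dw (nat_lit 0x03), dw (nat_lit 0x01)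
, dw (nat_lit 0x03), dw (nat_lit 0x01)]⟩],
[⟨dw (nat_lit 0x01), (nat_lit 0x1fdfc011000000000000), [dw (nat_lit 0x01), dw (nat_lit 0x03), dw (nat_lit 0x05), dw (nat_lit 0x07), dw (nat_lit 0x01)], (.cons (nat_lit 1) [dw (nat_lit 0x0107)] [dw (nat_lit 0x01), dw (nat_lit 0x01), dw (nat_lit 0x03), dw (nat_lit 0x05), dw (nat_lit 0x01), dw (nat_lit 0x01), dw (nat_lit 0x03), dw (nat_lit 0x05)
, dw (nat_lit 0x01)]
(.cons (nat_lit 2) [dw (nat_lit 0x070508), dw (nat_lit 0x0a050a06)] [dw (nat_lit 0x01), dw (nat_lit 0x03), dw (nat_lit 0x01), dw (nat_lit 0x01)]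
.nil)), [dw (nat_lit 0x0401080a060a), dw (nat_lit 0x0307060905), dw (nat_lit 0x09020609050a)]⟩,
⟨dw (nat_lit 0x0101), (nat_lit 0x203feefffffffffffe), [dw (nat_lit 0x01), dw (nat_lit 0x03), dw (nat_lit 0x05), dw (nat_lit 0x01), dw (nat_lit 0x03), dw (nat_lit 0x07), dw (nat_lit 0x01), dw (nat_lit 0x05)
], (.cons (nat_lit 1) [dw (nat_lit 0x02040502)] [dw (nat_lit 0x01), dw (nat_lit 0x03), dw (nat_lit 0x01), dw (nat_lit 0x03), dw (nat_lit 0x01), dw (nat_lit 0x03), dw (nat_lit 0x01), dw (nat_lit 0x03)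
, dw (nat_lit 0x03), dw (nat_lit 0x01)]
(.cons (nat_lit 2) [dw (nat_lit 0x0a0507)] [dw (nat_lit 0x01), dw (nat_lit 0x01)]
.nil)), [dw (nat_lit 0x0a0104010508), dw (nat_lit 0x010a02080a0509)]⟩]⟩
noncomputable def ex0 : List Word := [[nat_lit 6]]
noncomputable def ws0 : List Word := List.append ex0 (lev0.gens ws1)
noncomputable def rels0 : List (Word × Word) := List.append (lev0.rels ws1) (memRels (lev0.gens ws1) ex0 [dw (nat_lit 0x050103030c07070b)])
noncomputable def prim0 : List (List Word) := [[dw (nat_lit 0x01), dw (nat_lit 0x0101), dw (nat_lit 0x03), dw (nat_lit 0x09), dw (nat_lit 0x01), dw (nat_lit 0x05), dw (nat_lit 0x01), dw (nat_lit 0x07)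
, dw (nat_lit 0x05)],
[dw (nat_lit 0x01), dw (nat_lit 0x03), dw (nat_lit 0x05), dw (nat_lit 0x07), dw (nat_lit 0x03), dw (nat_lit 0x05), dw (nat_lit 0x09), dw (nat_lit 0x03)
, dw (nat_lit 0x01), dw (nat_lit 0x07), dw (nat_lit 0x03)]]
noncomputable def rels : List (Word × Word) := List.append rels0 (List.append rels1 (List.append rels2 (List.append rels3 ([]))))
noncomputable def defs : List Word := [dw (nat_lit 0x0103), dw (nat_lit 0x040101030203), dw (nat_lit 0x07060707070705080808), dw (nat_lit 0x07070606060706070607060706), dw (nat_lit 0x0909), dw (nat_lit 0x0a0b0a0c0c0c0a0a0b0909), dw (nat_lit 0x0f0d100d0d0d0d0f0f0d0f0f)]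
noncomputable def relsD : List (Word × Word) := defRels defs 2
noncomputable def relsO : List (Word × Word) := memRels ws0 (lets 2) [dw (nat_lit 0x0a010106060a0e0a0e), dw (nat_lit 0x020d0406060a0c)]
noncomputable def zc : Word := dw (nat_lit 0x0b020407060e09090d)
noncomputable def relsS : List (Word × Word) := List.append [(powW [2 * 2] 11, [])] [([2 * (2 + 1)], conjW [2 * 2] (flat ws0 zc))]
noncomputable def allRels : List (Word × Word) := List.append rels (List.append relsD (List.append relsO relsS))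
theorem chk3 : lev3.chk 77 nets ws4 1 3 = true := by decide +kernel
theorem chk2 : lev2.chk 77 nets ws3 3 96 = true := by decide +kernel
theorem chk1 : lev1.chk 77 nets ws2 96 5760 = true := by decide +kernel
theorem primc0 : PM.primChk nets ws1 lev0 lev0.sos prim0 = true := by decide +kernel
theorem chk0 : lev0.chk 77 nets ws1 5760 443520 = true := by decide +kernel
theorem rc0 : relsChk 77 nets 7 (idArr 77 7 7 0) allRels = true := by decide +kernel
section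
variable {Γ Ω : Type*} [Group Γ] [MulAction Γ Ω] (M : PM Γ Ω 77 nets)

theorem all_ok (hs : M.Sep 7 (idArr 77 7 7 0)) : Rels M.gen allRels := (M.rels_of_chk hs rc0)
theorem sep [FaithfulSMul Γ Ω] : M.Sep 7 (idArr 77 7 7 0) := M.sep_idArr (by decide)
theorem all_ok' [FaithfulSMul Γ Ω] : Rels M.gen allRels := all_ok M (sep M)
theorem rels_of_all {gen : ℕ → Γ} (h : Rels gen allRels) : Rels gen rels := Rels.left h
theorem relsD_of_all {gen : ℕ → Γ} (h : Rels gen allRels) : Rels gen relsD := Rels.left (Rels.right h)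
theorem relsO_of_all {gen : ℕ → Γ} (h : Rels gen allRels) : Rels gen relsO := Rels.left (Rels.right (Rels.right h))
theorem relsS_of_all {gen : ℕ → Γ} (h : Rels gen allRels) : Rels gen relsS := Rels.right (Rels.right (Rels.right h))
theorem card4 (_hR : Rels M.gen rels) : Nat.card (sub M.gen ws4) = 1 := M.card_nil
theorem fixw4 (_hR : Rels M.gen rels) : M.FixTriv ws4 [] := M.fixTriv_nil
theorem r3 (hR : Rels M.gen rels) : Rels M.gen rels3 := (Rels.left (Rels.right (Rels.right (Rels.right hR))))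
theorem res3 (hR : Rels M.gen rels) : M.LevelRes ws4 lev3 3 := M.level (card4 M hR) chk3 (Rels.left (r3 M hR))
theorem ext3 (hR : Rels M.gen rels) : sub M.gen ws3 = sub M.gen (lev3.gens ws4) := sub_extend (Rels.right (r3 M hR))
theorem card3 (hR : Rels M.gen rels) : Nat.card (sub M.gen ws3) = 3 := by rw [ext3 M hR]; exact (res3 M hR).card
theorem fix3 (hR : Rels M.gen rels) : M.FixTriv (lev3.gens ws4) [4] := (res3 M hR).fixTriv M (fixw4 M hR)
theorem fixw3 (hR : Rels M.gen rels) : M.FixTriv ws3 [4] := fun g hg => fix3 M hR g (ext3 M hR ▸ hg)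
theorem stab3 (hR : Rels M.gen rels) : sub M.gen ws3 ⊓ MulAction.stabilizer Γ (M.dec 4) = sub M.gen ws4 := by rw [ext3 M hR]; exact (res3 M hR).stab
theorem orb3 (hR : Rels M.gen rels) (y : Ω) : y ∈ M.S lev3.orb ↔ ∃ g ∈ sub M.gen ws3, g • M.dec 4 = y := by rw [ext3 M hR]; exact (res3 M hR).orb y
theorem r2 (hR : Rels M.gen rels) : Rels M.gen rels2 := (Rels.left (Rels.right (Rels.right hR)))
theorem res2 (hR : Rels M.gen rels) : M.LevelRes ws3 lev2 96 := M.level (card3 M hR) chk2 (Rels.left (r2 M hR))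
theorem ext2 (hR : Rels M.gen rels) : sub M.gen ws2 = sub M.gen (lev2.gens ws3) := sub_extend (Rels.right (r2 M hR))
theorem card2 (hR : Rels M.gen rels) : Nat.card (sub M.gen ws2) = 96 := by rw [ext2 M hR]; exact (res2 M hR).card
theorem fix2 (hR : Rels M.gen rels) : M.FixTriv (lev2.gens ws3) [2, 4] := (res2 M hR).fixTriv M (fixw3 M hR)
theorem fixw2 (hR : Rels M.gen rels) : M.FixTriv ws2 [2, 4] := fun g hg => fix2 M hR g (ext2 M hR ▸ hg)
theorem stab2 (hR : Rels M.gen rels) : sub M.gen ws2 ⊓ MulAction.stabilizer Γ (M.dec 2) = sub M.gen ws3 := by rw [ext2 M hR]; exact (res2 M hR).stab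
theorem orb2 (hR : Rels M.gen rels) (y : Ω) : y ∈ M.S lev2.orb ↔ ∃ g ∈ sub M.gen ws2, g • M.dec 2 = y := by rw [ext2 M hR]; exact (res2 M hR).orb y
theorem r1 (hR : Rels M.gen rels) : Rels M.gen rels1 := (Rels.left (Rels.right hR))
theorem res1 (hR : Rels M.gen rels) : M.LevelRes ws2 lev1 5760 := M.level (card2 M hR) chk1 (Rels.left (r1 M hR))
theorem ext1 (hR : Rels M.gen rels) : sub M.gen ws1 = sub M.gen (lev1.gens ws2) := sub_extend (Rels.right (r1 M hR))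
theorem card1 (hR : Rels M.gen rels) : Nat.card (sub M.gen ws1) = 5760 := by rw [ext1 M hR]; exact (res1 M hR).card
theorem fix1 (hR : Rels M.gen rels) : M.FixTriv (lev1.gens ws2) [1, 2, 4] := (res1 M hR).fixTriv M (fixw2 M hR)
theorem fixw1 (hR : Rels M.gen rels) : M.FixTriv ws1 [1, 2, 4] := fun g hg => fix1 M hR g (ext1 M hR ▸ hg)
theorem stab1 (hR : Rels M.gen rels) : sub M.gen ws1 ⊓ MulAction.stabilizer Γ (M.dec 1) = sub M.gen ws2 := by rw [ext1 M hR]; exact (res1 M hR).stab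
theorem orb1 (hR : Rels M.gen rels) (y : Ω) : y ∈ M.S lev1.orb ↔ ∃ g ∈ sub M.gen ws1, g • M.dec 1 = y := by rw [ext1 M hR]; exact (res1 M hR).orb y
theorem r0 (hR : Rels M.gen rels) : Rels M.gen rels0 := (Rels.left hR)
theorem res0 (hR : Rels M.gen rels) : M.LevelRes ws1 lev0 443520 := M.level (card1 M hR) chk0 (Rels.left (r0 M hR))
theorem ext0 (hR : Rels M.gen rels) : sub M.gen ws0 = sub M.gen (lev0.gens ws1) := sub_extend (Rels.right (r0 M hR))
theorem card0 (hR : Rels M.gen rels) : Nat.card (sub M.gen ws0) = 443520 := by rw [ext0 M hR]; exact (res0 M hR).card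
theorem fix0 (hR : Rels M.gen rels) : M.FixTriv (lev0.gens ws1) [0, 1, 2, 4] := (res0 M hR).fixTriv M (fixw1 M hR)
theorem fixw0 (hR : Rels M.gen rels) : M.FixTriv ws0 [0, 1, 2, 4] := fun g hg => fix0 M hR g (ext0 M hR ▸ hg)
theorem stab0 (hR : Rels M.gen rels) : sub M.gen ws0 ⊓ MulAction.stabilizer Γ (M.dec 0) = sub M.gen ws1 := by rw [ext0 M hR]; exact (res0 M hR).stab
theorem orb0 (hR : Rels M.gen rels) (y : Ω) : y ∈ M.S lev0.orb ↔ ∃ g ∈ sub M.gen ws0, g • M.dec 0 = y := by rw [ext0 M hR]; exact (res0 M hR).orb y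
theorem max0 (hR : Rels M.gen rels) (X : Subgroup Γ) (h1 : sub M.gen ws1 ≤ X) (h2 : X ≤ sub M.gen ws0) : X = sub M.gen ws1 ∨ X = sub M.gen ws0 := by rw [ext0 M hR] at h2 ⊢; exact (res0 M hR).max M primc0 X h1 h2
theorem orig_eq {gen : ℕ → Γ} (h : Rels gen allRels) : sub gen (lets 2) = sub gen ws0 :=
  sub_lets_eq_of_rels (ds := defs) (by decide +kernel) (relsD_of_all h) (by decide +kernel) (relsO_of_all h)
theorem gen_mem {gen : ℕ → Γ} (h : Rels gen allRels) {X : Subgroup Γ} (h0 : ∀ l < 2, gen l ∈ X) : sub gen ws0 ≤ X :=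
  sub_le_of_wsIn (lo := 0) (gen_mem_of_defRels (ds := defs) (fun l _ hl => h0 l hl) (by decide +kernel) (relsD_of_all h)) (by decide +kernel)
theorem simple (h : Rels M.gen allRels) : IsSimpleGroup (sub M.gen ws0) :=
  (res0 M (rels_of_all h)).simple (ext0 M (rels_of_all h)) (card1 M (rels_of_all h)) (by decide) primc0 (fix0 M (rels_of_all h)) (by decide +kernel)
    (z := M.gen 2) (by rw [← ev_single M.gen 2]; exact ev_getL_mem M.gen ws0 1) (m := 11)
    (by rw [← ev_single M.gen 2]; exact pow_eq_one_of_rels (Rels.left (relsS_of_all h))) (by norm_num)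
    (ncl_of_defRels (ds := defs.drop 2) (c := zc) (by decide +kernel) (defRels_drop defs 2 2 ▸ (relsD_of_all h).drop 2) (by decide +kernel) (Rels.right (relsS_of_all h)))

end

end H15.J4K
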