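import Cfsg.Agent.H15.TM6C0

/-! Coset enumeration certificate TM6 (M24 over L2(23)), conclusion. -/
set_option maxRecDepth 8000
set_option Elab.async false
namespace H15.TM6
open TC

theorem call : ∀ i < 31, allB chk 11 i = true := (fl_add (a := 0) (b := 31) fl0 g0)
theorem sd : side (row 0) (nat_lit 150) (nat_lit 0x40000000000000000000000000000000000000) (nat_lit 28) (nat_lit 65536) (nat_lit 0xfc00000000000000000000000000000000000000000000000000000000000000000000000000000000000000000c1080) (nat_lit 3) (nat_lit 40320) (nat_lit 63036) (nat_lit 112) 11 31 rels subs [nat_lit 0,nat_lit 1,nat_lit 2] = true := by decide +kernel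
theorem idx {G : Type*} [Group G] (gen : ℕ → G) (hrel : ∀ w ∈ rels, ev gen w = 1) (H : Subgroup G)
    (hsub : ∀ w ∈ subs, ev gen w ∈ H) :
    H.relIndex (Subgroup.closure (gen '' Set.Iio 3)) ≠ 0 ∧ H.relIndex (Subgroup.closure (gen '' Set.Iio 3)) ≤ 40320 :=
  TC.idx (by decide) (final (fun _ => rfl) (fun _ _ => rfl) (fun _ => rfl) (fun _ h => ⟨_, _, h⟩) sd call hrel hsub)

end H15.TM6
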