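import Cfsg.Agent.H15.Glue4
import Cfsg.Agent.H15.J4A
import Cfsg.Agent.H15.TM0
import Cfsg.Agent.H15.TM1
import Cfsg.Agent.H15.TM2
import Cfsg.Agent.H15.TM3
import Cfsg.Agent.H15.TM4
import Cfsg.Agent.H15.TM5
import Cfsg.Agent.H15.TM6

/-! The seven relators `R7` on two letters bound the order by that of `M24` (`bdM`). -/

set_option Elab.async false
set_option maxRecDepth 8000

namespace H15.J4
open H14

/-- the letters `x, y, y⁻¹` -/
def s3 : List (List ℕ) := [[0], [2], [3]]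
/-- the relators -/
def R7 : List (List ℕ) := [[0, 0], [2, 2, 2], powL [0, 2] 23, powL [0, 3, 0, 2] 12, powL [0, 3, 0, 3, 0, 2, 0, 2] 5,
  powL ([0, 2] ++ powL [0, 2, 0, 3] 3) 4, powL [0, 2, 0, 2, 0, 3] 3 ++ powL [0, 2, 0, 3, 0, 3] 3]
/-- an involution -/
def Tw : List ℕ := [2, 0, 3, 0, 3, 0, 3, 0, 2, 0, 3, 0, 3, 0, 2, 0, 3, 0, 2, 0, 2, 0, 3, 0, 2, 0, 2, 0, 2, 0, 3]
/-- the permutation machine -/
noncomputable abbrev P24 := permPM 24 J4A.nets (by decide) (by decide) J4A.nets_ok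
/-- consequences -/
def E1 := TM1.tgts.map (sb s3)
def E2 := TM2.tgts.map (sb s3)
def E3 := TM3.tgts.map (sb s3)
def E4 := TM4.tgts.map (sb s3)

theorem q24 : relsChk 24 J4A.nets 5 (idArr 24 5 5 0)
    ((R7 ++ (E1 ++ (E2 ++ (E3 ++ E4)))).map fun w => (w.reverse, [])) = true := by decide +kernel
theorem r24 : RelL P24.gen (R7 ++ (E1 ++ (E2 ++ (E3 ++ E4)))) := relL_of_rels (P24.rels_of_idArr (by decide) q24)
theorem lo23 (hf : Finite (Sw P24.gen [[0, 2]])) : 1 * 23 ≤ Nat.card (Sw P24.gen [[0, 2]]) :=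
  low_sbst P24 [[0, 2]] (.cons 0 [[0]] (List.replicate 22 [0]) .nil) (by decide +kernel) hf

theorem RelL.mapfr {K : Type*} [Group K] {f : ℕ → K} {R : List (List ℕ)} (h : RelL f R) : RelL f (R.map fr) :=
  fun w hw => by obtain ⟨u, hu, rfl⟩ := List.mem_map.1 hw; rw [ev_fr, h u hu]

section
variable {K : Type*} [Group K] {f : ℕ → K} (h : RelL f R7)
include h
theorem s0 : RelL (pr f P24.gen) R7 := h.pr r24.left
theorem b23 : Bd (Sw (pr f P24.gen) [[0, 2]]) (1 * 23) :=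
  bd_step TM0.idx (s0 h) [[0, 2], [3, 1]] (Bd.Sw_nil _) (by decide +kernel)
theorem s1 : RelL (pr f P24.gen) (R7 ++ E1) := (s0 h).append (relL_of_mem (b23 h) lo23
  (mem_step TM1.mem (s0 h) s3 _ (by decide +kernel)) r24.right.left)
theorem s2 : RelL (pr f P24.gen) (R7 ++ E1 ++ E2) := (s1 h).append (relL_of_mem (b23 h) lo23
  (mem_step TM2.mem (s1 h) s3 _ (by decide +kernel)) r24.right.right.left)
theorem s3' : RelL (pr f P24.gen) (R7 ++ E1 ++ E2 ++ E3) := (s2 h).append (relL_of_mem (b23 h) lo23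
  (mem_step TM3.mem (s2 h) s3 _ (by decide +kernel)) r24.right.right.right.left)
theorem s4 : RelL (pr f P24.gen) E4 := relL_of_mem (b23 h) lo23
  (mem_step TM4.mem (s3' h) s3 _ (by decide +kernel)) r24.right.right.right.right
theorem bL : Bd (Sw (pr f P24.gen) [[0, 2], Tw]) (1 * 23 * 264) :=
  bd_step TM5.idx ((s0 h).append (RelL.mapfr (s4 h))) [[0, 2], [3, 1], Tw] (b23 h) (by decide +kernel)
theorem bdM2 : Bd (Sw (pr f P24.gen) (lts 2)) 244823040 :=
  bd_step TM6.idx (s3' h) s3 (bL h) (by decide +kernel)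
theorem bdM : Bd (Sw f (lts 2)) 244823040 := by
  have := (bdM2 h).map (MonoidHom.fst _ _)
  rwa [map_Sw] at this
end

end H15.J4
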