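import Cfsg.Agent.H15.J4P
import Cfsg.Agent.H15.J4M
import Cfsg.Agent.H15.J4B
import Cfsg.Agent.H15.BM2
import Cfsg.Agent.H15.Iso
import Cfsg.Agent.H14.Mathieu
import Cfsg.Prelude.Def_Spor_J4

/-! The presented group `Cfsg.Spor.J4`: its representation `rho` of degree 112 over the field with 2 elements; the
subgroup on `x, y` is isomorphic to `M24`. -/

set_option Elab.async false
set_option linter.constructorNameAsVariable false
set_option maxRecDepth 8000

namespace H15.J4
open Cfsg.Spor Cfsg.Spor.J4 H14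

/-- positions of the generators -/
def ix : Gen → ℕ
  | .x => 0
  | .y => 1
  | .t => 25
/-- the generators -/
def g0 (l : ℕ) : Cfsg.Spor.J4 := pof edges extra (if l = 0 then .x else if l = 1 then .y else .t)
theorem g_ix (a : Gen) : g0 (ix a) = pof edges extra a := by cases a <;> rfl
/-- the relators -/
def R0 : List (List ℕ) := allW (enc14 ix) edges extra [] [.x, .y, .t]
theorem rel0 : RelL g0 R0 := allW_rel (codes14 g_ix) (by simp) _
theorem relp : RelL g0 (R0 ++ R0.map (rep 1 [0])) := rel0.rep (rel0.fr (u := [0, 0]) (by decide +kernel))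
theorem rel7 : RelL g0 R7 := relp.sub (by decide +kernel)

theorem hc0 : J4M.c.rels J4M.ms (List.take 7 (List.drop 0 (homW ix edges extra []))) = true := by decide +kernel
theorem hc1 : J4M.c.rels J4M.ms (List.drop 7 (homW ix edges extra [])) = true := by decide +kernel
theorem homR : Rels J4M.gen (List.drop 0 (homW ix edges extra [])) :=
  rels_td 0 7 7 rfl (BP.rels_of_chk J4M.c_ok J4M.hgen hc0) (BP.rels_of_chk J4M.c_ok J4M.hgen hc1)
theorem ex_rho : ∃ ρ : Cfsg.Spor.J4 →* GL (Fin 112) (ZMod 2), ∀ a, ρ (pof edges extra a) = J4M.gen (ix a) :=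
  exists_hom ix J4M.gen (fun x hx => by simp [coxNodes, edges] at hx) homR
/-- the representation -/
noncomputable def rho : Cfsg.Spor.J4 →* GL (Fin 112) (ZMod 2) := ex_rho.choose
theorem rho_0 : rho (g0 0) = J4M.gen 0 := ex_rho.choose_spec .x
theorem rho_1 : rho (g0 1) = J4M.gen 1 := ex_rho.choose_spec .y
theorem rho_25 : rho (g0 25) = J4M.gen 25 := ex_rho.choose_spec .t
theorem m0_ne : J4M.gen 0 ≠ 1 := fun e => by
  have := BP.ne_of_fld J4M.c_ok J4M.hgen (u := [0]) (v := [0, 1]) 1 1 (by decide +kernel)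
  exact this (by simp [letter, e])
theorem g0_ne : g0 0 ≠ 1 := fun e => m0_ne (by rw [← rho_0, e, map_one])

theorem B_ok : J4B.nets.all golayOk = true := by decide +kernel
/-- the machine in `M24` -/
noncomputable def MB : PM Cfsg.M24 Cfsg.GolayPt 24 J4B.nets := m24PM _ B_ok
theorem MB_top : Sw MB.gen (lts 2) = ⊤ := by
  have h := J4B.all_ok' MB
  have := eq_top_of_card (J4B.card0 MB (J4B.rels_of_all h))
  rw [← J4B.orig_eq h] at this
  exact this
theorem qB : relsChk 24 J4B.nets 5 (idArr 24 5 5 0) (R7.map fun w => (w.reverse, [])) = true := by decide +kernel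
theorem rB : RelL MB.gen R7 := relL_of_rels (MB.rels_of_chk (J4B.sep MB) qB)

theorem isoM24 {K : Type*} [Group K] {f : ℕ → K} (h : RelL f R7) (h0 : f 0 ≠ 1) :
    Nonempty (Sw f (lts 2) ≃* Cfsg.M24) := by
  have hb := bdM (h.pr rB)
  have := hb.finite
  have := simple_M24
  set D := Sw (pr f MB.gen) (lts 2)
  let π := (MonoidHom.snd K Cfsg.M24).comp D.subtype
  let θ := (MonoidHom.fst K Cfsg.M24).comp D.subtype
  have hs : Function.Surjective π := by
    rw [← MonoidHom.range_eq_top, MonoidHom.range_comp, Subgroup.range_subtype, map_Sw]; exact MB_top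
  have e := MulEquiv.ofBijective π (hs.bijective_of_nat_card_le (card_M24 ▸ hb.2))
  have := e.isSimpleGroup
  have hi : Function.Injective θ := inj_of_simple θ (g := ⟨_, gen_mem_lts _ two_pos⟩) h0
  have hr : θ.range = Sw f (lts 2) := by rw [MonoidHom.range_comp, Subgroup.range_subtype, map_Sw]; rfl
  exact ⟨((MulEquiv.subgroupCongr hr).symm.trans (MonoidHom.ofInjective hi).symm).trans e⟩

end H15.J4
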