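import Cfsg.Agent.H15.J4R
import Cfsg.Agent.H15.J4G
import Cfsg.Agent.H15.J4E

/-! The 27 letters `g` in the presented group `Cfsg.Spor.J4` and their images under `rho`. -/

set_option Elab.async false
set_option linter.constructorNameAsVariable false
set_option maxRecDepth 8000

namespace H15.J4
open Cfsg.Spor Cfsg.Spor.J4 H14 ZI

/-- the subgroup on `x, y`, paired with its permutations -/
noncomputable abbrev YN := Sw (pr g0 P24.gen) (lts 2)

theorem ex_N : ∃ π : YN →* Equiv.Perm (Fin 24), Function.Injective π ∧ Nat.card YN = 244823040 ∧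
    ∃ M : PM YN (Pt π) 24 J4A.nets, (∀ l < 2, (M.gen l).1.1 = g0 l) ∧ ∀ l, π (M.gen l) = P24.gen l :=
  DC.prod_machine g0 (fun _ hl => gen_mem_lts (pr g0 P24.gen) hl) (bdM2 rel7) (ds := J4A.defs) (by decide +kernel)
    (by decide +kernel) (J4A.relsD_of_all (J4A.all_ok' P24))
    fun _ => (J4A.card0 P24 (J4A.rels_of_all (J4A.all_ok' P24))).ge

/-- the permutation representation -/
noncomputable def piN : YN →* Equiv.Perm (Fin 24) := ex_N.choose
instance instFN : FaithfulSMul YN (Pt piN) := faithful_Pt ex_N.choose_spec.1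
/-- the machine -/
noncomputable def MN : PM YN (Pt piN) 24 J4A.nets := ex_N.choose_spec.2.2.choose
/-- the embedding -/
noncomputable def thN : YN →* Cfsg.Spor.J4 := (MonoidHom.fst _ _).comp YN.subtype
theorem thN_gen : ∀ l < 2, thN (MN.gen l) = g0 l := ex_N.choose_spec.2.2.choose_spec.1
/-- the letters of `M24` -/
noncomputable def fN (l : ℕ) : Cfsg.Spor.J4 := thN (MN.gen l)
/-- the word for the letter 14 -/
def q1w : List ℕ := powL ([2] ++ iw w0 ++ [50] ++ w0) 3
/-- the letters of `M24` and `t` -/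
noncomputable def f1 (l : ℕ) : Cfsg.Spor.J4 := if l < 14 then fN l else g0 25
/-- the letters 14 to 24 -/
noncomputable def gq : ℕ → Cfsg.Spor.J4
  | 0 => ev (letter f1) q1w
  | i + 1 => ((fN 2)⁻¹ * gq i * fN 2)⁻¹
/-- all letters -/
noncomputable def g (l : ℕ) : Cfsg.Spor.J4 :=
  if l < 14 then fN l else if l < 25 then gq (l - 14) else if l = 25 then g0 25 else ev (letter f1) rW

theorem g_lt {l : ℕ} (h : l < 14) : g l = fN l := if_pos h
theorem g_25 : g 25 = g0 25 := rfl
theorem g_q {i : ℕ} (h : i < 11) : g (14 + i) = gq i := by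
  rw [g, if_neg (by omega), if_pos (by omega), Nat.add_sub_cancel_left]
theorem g_ix' (a : Gen) : g (ix a) = pof edges extra a := by
  rw [← g_ix]; cases a
  exacts [thN_gen 0 (by decide), thN_gen 1 (by decide), rfl]
theorem ev_f1 {w : List ℕ} (h : w.all (fun a => Nat.blt a 28 || Nat.beq (a / 2) 25) = true) :
    ev (letter f1) w = ev (letter g) w := evL_congr' fun a ha => by
  have := List.all_eq_true.1 h a ha
  simp only [Bool.or_eq_true, Nat.blt_eq, Nat.beq_eq] at this
  rcases this with h | h
  · rw [f1, if_pos (by omega), g_lt (by omega)]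
  · rw [h]; rfl
theorem relg : RelL g R0 := allW_rel (codes14 g_ix') (by simp) _
theorem top26 : Sw g (lts 26) = ⊤ := lts_top g_ix' fun a => by cases a <;> decide
theorem e14 : ev (letter g) (q1w ++ [29]) = 1 := by
  rw [ev_append, ← ev_f1 (by decide +kernel)]
  exact (congrArg _ (mul_one _)).trans (mul_inv_cancel _)
theorem e26 : ev (letter g) (rW ++ [Nat.xor 52 1]) = 1 := by
  rw [ev_append, ← ev_f1 (by decide +kernel)]
  exact (congrArg _ (mul_one _)).trans (mul_inv_cancel _)

theorem nrel {R : List (List ℕ)} (h : (relsChk 24 J4A.nets 5 (idArr 24 5 5 0) (R.map fun w => (w.reverse, [])) &&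
    R.all fun w => w.all fun a => Nat.blt a (2 * 14)) = true) : RelL g R := by
  rw [Bool.and_eq_true] at h
  exact ((relL_of_rels (MN.rels_of_chk (J4A.sep MN) h.1)).map thN).congr (fun l hl => g_lt hl) h.2
theorem fA : Rels fN rA := Rels.map thN fun p hp => (List.mem_append.1 hp).elim
  (J4A.rels_of_all (J4A.all_ok' MN) p) (J4A.relsD_of_all (J4A.all_ok' MN) p)
theorem gA : Rels g rA := Rels.pull (ρ := MonoidHom.id _) Function.injective_id (n := 14) (fun l hl => g_lt hl) fA
  (by decide +kernel)

theorem eq14 {K : Type*} [Group K] {a b : ℕ → K} (ha : Rels a rA) (hb : Rels b rA) (h0 : a 0 = b 0) (h1 : a 1 = b 1) :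
    ∀ l < 14, a l = b l :=
  mem14 (f := pr a b) (ha.prod hb) (X := MonoidHom.eqLocus (MonoidHom.fst K K) (MonoidHom.snd K K)) h0 h1

theorem rho_aux {K : Type*} [Group K] {ρ : Cfsg.Spor.J4 →* K} {m : ℕ → K} (h0 : ρ (g0 0) = m 0) (h1 : ρ (g0 1) = m 1)
    (h25 : ρ (g0 25) = m 25) (hA : Rels m rA) (hQ : RelL m RQ) (hT : RelL m RT) : ∀ l < 26, ρ (g l) = m l := by
  have a : ∀ l < 14, ρ (fN l) = m l := eq14 (fA.map ρ) hA (by rw [fN, thN_gen 0 (by decide), h0])
    (by rw [fN, thN_gen 1 (by decide), h1])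
  have b : ∀ i < 11, ρ (gq i) = m (14 + i) := by
    intro i hi
    induction i with
    | zero =>
      have := (hT.pick [(6, 55, false)]).fr (u := [29] ++ q1w) (by decide +kernel)
      rw [ev_append, ev_cons, ev_nil, mul_one, show letter m 29 = (m 14)⁻¹ from rfl, inv_mul_eq_one] at this
      rw [gq, map_evL, this]
      refine evL_congr' fun c hc => ?_
      have := List.all_eq_true.1 (by decide +kernel : q1w.all (fun a => Nat.blt a 28 || Nat.beq (a / 2) 25) = true) c hc
      simp only [Bool.or_eq_true, Nat.blt_eq, Nat.beq_eq] at this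
      rcases this with h | h
      · rw [f1, if_pos (by omega), a _ (by omega)]
      · rw [h]; exact h25
    | succ i ih =>
      have := hQ.fr (u := [5, 2 * (14 + i), 4, 2 * (14 + (i + 1))]) 
        ((by decide +kernel : ∀ i < 10, ([] :: RQ).contains (fr [5, 2 * (14 + i), 4, 2 * (14 + (i + 1))]) = true) i
          (by omega))
      simp only [ev_cons, ev_nil, mul_one, letter, Nat.mul_mod_right, if_true, Nat.mul_div_cancel_left _ two_pos] at this
      rw [gq, map_inv, map_mul, map_mul, map_inv, ih (by omega), a 2 (by decide), inv_eq_iff_mul_eq_one]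
      simpa [mul_assoc] using this
  intro l hl
  rcases lt_or_ge l 14 with h | h
  · rw [g_lt h, a l h]
  obtain ⟨i, rfl⟩ := Nat.exists_eq_add_of_le h
  rcases lt_or_ge i 11 with h | h
  · rw [g_q h, b i h]
  · obtain rfl : i = 11 := by omega
    exact h25

theorem rho_gl : ∀ l < 26, rho (g l) = J4M.gen l := rho_aux rho_0 rho_1 rho_25 mA mQ mT

theorem injN : Function.Injective (rho.comp thN) := by
  obtain ⟨e⟩ := isoM24 (s0 rel7) fun h => g0_ne (congrArg Prod.fst h)
  have := simple_M24
  have := e.isSimpleGroup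
  exact inj_of_simple _ (g := MN.gen 0) fun h => m0_ne (by rw [← rho_0, ← thN_gen 0 (by decide)]; exact h)
theorem le_N : Sw g (lts 14) ≤ thN.range := lts_le fun l hl => ⟨_, (g_lt hl).symm⟩

theorem gT : RelL g (RT.take 2 ++ RT.drop 3) :=
  ((relg.append (fa_cons e14 fa_nil)).pick [(9, 2, false), (8, 14, false), (7, 0, false), (10, 9, false), (11, 21, false),
    (15, 11, false)]).sub (by decide +kernel)

end H15.J4
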