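import Cfsg.Agent.H15.J4U
import Cfsg.Agent.H15.J4K
import Cfsg.Agent.H15.Cnt7
import Cfsg.Agent.H14.Obj2
import Cfsg.Agent.H15.J4WM

/-! The centraliser `2^(1+12).3.M22.2` of an involution of the matrix group `H15.J4.XG`. -/

set_option Elab.async false
set_option maxRecDepth 100000

namespace H15.J4W
open H14 L

/-- the generators of the extraspecial group -/
def V : List Word := [[52], [54], [56], [58], [60], [62], [64], [66], [68], [70], [72], [74], [76]]
/-- words for the strong generators of `M22` -/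
def W : List Word := [[], [], [86], [88], [90], [92], [94], [96], [98]]
def ks : List Word := [[78], [80], [82], [84]]
def nv : List Word := [[0], [22, 20, 12, 6, 2, 0], [24, 22, 20, 12, 8, 4, 2, 0], [24, 22, 20, 12, 10, 4, 2], [18, 16, 14, 6, 2, 0], [18, 16, 14, 10, 8, 4, 2, 0], [18, 16, 8, 6, 4, 2], [24, 22, 20, 18, 16, 8, 6], [24, 22, 18, 10, 8, 6, 0], [24, 20, 18, 14, 8, 4, 2], [24, 22, 20, 16, 10, 6, 4, 2, 0], [18, 12, 8, 4, 0], [24, 18, 16, 14, 10], [0], [20, 12, 10, 6, 2, 0], [18, 14], [12, 10, 6, 2, 0], [24, 22, 16], [18, 14, 12, 10], [20, 18, 16, 14], [12, 8, 4, 0], [22, 20, 16, 14, 10, 6, 4, 0], [24, 22, 18, 16, 10, 8, 4], [20, 18, 16, 14, 10, 6, 2], [22, 20, 16, 14, 12, 10, 6, 2], [24, 22, 16, 10, 4], [0], [24, 22, 18, 16, 14, 10, 6, 4, 2, 0], [24, 22, 18, 14, 12, 4, 2], [24, 22, 16, 14, 12, 10, 8, 6], [20, 18, 14, 8, 4, 2, 0], [20, 18, 12, 10, 8, 6, 4, 2], [24, 20, 18, 16, 14, 12, 8, 0], [20, 18, 14, 12, 6, 2], [22, 14, 12,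 10, 8, 6, 2], [22, 18, 16, 12, 8], [20, 18, 16, 12, 8, 4, 0], [24, 22, 20, 18, 16, 12, 8, 6, 4], [18, 16, 12, 8, 6, 4, 2, 0], [0], [24, 22, 18, 16, 12, 6, 0], [24, 18, 8, 2, 0], [22, 18, 14, 12], [22, 20, 16, 12, 8, 4, 0], [22, 20, 18, 16, 12, 10, 4, 2], [22, 12, 6, 2], [24, 20, 18, 16, 14, 10, 0], [24, 22, 18, 16, 14, 10, 4], [20, 6, 4, 0], [24, 20, 18, 16, 14, 12, 10, 6, 4, 2, 0], [22, 20, 6, 4, 2], [24, 22, 20, 16, 12, 8, 2]]
def cs : List Word := [[0, 26], [0, 27], [27], [26], [26], [0], [0, 26], [0], [], [], [], [0, 27], [], [], [27], [0, 27], [27], [27], [27], [], [26], [0, 26], [], [27], [0, 26], [], [27], [], [], [26], [], [27], [26], [26], [27], [], [], [], [], [], [27], [], [], [], [27], [], [], [26], [], [26], [], [27], [26], [], [], [], [27], [], [26], [], [], [26], [], [], [26], [], [26], [27], [], [26], [], [], [], [26], [], [], []]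
def cv : List (List Word) := [[[], [], [], [], [], [], [], [], [], [], [], [], []], [[], [], [], [], [], [], [], [0], [], [], [], [], []], [[], [], [], [], [], [], [], [], [0], [], [], [], []], [[], [], [], [], [], [], [], [], [], [0], [], [], []], [[], [], [], [], [], [], [], [], [], [], [0], [], []], [[], [], [], [], [], [], [], [], [], [], [], [0], []], [[], [], [], [], [], [], [], [], [], [], [], [], [0]], [[], [0], [], [], [], [], [], [], [], [], [], [], []], [[], [], [0], [], [], [], [], [], [], [], [], [], []], [[], [], [], [0], [], [], [], [], [], [], [], [], []], [[], [], [], [], [0], [], [], [], [], [], [], [], []], [[], [], [], [], [], [0], [], [], [], [], [], [], []], [[], [], [], [], [], [], [0], [], [], [], [], [], []]]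
/-- definitions of the new letters -/
def ds : List Word := [[28, 32, 38, 42, 44, 46], [26, 24, 21, 16, 21, 13, 13, 11, 23, 5, 3, 30, 32, 34, 38, 42, 44, 46, 48], [27, 22, 17, 20, 13, 15, 9, 6, 4, 3, 30, 32, 34, 38, 40, 42, 44], [27, 20, 23, 19, 25, 13, 26, 11, 23, 28, 30, 32, 34, 36, 38, 40, 44, 46], [20, 22, 19, 25, 9, 5, 28, 30, 36, 38, 40, 44, 48], [26, 22, 20, 16, 21, 12, 11, 6, 26, 2, 25, 30, 32, 36, 44, 46], [27, 20, 18, 23, 14, 12, 11, 15, 5, 36, 40, 42, 46, 48], [27, 17, 20, 12, 14, 11, 7, 17, 3, 28, 34, 36, 38, 40, 44, 46], [27, 20, 24, 18, 24, 13, 11, 6, 8, 3, 30, 32, 36, 44, 46], [27, 20, 18, 17, 14, 27, 9, 11, 5, 3, 34, 36, 38, 40, 44], [27, 21, 25, 18, 23, 9, 7, 12, 2, 11, 30, 38, 40, 48], [20, 22, 19, 25, 9, 5, 28, 32, 34, 40, 46], [27, 24, 21, 17, 14, 27, 11, 11, 5, 3, 34, 36, 38, 42, 48], [27, 25, 21, 19, 12, 24, 11, 11, 6, 4, 6, 28, 30, 34, 42, 44, 46, 48], [26, 20, 18, 17, 14, 17, 11, 14, 4, 2, 25, 28, 30, 36, 38,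 42, 30, 26, 21, 18, 24, 12, 11, 12, 6, 26, 2, 19, 7, 3, 0, 9, 7, 51, 6, 8, 1, 2, 6, 35, 7, 3, 0, 9, 7, 51, 6, 8, 1, 2, 6], [27, 20, 18, 17, 14, 27, 9, 11, 5, 3, 27, 20, 22, 18, 25, 16, 12, 9, 11, 6, 4, 2, 16, 34, 28, 7, 3, 0, 9, 7, 50, 6, 8, 1, 2, 6, 17, 3, 5, 7, 10, 8, 13, 17, 24, 19, 23, 21, 26], [27, 24, 21, 17, 14, 27, 11, 11, 5, 3, 34, 38, 48, 7, 3, 0, 9, 7, 51, 6, 8, 1, 2, 6, 29, 25, 21, 19, 17, 14, 11, 14, 17, 3, 5, 7, 10, 8, 13, 17, 24, 19, 23, 21, 26, 15, 10, 15, 16, 18, 20, 24], [84, 82], [84, 83, 84, 82, 82, 85], [89, 89, 89, 86, 88, 88, 88, 88, 87, 88], [87, 88, 87, 88, 87, 88, 87, 88, 87, 87, 87, 88, 88], [90, 90], [90, 90, 92, 91, 91, 93, 93, 93, 91, 92, 91], [96, 96, 94, 96, 96, 94, 94, 94, 94, 97, 94, 96]]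
noncomputable def rd : List (Word × Word) := defRels ds 26
theorem hd0 : J4WM.c.rels J4WM.ms (List.take 15 (List.drop 0 rd)) = true := by decide +kernel
theorem hd1 : J4WM.c.rels J4WM.ms (List.drop 15 rd) = true := by decide +kernel
theorem relD : Rels J4WM.gen (List.drop 0 rd) := (rels_td 0 15 15 rfl (BP.rels_of_chk J4WM.c_ok J4WM.hgen hd0) (BP.rels_of_chk J4WM.c_ok J4WM.hgen hd1))
theorem ex_y : ∃ y : ℕ → J4.XG, ∀ l < 26 + ds.length, J4.XG.subtype (y l) = J4WM.gen l :=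
  exists_pull J4.XG.subtype (fun l hl => ⟨_, (J4.rho_g l hl).trans (J4WM.gen_old l hl).symm⟩) (by decide +kernel) relD
/-- the letters -/
noncomputable def y : ℕ → J4.XG := ex_y.choose
theorem rho_y : ∀ l < 50, J4.XG.subtype (y l) = J4WM.gen l := ex_y.choose_spec
theorem y_old : ∀ l < 26, y l = J4.gx l := fun l hl =>
  J4.inj ((rho_y l (by omega)).trans ((J4WM.gen_old l hl).trans (J4.rho_g l hl).symm))
theorem yD : Rels y rd := Rels.pull J4.inj rho_y relD (by decide +kernel)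
noncomputable def nr : List (Word × Word) := memRels V (conjs V ks) nv
theorem hnr0 : J4WM.c.rels J4WM.ms (List.take 33 (List.drop 0 nr)) = true := by decide +kernel
theorem hnr1 : J4WM.c.rels J4WM.ms (List.drop 33 nr) = true := by decide +kernel
theorem ynr : Rels y nr := Rels.pull J4.inj rho_y (show Rels J4WM.gen (List.drop 0 nr) from (rels_td 0 33 33 rfl (BP.rels_of_chk J4WM.c_ok J4WM.hgen hnr0) (BP.rels_of_chk J4WM.c_ok J4WM.hgen hnr1))) (by decide +kernel)
noncomputable def qr : List (Word × Word) := qR W (V ++ [[78]]) J4K.rels cs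
theorem hqr0 : J4WM.c.rels J4WM.ms (List.take 24 (List.drop 0 qr)) = true := by decide +kernel
theorem hqr1 : J4WM.c.rels J4WM.ms (List.take 32 (List.drop 24 qr)) = true := by decide +kernel
theorem hqr2 : J4WM.c.rels J4WM.ms (List.drop 56 qr) = true := by decide +kernel
theorem yqr : Rels y qr := Rels.pull J4.inj rho_y (show Rels J4WM.gen (List.drop 0 qr) from (rels_td 0 24 24 rfl (BP.rels_of_chk J4WM.c_ok J4WM.hgen hqr0) (rels_td 24 32 56 rfl (BP.rels_of_chk J4WM.c_ok J4WM.hgen hqr1) (BP.rels_of_chk J4WM.c_ok J4WM.hgen hqr2)))) (by decide +kernel)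
noncomputable def cr : List (Word × Word) := cmR V V [[52]] cv
theorem hcr0 : J4WM.c.rels J4WM.ms (List.take 74 (List.drop 0 cr)) = true := by decide +kernel
theorem hcr1 : J4WM.c.rels J4WM.ms (List.take 73 (List.drop 74 cr)) = true := by decide +kernel
theorem hcr2 : J4WM.c.rels J4WM.ms (List.drop 147 cr) = true := by decide +kernel
theorem ycr : Rels y cr := Rels.pull J4.inj rho_y (show Rels J4WM.gen (List.drop 0 cr) from (rels_td 0 74 74 rfl (BP.rels_of_chk J4WM.c_ok J4WM.hgen hcr0) (rels_td 74 73 147 rfl (BP.rels_of_chk J4WM.c_ok J4WM.hgen hcr1) (BP.rels_of_chk J4WM.c_ok J4WM.hgen hcr2)))) (by decide +kernel)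
noncomputable def cm : List (Word × Word) := comR (V ++ ks) [52]
theorem hcm0 : J4WM.c.rels J4WM.ms (List.drop 0 cm) = true := by decide +kernel
theorem ycm : Rels y cm := Rels.pull J4.inj rho_y (show Rels J4WM.gen (List.drop 0 cm) from (BP.rels_of_chk J4WM.c_ok J4WM.hgen hcm0)) (by decide +kernel)
noncomputable def sq : List (Word × Word) := pwR V [[]] 2 (V.map fun _ => [])
theorem hsq0 : J4WM.c.rels J4WM.ms (List.drop 0 sq) = true := by decide +kernel
theorem ysq : Rels y sq := Rels.pull J4.inj rho_y (show Rels J4WM.gen (List.drop 0 sq) from (BP.rels_of_chk J4WM.c_ok J4WM.hgen hsq0)) (by decide +kernel)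
noncomputable def cw : List (Word × Word) := comR [[82], [84]] [78]
theorem hcw0 : J4WM.c.rels J4WM.ms (List.drop 0 cw) = true := by decide +kernel
theorem ycw : Rels y cw := Rels.pull J4.inj rho_y (show Rels J4WM.gen (List.drop 0 cw) from (BP.rels_of_chk J4WM.c_ok J4WM.hgen hcw0)) (by decide +kernel)
noncomputable def ex : List (Word × Word) := [(powW [78] 3, []), (conjW [78] [80], H14.invW [78])]
theorem hex0 : J4WM.c.rels J4WM.ms (List.drop 0 ex) = true := by decide +kernel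
theorem yex : Rels y ex := Rels.pull J4.inj rho_y (show Rels J4WM.gen (List.drop 0 ex) from (BP.rels_of_chk J4WM.c_ok J4WM.hgen hex0)) (by decide +kernel)

/-- the permutation group `M22` -/
noncomputable def P := permPM 77 J4K.nets (by decide) (by decide) J4K.nets_ok
theorem pres : Pres.{0} (sub P.gen J4K.ws0) J4K.rels J4K.ws0 := fun _ _ g h =>
  have h0 := J4K.rels_of_all (J4K.all_ok' P)
  let ⟨φ, a, _⟩ := exists_hom_of_card (gen := P.gen) (gen' := g) (by decide) (J4K.card0 (P.prod g) (h0.prod h))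
    (J4K.card0 P h0)
  ⟨φ, a⟩
instance fin : Finite J4.XG := Nat.finite_of_card_ne_zero (by rw [J4.mainX.2.2.2.1]; decide)
theorem ne1 {u : Word} (hu : u.reverse.all (fun a => Nat.blt a (2 * 50)) = true)
    (h : H15.ev (letter J4WM.gen) u ≠ H15.ev (letter J4WM.gen) [0, 1]) : H14.ev y u.reverse ≠ 1 := fun e => h (by
  rw [← ev14, ← ev14_congr rho_y hu, ← H14.map_ev, e, map_one]
  exact (RelL.fr (R := []) fa_nil (by decide)).symm)
theorem z1 : H14.ev y [52] ≠ 1 :=
  ne1 (u := [52]) (by decide) (BP.ne_of_fld J4WM.c_ok J4WM.hgen 0 0 (by decide +kernel))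
theorem w1 : H14.ev y [78] ≠ 1 :=
  ne1 (u := [78]) (by decide) (BP.ne_of_fld J4WM.c_ok J4WM.hgen 0 0 (by decide +kernel))
theorem x1 : H14.ev y [86] ^ 12 ≠ 1 := by
  rw [← ev_powW, show powW [86] 12 = (List.replicate 12 86).reverse from by decide +kernel]
  exact ne1 (by decide) (BP.ne_of_fld J4WM.c_ok J4WM.hgen 0 0 (by decide +kernel))
theorem hz : H14.ev y [52] = H14.ev J4.gx J4U.zw2 :=
  (yD ([52], J4U.zw2) (by decide +kernel)).trans (ev14_congr y_old (by decide))
theorem hC : sub y V ⊔ sub y ks ≤ Subgroup.centralizer {H14.ev y [52]} := (sub_append y V ks).ge.trans (sub_le_cent ycm)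
theorem hW : sub y W ≤ sub y [[82], [84]] :=
  sub_le_of_wsIn (lo := 41) (k := 50) (gen_mem_of_defRels (k := 43) (ds := ds.drop 17) (fun l h1 h2 => by
    rw [← ev_single y l]
    exact ev_mem_sub _ (by interval_cases l <;> decide)) (by decide +kernel)
    (defRels_drop ds 26 17 ▸ yD.drop 17)) (by decide +kernel)
theorem hk : sub y [[82], [84]] ≤ sub y ks :=
  (sub_le _).2 fun w hw => ev_mem_sub _ ((by decide : ∀ w ∈ [[82], [84]], w ∈ ks) w hw)
theorem zc : sub y [[52]] ≤ Subgroup.centralizer (sub y V : Set J4.XG) := by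
  rw [L.sub_single]
  exact Subgroup.zpowers_le_of_mem fun g hg =>
    Subgroup.mem_centralizer_singleton_iff.1 (hC (Subgroup.mem_sup_left hg))
theorem zn : sub y V ≤ Subgroup.normalizer (sub y [[52]] : Set J4.XG) :=
  le_norm_of_comm le_rfl fun _ h _ h' => (zc h _ h').symm
theorem der : ⁅sub y V, sub y V⁆ ≤ sub y [[52]] := comm_le_of le_rfl zn zn ycr (by decide +kernel)
theorem sq' : ∀ a ∈ V, H14.ev y a ^ 2 = 1 := fun a ha => by
  have := pow_mem_of ysq (by decide +kernel) a ha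
  rwa [L.sub_single, show H14.ev y [] = 1 from rfl, Subgroup.zpowers_one_eq_bot, Subgroup.mem_bot] at this
theorem z2 : orderOf (H14.ev y [52]) = 2 := orderOf_eq_prime (sq' _ List.mem_cons_self) z1
theorem p4 : ∀ x ∈ sub y V, x ^ 4 = 1 := fun x hx => by
  have := pow_mem_all zn der (fun a ha => sq' a ha ▸ one_mem _) x hx
  rw [L.sub_single] at this
  obtain ⟨k, e⟩ := this
  rw [show x ^ 4 = (x ^ 2) ^ 2 by rw [← pow_mul], ← e, ← zpow_natCast, ← zpow_mul, mul_comm, zpow_mul, zpow_natCast,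
    sq' _ List.mem_cons_self, one_zpow]
/-- the chain of centralisers -/
def ch : List (Word × Word) := [([54], [66]), ([56], [68]), ([58], [70]), ([60], [72]), ([62], [74]), ([64], [76]), ([66], [54]), ([68], [56]), ([70], [58]), ([72], [60]), ([74], [62]), ([76], [64])]
theorem hch : Nat.card (sub y V ⊓ Subgroup.centralizer (sub y V : Set J4.XG) : Subgroup J4.XG) * 2 ^ 12 ≤
    Nat.card (sub y V) :=
  chainW ycr z1 ch (by decide +kernel) (by decide +kernel) _ inf_le_left fun p hp =>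
    have := (by decide : ∀ p ∈ ch, p.1 ∈ V ∧ p.2 ∈ V) p hp
    ⟨ev_mem_sub _ this.2, fun _ hg => Subgroup.mem_centralizer_singleton_iff.2
      ((Subgroup.mem_inf.1 hg).2 _ (ev_mem_sub _ this.1)).symm⟩
theorem hU : sub y (V ++ [[78]]) = sub y V ⊔ Subgroup.zpowers (H14.ev y [78]) := by rw [sub_append, L.sub_single]
def vs : List (Word × Word) := [([], [0]), ([], [2]), ([], [4]), ([], [6]), ([], [8]), ([], [10]), ([], [12]), ([], [14]), ([], [16]), ([], [18]), ([], [20]), ([], [22]), ([], [24]), ([], [26]), ([], []), ([], []), ([2], []), ([0], []), ([6], []), ([4], []), ([10], []), ([8], []), ([12], [])]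
theorem qs : QS (sub P.gen J4K.ws0) (sub y V ⊔ Subgroup.zpowers (H14.ev y [78]) ⊔ sub y W)
    (sub y V ⊔ Subgroup.zpowers (H14.ev y [78])) := fun _ =>
  quot_surj (ks := V ++ [[78]] ++ W) (vs := vs) pres le_sup_left le_sup_right hU.le (by rw [sub_append, hU]) yqr
    (fun p hp => by
      rw [(by decide +kernel : ∀ p ∈ sR W (V ++ [[78]]) J4K.ws0 (V ++ [[78]] ++ W) vs, p.1 = p.2) p hp])
    (by decide +kernel)

instance simpleK : IsSimpleGroup (sub P.gen J4K.ws0) := J4K.simple P (J4K.all_ok' P)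
theorem nk : sub y ks ≤ Subgroup.normalizer (sub y V : Set J4.XG) := H14.le_normalizer_of ynr
theorem mw : H14.ev y [78] ∈ sub y ks := ev_mem_sub _ (by decide)
theorem ms' : H14.ev y [80] ∈ sub y ks := ev_mem_sub _ (by decide)
theorem hK : sub y ks ≤ Subgroup.centralizer {H14.ev y [52]} := le_sup_right.trans hC
theorem hc : Nat.card (Subgroup.centralizer {H14.ev y [52]}) ≤ 21799895040 := by rw [hz]; exact J4U.cent
theorem sw : H14.ev y [80] * H14.ev y [78] * (H14.ev y [80])⁻¹ = (H14.ev y [78])⁻¹ := by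
  rw [← ev_conjW, ← H14.ev_invW]
  exact yex (conjW [78] [80], H14.invW [78]) (List.mem_cons_of_mem _ List.mem_cons_self)
theorem w3 : H14.ev y [78] ^ 3 = 1 := by
  rw [← ev_powW]
  exact yex (powW [78] 3, []) List.mem_cons_self
theorem mx : H14.ev y [86] ∈ sub y W := ev_mem_sub _ (by decide)
theorem c2 : 2 ≤ Nat.card (sub y V ⊓ Subgroup.centralizer (sub y V : Set J4.XG) : Subgroup J4.XG) :=
  (card_single z2).ge.trans (Subgroup.card_le_of_le (le_inf ((sub_le _).2 fun w hw => ev_mem_sub _ (by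
    rw [List.mem_singleton.1 hw]; exact List.mem_cons_self)) zc))
theorem cw' : sub y W ≤ Subgroup.centralizer {H14.ev y [78]} := hW.trans (sub_le_cent ycw)
theorem c0 : Nat.card (sub P.gen J4K.ws0) = 443520 := J4K.card0 P (J4K.rels_of_all (J4K.all_ok' P))

theorem main : ∃ z : J4.XG, orderOf z = 2 ∧ ∃ Q N M : Subgroup (Subgroup.centralizer ({z} : Set J4.XG)),
    Q.Normal ∧ N.Normal ∧ Q ≤ N ∧ N ≤ M ∧ Nat.card Q = 2 ^ 13 ∧ Cfsg.IsExtraspecial 2 Q ∧
      Nat.card N = 3 * 2 ^ 13 ∧ M.index = 2 ∧ ∃ _ : (N.subgroupOf M).Normal, Cfsg.IsM22 (M ⧸ N.subgroupOf M) :=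
  ⟨_, z2, j4_ext c0 (le_sup_left.trans hC) ((hW.trans hk).trans hK)
    (hK mw) (hK ms') ((hW.trans hk).trans nk) (nk mw) (nk ms') cw' sw w3 w1 p4 mx x1 qs c2 hch (der.trans zc) hc⟩

end H15.J4W
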