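import Cfsg.Agent.H15.J4XD

/-! Generated certificate of a double coset enumeration (J4X). -/
set_option Elab.async false
set_option autoImplicit false
set_option maxRecDepth 100000

namespace H15.J4X
open H14 L DC

theorem ke0_0 : e0_0.all (chkE st P0 62 row F 17228 242 2048 1 0) = true := by decide +kernel
theorem ke0_1 : e0_1.all (chkE st P0 62 row F 17228 242 2048 1 1) = true := by decide +kernel
theorem ke0_2 : e0_2.all (chkE st P0 62 row F 17228 242 2048 1 2) = true := by decide +kernel
theorem ke0_3 : e0_3.all (chkE st P0 62 row F 17228 242 2048 1 3) = true := by decide +kernel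
theorem ke0_4 : e0_4.all (chkE st P0 62 row F 17228 242 2048 1 4) = true := by decide +kernel
theorem kc0 : c0.chk st P0 323 451 62 row 17228 H15.J4H.nets 242 O 501397585920 = true := by decide +kernel
theorem ke1_0 : e1_0.all (chkE st P0 62 row F 17228 242 2048 2 1) = true := by decide +kernel
theorem ke1_1 : e1_1.all (chkE st P0 62 row F 17228 242 2048 2 2) = true := by decide +kernel
theorem ke1_2 : e1_2.all (chkE st P0 62 row F 17228 242 2048 2 3) = true := by decide +kernel
theorem ke1_3 : e1_3.all (chkE st P0 62 row F 17228 242 2048 2 4) = true := by decide +kernel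
theorem ke1_4 : e1_4.all (chkE st P0 62 row F 17228 242 2048 2 5) = true := by decide +kernel
theorem ke1_5 : e1_5.all (chkE st P0 62 row F 17228 242 2048 2 6) = true := by decide +kernel
theorem kc1 : c1.chk st P0 323 451 62 row 17228 H15.J4H.nets 242 O 501397585920 = true := by decide +kernel
theorem ke2_0 : e2_0.all (chkE st P0 62 row F 17228 242 2048 3 1) = true := by decide +kernel
theorem ke2_1 : e2_1.all (chkE st P0 62 row F 17228 242 2048 3 2) = true := by decide +kernel
theorem ke2_2 : e2_2.all (chkE st P0 62 row F 17228 242 2048 3 3) = true := by decide +kernel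
theorem ke2_3 : e2_3.all (chkE st P0 62 row F 17228 242 2048 3 5) = true := by decide +kernel
theorem ke2_4 : e2_4.all (chkE st P0 62 row F 17228 242 2048 3 6) = true := by decide +kernel
theorem kc2 : c2.chk st P0 323 451 62 row 17228 H15.J4H.nets 242 O 501397585920 = true := by decide +kernel
theorem ke3_0 : e3_0.all (chkE st P0 62 row F 17228 242 2048 4 1) = true := by decide +kernel
theorem ke3_1 : e3_1.all (chkE st P0 62 row F 17228 242 2048 4 2) = true := by decide +kernel
theorem ke3_2 : e3_2.all (chkE st P0 62 row F 17228 242 2048 4 4) = true := by decide +kernel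
theorem ke3_3 : e3_3.all (chkE st P0 62 row F 17228 242 2048 4 6) = true := by decide +kernel
theorem kc3 : c3.chk st P0 323 451 62 row 17228 H15.J4H.nets 242 O 501397585920 = true := by decide +kernel
theorem ke4_0 : e4_0.all (chkE st P0 62 row F 17228 242 2048 5 2) = true := by decide +kernel
theorem ke4_1 : e4_1.all (chkE st P0 62 row F 17228 242 2048 5 3) = true := by decide +kernel
theorem ke4_2 : e4_2.all (chkE st P0 62 row F 17228 242 2048 5 5) = true := by decide +kernel
theorem ke4_3 : e4_3.all (chkE st P0 62 row F 17228 242 2048 5 6) = true := by decide +kernel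
theorem kc4 : c4.chk st P0 323 451 62 row 17228 H15.J4H.nets 242 O 501397585920 = true := by decide +kernel
theorem ke5_0 : e5_0.all (chkE st P0 62 row F 17228 242 2048 6 2) = true := by decide +kernel
theorem ke5_1 : e5_1.all (chkE st P0 62 row F 17228 242 2048 6 3) = true := by decide +kernel
theorem ke5_2 : e5_2.all (chkE st P0 62 row F 17228 242 2048 6 4) = true := by decide +kernel
theorem ke5_3 : e5_3.all (chkE st P0 62 row F 17228 242 2048 6 5) = true := by decide +kernel
theorem ke5_4 : e5_4.all (chkE st P0 62 row F 17228 242 2048 6 6) = true := by decide +kernel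
theorem kc5 : c5.chk st P0 323 451 62 row 17228 H15.J4H.nets 242 O 501397585920 = true := by decide +kernel
theorem kt0 : chkTs F tb 512 62 tw0 0 = true := by decide +kernel
theorem kt1 : chkTs F tb 512 62 tw1 37 = true := by decide +kernel
theorem kt2 : chkTs F tb 512 62 tw2 93 = true := by decide +kernel
theorem kt3 : chkTs F tb 512 62 tw3 165 = true := by decide +kernel
theorem kt4 : chkTs F tb 512 62 tw4 221 = true := by decide +kernel
theorem kt5 : chkTs F tb 512 62 tw5 273 = true := by decide +kernel
theorem kt6 : chkTs F tb 512 62 tw6 324 = true := by decide +kernel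
theorem kt7 : chkTs F tb 512 62 tw7 394 = true := by decide +kernel
theorem kt8 : chkTs F tb 512 62 tw8 448 = true := by decide +kernel

end H15.J4X
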