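import Cfsg.Agent.H15.Glue4
import Cfsg.Agent.H15.Glue2

/-! Conjugates of relators `t n₁ t n₂ ⋯`, rewritten with elements commuting with `t` (`inst`). -/

namespace H15.ZI
open H14

variable {G : Type*} [Group G] {g : ℕ → G}

/-- the word `t n₁ t n₂ ⋯` -/
def cy (t : ℕ) (ns : List (List ℕ)) : List ℕ := ns.flatMap fun n => t :: n
/-- triples `z, n, m` -/
abbrev Tr := List ℕ × List ℕ × List ℕ
/-- the first `z` -/
def hz (b : List ℕ) : List Tr → List ℕ
  | [] => b
  | p :: _ => p.1
/-- the conditions `z m = n z'` -/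
def zc (b : List ℕ) : List Tr → List (List ℕ)
  | [] => []
  | p :: r => (p.1 ++ p.2.2 ++ iw (p.2.1 ++ hz b r)) :: zc b r
/-- the words `z` are expanded -/
def zs (D : List (List ℕ)) (l : List Tr) : List Tr := l.map fun p => (sb2 D p.1, p.2)
/-- all conditions -/
def conds (D : List (List ℕ)) (L : List (List Tr)) : List (List ℕ) := L.flatMap fun l => zc (hz [] (zs D l)) (zs D l)
/-- the new relators -/
def news (t : ℕ) (L : List (List Tr)) : List (List ℕ) := L.map fun l => cy t (l.map fun p => p.2.2)
/-- commutators -/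
def cms (t : ℕ) (D : List (List ℕ)) : List (List ℕ) := D.map fun w => t :: w ++ Nat.xor t 1 :: iw w

theorem key {t : ℕ} {b : List ℕ} : ∀ l : List Tr, RelL g (zc b l) →
    (∀ p ∈ l, Commute (letter g t) (ev (letter g) p.1)) →
    ev (letter g) (hz b l) * ev (letter g) (cy t (l.map fun p => p.2.2)) =
      ev (letter g) (cy t (l.map fun p => p.2.1)) * ev (letter g) b
  | [], _, _ => by simp [hz, cy]
  | p :: r, h, hc => by
    have h1 := h _ List.mem_cons_self
    have h2 := key r (fun w hw => h w (List.mem_cons_of_mem _ hw)) fun q hq => hc q (List.mem_cons_of_mem _ hq)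
    have h3 := (hc p List.mem_cons_self).eq
    rw [ev_append, ev_iw, mul_inv_eq_one, ev_append, ev_append] at h1
    simp only [cy, List.map_cons, List.flatMap_cons, List.cons_append, ev_cons, ev_append] at h2 ⊢
    rw [hz, ← mul_assoc, ← h3, mul_assoc, ← mul_assoc (ev _ p.1), h1, mul_assoc (ev _ p.2.1), h2]
    simp only [mul_assoc]

theorem ev_mem_all {X : Subgroup G} (h : ∀ l, g l ∈ X) (w : List ℕ) : ev (letter g) w ∈ X := by
  induction w with
  | nil => exact one_mem _
  | cons a w ih => rw [ev_cons]; exact mul_mem ((letter_mem_iff a).2 (h _)) ih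

theorem sb2_mem {X : Subgroup G} {D : List (List ℕ)} (h : ∀ w ∈ D, ev (letter g) w ∈ X) (w : List ℕ) :
    ev (letter g) (sb2 D w) ∈ X := by
  rw [ev_sb2]
  refine ev_mem_all (fun l => ?_) w
  rw [List.getD_eq_getElem?_getD]
  cases hx : D[l]? with
  | none => exact one_mem _
  | some u => exact h u (List.mem_of_getElem? hx)

theorem inst {R D : List (List ℕ)} {t : ℕ} (hR : RelL g R) (hD : RelL g (cms t D)) (L : List (List Tr))
    (hN : RelL g (conds D L))
    (hc : L.all (fun l => ([] :: R).contains (fr (cy t (l.map fun p => p.2.1)))) = true) : RelL g (news t L) := by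
  intro w hw
  obtain ⟨l, hl, rfl⟩ := List.mem_map.1 hw
  have h1 := key (t := t) (zs D l) (fun u hu => hN u (List.mem_flatMap.2 ⟨l, hl, hu⟩)) fun p hp => by
    obtain ⟨q, -, rfl⟩ := List.mem_map.1 hp
    have := sb2_mem (g := g) (X := Subgroup.centralizer {letter g t}) (D := D) (fun u hu => by
      have := hD _ (List.mem_map_of_mem hu)
      rw [List.cons_append, ev_cons, ev_append, ev_cons, ev_iw, letter_xor, ← mul_assoc, ← mul_assoc, mul_inv_eq_one,
        mul_inv_eq_iff_eq_mul] at this
      exact Subgroup.mem_centralizer_singleton_iff.2 this.symm) q.1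
    exact (Subgroup.mem_centralizer_singleton_iff.1 this).symm
  have h2 := hR.fr (List.all_eq_true.1 hc l hl)
  rw [show hz (hz [] (zs D l)) (zs D l) = hz [] (zs D l) by cases l <;> rfl] at h1
  simp only [zs, List.map_map, Function.comp_def] at h1
  rw [h2, one_mul] at h1
  exact mul_eq_left.1 h1

theorem unrep {R R' : List (List ℕ)} (hR : RelL g R) {a : ℕ} {u : List ℕ}
    (h : ev (letter g) (u ++ [Nat.xor a 1]) = 1)
    (hc : R'.all (fun w => ([] :: R).contains (fr (rep a u w))) = true) : RelL g R' := fun w hw => by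
  rw [← ev_rep h]; exact hR.fr (List.all_eq_true.1 hc w hw)

theorem mem_of_rel {X : Subgroup G} {a u : List ℕ} (h : ev (letter g) (a ++ iw u) = 1) (hu : ev (letter g) u ∈ X) :
    ev (letter g) a ∈ X := by
  rw [ev_append, ev_iw, mul_inv_eq_one] at h; rwa [h]

theorem ev_eq_of_fr {a u : List ℕ} (h : fr a = fr u) : ev (letter g) a = ev (letter g) u := by
  rw [← ev_fr, h, ev_fr]

/-- the substituted relators in the first 14 letters -/
def nR (sw rels : List (List ℕ)) : List (List ℕ) :=
  (rels.map fun w => fr (sb sw w)).filter fun w => w.all fun a => Nat.blt a 28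

end H15.ZI
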