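import Cfsg.Agent.H15.Kl0
import Cfsg.Agent.S3072

/-! S4606: piece `PM1` and the assembly. -/
set_option autoImplicit false
namespace H15.Kl
open Subgroup Cfsg
open scoped Pointwise
universe u

theorem pM1 : PM1.{u} := by
  intro G _ _ p _ P hc hn
  obtain ⟨y, hy⟩ : ∃ y : (P : Subgroup G), y ∉ center (P : Subgroup G) := by
    by_contra h
    push Not at h
    exact hn ⟨⟨fun a b => (mem_center_iff.1 (h b) a)⟩⟩
  have hy1 : y ≠ 1 := fun h => hy (h ▸ one_mem _)
  haveI : Nontrivial (P : Subgroup G) := ⟨⟨y, 1, hy1⟩⟩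
  haveI := P.isPGroup'.center_nontrivial
  obtain ⟨⟨z, hz⟩, hz1⟩ := exists_ne (1 : center (P : Subgroup G))
  have hz1' : (z : G) ≠ 1 := fun h => hz1 (Subtype.ext (Subtype.ext h))
  obtain ⟨c, hcz⟩ := isConj_iff.1 (hc z z.2 y y.2 hz1' fun h => hy1 (Subtype.ext h))
  obtain ⟨n, H, X, x, c0, y0, h1, h2, h3, h4⟩ := Cfsg.Agent.S3072.result P {(z : G)} (by simp) ⟨z, rfl, hz1'⟩ c⁻¹
    (by rintro _ ⟨_, rfl, rfl⟩; simp only [inv_inv]; rw [hcz]; exact y.2)
  rcases n with _ | n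
  · exfalso
    apply hy
    rw [mem_center_iff]
    intro a
    have e : (y : G) = y0⁻¹ * z * y0 := by
      have h5 : (z : G) * c0 = c0 * z := mem_centralizer_iff.1 h1 z rfl
      rw [← hcz, ← inv_inv c, h3]
      simp only [List.ofFn_zero, List.prod_nil, mul_one, inv_inv, mul_inv_rev]
      calc _ = y0⁻¹ * c0⁻¹ * (z * c0) * y0 := by group
        _ = _ := by rw [h5]; group
    have ha : y0 * a * y0⁻¹ ∈ (P : Subgroup G) := (mem_normalizer_iff.1 h2 a).1 a.2
    have := congrArg Subtype.val (mem_center_iff.1 hz ⟨_, ha⟩)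
    simp only [coe_mul] at this
    apply Subtype.ext
    simp only [coe_mul]
    rw [e]
    calc _ = y0⁻¹ * (y0 * a * y0⁻¹ * z) * y0 := by group
      _ = _ := by rw [this]; group
  · obtain ⟨a1, a2, a3, a4, -, ⟨a5, a6, -, a7, -⟩, -, a8⟩ := h4 0
    have hzH : (z : G) ∈ H 0 := by simpa using a8 ⟨z, rfl, rfl⟩
    refine ⟨H 0, a1, fun h => hz1' (by rwa [h, mem_bot] at hzH), ?_, a4⟩
    by_contra hr
    push Not at hr
    have e : (P : Subgroup G) ⊓ normalizer (H 0 : Set G) = H 0 := by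
      refine le_antisymm (fun r hr' => ?_) (le_inf a1 le_normalizer)
      have h5 : r ∈ ((H 0 ⊔ centralizer (H 0 : Set G) : Subgroup G) : Set G) := hr r hr'.1 hr'.2
      rw [coe_mul_of_right_le_normalizer_left _ _ (centralizer_le_normalizer _)] at h5
      obtain ⟨h, hh, k, hk, rfl⟩ := h5
      refine mul_mem hh (a3 ⟨?_, hk⟩)
      have h6 : h⁻¹ * (h * k) ∈ (P : Subgroup G) := mul_mem (inv_mem (a1 hh)) hr'.1
      rwa [inv_mul_cancel_left] at h6
    rw [e, ← relIndex_mul_relIndex _ _ _ a5 a6] at a2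
    exact a2 (a7.mul_right _)

theorem main (hB : PB.{u}) (hS : PS.{u}) (hF : PF.{u}) (h2 : PM2.{u}) {G : Type u} [Group G] [Finite G] (p : ℕ)
    [Fact p.Prime] (M : Ideal AlgInt) (hM : IsPModular p M) (B : Set (IrrCharacter G)) (hb : IsPBlock M B)
    (D : Subgroup G) (hD : IsDefectGroup p M B D) (hk : Nat.card B = blockRank p B + 1)
    (h0 : B = principalBlock M G ∨ IsPSolvable p G) : IsElementaryAbelian p D := by
  obtain ⟨hp, hc, hP⟩ := hB G p M hM B hb D hD hk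
  rcases h0 with h0 | h0
  swap
  · exact hS G p D h0 hp hc
  obtain ⟨hcp, S, rfl⟩ := hP h0
  have hexp : ∀ a ∈ (S : Subgroup G), a ^ p = 1 := by
    intro a ha
    by_cases h1 : a = 1
    · simp [h1]
    obtain ⟨k, hk⟩ := IsPGroup.iff_orderOf.1 hp ⟨a, ha⟩
    rw [orderOf_mk] at hk
    have hd : p ∣ orderOf a := by
      rcases k with _ | k
      · exact absurd (orderOf_eq_one_iff.1 (by simpa using hk)) h1
      · rw [hk]; exact dvd_pow_self _ k.succ_ne_zero
    have ho := orderOf_pow_orderOf_div (orderOf_pos a).ne' hd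
    have hne : a ^ (orderOf a / p) ≠ 1 := fun h => by
      rw [h, orderOf_one] at ho
      exact (Fact.out : p.Prime).one_lt.ne ho
    obtain ⟨c, hc⟩ := isConj_iff.1 (hc _ (pow_mem ha _) a ha hne h1)
    have h3 : (a ^ (orderOf a / p)) ^ p = 1 := by
      have := pow_orderOf_eq_one (a ^ (orderOf a / p))
      rwa [ho] at this
    rw [← hc, conj_pow, h3]; simp
  refine ⟨?_, hexp⟩
  by_contra hn
  have hp2 : p ≠ 2 := by
    rintro rfl
    refine hn ⟨⟨fun a b => Subtype.ext ?_⟩⟩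
    have i : ∀ a ∈ (S : Subgroup G), a⁻¹ = a := fun a ha => inv_eq_of_mul_eq_one_right (by rw [← sq, hexp a ha])
    have := i _ (mul_mem a.2 b.2)
    rw [mul_inv_rev, i _ a.2, i _ b.2] at this
    exact this.symm
  obtain ⟨E, hE⟩ := pM1 G p S hc hn
  refine h2 G p S E hp2 hcp (hF G p hcp) (fun y ⟨k, hy⟩ => ?_) hE
  have hyp : IsPGroup p (zpowers y) := by
    rintro ⟨_, m, rfl⟩
    refine ⟨k, Subtype.ext ?_⟩
    show (y ^ m) ^ p ^ k = 1
    rw [← zpow_natCast, ← zpow_mul, mul_comm, zpow_mul, zpow_natCast, hy, one_zpow]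
  obtain ⟨T, hT⟩ := hyp.exists_le_sylow
  obtain ⟨g, hg⟩ := MulAction.exists_smul_eq G T S
  have hm : g * y * g⁻¹ ∈ (S : Subgroup G) := by
    rw [← hg, Sylow.coe_subgroup_smul, mem_pointwise_smul_iff_inv_smul_mem]
    simpa [mul_assoc] using hT (mem_zpowers y)
  have := hexp _ hm
  rwa [conj_pow, mul_inv_eq_one, mul_eq_left] at this

end H15.Kl
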