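import Cfsg.Agent.H15.Glue2
import Cfsg.Agent.H15.LyM
import Cfsg.Prelude.Def_Spor_Ly

/-! The representation `rho` of degree 111 over the field with 5 elements of the presented group `Cfsg.Spor.Ly`,
and an element of order 37. -/

set_option Elab.async false
set_option linter.constructorNameAsVariable false
set_option maxRecDepth 8000

namespace H15.Ly
open Cfsg.Spor Cfsg.Spor.Ly H14

/-- generators in order -/
def gl : List Gen := [.a, .b, .c, .d, .z, .e, .a1, .a2, .a3, .a4, .c1, .c2, .c3, .c4, .c5, .u, .x23, .x24, .x25, .x29, .x47, .x96, .x129, .x162, .x163, .x164, .x165, .x166, .x167, .x168, .x169, .x364, .x365, .x366, .x367, .x368, .x369, .x370, .x371]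
def ix (a : Gen) : ℕ := gl.idxOf a
/-- the generators -/
def g (l : ℕ) : Cfsg.Spor.Ly := pof edges extra (gl.getD l .a)
theorem g_ix (a : Gen) : g (ix a) = pof edges extra a := by cases a <;> rfl
/-- the relators -/
def R0 : List (List ℕ) := allW (enc14 ix) edges extra [] gl
theorem rel0 : RelL g R0 := allW_rel (codes14 g_ix) (by simp) gl
/-- the generators as words in `a, b, c, d, z` -/
def D : List (List ℕ) := [[0], [2], [4], [6], [8], [3, 3, 1, 5, 0, 4, 1, 4, 0, 6, 4, 2, 0, 3, 6, 4, 6], [0], [2, 0, 3], [2, 2, 0, 3, 3], [3, 3, 0, 2, 2], [4], [1, 4, 0], [3, 4, 2], [2, 4, 3], [5, 1, 5, 0, 4, 1, 4, 0], [0, 0], [6], [7], [2, 2, 1, 3, 1, 2, 2, 5, 0, 4, 1, 5, 6, 5, 2, 2, 1, 4, 2], [0, 2, 1, 2, 2, 1, 2, 2, 5, 0, 4, 2, 4, 3, 6, 4, 3, 3, 6, 4, 2, 4], [5, 7, 1, 5, 1, 2, 5, 7], [2, 6], [7, 3], [1, 3, 1, 2, 5, 3, 0, 5, 2, 0], [3, 3, 0, 4, 1, 2, 4, 2], [1, 3, 1, 4,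 0, 2, 0], [3, 1, 2, 4, 3, 0, 2], [2, 2, 1, 3, 4, 2, 0, 4, 3, 3, 5], [1, 1, 1], [2, 1, 3, 1, 1], [0, 2, 2, 0, 3, 3, 1], [1, 6, 3, 5, 1, 2, 5, 7, 2, 5, 3, 1, 5, 0, 3, 0, 2, 0, 3], [0, 3, 3, 1, 4, 2, 5, 2, 1, 5, 5, 6, 4, 0, 4, 1, 4, 3, 7], [2, 0, 3, 1, 3, 3, 1, 3, 4, 2, 2, 4, 2, 6, 4, 3, 3, 6, 4, 2, 4], [5, 3, 5, 7, 2, 2, 5, 7, 3, 5, 3, 3, 5, 2, 0, 2, 2, 0, 2, 1, 3], [1, 5, 7, 0, 5, 3, 0, 5, 7, 1, 5, 0, 4, 3, 3, 5, 3, 1, 3, 3], [1, 5, 7, 2, 1, 3, 5, 7, 2, 1, 3, 5, 3, 0, 3, 3, 0, 3], [7, 0, 4, 2, 4, 1, 5, 7, 0, 3, 1, 4, 1, 3, 3, 1, 2, 1], [5, 1, 4, 2, 5, 7, 4, 1, 4, 0, 4, 3, 1, 3, 1, 2]]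
theorem hD : ∀ l < 39, g l = ev (letter g) (D.getD l []) := fun l hl =>
  eq_of_defChk rel0 (dn := []) fa_nil (ls := [0, 1, 2, 3, 4, 10, 11, 12, 13, 14, 5, 6, 7, 8, 9] ++ List.range' 15 24)
    (by decide +kernel) l (by revert l; decide)
/-- the relators in `a, b, c, d, z` -/
def R : List (List ℕ) := R0.map fun w => fr (sb2 D w)
theorem rel : RelL g R := rel0.sb2 hD (by decide +kernel)
theorem top5 : Sw g (lts 5) = ⊤ :=
  eq_top_iff.2 ((lts_top g_ix (k := 39) fun a => by cases a <;> decide).ge.trans (lts_le_of_defs hD (by decide +kernel)))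

/-- the generators as words in the matrices -/
def D2 : List (List ℕ) := [[0], [2], [4], [6], [8], [10], [0], [2, 0, 3], [2, 2, 0, 3, 3], [3, 3, 0, 2, 2], [4], [12], [14], [16], [18], [0, 0], [6], [7], [2, 2, 1, 3, 1, 2, 2, 5, 0, 4, 1, 5, 6, 5, 2, 2, 1, 4, 2], [0, 2, 1, 2, 2, 1, 2, 2, 5, 0, 4, 2, 4, 3, 6, 4, 3, 3, 6, 4, 2, 4], [5, 7, 1, 5, 1, 2, 5, 7], [2, 6], [7, 3], [1, 3, 1, 2, 5, 3, 0, 5, 2, 0], [3, 3, 0, 4, 1, 2, 4, 2], [1, 3, 1, 4, 0, 2, 0], [3, 1, 2, 4, 3, 0, 2], [2, 2, 1, 3, 4, 2, 0, 4, 3, 3, 5], [1, 1, 1], [2, 1, 3, 1, 1], [0, 2, 2, 0, 3, 3, 1], [1, 6, 3, 5, 1, 2, 5, 7, 2, 5, 3, 1, 5, 0, 3, 0, 2, 0, 3], [0, 3, 3, 1, 4, 2, 5, 2, 1, 5, 5, 6, 4, 0, 4, 1, 4, 3, 7], [2, 0, 3, 1, 3, 3, 1, 3, 4, 2, 2, 4, 2, 6, 4, 3, 3, 6, 4, 2, 4], [5, 3, 5, 7, 2, 2, 5, 7, 3, 5, 3, 3, 5, 2, 0, 2, 2, 0, 2, 1, 3], [1, 5, 7, 0, 5, 3, 0, 5, 7, 1, 5, 0, 4, 3, 3, 5, 3, 1,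 3, 3], [1, 5, 7, 2, 1, 3, 5, 7, 2, 1, 3, 5, 3, 0, 3, 3, 0, 3], [7, 0, 4, 2, 4, 1, 5, 7, 0, 3, 1, 4, 1, 3, 3, 1, 2, 1], [5, 1, 4, 2, 5, 7, 4, 1, 4, 0, 4, 3, 1, 3, 1, 2]]
/-- the relations to be checked -/
def rl : List (Word × Word) := (extra.map fun r => fr (sb2 D2 (wordOf (enc14 ix) r))).map fun w => (w.reverse, [])

theorem hc0 : LyM.c.rels LyM.ms (List.take 10 (List.drop 0 rl)) = true := by decide +kernel
theorem hc1 : LyM.c.rels LyM.ms (List.take 12 (List.drop 10 rl)) = true := by decide +kernel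
theorem hc2 : LyM.c.rels LyM.ms (List.take 7 (List.drop 22 rl)) = true := by decide +kernel
theorem hc3 : LyM.c.rels LyM.ms (List.take 7 (List.drop 29 rl)) = true := by decide +kernel
theorem hc4 : LyM.c.rels LyM.ms (List.take 6 (List.drop 36 rl)) = true := by decide +kernel
theorem hc5 : LyM.c.rels LyM.ms (List.take 33 (List.drop 42 rl)) = true := by decide +kernel
theorem hc6 : LyM.c.rels LyM.ms (List.take 6 (List.drop 75 rl)) = true := by decide +kernel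
theorem hc7 : LyM.c.rels LyM.ms (List.take 1 (List.drop 81 rl)) = true := by decide +kernel
theorem hc8 : LyM.c.rels LyM.ms (List.take 1 (List.drop 82 rl)) = true := by decide +kernel
theorem hc9 : LyM.c.rels LyM.ms (List.take 1 (List.drop 83 rl)) = true := by decide +kernel
theorem hc10 : LyM.c.rels LyM.ms (List.take 1 (List.drop 84 rl)) = true := by decide +kernel
theorem hc11 : LyM.c.rels LyM.ms (List.drop 85 rl) = true := by decide +kernel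
theorem homR : Rels LyM.gen (List.drop 0 rl) := (rels_td 0 10 10 rfl (BP.rels_of_chk LyM.c_ok LyM.hgen hc0) (rels_td 10 12 22 rfl (BP.rels_of_chk LyM.c_ok LyM.hgen hc1) (rels_td 22 7 29 rfl (BP.rels_of_chk LyM.c_ok LyM.hgen hc2) (rels_td 29 7 36 rfl (BP.rels_of_chk LyM.c_ok LyM.hgen hc3) (rels_td 36 6 42 rfl (BP.rels_of_chk LyM.c_ok LyM.hgen hc4) (rels_td 42 33 75 rfl (BP.rels_of_chk LyM.c_ok LyM.hgen hc5) (rels_td 75 6 81 rfl (BP.rels_of_chk LyM.c_ok LyM.hgen hc6) (rels_td 81 1 82 rfl (BP.rels_of_chk LyM.c_ok LyM.hgen hc7) (rels_td 82 1 83 rfl (BP.rels_of_chk LyM.c_ok LyM.hgen hc8) (rels_td 83 1 84 rfl (BP.rels_of_chk LyM.c_ok LyM.hgen hc9) (rels_td 84 1 85 rfl (BP.rels_of_chk LyM.c_ok LyM.hgen hc10) (BP.rels_of_chk LyM.c_ok LyM.hgen hc11))))))))))))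

theorem ex_rho : ∃ ρ : Cfsg.Spor.Ly →* GL (Fin 111) (ZMod 5),
    ∀ a, ρ (pof edges extra a) = ev (letter LyM.gen) (D2.getD (ix a) []) :=
  exists_hom_sb ix LyM.gen D2 (relL_of_rels homR)

/-- the representation -/
noncomputable def rho : Cfsg.Spor.Ly →* GL (Fin 111) (ZMod 5) := ex_rho.choose
theorem rho_g : ∀ l < 5, rho (g l) = LyM.gen l := fun l hl => by
  rw [g, rho, ex_rho.choose_spec, show D2.getD (ix (gl.getD l .a)) [] = [2 * l] by revert l; decide]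
  simp [letter]

/-- a word for an element of order 37 -/
def zw : List ℕ := [0, 5, 6, 2, 8, 4, 2, 5, 9, 3, 7, 4]
theorem zc : LyM.c.rels LyM.ms [([20], zw.reverse), (powW [20] 37, [])] = true := by decide +kernel
theorem rho_z : rho (ev (letter g) zw) = LyM.gen 10 := by
  rw [map_evL, evL_congr rho_g (by decide), ← ev14, ← BP.rels_of_chk LyM.c_ok LyM.hgen zc _ List.mem_cons_self]
  exact ev_single _ 10
theorem z37 : rho (ev (letter g) zw) ^ 37 = 1 := by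
  have := BP.rels_of_chk LyM.c_ok LyM.hgen zc (powW [20] 37, []) (by simp)
  rwa [ev_powW, ev_single _ 10, ← rho_z] at this
theorem z1 : rho (ev (letter g) zw) ≠ 1 := by
  rw [rho_z]; exact BP.ne_one LyM.c_ok LyM.hgen (l := 10) (by decide +kernel)

end H15.Ly
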