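import Cfsg.Agent.H15.Glue3
import Cfsg.Agent.H15.LyR
import Cfsg.Agent.H15.LyX
import Cfsg.Agent.H15.TLy1
import Cfsg.Agent.H15.TLy2
import Cfsg.Agent.H15.TLy3
import Cfsg.Agent.H15.TLy4

/-! The presented group `Cfsg.Spor.Ly`: order, simplicity, the subgroup on `a, b, c, d` as a machine `H15.Ly.M` on
23438 points embedded by `theta`, the faithful representation `rho`. -/

set_option Elab.async false
set_option linter.constructorNameAsVariable false
set_option maxRecDepth 8000

namespace H15.Ly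
open Cfsg.Spor Cfsg.Spor.Ly H14

/-- the permutation machine -/
noncomputable abbrev P := permPM 23438 LyH.nets (by decide) (by decide) LyH.nets_ok
/-- pairs -/
noncomputable def g2 : ℕ → Cfsg.Spor.Ly × Equiv.Perm (Fin 23438) := pr g P.gen
/-- the relators on `a, b, c, d` -/
def rq : List (Word × Word) := (R.take 44).map fun w => (w.reverse, [])

theorem qc0 : relsChk 23438 LyH.nets 15 (idArr 23438 15 15 0) (List.take 16 (List.drop 0 rq)) = true := by decide +kernel
theorem qc1 : relsChk 23438 LyH.nets 15 (idArr 23438 15 15 0) (List.take 9 (List.drop 16 rq)) = true := by decide +kernel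
theorem qc2 : relsChk 23438 LyH.nets 15 (idArr 23438 15 15 0) (List.take 7 (List.drop 25 rq)) = true := by decide +kernel
theorem qc3 : relsChk 23438 LyH.nets 15 (idArr 23438 15 15 0) (List.take 3 (List.drop 32 rq)) = true := by decide +kernel
theorem qc4 : relsChk 23438 LyH.nets 15 (idArr 23438 15 15 0) (List.take 3 (List.drop 35 rq)) = true := by decide +kernel
theorem qc5 : relsChk 23438 LyH.nets 15 (idArr 23438 15 15 0) (List.drop 38 rq) = true := by decide +kernel
theorem qrel : Rels P.gen (List.drop 0 rq) := (rels_td 0 16 16 rfl (P.rels_of_idArr (by decide) qc0) (rels_td 16 9 25 rfl (P.rels_of_idArr (by decide) qc1) (rels_td 25 7 32 rfl (P.rels_of_idArr (by decide) qc2) (rels_td 32 3 35 rfl (P.rels_of_idArr (by decide) qc3) (rels_td 35 3 38 rfl (P.rels_of_idArr (by decide) qc4) (P.rels_of_idArr (by decide) qc5))))))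
theorem rel2 : RelL g2 (R.take 44) :=
  RelL.pr (fun w hw => rel w (List.mem_of_mem_take hw)) (relL_of_rels qrel)

theorem bd2 : Bd (Sw g2 (lts 2)) (1 * 480) :=
  bd_step TLy1.idx rel2 [[0], [1], [2], [3]] (Bd.Sw_nil g2) (by decide +kernel)
theorem bd3 : Bd (Sw g2 (lts 3)) (1 * 480 * 3125) :=
  bd_step TLy2.idx rel2 [[0], [1], [2], [3], [4], [5], [1, 4, 0], [1, 5, 0], [3, 4, 2], [3, 5, 2], [2, 4, 3], [2, 5, 3], [5, 1, 5, 0, 4, 1, 4, 0], [1, 5, 0, 5, 1, 4, 0, 4]] bd2 (by decide +kernel)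
theorem bd4 : Bd (Sw g2 (lts 4)) 5859000000 :=
  bd_step TLy3.idx rel2 [[0], [1], [2], [3], [4], [5], [6], [7], [3, 3, 1, 5, 0, 4, 1, 4, 0, 6, 4, 2, 0, 3, 6, 4, 6], [7, 5, 7, 2, 1, 3, 5, 7, 1, 5, 0, 5, 1, 4, 0, 2, 2], [1, 4, 0], [1, 5, 0], [3, 4, 2], [3, 5, 2], [2, 4, 3], [2, 5, 3], [5, 1, 5, 0, 4, 1, 4, 0], [1, 5, 0, 5, 1, 4, 0, 4]] bd3 (by decide +kernel)

/-- the subgroup on `a, b, c, d`, paired with its permutations -/
noncomputable abbrev Y := Sw g2 (lts 4)

theorem ex_M : ∃ π : Y →* Equiv.Perm (Fin 23438), Function.Injective π ∧ Nat.card Y = 5859000000 ∧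
    ∃ M : PM Y (Pt π) 23438 LyH.nets, (∀ l < 4, (M.gen l).1.1 = g l) ∧ ∀ l, π (M.gen l) = P.gen l :=
  DC.prod_machine g (fun _ hl => gen_mem_lts g2 hl) bd4 LyH.dok LyH.dlen (LyH.relsD_ok P) (LyH.low P)

/-- the permutation representation -/
noncomputable def pi : Y →* Equiv.Perm (Fin 23438) := ex_M.choose
theorem pi_inj : Function.Injective pi := ex_M.choose_spec.1
theorem cardY : Nat.card Y = 5859000000 := ex_M.choose_spec.2.1
instance instFaithful : FaithfulSMul Y (Pt pi) := faithful_Pt pi_inj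
/-- the machine -/
noncomputable def M : PM Y (Pt pi) 23438 LyH.nets := ex_M.choose_spec.2.2.choose
/-- the embedding -/
noncomputable def theta : Y →* Cfsg.Spor.Ly := (MonoidHom.fst _ _).comp Y.subtype
theorem theta_gen : ∀ l < 4, theta (M.gen l) = g l := ex_M.choose_spec.2.2.choose_spec.1
theorem pi_gen (l : ℕ) : pi (M.gen l) = P.gen l := ex_M.choose_spec.2.2.choose_spec.2 l
theorem range_theta : theta.range = Sw g (lts 4) := by
  rw [theta, MonoidHom.range_comp, Subgroup.range_subtype, map_Sw]; rfl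

theorem rel6 : RelL g (pick (R ++ R.map (rep 9 [1, 1, 8])) [(72, 1, true), (73, 1, true), (74, 1, true), (75, 1, true), (76, 1, true), (77, 1, true), (78, 1, true), (79, 1, true), (80, 0, false), (81, 5, false), (82, 8, false), (208, 2, false), (209, 0, false), (210, 0, false)]) :=
  (rel.rep ((rel.pick [(80, 2, false)]).fr (by decide +kernel))).pick _

theorem hyp : (∀ p ∈ LyX.gs, g 4 * theta (H14.ev M.gen p.1) = theta (H14.ev M.gen p.2) * g 4) ∧
    ∀ r ∈ [LyX.rb, LyX.ra] :: LyX.R1, DC.rw14 (fun w => theta (H14.ev M.gen w)) (g 4) r = 1 :=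
  hyp_of_rels 4 theta_gen rel6 (by decide +kernel)

theorem hgen (X : Subgroup Cfsg.Spor.Ly) (h : theta.range ≤ X) (ht : g 4 ∈ X) : X = ⊤ := by
  rw [eq_top_iff, ← top5]
  refine lts_le fun l hl => ?_
  rcases Nat.lt_succ_iff_lt_or_eq.1 hl with hl | rfl
  · exact h ⟨_, theta_gen l hl⟩
  · exact ht

theorem hncl (X : Subgroup Cfsg.Spor.Ly) (hX : X.Normal) (h : ev (letter g) zw ∈ X) : X = ⊤ := by
  have e : zw = [0] ++ ([5, 6, 2, 8, 4] ++ [2] ++ iw [5, 6, 2, 8, 4]) := by decide
  rw [e, ev_append, ev_append, ev_append, ev_iw] at h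
  have h1 := mem_of_coprime (p := 8) (r := 5) (by rw [← ev_powL]; exact rel.fr (by decide +kernel))
    (by rw [← ev_powL]; exact rel.fr (by decide +kernel)) (by decide) h
  have h2 := mem_of_quot TLy4.mem rel (R' := [[0], [2]]) (fa_cons h1.1 (fa_cons h1.2 fa_nil))
    [[0], [1], [2], [3], [4], [5], [6], [7], [8], [9]] (by decide +kernel)
  rw [eq_top_iff, ← top5]
  exact Sw_le fun w hw => (fa_cons h1.1 (fa_cons h1.2 h2) : ∀ w ∈ [0] :: [2] :: _, ev (letter g) w ∈ X) w
    (by revert w; decide +kernel)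

theorem main : Function.Injective theta ∧ Function.Injective rho ∧ theta.range.index = 8835156 ∧
    Nat.card Cfsg.Spor.Ly = 51765179004000000 ∧ IsSimpleGroup Cfsg.Spor.Ly :=
  LyX.main M cardY hyp.1 hyp.2 hgen rho z37 z1 (by decide) hncl

end H15.Ly
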