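import Cfsg.Prelude.Def_Sporadic
import Cfsg.Prelude.Def_Exceptional
import Cfsg.Agent.H15.Ly2
import Cfsg.Agent.H15.LyT
import Cfsg.Agent.H15.Cnt4
import Cfsg.Agent.H15.LyAM

/-! The centraliser `2.A11` of an involution of `Cfsg.Spor.Ly`. -/

set_option Elab.async false
set_option maxRecDepth 100000

namespace H15.LyA
open H14 L

/-- words for the Carmichael generators -/
def W : List Word := [[22], [24], [26], [28], [30], [32], [34], [36], [38]]
def es : List ℕ := [0, 0, 1, 0, 1, 1, 0, 1, 1, 1, 0, 1, 1, 1, 1, 0, 1, 1, 1, 1, 1, 0, 1, 1, 1, 1, 1, 1, 0, 1, 1, 1, 1, 1, 1, 1, 0, 1, 1, 1, 1, 1, 1, 1, 1]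
/-- definitions of the new letters -/
def ds : List Word := [[0, 2, 0, 2], [5, 5, 10, 4, 4, 10, 5, 5, 10, 4, 4, 10, 5, 5], [5, 9, 3, 8, 1, 3, 1, 4, 6, 10, 7, 5, 0, 2, 0, 9, 2, 8, 4, 10, 5, 9, 3, 8, 1, 3, 1, 4, 6, 10, 7, 5, 0, 2, 0, 9, 2, 8, 4, 10, 5, 9, 3, 8, 1, 3, 1, 4, 6], [8, 2, 1, 7, 7, 7, 10, 6, 6, 6, 0, 3, 9, 10, 8, 2, 1, 7, 7, 7, 10, 6, 6, 6, 0, 3, 9, 10, 8, 2, 1, 7, 7, 7], [3, 8, 6, 0, 10, 1, 7, 9, 2, 10, 3, 8, 6, 0], [16, 14, 18, 18, 16], [20, 20, 20, 20, 20, 20, 20], [16, 18, 16, 19, 14, 12, 14, 22, 15, 13, 15, 18, 17, 19, 17], [13, 16, 13, 18, 16, 18, 15, 22, 14, 19, 17, 19, 12, 17, 12], [15, 12, 12, 22, 13, 13, 14], [17, 17, 14, 13, 13, 18, 12, 22, 13, 19, 12, 12, 15, 16, 16], [13, 13, 17, 15, 19, 17, 22, 16, 18, 14, 16, 12, 12], [18, 14, 12, 17, 17, 14, 22, 15, 16, 16, 13, 15, 19], [12, 15, 16, 14, 17, 22, 16, 15, 17, 14, 13], [15, 17, 14, 12, 17, 22, 16, 13, 15, 16, 14]]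
noncomputable def rd : List (Word × Word) := defRels ds 5
theorem hd0 : LyAM.c.rels LyAM.ms (List.take 3 (List.drop 0 rd)) = true := by decide +kernel
theorem hd1 : LyAM.c.rels LyAM.ms (List.take 5 (List.drop 3 rd)) = true := by decide +kernel
theorem hd2 : LyAM.c.rels LyAM.ms (List.take 6 (List.drop 8 rd)) = true := by decide +kernel
theorem hd3 : LyAM.c.rels LyAM.ms (List.drop 14 rd) = true := by decide +kernel
theorem relD : Rels LyAM.gen (List.drop 0 rd) := (rels_td 0 3 3 rfl (BP.rels_of_chk LyAM.c_ok LyAM.hgen hd0) (rels_td 3 5 8 rfl (BP.rels_of_chk LyAM.c_ok LyAM.hgen hd1) (rels_td 8 6 14 rfl (BP.rels_of_chk LyAM.c_ok LyAM.hgen hd2) (BP.rels_of_chk LyAM.c_ok LyAM.hgen hd3))))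
theorem ex_y : ∃ y : ℕ → Cfsg.Spor.Ly, ∀ l < 5 + ds.length, Ly.rho (y l) = LyAM.gen l :=
  exists_pull Ly.rho (fun l hl => ⟨_, (Ly.rho_g l hl).trans (LyAM.gen_old l hl).symm⟩) (by decide +kernel) relD
/-- the letters -/
noncomputable def y : ℕ → Cfsg.Spor.Ly := ex_y.choose
theorem rho_y : ∀ l < 20, Ly.rho (y l) = LyAM.gen l := ex_y.choose_spec
theorem y_old : ∀ l < 5, y l = Ly.g l := fun l hl =>
  Ly.main.2.1 ((rho_y l (by omega)).trans ((LyAM.gen_old l hl).trans (Ly.rho_g l hl).symm))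
theorem yD : Rels y rd := Rels.pull Ly.main.2.1 rho_y relD (by decide +kernel)
noncomputable def mr : List (Word × Word) := modR W [10] ((carm 9).map fun w => (w.reverse, [])) es
theorem hmr0 : LyAM.c.rels LyAM.ms (List.take 18 (List.drop 0 mr)) = true := by decide +kernel
theorem hmr1 : LyAM.c.rels LyAM.ms (List.take 16 (List.drop 18 mr)) = true := by decide +kernel
theorem hmr2 : LyAM.c.rels LyAM.ms (List.drop 34 mr) = true := by decide +kernel
theorem ymr : Rels y mr := Rels.pull Ly.main.2.1 rho_y (show Rels LyAM.gen (List.drop 0 mr) from (rels_td 0 18 18 rfl (BP.rels_of_chk LyAM.c_ok LyAM.hgen hmr0) (rels_td 18 16 34 rfl (BP.rels_of_chk LyAM.c_ok LyAM.hgen hmr1) (BP.rels_of_chk LyAM.c_ok LyAM.hgen hmr2)))) (by decide +kernel)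
noncomputable def cm : List (Word × Word) := comR W [10]
theorem hcm0 : LyAM.c.rels LyAM.ms (List.drop 0 cm) = true := by decide +kernel
theorem ycm : Rels y cm := Rels.pull Ly.main.2.1 rho_y (show Rels LyAM.gen (List.drop 0 cm) from (BP.rels_of_chk LyAM.c_ok LyAM.hgen hcm0)) (by decide +kernel)
noncomputable def ex : List (Word × Word) := [(flat W (H14.invW [2, 0] ++ (H14.invW [0, 2] ++ ([2, 0] ++ [0, 2]))), [10]), (powW [10] 2, [])]
theorem hex0 : LyAM.c.rels LyAM.ms (List.drop 0 ex) = true := by decide +kernel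
theorem yex : Rels y ex := Rels.pull Ly.main.2.1 rho_y (show Rels LyAM.gen (List.drop 0 ex) from (BP.rels_of_chk LyAM.c_ok LyAM.hgen hex0)) (by decide +kernel)

theorem ne {u v : Word} (hu : u.all (fun a => Nat.blt a (2 * 20)) = true) (hv : v.all (fun a => Nat.blt a (2 * 20)) = true)
    (h : ev (letter LyAM.gen) u.reverse ≠ ev (letter LyAM.gen) v.reverse) : H14.ev y u ≠ H14.ev y v := fun e => h (by
  rw [← ev14, ← ev14, List.reverse_reverse, List.reverse_reverse, ← ev14_congr rho_y hu, ← ev14_congr rho_y hv,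
    ← H14.map_ev, ← H14.map_ev, e])
theorem t2 : H14.ev y [10] ^ 2 = 1 := (ev_powW _ _).symm.trans (yex _ (List.mem_cons_of_mem _ List.mem_cons_self))
theorem tt : H14.ev y [10] = Ly.theta (H14.ev Ly.M.gen LyT.tw) := by
  rw [H14.map_ev, ev14_congr Ly.theta_gen (by decide), ← ev14_congr (k := 5) y_old (by decide)]
  exact yD ([10], LyT.tw) (by decide +kernel)
theorem one' : H14.ev y [0, 1] = 1 := (H14.ev_append y [0] (H14.invW [0])).trans (by rw [H14.ev_invW, inv_mul_cancel])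
theorem ord : orderOf (H14.ev y [10]) = 2 := orderOf_eq_prime t2 (one' ▸ ne (by decide) (by decide)
  (BP.ne_of_fld LyAM.c_ok LyAM.hgen 0 0 (by decide +kernel)))

theorem main : ∃ H : Subgroup (Equiv.Perm (Fin 8835156)), Cfsg.IsLy H ∧ MulAction.IsPretransitive H (Fin 8835156) ∧
    Cfsg.IsG2 (MulAction.stabilizer H (0 : Fin 8835156)) ∧ ∃ t : H, orderOf t = 2 ∧
      Cfsg.IsNonsplitDoubleCover (Subgroup.centralizer ({t} : Set H)) (alternatingGroup (Fin 11)) := by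
  obtain ⟨-, -, hi, hc, hs⟩ := Ly.main
  obtain ⟨H, i, h1, ⟨j⟩⟩ := coset_rep Ly.theta.range hi (by decide)
  have := alternatingGroup.isSimpleGroup (α := Fin 11) (by simp)
  have : Finite Cfsg.Spor.Ly := Nat.finite_of_card_ne_zero (by rw [hc]; decide)
  obtain ⟨x, hom⟩ := homA11'
  obtain ⟨h2, h3, f, h4, h5⟩ := cent_cover i ycm ymr (by decide +kernel) (not_mem_zpowers (p := 1) t2 fun k hk => by
    have h0 : loc y W 0 = H14.ev y [22] := rfl
    rw [h0]
    interval_cases k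
    · rw [pow_zero, ← one']
      exact ne (by decide) (by decide) (BP.ne_of_fld LyAM.c_ok LyAM.hgen 0 1 (by decide +kernel))
    · rw [pow_one]
      exact ne (by decide) (by decide) (BP.ne_of_fld LyAM.c_ok LyAM.hgen 0 0 (by decide +kernel))) hom ord
    (by rw [tt, cardA11]; exact LyT.cent.trans_lt (by decide))
  let j' := j.trans (MulEquiv.subgroupCongr Ly.range_theta)
  have := Ly.simpleH
  refine ⟨H, ⟨i.symm.isSimpleGroup, (Nat.card_congr i.toEquiv).symm.trans hc⟩, h1,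
    ⟨j'.isSimpleGroup, 5, Nat.prime_five.isPrimePow, by decide, (Nat.card_congr j'.toEquiv).trans Ly.cardH⟩,
    i (H14.ev y [10]), (i.orderOf_eq _).trans ord, dc_cover h4 h5 cardA11 (by decide) (by norm_num) (cardA11 ▸ h3)
      (h2 [0, 2]) (h2 [2, 0]) ?_⟩
  rw [← show _ = H14.ev y [10] from yex _ List.mem_cons_self, ← map_inv, ← map_inv, ← map_mul, ← map_mul, ← map_mul,
    ev_flat, ev_flat, ev_flat, H14.ev_append, H14.ev_append, H14.ev_append, H14.ev_invW, H14.ev_invW]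

end H15.LyA
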