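import Cfsg.Prelude.Def_Sporadic
import Cfsg.Agent.H15.LyU
import Cfsg.Agent.H15.Cnt4
import Cfsg.Agent.H15.LyBM

/-! The centraliser `3.McL` of an element of order 3 of `Cfsg.Spor.Ly`. -/

set_option Elab.async false
set_option maxRecDepth 100000

namespace H15.LyB
open H14 L

/-- words for the letters of the McLaughlin group -/
def W : List Word := [[46], [48], [50], [52], [54], [56], [58], [60], [62], [64], [66], [68], [70], [72], [74]]
def es : List ℕ := [0, 0, 1, 1, 0, 2, 1, 1, 0, 2, 0, 0, 0, 0, 1, 2, 0, 0, 1, 1, 2, 2, 0, 0, 0, 0, 1, 1, 1, 2, 0, 0, 0, 2, 1, 0, 1, 1, 0, 1, 0, 0, 1, 1, 0, 1, 0, 2, 2, 0, 0, 1, 1, 0, 0, 2, 1, 1, 2, 1, 0, 2, 1, 2, 2, 2, 2, 0, 0, 2, 1, 0, 2, 0, 0, 2, 2, 0, 0, 0, 0, 0, 0, 1, 0, 2, 0, 1, 0, 1, 0, 1, 2, 0, 2, 1, 2, 0, 0, 0, 2, 0, 1, 0, 1, 2, 1, 2, 0, 0, 1, 0, 0, 2, 2, 2, 2, 2, 0, 0, 2, 2]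
/-- definitions of the new letters -/
def ds : List Word := [[0, 2, 1, 3], [0, 0, 0, 0], [6, 9, 9, 4, 3, 5, 12, 4, 2, 5, 8, 8, 7, 12, 6, 9, 9, 4, 3, 5, 12, 4, 2, 5, 8, 8, 7, 12, 6, 9, 9, 4, 3, 5], [9, 2, 4, 4, 4, 1, 3, 1, 6, 12, 7, 0, 2, 0, 5, 5, 5, 3, 8, 12, 9, 2, 4, 4, 4, 1, 3, 1, 6, 12, 7, 0, 2, 0, 5, 5, 5, 3, 8, 12, 9, 2, 4, 4, 4, 1, 3, 1, 6], [4, 4, 0, 12, 1, 5, 5, 12, 4, 4, 0, 12, 1, 5, 5, 12, 4, 4, 0], [1, 3, 0, 8, 0, 5, 5, 12, 4, 4, 1, 9, 1, 2, 0, 12, 1, 3, 0, 8, 0, 5, 5, 12, 4, 4, 1, 9, 1, 2, 0, 12, 1, 3, 0, 8, 0, 5, 5], [14, 20, 17, 14, 14], [15, 21, 17, 14, 14], [14, 20, 18, 14, 14], [5, 0, 5, 3, 4, 2, 0], [27, 23, 28, 25, 29], [30, 30], [32, 32, 32], [27, 29, 22, 27, 24, 26, 34, 27, 25, 26, 23, 28, 26], [12, 36], [12, 36, 36], [12, 37], [12, 37, 37], [44, 42, 42, 44, 44, 42, 44, 40, 42, 42, 44, 44, 44, 44, 42], [40, 42, 40, 44, 44, 44, 44, 38, 42, 42, 44, 42, 40, 38, 38], [47, 49, 49], [48,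 47, 49, 49, 49], [53, 50, 53, 53, 50, 52, 51, 52, 51, 52, 50, 52, 50], [51, 52, 52, 50, 53, 51, 53, 53, 53, 51], [57, 55, 57, 57, 57, 55, 57, 55], [55, 57, 57, 54, 54, 54], [60, 58, 61, 58, 58, 60, 59], [60, 60, 58, 60, 59, 59, 61, 59], [60, 58, 60, 60, 58, 60, 60, 60, 59], [63, 65, 63, 64, 64, 62, 64, 66, 66, 64, 64, 62, 65, 62], [66, 62, 65, 63, 63, 65, 65], [66, 63, 63, 67], [72, 70, 70, 70, 72, 72, 71, 69]]
noncomputable def rd : List (Word × Word) := defRels ds 5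
theorem hd0 : LyBM.c.rels LyBM.ms (List.take 3 (List.drop 0 rd)) = true := by decide +kernel
theorem hd1 : LyBM.c.rels LyBM.ms (List.take 2 (List.drop 3 rd)) = true := by decide +kernel
theorem hd2 : LyBM.c.rels LyBM.ms (List.take 8 (List.drop 5 rd)) = true := by decide +kernel
theorem hd3 : LyBM.c.rels LyBM.ms (List.take 10 (List.drop 13 rd)) = true := by decide +kernel
theorem hd4 : LyBM.c.rels LyBM.ms (List.take 9 (List.drop 23 rd)) = true := by decide +kernel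
theorem hd5 : LyBM.c.rels LyBM.ms (List.drop 32 rd) = true := by decide +kernel
theorem relD : Rels LyBM.gen (List.drop 0 rd) := (rels_td 0 3 3 rfl (BP.rels_of_chk LyBM.c_ok LyBM.hgen hd0) (rels_td 3 2 5 rfl (BP.rels_of_chk LyBM.c_ok LyBM.hgen hd1) (rels_td 5 8 13 rfl (BP.rels_of_chk LyBM.c_ok LyBM.hgen hd2) (rels_td 13 10 23 rfl (BP.rels_of_chk LyBM.c_ok LyBM.hgen hd3) (rels_td 23 9 32 rfl (BP.rels_of_chk LyBM.c_ok LyBM.hgen hd4) (BP.rels_of_chk LyBM.c_ok LyBM.hgen hd5))))))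
theorem ex_y : ∃ y : ℕ → Cfsg.Spor.Ly, ∀ l < 5 + ds.length, Ly.rho (y l) = LyBM.gen l :=
  exists_pull Ly.rho (fun l hl => ⟨_, (Ly.rho_g l hl).trans (LyBM.gen_old l hl).symm⟩) (by decide +kernel) relD
/-- the letters -/
noncomputable def y : ℕ → Cfsg.Spor.Ly := ex_y.choose
theorem rho_y : ∀ l < 38, Ly.rho (y l) = LyBM.gen l := ex_y.choose_spec
theorem y_old : ∀ l < 5, y l = Ly.g l := fun l hl =>
  Ly.main.2.1 ((rho_y l (by omega)).trans ((LyBM.gen_old l hl).trans (Ly.rho_g l hl).symm))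
theorem yD : Rels y rd := Rels.pull Ly.main.2.1 rho_y relD (by decide +kernel)
noncomputable def mr : List (Word × Word) := modR W [10] relsMcL es
theorem hmr0 : LyBM.c.rels LyBM.ms (List.take 5 (List.drop 0 mr)) = true := by decide +kernel
theorem hmr1 : LyBM.c.rels LyBM.ms (List.take 4 (List.drop 5 mr)) = true := by decide +kernel
theorem hmr2 : LyBM.c.rels LyBM.ms (List.take 6 (List.drop 9 mr)) = true := by decide +kernel
theorem hmr3 : LyBM.c.rels LyBM.ms (List.take 5 (List.drop 15 mr)) = true := by decide +kernel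
theorem hmr4 : LyBM.c.rels LyBM.ms (List.take 6 (List.drop 20 mr)) = true := by decide +kernel
theorem hmr5 : LyBM.c.rels LyBM.ms (List.take 8 (List.drop 26 mr)) = true := by decide +kernel
theorem hmr6 : LyBM.c.rels LyBM.ms (List.take 7 (List.drop 34 mr)) = true := by decide +kernel
theorem hmr7 : LyBM.c.rels LyBM.ms (List.take 7 (List.drop 41 mr)) = true := by decide +kernel
theorem hmr8 : LyBM.c.rels LyBM.ms (List.take 9 (List.drop 48 mr)) = true := by decide +kernel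
theorem hmr9 : LyBM.c.rels LyBM.ms (List.take 5 (List.drop 57 mr)) = true := by decide +kernel
theorem hmr10 : LyBM.c.rels LyBM.ms (List.take 7 (List.drop 62 mr)) = true := by decide +kernel
theorem hmr11 : LyBM.c.rels LyBM.ms (List.take 7 (List.drop 69 mr)) = true := by decide +kernel
theorem hmr12 : LyBM.c.rels LyBM.ms (List.take 8 (List.drop 76 mr)) = true := by decide +kernel
theorem hmr13 : LyBM.c.rels LyBM.ms (List.take 6 (List.drop 84 mr)) = true := by decide +kernel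
theorem hmr14 : LyBM.c.rels LyBM.ms (List.take 6 (List.drop 90 mr)) = true := by decide +kernel
theorem hmr15 : LyBM.c.rels LyBM.ms (List.take 12 (List.drop 96 mr)) = true := by decide +kernel
theorem hmr16 : LyBM.c.rels LyBM.ms (List.take 13 (List.drop 108 mr)) = true := by decide +kernel
theorem hmr17 : LyBM.c.rels LyBM.ms (List.drop 121 mr) = true := by decide +kernel
theorem ymr : Rels y mr := Rels.pull Ly.main.2.1 rho_y (show Rels LyBM.gen (List.drop 0 mr) from (rels_td 0 5 5 rfl (BP.rels_of_chk LyBM.c_ok LyBM.hgen hmr0) (rels_td 5 4 9 rfl (BP.rels_of_chk LyBM.c_ok LyBM.hgen hmr1) (rels_td 9 6 15 rfl (BP.rels_of_chk LyBM.c_ok LyBM.hgen hmr2) (rels_td 15 5 20 rfl (BP.rels_of_chk LyBM.c_ok LyBM.hgen hmr3) (rels_td 20 6 26 rfl (BP.rels_of_chk LyBM.c_ok LyBM.hgen hmr4) (rels_td 26 8 34 rfl (BP.rels_of_chk LyBM.c_ok LyBM.hgen hmr5) (rels_td 34 7 41 rfl (BP.rels_of_chk LyBM.c_ok LyBM.hgen hmr6) (rels_td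 41 7 48 rfl (BP.rels_of_chk LyBM.c_ok LyBM.hgen hmr7) (rels_td 48 9 57 rfl (BP.rels_of_chk LyBM.c_ok LyBM.hgen hmr8) (rels_td 57 5 62 rfl (BP.rels_of_chk LyBM.c_ok LyBM.hgen hmr9) (rels_td 62 7 69 rfl (BP.rels_of_chk LyBM.c_ok LyBM.hgen hmr10) (rels_td 69 7 76 rfl (BP.rels_of_chk LyBM.c_ok LyBM.hgen hmr11) (rels_td 76 8 84 rfl (BP.rels_of_chk LyBM.c_ok LyBM.hgen hmr12) (rels_td 84 6 90 rfl (BP.rels_of_chk LyBM.c_ok LyBM.hgen hmr13) (rels_td 90 6 96 rfl (BP.rels_of_chk LyBM.c_ok LyBM.hgen hmr14) (rels_td 96 12 108 rfl (BP.rels_of_chk LyBM.c_ok LyBM.hgen hmr15) (rels_td 108 13 121 rfl (BP.rels_of_chk LyBM.c_ok LyBM.hgen hmr16) (BP.rels_of_chk LyBM.c_ok LyBM.hgen hmr17))))))))))))))))))) (by decide +kernel)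
noncomputable def cm : List (Word × Word) := comR W [10]
theorem hcm0 : LyBM.c.rels LyBM.ms (List.drop 0 cm) = true := by decide +kernel
theorem ycm : Rels y cm := Rels.pull Ly.main.2.1 rho_y (show Rels LyBM.gen (List.drop 0 cm) from (BP.rels_of_chk LyBM.c_ok LyBM.hgen hcm0)) (by decide +kernel)
noncomputable def ex : List (Word × Word) := [(powW [10] 3, [])]
theorem hex0 : LyBM.c.rels LyBM.ms (List.drop 0 ex) = true := by decide +kernel
theorem yex : Rels y ex := Rels.pull Ly.main.2.1 rho_y (show Rels LyBM.gen (List.drop 0 ex) from (BP.rels_of_chk LyBM.c_ok LyBM.hgen hex0)) (by decide +kernel)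

theorem ne {u v : Word} (hu : u.all (fun a => Nat.blt a (2 * 38)) = true) (hv : v.all (fun a => Nat.blt a (2 * 38)) = true)
    (h : ev (letter LyBM.gen) u.reverse ≠ ev (letter LyBM.gen) v.reverse) : H14.ev y u ≠ H14.ev y v := fun e => h (by
  rw [← ev14, ← ev14, List.reverse_reverse, List.reverse_reverse, ← ev14_congr rho_y hu, ← ev14_congr rho_y hv,
    ← H14.map_ev, ← H14.map_ev, e])
theorem t3 : H14.ev y [10] ^ 3 = 1 := (ev_powW _ _).symm.trans (yex _ List.mem_cons_self)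
theorem tt : H14.ev y [10] = Ly.theta (H14.ev Ly.M.gen LyU.tw) := by
  rw [H14.map_ev, ev14_congr Ly.theta_gen (by decide), ← ev14_congr (k := 5) y_old (by decide)]
  exact yD ([10], LyU.tw) (by decide +kernel)
theorem one' : H14.ev y [0, 1] = 1 :=
  (H14.ev_append y [0] (H14.invW [0])).trans (by rw [H14.ev_invW, inv_mul_cancel])
theorem ord : orderOf (H14.ev y [10]) = 3 :=
  haveI := Fact.mk Nat.prime_three
  orderOf_eq_prime t3 (one' ▸ ne (by decide) (by decide) (BP.ne_of_fld LyBM.c_ok LyBM.hgen 0 0 (by decide +kernel)))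

theorem main : ∃ x : Cfsg.Spor.Ly, orderOf x = 3 ∧
    Nat.card (Subgroup.center (Subgroup.centralizer ({x} : Set Cfsg.Spor.Ly))) = 3 ∧
    Cfsg.IsMcL ((Subgroup.centralizer ({x} : Set Cfsg.Spor.Ly)) ⧸
      Subgroup.center (Subgroup.centralizer ({x} : Set Cfsg.Spor.Ly))) := by
  have : Finite Cfsg.Spor.Ly := Nat.finite_of_card_ne_zero (by rw [Ly.main.2.2.2.1]; decide)
  have := simple_CM
  obtain ⟨-, h3, f, h4, h5⟩ := cent_cover (MulEquiv.refl _) ycm ymr (by decide +kernel)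
    (not_mem_zpowers (p := 2) t3 fun k hk => by
      have h0 : loc y W 0 = H14.ev y [46] := rfl
      rw [h0]
      interval_cases k
      · rw [pow_zero, ← one']
        exact ne (by decide) (by decide) (BP.ne_of_fld LyBM.c_ok LyBM.hgen 0 0 (by decide +kernel))
      · rw [pow_one]
        exact ne (by decide) (by decide) (BP.ne_of_fld LyBM.c_ok LyBM.hgen 0 0 (by decide +kernel))
      · rw [← ev_powW]
        exact ne (by decide) (by decide) (BP.ne_of_fld LyBM.c_ok LyBM.hgen 0 1 (by decide +kernel))) homMcL ord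
    (by rw [tt, card_CM]; exact LyU.cent.trans_lt (by decide))
  have h6 := center_cover le_rfl h4 h5 (center_eq_bot_of_simple card_CM (by norm_num))
  let e := (QuotientGroup.quotientMulEquivOfEq h6).trans (QuotientGroup.quotientKerEquivOfSurjective f h4)
  refine ⟨_, ord, ?_, e.isSimpleGroup, (Nat.card_congr e.toEquiv).trans card_CM⟩
  exact h6 ▸ card_ker_of_surj f h4 (by decide) (card_CM ▸ h3) card_CM

end H15.LyB
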