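import Cfsg.Agent.H15.LyGD

/-! Generated certificate (pklite) for the permutation group LyG of degree 3906, order 5859000000, base 0 1 22. -/
set_option Elab.async false
set_option autoImplicit false
set_option maxRecDepth 100000

namespace H15.LyG
open H14

theorem rc0 : relsChk 3906 nets 12 (idArr 3906 12 12 0) allRels = true := by decide +kernel
theorem lvc2 : (Nat.ble (22 + 1) 3906 && invChk nets lv3.gens (bit 22) && Nat.beq (pop 3906 (orbRun nets (List.append lvw2 lv3.gens) lvs2 (bit 22))) 480) = true := by decide +kernel
theorem lvc1 : (Nat.ble (1 + 1) 3906 && invChk nets lv2.gens (bit 1) && Nat.beq (pop 3906 (orbRun nets (List.append lvw1 lv2.gens) lvs1 (bit 1))) 3125) = true := by decide +kernel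
theorem lvc0 : (Nat.ble (0 + 1) 3906 && invChk nets lv1.gens (bit 0) && Nat.beq (pop 3906 (orbRun nets (List.append lvw0 lv1.gens) lvs0 (bit 0))) 3906) = true := by decide +kernel
theorem so0 : si0.chkO 3906 nets lv1.gens 0 3125 = true := by decide +kernel
theorem sp0 : si0.chkP 3906 nets lv1.gens 0 = true := by decide +kernel
theorem so1 : si1.chkO 3906 nets lv1.gens 0 750 = true := by decide +kernel
theorem sp1 : si1.chkP 3906 nets lv1.gens 0 = true := by decide +kernel
theorem so2 : si2.chkO 3906 nets lv1.gens 0 30 = true := by decide +kernel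
theorem sp2 : si2.chkP 3906 nets lv1.gens 0 = true := by decide +kernel
theorem cov : subs (full 3906) (cover 0 sis) = true := by decide +kernel

end H15.LyG
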