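import Cfsg.Agent.H15.LyHC0

/-! Generated certificate (pklite) for the permutation group LyH of degree 23438, order 5859000000, base 0 1 22. -/
set_option autoImplicit false
set_option maxRecDepth 100000

namespace H15.LyH
open H14

theorem lvval3 : lv3.val 23438 nets = 1 := rfl
theorem lvval2 : lv2.val 23438 nets = 480 := val_cons lvc2 lvval3
theorem lvval1 : lv1.val 23438 nets = 1500000 := val_cons lvc1 lvval2
theorem lvval0 : lv0.val 23438 nets = 5859000000 := val_cons lvc0 lvval1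
section
variable {Γ Ω : Type*} [Group Γ] [MulAction Γ Ω] (M : PM Γ Ω 23438 nets)

theorem all_ok [FaithfulSMul Γ Ω] : Rels M.gen allRels := Rels.nil _
theorem relsD_ok [FaithfulSMul Γ Ω] : Rels M.gen relsD := Rels.left (all_ok M)
theorem relsE_ok [FaithfulSMul Γ Ω] : Rels M.gen relsE := Rels.right (Rels.right (all_ok M))
theorem dok : defOk defs 4 = true := by decide +kernel
theorem dlen : nets.length ≤ 4 + defs.length := by decide +kernel
theorem gen_mem [FaithfulSMul Γ Ω] {X : Subgroup Γ} (h0 : ∀ l < 4, M.gen l ∈ X) {ws : List Word} (hw : wsIn 0 4 ws = true) : sub M.gen ws ≤ X :=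
  sub_le_of_wsIn (lo := 0) (gen_mem_of_defRels (ds := defs) (fun l _ hl => h0 l hl) (by decide +kernel) (relsD_ok M)) hw
theorem low (h : Finite (sub M.gen lv0.gens)) : 5859000000 ≤ Nat.card (sub M.gen lv0.gens) := lvval0 ▸ M.low lv0 h
variable (hc : Nat.card (sub M.gen lv0.gens) = 5859000000)
include hc
theorem lev0 : sub M.gen lv0.gens ⊓ MulAction.stabilizer Γ (M.dec 0) = sub M.gen lv1.gens ∧ Nat.card (sub M.gen lv1.gens) = 1500000 ∧
    Set.ncard {y | ∃ g ∈ sub M.gen lv0.gens, g • M.dec 0 = y} = 3906 :=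
  level_lite M lvc0 lvval1 rfl hc (by decide)
theorem lev1 : sub M.gen lv1.gens ⊓ MulAction.stabilizer Γ (M.dec 1) = sub M.gen lv2.gens ∧ Nat.card (sub M.gen lv2.gens) = 480 ∧
    Set.ncard {y | ∃ g ∈ sub M.gen lv1.gens, g • M.dec 1 = y} = 3125 :=
  level_lite M lvc1 lvval2 rfl (lev0 M hc).2.1 (by decide)
theorem lev2 : sub M.gen lv2.gens ⊓ MulAction.stabilizer Γ (M.dec 22) = sub M.gen lv3.gens ∧ Nat.card (sub M.gen lv3.gens) = 1 ∧
    Set.ncard {y | ∃ g ∈ sub M.gen lv2.gens, g • M.dec 22 = y} = 480 :=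
  level_lite M lvc2 lvval3 rfl (lev1 M hc).2.1 (by decide)

end

end H15.LyH
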