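import Cfsg.Agent.H15.LyHD

/-! Generated certificate (pklite) for the permutation group LyH of degree 23438, order 5859000000, base 0 1 22. -/
set_option Elab.async false
set_option autoImplicit false
set_option maxRecDepth 100000

namespace H15.LyH
open H14

theorem lvc2 : (Nat.ble (22 + 1) 23438 && invChk nets lv3.gens (bit 22) && Nat.beq (pop 23438 (orbRun nets (List.append lvw2 lv3.gens) lvs2 (bit 22))) 480) = true := by decide +kernel
theorem lvc1 : (Nat.ble (1 + 1) 23438 && invChk nets lv2.gens (bit 1) && Nat.beq (pop 23438 (orbRun nets (List.append lvw1 lv2.gens) lvs1 (bit 1))) 3125) = true := by decide +kernel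
theorem lvc0 : (Nat.ble (0 + 1) 23438 && invChk nets lv1.gens (bit 0) && Nat.beq (pop 23438 (orbRun nets (List.append lvw0 lv1.gens) lvs0 (bit 0))) 3906) = true := by decide +kernel

end H15.LyH
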