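import Cfsg.Agent.H15.Lite6
import Cfsg.Agent.H15.LyHN0

/-! Generated certificate (pklite) for the permutation group LyH of degree 23438, order 5859000000, base 0 1 22. -/
set_option autoImplicit false
set_option maxRecDepth 100000

namespace H15.LyH
open H14

noncomputable def nets : List Net := [n0, n1, n2, n3]
theorem nets_ok : netsOk 23438 nets = true := List.all_eq_true.2 (fa_cons n0_ok (fa_cons n1_ok (fa_cons n2_ok (fa_cons n3_ok (fa_nil)))))
noncomputable def defs0 : List Word := []
noncomputable def defs2 : List Word := []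
noncomputable def defs3 : List Word := []
noncomputable def defs1 : List Word := defs2
noncomputable def defs : List Word := defs0 ++ (defs1 ++ defs3)
noncomputable def relsD : List (Word × Word) := defRels defs 4
noncomputable def relsS : List (Word × Word) := []
noncomputable def relsE : List (Word × Word) := []
noncomputable def allRels : List (Word × Word) := List.append relsD (List.append relsS relsE)
noncomputable def lv3 : Lv := .nil
noncomputable def lvw2 : List Word := [[nat_lit 0], [nat_lit 2]]
noncomputable def lvs2 : List Word := [dw (nat_lit 0x01), dw (nat_lit 0x03), dw (nat_lit 0x01), dw (nat_lit 0x03), dw (nat_lit 0x01), dw (nat_lit 0x03), dw (nat_lit 0x01), dw (nat_lit 0x03)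
, dw (nat_lit 0x0401), dw (nat_lit 0x01), dw (nat_lit 0x03), dw (nat_lit 0x01), dw (nat_lit 0x03), dw (nat_lit 0x01), dw (nat_lit 0x03), dw (nat_lit 0x01)
, dw (nat_lit 0x01)]
noncomputable def lv2 : Lv := .cons 22 lvw2 lvs2 lv3
noncomputable def lvw1 : List Word := [[nat_lit 4]]
noncomputable def lvs1 : List Word := [dw (nat_lit 0x01), dw (nat_lit 0x0204), dw (nat_lit 0x03), dw (nat_lit 0x05), dw (nat_lit 0x01), dw (nat_lit 0x03), dw (nat_lit 0x05), dw (nat_lit 0x01)
, dw (nat_lit 0x03), dw (nat_lit 0x05), dw (nat_lit 0x01), dw (nat_lit 0x03), dw (nat_lit 0x05), dw (nat_lit 0x01), dw (nat_lit 0x03), dw (nat_lit 0x05)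
, dw (nat_lit 0x01), dw (nat_lit 0x01)]
noncomputable def lv1 : Lv := .cons 1 lvw1 lvs1 lv2
noncomputable def lvw0 : List Word := [[nat_lit 6]]
noncomputable def lvs0 : List Word := [dw (nat_lit 0x01), dw (nat_lit 0x03), dw (nat_lit 0x0303), dw (nat_lit 0x01), dw (nat_lit 0x05), dw (nat_lit 0x07), dw (nat_lit 0x03), dw (nat_lit 0x05)
, dw (nat_lit 0x07), dw (nat_lit 0x03), dw (nat_lit 0x01), dw (nat_lit 0x05), dw (nat_lit 0x07), dw (nat_lit 0x03), dw (nat_lit 0x01), dw (nat_lit 0x05)
, dw (nat_lit 0x07), dw (nat_lit 0x03), dw (nat_lit 0x05)]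
noncomputable def lv0 : Lv := .cons 0 lvw0 lvs0 lv1

end H15.LyH
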