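import Cfsg.Agent.H15.LyXD

/-! Generated certificate of a double coset enumeration (LyX). -/
set_option Elab.async false
set_option autoImplicit false
set_option maxRecDepth 100000

namespace H15.LyX
open H14 L DC

theorem ke0_0 : e0_0.all (chkE st P0 8 row F 23438 139 3908 1 0) = true := by decide +kernel
theorem ke0_1 : e0_1.all (chkE st P0 8 row F 23438 139 3908 1 1) = true := by decide +kernel
theorem ke0_2 : e0_2.all (chkE st P0 8 row F 23438 139 3908 1 2) = true := by decide +kernel
theorem ke0_3 : e0_3.all (chkE st P0 8 row F 23438 139 3908 1 3) = true := by decide +kernel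
theorem ke0_4 : e0_4.all (chkE st P0 8 row F 23438 139 3908 1 4) = true := by decide +kernel
theorem kc0 : c0.chk st P0 229 357 8 row 23438 H15.LyH.nets 139 O 5859000000 = true := by decide +kernel
theorem ke1_0 : e1_0.all (chkE st P0 8 row F 23438 139 3908 2 1) = true := by decide +kernel
theorem ke1_1 : e1_1.all (chkE st P0 8 row F 23438 139 3908 2 2) = true := by decide +kernel
theorem ke1_2 : e1_2.all (chkE st P0 8 row F 23438 139 3908 2 3) = true := by decide +kernel
theorem ke1_3 : e1_3.all (chkE st P0 8 row F 23438 139 3908 2 4) = true := by decide +kernel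
theorem kc1 : c1.chk st P0 229 357 8 row 23438 H15.LyH.nets 139 O 5859000000 = true := by decide +kernel
theorem ke2_0 : e2_0.all (chkE st P0 8 row F 23438 139 3908 3 1) = true := by decide +kernel
theorem ke2_1 : e2_1.all (chkE st P0 8 row F 23438 139 3908 3 2) = true := by decide +kernel
theorem ke2_2 : e2_2.all (chkE st P0 8 row F 23438 139 3908 3 3) = true := by decide +kernel
theorem ke2_3 : e2_3.all (chkE st P0 8 row F 23438 139 3908 3 4) = true := by decide +kernel
theorem kc2 : c2.chk st P0 229 357 8 row 23438 H15.LyH.nets 139 O 5859000000 = true := by decide +kernel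
theorem ke3_0 : e3_0.all (chkE st P0 8 row F 23438 139 3908 4 1) = true := by decide +kernel
theorem ke3_1 : e3_1.all (chkE st P0 8 row F 23438 139 3908 4 2) = true := by decide +kernel
theorem ke3_2 : e3_2.all (chkE st P0 8 row F 23438 139 3908 4 3) = true := by decide +kernel
theorem ke3_3 : e3_3.all (chkE st P0 8 row F 23438 139 3908 4 4) = true := by decide +kernel
theorem kc3 : c3.chk st P0 229 357 8 row 23438 H15.LyH.nets 139 O 5859000000 = true := by decide +kernel
theorem kt0 : chkTs F tb 977 8 tw0 0 = true := by decide +kernel
theorem kt1 : chkTs F tb 977 8 tw1 31 = true := by decide +kernel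
theorem kt2 : chkTs F tb 977 8 tw2 75 = true := by decide +kernel
theorem kt3 : chkTs F tb 977 8 tw3 109 = true := by decide +kernel
theorem kt4 : chkTs F tb 977 8 tw4 147 = true := by decide +kernel
theorem kt5 : chkTs F tb 977 8 tw5 173 = true := by decide +kernel
theorem kt6 : chkTs F tb 977 8 tw6 203 = true := by decide +kernel
theorem kt7 : chkTs F tb 977 8 tw7 236 = true := by decide +kernel
theorem kt8 : chkTs F tb 977 8 tw8 285 = true := by decide +kernel
theorem kt9 : chkTs F tb 977 8 tw9 342 = true := by decide +kernel

end H15.LyX
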