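import Cfsg.Agent.H15.Iso2
import Cfsg.Agent.H15.Fi22
import Cfsg.Agent.H15.O7P
import Cfsg.Agent.S0292

/-! The subgroup of `Fi22` on `b, ..., i` is simple (`H15.O7.simple`) and isomorphic to `PΩ₇(3)` (`H15.O7.iso`). -/

namespace H15.O7
open Cfsg.Spor Cfsg.Spor.Fi22 H14 H15.Fi22 Matrix

/-- the relators on `b, ..., i` -/
def rels : List (List ℕ) :=
  ((allW (encOf ld) edges extra nl gl).filter fun w => !w.contains 0).map (List.map (· - 1))

theorem bd {G : Type*} [Group G] {gen : ℕ → G} (rel : ∀ w ∈ rels, ev gen w = 1) :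
    Bd (Kl gen [0, 1, 2, 3, 4, 5, 6, 7]) 4585351680 :=
  Bd.step (c := 12597120) (n := 364) (Bd.step (c := 51840) (n := 243)
    (Bd.step (c := 720) (n := 72) (Bd.step (c := 1) (n := 720) (Bd.nil _)
    (idx_ren TFi22e.idx [0, 1, 2, 3, 4] rfl (rel_ren rel (by decide +kernel)) _ (sub_ren _ (by decide +kernel))))
    (idx_ren TFi22d.idx [0, 1, 2, 3, 4, 6] rfl (rel_ren rel (by decide +kernel)) _ (sub_ren _ (by decide +kernel))))
    (idx_ren TFi22c.idx [0, 1, 2, 3, 4, 6, 7] rfl (rel_ren rel (by decide +kernel)) _ (sub_ren _ (by decide +kernel))))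
    (idx_ren TFi22b.idx [0, 1, 2, 3, 4, 5, 6, 7] rfl (rel_ren rel (by decide +kernel)) _ (sub_ren _ (by decide +kernel)))

/-- the letters -/
def genK (x : ℕ) : Cfsg.Spor.Fi22 := gen (ren [1, 2, 3, 4, 5, 6, 7, 8] x)
theorem relK : ∀ w ∈ rels, ev genK w = 1 := rel_ren' rel (by decide +kernel)
/-- the subgroup -/
abbrev K : Subgroup Cfsg.Spor.Fi22 := Kl gen [1, 2, 3, 4, 5, 6, 7, 8]
theorem K_eq : Kl genK [0, 1, 2, 3, 4, 5, 6, 7] = K := Kl_ren _ _ _

theorem cardK : Nat.card K = 4585351680 := by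
  refine (index_eq_of_bd bd_bcdefghi (m := 14080) ?_ card).2
  rw [← Subgroup.relIndex_top_right, ← top0]
  exact idx_ren TFi23b.idx _ rfl (rel_ren rel (by decide +kernel)) _ (sub_ren gen (by decide +kernel))

noncomputable abbrev P := permPM 364 O7P.nets (by decide) (by decide) O7P.nets_ok
theorem relP : ∀ w ∈ rels, ev P.gen w = 1 :=
  rel_of_rels14 (P.rels_of_idArr (D := 9) (by decide) (by decide +kernel))

theorem simple : IsSimpleGroup K := by
  obtain ⟨f, hf, -⟩ := hom_of_Kl (bd (rel_pair relK relP)) K_eq fun _ => cardK.ge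
  obtain ⟨h1, -, M, -, h2, h3⟩ := machine_of_hom f (k := 8) (fun l hl => hf ▸ gen_mem_Kl _ (by revert l; decide))
    O7P.dok O7P.dlen (O7P.relsD_ok P) (Bd.of_card cardK (by decide)).top_sub (O7P.low P)
  have := faithful_Pt h1
  exact simple_of_top (O7P.simple M h3 (h2 ▸ Subgroup.mem_top _)) h2

/-- arithmetic modulo 3 -/
def ar : Ar (ZMod 3) := arZ 3 2 (by decide)
/-- coordinates -/
def eq7 : Unit ⊕ (Fin 3 ⊕ Fin 3) ≃ Fin 7 where
  toFun := Sum.elim (fun _ => 0) (Sum.elim (fun i => ⟨1 + i, by omega⟩) fun i => ⟨4 + i, by omega⟩)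
  invFun := ![.inl (), .inr (.inl 0), .inr (.inl 1), .inr (.inl 2), .inr (.inr 0), .inr (.inr 1), .inr (.inr 2)]
  left_inv := by decide
  right_inv := by decide
/-- the matrices -/
def L : List (ℕ × ℕ) :=
[(nat_lit 0x28aa12a8aaa020089a0020454, nat_lit 0x28aa12a8aaa020089a0020454),
  (nat_lit 0x5a44692958a862a48a950002, nat_lit 0x5a44692958a862a48a950002),
  (nat_lit 0x1690558020099419509a60002, nat_lit 0x1690558020099419509a60002),
  (nat_lit 0x25a906a44a90200a4629485a8, nat_lit 0x25a906a44a90200a4629485a8),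
  (nat_lit 0x1a99459a999a966a89aa56a98, nat_lit 0x1a99459a999a966a89aa56a98),
  (nat_lit 0x5a24688200a846a41a966a50, nat_lit 0x5a24688200a846a41a966a50),
  (nat_lit 0x20009888200aa8aa12a8a9510, nat_lit 0x20009888200aa8aa12a8a9510),
  (nat_lit 0x2000649611a8a680208859124, nat_lit 0x2000649611a8a680208859124)]

theorem hQ (u : Unit ⊕ (Fin 3 ⊕ Fin 3) → ZMod 3) :
    Cfsg.quadFormOdd 3 (ZMod 3) u = u ⬝ᵥ (ar.toM eq7 0x80008000880008000800001 *ᵥ u) := by
  have e : ar.toM eq7 0x80008000880008000800001 = fromBlocks 1 0 0 (fromBlocks 0 2 2 0) := by decide +kernel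
  have h3 : (3 : ZMod 3) = 0 := rfl
  rw [e]
  simp [Cfsg.quadFormOdd, dotProduct, mulVec, Fin.sum_univ_three, Matrix.ofNat_apply]
  linear_combination (-(u (.inr (.inl 0)) * u (.inr (.inr 0)) + u (.inr (.inl 1)) * u (.inr (.inr 1)) +
    u (.inr (.inl 2)) * u (.inr (.inr 2)))) * h3

theorem exM : Nonempty (MM (isoM (ZMod 3) (Cfsg.quadFormOdd 3 (ZMod 3))) ar eq7 L) :=
  exists_MM (by decide +kernel) (k := 8) (exists_isom ar eq7 hQ (L := L) (by decide +kernel)) (ds := []) rfl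
    (by decide) rfl

theorem iso : Nonempty (K ≃* Cfsg.POmega (ZMod 3) (Cfsg.quadFormOdd 3 (ZMod 3))) := by
  obtain ⟨T⟩ := exM
  have relT : ∀ w ∈ rels, ev T.gen w = 1 := rel_of_rels14 (T.rels (isoM_inj _) (by decide +kernel))
  obtain ⟨f, hf, -⟩ := hom_of_Kl (bd (rel_pair relK relT)) K_eq fun _ => cardK.ge
  have := simple
  obtain ⟨g, hg⟩ : T.gen 0 ∈ f.range := hf ▸ gen_mem_Kl _ (by decide)
  have h1 : Function.Injective f := inj_of_simple f (g := g) fun h => by
    have := T.gen_spec 0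
    rw [← hg, h, map_one] at this
    exact absurd this (by decide +kernel)
  have h2 := Cfsg.Agent.S0292.result (F := ZMod 3) (q := 3) rfl (by decide) 3 le_rfl
  exact iso_quot_center (f.codRestrict _ (range_le_commutator f (perfect_of_simple cardK (by norm_num))))
    (fun x y h => h1 (congrArg Subtype.val h)) (by decide) (by norm_num) cardK (by
      refine Nat.eq_of_mul_eq_mul_left two_pos (h2.trans ?_); decide)

end H15.O7
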