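import Cfsg.Agent.H14.Dw2
import Cfsg.Agent.H15.Std3

/-! Standard machine: `isometryGroup F (quadFormPlus 4 F)` over the field with 2 elements on the non-singular vectors, generated by 8 transvections (E8)
Generated certificate (tools14/pkgen, tools15/std.py) for the permutation group StdGO8p2 of degree 120, order 348364800, base 0 6 2 14 7 8 13. -/
set_option autoImplicit false
set_option maxRecDepth 100000

namespace H15.StdGO8p2
open H14

noncomputable def n0 : Net := (.cons (nat_lit 1) (nat_lit 0x100040000040100114000000140040)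
(.cons (nat_lit 2) (nat_lit 0x202020001202101110000300010000)
(.cons (nat_lit 4) (nat_lit 0x400020604000008000000010000)
(.cons (nat_lit 8) (nat_lit 0x1200000000000300380000)
(.cons (nat_lit 16) (nat_lit 0xc8350000030000000000)
(.cons (nat_lit 32) (nat_lit 0x35010000000000c8000000)
(.cons (nat_lit 64) (nat_lit 0x350100c8000000)
(.cons (nat_lit 32) (nat_lit 0x35010000000000cb000000)
(.cons (nat_lit 16) (nat_lit 0xfa7d000007c000003800)
(.cons (nat_lit 8) (nat_lit 0x40001200000000000300380000)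
(.cons (nat_lit 4) (nat_lit 0x80c02020604000008000000010008)
(.cons (nat_lit 2) (nat_lit 0x202020001202101110000300010010)
(.cons (nat_lit 1) (nat_lit 0x100040000040100114000000140041)
.nil)))))))))))))
theorem n0_ok : Net.ok 120 n0 = true := by decide +kernel
noncomputable def n1 : Net := (.cons (nat_lit 1) (nat_lit 0x4001414400004455054004010000)
(.cons (nat_lit 2) (nat_lit 0x1002020000001003120002020000)
(.cons (nat_lit 4) (nat_lit 0x1020d00000009040802080000)
(.cons (nat_lit 8) (nat_lit 0x10000500000080000000000000)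
(.cons (nat_lit 16) (nat_lit 0x8000030000000080800000000)
(.cons (nat_lit 32) (nat_lit 0x20000000)
(.cons (nat_lit 64) (nat_lit 0x20000000)
(.cons (nat_lit 32) (nat_lit 0x8100000000000a8080000)
(.cons (nat_lit 16) (nat_lit 0x800003d400000187800002080)
(.cons (nat_lit 8) (nat_lit 0x10008700000084000600060040)
(.cons (nat_lit 4) (nat_lit 0x401020d00000009040802080002)
(.cons (nat_lit 2) (nat_lit 0x3002020000001003120002020000)
(.cons (nat_lit 1) (nat_lit 0x44001414400004455054004010000)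
.nil)))))))))))))
theorem n1_ok : Net.ok 120 n1 = true := by decide +kernel
noncomputable def n2 : Net := (.cons (nat_lit 1) (nat_lit 0x441110000110041140100000000)
(.cons (nat_lit 2) (nat_lit 0x30032010220000100300300)
(.cons (nat_lit 4) (nat_lit 0xb0000020302010204010100)
(.cons (nat_lit 8) (nat_lit 0x1000000000010004200210000)
(.cons (nat_lit 16) (nat_lit 0x11000004a0400000000)
(.cons (nat_lit 32) (nat_lit 0x1042040000000000000000)
(.cons (nat_lit 64) (nat_lit 0x10420400000000)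
(.cons (nat_lit 32) (nat_lit 0x104304000000004a040000)
(.cons (nat_lit 16) (nat_lit 0x911100007f0700002100)
(.cons (nat_lit 8) (nat_lit 0x1000200200010004200210018)
(.cons (nat_lit 4) (nat_lit 0x40b0000020302010204010100)
(.cons (nat_lit 2) (nat_lit 0x100030032010220000100300301)
(.cons (nat_lit 1) (nat_lit 0x100441110000110041140100000000)
.nil)))))))))))))
theorem n2_ok : Net.ok 120 n2 = true := by decide +kernel
noncomputable def n3 : Net := (.cons (nat_lit 1) (nat_lit 0x400004010010405050145405101000)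
(.cons (nat_lit 2) (nat_lit 0x210110002113000000100)
(.cons (nat_lit 4) (nat_lit 0x1000b0000080103070106050000)
(.cons (nat_lit 8) (nat_lit 0x8001000500040000000010000)
(.cons (nat_lit 16) (nat_lit 0x8400000168900000000)
(.cons (nat_lit 32) (nat_lit 0x4010810000000000000000)
(.cons (nat_lit 64) (nat_lit 0x40108100000000)
(.cons (nat_lit 32) (nat_lit 0x4018810000000016890000)
(.cons (nat_lit 16) (nat_lit 0x88580000d7ad00006140)
(.cons (nat_lit 8) (nat_lit 0x1800120050004000000001000c)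
(.cons (nat_lit 4) (nat_lit 0x1000b0000080103070106050000)
(.cons (nat_lit 2) (nat_lit 0x200000000210110002113000000100)
(.cons (nat_lit 1) (nat_lit 0x400004010010405050145405101000)
.nil)))))))))))))
theorem n3_ok : Net.ok 120 n3 = true := by decide +kernel
noncomputable def n4 : Net := (.cons (nat_lit 1) (nat_lit 0x104440000104100400400054044)
(.cons (nat_lit 2) (nat_lit 0x10001010012110000220)
(.cons (nat_lit 4) (nat_lit 0x104080401000104000503040000)
(.cons (nat_lit 8) (nat_lit 0x40000000000004000400040000)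
(.cons (nat_lit 16) (nat_lit 0x40200000809400000000)
(.cons (nat_lit 32) (nat_lit 0x2000100000000000000000)
(.cons (nat_lit 64) (nat_lit 0x20001000000000)
(.cons (nat_lit 32) (nat_lit 0x2040100000000080940000)
(.cons (nat_lit 16) (nat_lit 0xc0600000869400006440)
(.cons (nat_lit 8) (nat_lit 0x50000800010005004400070098)
(.cons (nat_lit 4) (nat_lit 0x104080401000104000503040002)
(.cons (nat_lit 2) (nat_lit 0x10001010012110000221)
(.cons (nat_lit 1) (nat_lit 0x400104440000104100400400054044)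
.nil)))))))))))))
theorem n4_ok : Net.ok 120 n4 = true := by decide +kernel
noncomputable def n5 : Net := (.cons (nat_lit 1) (nat_lit 0x40014000005000000004000501000)
(.cons (nat_lit 2) (nat_lit 0x10002002001000000120033202000)
(.cons (nat_lit 4) (nat_lit 0x4000600080300020402040a040000)
(.cons (nat_lit 8) (nat_lit 0x60000800000000000000040000)
(.cons (nat_lit 16) (nat_lit 0x60020000103c00002000)
(.cons (nat_lit 32) (nat_lit 0x210000000000020000000)
(.cons (nat_lit 64) (nat_lit 0x2100020000000)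
(.cons (nat_lit 32) (nat_lit 0x2700000000000303c2000)
(.cons (nat_lit 16) (nat_lit 0x40000068020000167c0000e480)
(.cons (nat_lit 8) (nat_lit 0x64008800000000000000060030)
(.cons (nat_lit 4) (nat_lit 0x4000f00080300020402040a040000)
(.cons (nat_lit 2) (nat_lit 0x30002002001000000120033202000)
(.cons (nat_lit 1) (nat_lit 0x40014000005000000004000501000)
.nil)))))))))))))
theorem n5_ok : Net.ok 120 n5 = true := by decide +kernel
noncomputable def n6 : Net := (.cons (nat_lit 1) (nat_lit 0x15011000000000400500411551000)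
(.cons (nat_lit 2) (nat_lit 0x10102200000000002100212222020)
(.cons (nat_lit 4) (nat_lit 0x400080004000000000203080f0800)
(.cons (nat_lit 8) (nat_lit 0x60000400000000000200030000)
(.cons (nat_lit 16) (nat_lit 0x80000022000000103200000000)
(.cons (nat_lit 32) (nat_lit 0x10000000000002000000)
(.cons (nat_lit 64) (nat_lit 0x100002000000)
(.cons (nat_lit 32) (nat_lit 0x8030000000000012320000)
(.cons (nat_lit 16) (nat_lit 0xc0000026000000543a0000c3c0)
(.cons (nat_lit 8) (nat_lit 0x6e00040000000000020003000c)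
(.cons (nat_lit 4) (nat_lit 0x401080004000000000203080f0803)
(.cons (nat_lit 2) (nat_lit 0x12102200000000002100212222020)
(.cons (nat_lit 1) (nat_lit 0x15011000000000400500411551000)
.nil)))))))))))))
theorem n6_ok : Net.ok 120 n6 = true := by decide +kernel
noncomputable def n7 : Net := (.cons (nat_lit 1) (nat_lit 0x4000105100000510010000000000)
(.cons (nat_lit 2) (nat_lit 0x20000003011112000310000000000)
(.cons (nat_lit 4) (nat_lit 0x80000000205040100080000020000)
(.cons (nat_lit 8) (nat_lit 0x80004200000000000000000000)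
(.cons (nat_lit 16) (nat_lit 0xb800003c0100000000)
(.cons (nat_lit 32) (nat_lit 0xb81c000000000000000000)
(.cons (nat_lit 64) (nat_lit 0xb81c0000000000)
(.cons (nat_lit 32) (nat_lit 0xb81c00000000003c010000)
(.cons (nat_lit 16) (nat_lit 0x80000042bd0000ff410000c020)
(.cons (nat_lit 8) (nat_lit 0x80006200000000000000000000)
(.cons (nat_lit 4) (nat_lit 0x80000000205040100080000020000)
(.cons (nat_lit 2) (nat_lit 0x31000003011112000310000000000)
(.cons (nat_lit 1) (nat_lit 0x4000105100000510010000000000)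
.nil)))))))))))))
theorem n7_ok : Net.ok 120 n7 = true := by decide +kernel
noncomputable def n8 : Net := (.cons (nat_lit 1) (nat_lit 0x150444415150154555054001400000)
(.cons (nat_lit 2) (nat_lit 0x1330130313300311202120112110)
(.cons (nat_lit 4) (nat_lit 0x60c0a030a0f0a0e0a010a060400)
(.cons (nat_lit 8) (nat_lit 0xa006500b2002f008d00050000)
(.cons (nat_lit 16) (nat_lit 0xd000000f2300002ca200000400)
(.cons (nat_lit 32) (nat_lit 0x1c008b0000000094000000)
(.cons (nat_lit 64) (nat_lit 0xc088bd7321000)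
(.cons (nat_lit 32) (nat_lit 0xcc0e8b000000007fd30566)
(.cons (nat_lit 16) (nat_lit 0xd20000175200003d4b000015d6)
(.cons (nat_lit 8) (nat_lit 0x2a003100a8001300a800b2004a)
(.cons (nat_lit 4) (nat_lit 0x10006070f0c0f0903030908090706)
(.cons (nat_lit 2) (nat_lit 0x211032301232101231222122122232)
(.cons (nat_lit 1) (nat_lit 0x151144504040155450154101400144)
.nil)))))))))))))
theorem n8_ok : Net.ok 120 n8 = true := by decide +kernel
noncomputable def n9 : Net := (.cons (nat_lit 1) (nat_lit 0x45444555444144545511001051000)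
(.cons (nat_lit 2) (nat_lit 0x211221231111222010133321133010)
(.cons (nat_lit 4) (nat_lit 0x50701000a020203020d0109020000)
(.cons (nat_lit 8) (nat_lit 0x1100c2004900820021001c0000)
(.cons (nat_lit 16) (nat_lit 0x14000049b40000ab2000000900)
(.cons (nat_lit 32) (nat_lit 0x83e4150000000008000000)
(.cons (nat_lit 64) (nat_lit 0x83e5952b201000)
(.cons (nat_lit 32) (nat_lit 0x976cb500000000a1801220)
(.cons (nat_lit 16) (nat_lit 0x55000023a800005de5000080b4)
(.cons (nat_lit 8) (nat_lit 0x9f007600d90093001900350066)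
(.cons (nat_lit 4) (nat_lit 0xd0501000f010a03010006010b0304)
(.cons (nat_lit 2) (nat_lit 0x211023010230213010001220030100)
(.cons (nat_lit 1) (nat_lit 0x5555450501001504154411454550)
.nil)))))))))))))
theorem n9_ok : Net.ok 120 n9 = true := by decide +kernel
noncomputable def n10 : Net := (.cons (nat_lit 1) (nat_lit 0x151504051011004445045510504010)
(.cons (nat_lit 2) (nat_lit 0x213310210301013323022030220120)
(.cons (nat_lit 4) (nat_lit 0x60a0e050e05000c09000f050e0c00)
(.cons (nat_lit 8) (nat_lit 0x2f00e400d80043000400220020)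
(.cons (nat_lit 16) (nat_lit 0x410000846c0000206200000000)
(.cons (nat_lit 32) (nat_lit 0x159060000000001a000000)
(.cons (nat_lit 64) (nat_lit 0x1426617ac39f88)
(.cons (nat_lit 32) (nat_lit 0x160a280000000037382282)
(.cons (nat_lit 16) (nat_lit 0x20000086ec000004430000a088)
(.cons (nat_lit 8) (nat_lit 0x2f009c00d8005b002600430026)
(.cons (nat_lit 4) (nat_lit 0x50a0c0f0d04000a0e020d090a0c08)
(.cons (nat_lit 2) (nat_lit 0x203110230001013203003002330320)
(.cons (nat_lit 1) (nat_lit 0x151504011010004445045550544010)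
.nil)))))))))))))
theorem n10_ok : Net.ok 120 n10 = true := by decide +kernel
noncomputable def n11 : Net := (.cons (nat_lit 1) (nat_lit 0x415445151104400510451445014440)
(.cons (nat_lit 2) (nat_lit 0x23031100111012103022030011110)
(.cons (nat_lit 4) (nat_lit 0xd030109090a040f010b0b04080700)
(.cons (nat_lit 8) (nat_lit 0x2800bc001b0009000900940000)
(.cons (nat_lit 16) (nat_lit 0xc0000a006000064ec00002200)
(.cons (nat_lit 32) (nat_lit 0x3410500000000024000000)
(.cons (nat_lit 64) (nat_lit 0x3076d2fcc66d00)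
(.cons (nat_lit 32) (nat_lit 0x284250000000009bfb7054)
(.cons (nat_lit 16) (nat_lit 0x100000d9460000815a0000d704)
(.cons (nat_lit 8) (nat_lit 0xf400bd005f009b004700fb0024)
(.cons (nat_lit 4) (nat_lit 0xb0b0a080f07000e0e0b0f06080700)
(.cons (nat_lit 2) (nat_lit 0x333211033212013011221333200302)
(.cons (nat_lit 1) (nat_lit 0x555114000044444000411041451040)
.nil)))))))))))))
theorem n11_ok : Net.ok 120 n11 = true := by decide +kernel
noncomputable def n12 : Net := (.cons (nat_lit 1) (nat_lit 0x141511100014154145110400111410)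
(.cons (nat_lit 2) (nat_lit 0x113311030013030203302122221010)
(.cons (nat_lit 4) (nat_lit 0x70f080e0c070306080a08020b0a00)
(.cons (nat_lit 8) (nat_lit 0x2600b400f5008400ae00200026)
(.cons (nat_lit 16) (nat_lit 0xe0000012470000d0e200008b00)
(.cons (nat_lit 32) (nat_lit 0xa4c1100000000058000000)
(.cons (nat_lit 64) (nat_lit 0x348c325a9349ec)
(.cons (nat_lit 32) (nat_lit 0xe6620300000000a9f9092a)
(.cons (nat_lit 16) (nat_lit 0xd50000dd4c00006a460000d62c)
(.cons (nat_lit 8) (nat_lit 0x5001c006200c7006500820044)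
(.cons (nat_lit 4) (nat_lit 0x4030f0004010f0b0f010b09010b0e)
(.cons (nat_lit 2) (nat_lit 0x22322331000133000230110103110)
(.cons (nat_lit 1) (nat_lit 0x105454514414011150404010404114)
.nil)))))))))))))
theorem n12_ok : Net.ok 120 n12 = true := by decide +kernel
noncomputable def n13 : Net := (.cons (nat_lit 1) (nat_lit 0x555410105510401515010410500450)
(.cons (nat_lit 2) (nat_lit 0x133132223202231333200203301200)
(.cons (nat_lit 4) (nat_lit 0xd0a090b090d080c09000c08020200)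
(.cons (nat_lit 8) (nat_lit 0x67004c0088006b0040001f0019)
(.cons (nat_lit 16) (nat_lit 0x8d0000a882000095810000b100)
(.cons (nat_lit 32) (nat_lit 0x5660420000000082000000)
(.cons (nat_lit 64) (nat_lit 0x3bdc9492ed3f42)
(.cons (nat_lit 32) (nat_lit 0xac172c00000000d408d70b)
(.cons (nat_lit 16) (nat_lit 0x1e0000c2e400005f6f0000fb5a)
(.cons (nat_lit 8) (nat_lit 0xd3000400ac007a004800fe001b)
(.cons (nat_lit 4) (nat_lit 0xd000c0e0e040a06010807000d0e02)
(.cons (nat_lit 2) (nat_lit 0x302313322232332323212303231102)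
(.cons (nat_lit 1) (nat_lit 0x141144441101410515001405045040)
.nil)))))))))))))
theorem n13_ok : Net.ok 120 n13 = true := by decide +kernel
noncomputable def n14 : Net := (.cons (nat_lit 1) (nat_lit 0x411104545515514504001500501514)
(.cons (nat_lit 2) (nat_lit 0x30021002122332100103012012000)
(.cons (nat_lit 4) (nat_lit 0x90b0f06050a0f0507020c0e050f00)
(.cons (nat_lit 8) (nat_lit 0xe1004000a90005003400b4004b)
(.cons (nat_lit 16) (nat_lit 0xb60000a4660000403900000d00)
(.cons (nat_lit 32) (nat_lit 0x140f50000000055000000)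
(.cons (nat_lit 64) (nat_lit 0xea67d9779f982e)
(.cons (nat_lit 32) (nat_lit 0x6d8ca200000000a748a7c3)
(.cons (nat_lit 16) (nat_lit 0x8e00003c7200007f3000003f96)
(.cons (nat_lit 8) (nat_lit 0xd1008600e700ba0063003a0069)
(.cons (nat_lit 4) (nat_lit 0xa0006070b0c01080d03060e0d0400)
(.cons (nat_lit 2) (nat_lit 0x320112212321230000023030330100)
(.cons (nat_lit 1) (nat_lit 0x104505505110040545405150011414)
.nil)))))))))))))
theorem n14_ok : Net.ok 120 n14 = true := by decide +kernel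
noncomputable def n15 : Net := (.cons (nat_lit 1) (nat_lit 0x545555141410401150005114511510)
(.cons (nat_lit 2) (nat_lit 0x311100123113032120230003102000)
(.cons (nat_lit 4) (nat_lit 0x205050d020008090a050d080d0800)
(.cons (nat_lit 8) (nat_lit 0x34001100ab0083000c000c0000)
(.cons (nat_lit 16) (nat_lit 0xd00000c619000091d000007100)
(.cons (nat_lit 32) (nat_lit 0xb4348800000000e8000000)
(.cons (nat_lit 64) (nat_lit 0x829b26fe3f249a)
(.cons (nat_lit 32) (nat_lit 0x3d4c4500000000e5404a92)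
(.cons (nat_lit 16) (nat_lit 0xcf0000ccb100009ae800006982)
(.cons (nat_lit 8) (nat_lit 0x28002300a5000e005500400010)
(.cons (nat_lit 4) (nat_lit 0x601060a090a0e040a04040c040b0a)
(.cons (nat_lit 2) (nat_lit 0x312132231103331000232300120222)
(.cons (nat_lit 1) (nat_lit 0x544505541410410445005411101010)
.nil)))))))))))))
theorem n15_ok : Net.ok 120 n15 = true := by decide +kernel
noncomputable def n16 : Net := (.cons (nat_lit 1) (nat_lit 0x545011451104001511004055401010)
(.cons (nat_lit 2) (nat_lit 0x221330200220100011330100221120)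
(.cons (nat_lit 4) (nat_lit 0xc020f02060b00000b020c04000000)
(.cons (nat_lit 8) (nat_lit 0xea005500310057001900b80084)
(.cons (nat_lit 16) (nat_lit 0x8c000004530000d1800000cc00)
(.cons (nat_lit 32) (nat_lit 0x14bd00000000000000000)
(.cons (nat_lit 64) (nat_lit 0x7bf35c00808c80)
(.cons (nat_lit 32) (nat_lit 0xdc34260000000041ac8804)
(.cons (nat_lit 16) (nat_lit 0xa600000b410000661e0000cc92)
(.cons (nat_lit 8) (nat_lit 0x38005500b400b9005c00300084)
(.cons (nat_lit 4) (nat_lit 0xd0007080808030206030706040808)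
(.cons (nat_lit 2) (nat_lit 0x330032022123310010010301221220)
(.cons (nat_lit 1) (nat_lit 0x55014055514501455541551501510)
.nil)))))))))))))
theorem n16_ok : Net.ok 120 n16 = true := by decide +kernel
noncomputable def n17 : Net := (.cons (nat_lit 1) (nat_lit 0x41445005100044014115400000000)
(.cons (nat_lit 2) (nat_lit 0x131011001000001011023000000000)
(.cons (nat_lit 4) (nat_lit 0x60d0a080100000001080600000000)
(.cons (nat_lit 8) (nat_lit 0x420081001100e400c600100080)
(.cons (nat_lit 16) (nat_lit 0x42000099090000260000004000)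
(.cons (nat_lit 32) (nat_lit 0x1a48800000000000000000)
(.cons (nat_lit 64) (nat_lit 0xcc180310124080)
(.cons (nat_lit 32) (nat_lit 0x3bcd900000000006802080)
(.cons (nat_lit 16) (nat_lit 0xc20000990b0000e69000004080)
(.cons (nat_lit 8) (nat_lit 0x620081001100e400c600100080)
(.cons (nat_lit 4) (nat_lit 0x60d0a080100000001080600000000)
(.cons (nat_lit 2) (nat_lit 0x131011001000001011023000000000)
(.cons (nat_lit 1) (nat_lit 0x41445005100044014115400000000)
.nil)))))))))))))
theorem n17_ok : Net.ok 120 n17 = true := by decide +kernel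
noncomputable def nets : List Net := [n0, n1, n2, n3, n4, n5, n6, n7, n8, n9, n10, n11, n12, n13, n14, n15, n16, n17]
theorem nets_ok : netsOk 120 nets = true := List.all_eq_true.2 (fa_cons n0_ok (fa_cons n1_ok (fa_cons n2_ok (fa_cons n3_ok (fa_cons n4_ok (fa_cons n5_ok (fa_cons n6_ok (fa_cons n7_ok (fa_cons n8_ok (fa_cons n9_ok (fa_cons n10_ok (fa_cons n11_ok (fa_cons n12_ok (fa_cons n13_ok (fa_cons n14_ok (fa_cons n15_ok (fa_cons n16_ok (fa_cons n17_ok (fa_nil)))))))))))))))))))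
noncomputable def ss : List (Nat × Nat) := [(0, 0)]
noncomputable def ws7 : List Word := []
noncomputable def reach : List Word := [dw (nat_lit 0x01), dw (nat_lit 0x09), dw (nat_lit 0x0d), dw (nat_lit 0x03), dw (nat_lit 0x07), dw (nat_lit 0x0b), dw (nat_lit 0x05), dw (nat_lit 0x0f)
, dw (nat_lit 0x03), dw (nat_lit 0x01), dw (nat_lit 0x0f), dw (nat_lit 0x0703), dw (nat_lit 0x05), dw (nat_lit 0x0b), dw (nat_lit 0x07), dw (nat_lit 0x0d)
, dw (nat_lit 0x01), dw (nat_lit 0x03), dw (nat_lit 0x0f), dw (nat_lit 0x0b), dw (nat_lit 0x03), dw (nat_lit 0x01), dw (nat_lit 0x05), dw (nat_lit 0x07)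
, dw (nat_lit 0x09)]
noncomputable def lev6 : Level := ⟨nat_lit 13,
[⟨[nat_lit 34], [], [],
[⟨nat_lit 0, [], nat_lit 1, [], []⟩,
⟨nat_lit 1, [], nat_lit 0, [], []⟩],
[]⟩],
[⟨dw (nat_lit 0x01), (nat_lit 0x10000000000000), [], .nil, []⟩]⟩
noncomputable def ex6 : List Word := []
noncomputable def ws6 : List Word := List.append ex6 (lev6.gens ws7)
noncomputable def rels6 : List (Word × Word) := List.append (lev6.rels ws7) (memRels (lev6.gens ws7) ex6 [])
noncomputable def lev5 : Level := ⟨nat_lit 8,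
[⟨[nat_lit 32], [], [],
[⟨nat_lit 0, [], nat_lit 1, [], []⟩,
⟨nat_lit 1, [], nat_lit 2, [], []⟩,
⟨nat_lit 2, [], nat_lit 1, dw (nat_lit 0x01), dw (nat_lit 0x01)⟩,
⟨nat_lit 1, dw (nat_lit 0x01), nat_lit 0, [], dw (nat_lit 0x01)⟩],
[]⟩],
[⟨dw (nat_lit 0x01), (nat_lit 0x20000800000000), [dw (nat_lit 0x01)], .nil, []⟩,
⟨dw (nat_lit 0x0101), (nat_lit 0x8000000000000000000000000000), [], (.cons (nat_lit 13) [dw (nat_lit 0x01)] [dw (nat_lit 0x01)]
.nil), [dw (nat_lit 0x01)]⟩]⟩
noncomputable def ex5 : List Word := []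
noncomputable def ws5 : List Word := List.append ex5 (lev5.gens ws6)
noncomputable def rels5 : List (Word × Word) := List.append (lev5.rels ws6) (memRels (lev5.gens ws6) ex5 [])
noncomputable def lev4 : Level := ⟨nat_lit 7,
[⟨[nat_lit 28], [dw (nat_lit 0x0203)], [dw (nat_lit 0x0203)],
[⟨nat_lit 0, [], nat_lit 1, [], []⟩,
⟨nat_lit 1, [], nat_lit 1, dw (nat_lit 0x0101), dw (nat_lit 0x0103)⟩,
⟨nat_lit 2, [], nat_lit 2, dw (nat_lit 0x03), dw (nat_lit 0x01)⟩,
⟨nat_lit 1, dw (nat_lit 0x01), nat_lit 2, [], []⟩,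
⟨nat_lit 2, dw (nat_lit 0x02), nat_lit 1, dw (nat_lit 0x01), dw (nat_lit 0x02)⟩,
⟨nat_lit 1, dw (nat_lit 0x0101), nat_lit 0, [], dw (nat_lit 0x0101)⟩],
[dw (nat_lit 0x01)]⟩],
[⟨dw (nat_lit 0x01), (nat_lit 0x40000001000000080001000000000), [dw (nat_lit 0x01), dw (nat_lit 0x0101)], (.cons (nat_lit 8) [dw (nat_lit 0x0203)] [dw (nat_lit 0x01)]
.nil), [dw (nat_lit 0x0203)]⟩,
⟨dw (nat_lit 0x010301), (nat_lit 0x4000008400008000000000000000), [dw (nat_lit 0x01), dw (nat_lit 0x0202)], (.cons (nat_lit 8) [dw (nat_lit 0x040101)] [dw (nat_lit 0x01)]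
.nil), [dw (nat_lit 0x03)]⟩]⟩
noncomputable def ex4 : List Word := [[nat_lit 30]]
noncomputable def ws4 : List Word := List.append ex4 (lev4.gens ws5)
noncomputable def rels4 : List (Word × Word) := List.append (lev4.rels ws5) (memRels (lev4.gens ws5) ex4 [dw (nat_lit 0x010401)])
noncomputable def lev3 : Level := ⟨nat_lit 14,
[⟨[nat_lit 10], [dw (nat_lit 0x0307), dw (nat_lit 0x080505)], [dw (nat_lit 0x0307), dw (nat_lit 0x050507)],
[⟨nat_lit 0, [], nat_lit 1, [], []⟩,
⟨nat_lit 1, [], nat_lit 0, [], []⟩,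
⟨nat_lit 2, [], nat_lit 1, dw (nat_lit 0x05), []⟩,
⟨nat_lit 3, [], nat_lit 2, dw (nat_lit 0x0602), dw (nat_lit 0x020507)⟩,
⟨nat_lit 1, dw (nat_lit 0x01), nat_lit 1, dw (nat_lit 0x01), dw (nat_lit 0x010507)⟩,
⟨nat_lit 1, dw (nat_lit 0x05), nat_lit 2, [], []⟩,
⟨nat_lit 2, dw (nat_lit 0x01), nat_lit 2, dw (nat_lit 0x01), dw (nat_lit 0x060107)⟩,
⟨nat_lit 2, dw (nat_lit 0x0602), nat_lit 3, [], dw (nat_lit 0x020507)⟩],
[dw (nat_lit 0x01), dw (nat_lit 0x03), dw (nat_lit 0x01)]⟩],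
[⟨dw (nat_lit 0x01), (nat_lit 0x400018000000080200000151000000), [dw (nat_lit 0x01), dw (nat_lit 0x03), dw (nat_lit 0x07), dw (nat_lit 0x01)], (.cons (nat_lit 7) [dw (nat_lit 0x0307)] [dw (nat_lit 0x01), dw (nat_lit 0x0202)]
(.cons (nat_lit 8) [dw (nat_lit 0x080505)] [dw (nat_lit 0x01)]
.nil)), [dw (nat_lit 0x0307), dw (nat_lit 0x050507)]⟩,
⟨dw (nat_lit 0x010701), (nat_lit 0x82000400005000008408000010000), [dw (nat_lit 0x01), dw (nat_lit 0x05), dw (nat_lit 0x03), dw (nat_lit 0x01)], (.cons (nat_lit 7) [dw (nat_lit 0x0301)] [dw (nat_lit 0x01), dw (nat_lit 0x03), dw (nat_lit 0x01)]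
(.cons (nat_lit 8) [dw (nat_lit 0x0607)] [dw (nat_lit 0x01)]
.nil)), [dw (nat_lit 0x010507), dw (nat_lit 0x0507)]⟩,
⟨dw (nat_lit 0x010801060301), (nat_lit 0x2000000000000000000000), [], (.cons (nat_lit 7) [dw (nat_lit 0x01)] [dw (nat_lit 0x01), dw (nat_lit 0x0101), dw (nat_lit 0x03), dw (nat_lit 0x05)]
(.cons (nat_lit 8) [dw (nat_lit 0x05)] [dw (nat_lit 0x01), dw (nat_lit 0x0203)]
(.cons (nat_lit 13) [dw (nat_lit 0x07)] [dw (nat_lit 0x01)]
.nil))), [dw (nat_lit 0x010106), dw (nat_lit 0x03050507), dw (nat_lit 0x07)]⟩]⟩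
noncomputable def ex3 : List Word := [[nat_lit 14], [nat_lit 26]]
noncomputable def ws3 : List Word := List.append ex3 (lev3.gens ws4)
noncomputable def rels3 : List (Word × Word) := List.append (lev3.rels ws4) (memRels (lev3.gens ws4) ex3 [dw (nat_lit 0x0603010607), dw (nat_lit 0x0103)])
noncomputable def lev2 : Level := ⟨nat_lit 2,
[⟨[nat_lit 20], [dw (nat_lit 0x020b0303), dw (nat_lit 0x0e090b), dw (nat_lit 0x0e0b0b)], [dw (nat_lit 0x0501080d), dw (nat_lit 0x0c040401070d), dw (nat_lit 0x0b0b0d)],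
[⟨nat_lit 0, [], nat_lit 1, [], []⟩,
⟨nat_lit 1, [], nat_lit 1, dw (nat_lit 0x0c01), dw (nat_lit 0x010b)⟩,
⟨nat_lit 2, [], nat_lit 1, dw (nat_lit 0x0b), dw (nat_lit 0x09010a0c)⟩,
⟨nat_lit 3, [], nat_lit 2, dw (nat_lit 0x07), []⟩,
⟨nat_lit 1, dw (nat_lit 0x01), nat_lit 2, [], []⟩,
⟨nat_lit 2, dw (nat_lit 0x03), nat_lit 2, dw (nat_lit 0x03), dw (nat_lit 0x0c03080c0d)⟩,
⟨nat_lit 1, dw (nat_lit 0x0c01), nat_lit 0, [], dw (nat_lit 0x0c01)⟩,
⟨nat_lit 2, dw (nat_lit 0x0305), nat_lit 3, [], dw (nat_lit 0x0801070b0b0d)⟩],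
[dw (nat_lit 0x03), dw (nat_lit 0x01), dw (nat_lit 0x03), dw (nat_lit 0x05), dw (nat_lit 0x03)]⟩],
[⟨dw (nat_lit 0x01), (nat_lit 0x8006408048020000008000a0028820), [dw (nat_lit 0x01), dw (nat_lit 0x03), dw (nat_lit 0x09), dw (nat_lit 0x03), dw (nat_lit 0x01), dw (nat_lit 0x03)], (.cons (nat_lit 14) [dw (nat_lit 0x02080901)] [dw (nat_lit 0x01), dw (nat_lit 0x03), dw (nat_lit 0x01), dw (nat_lit 0x03), dw (nat_lit 0x05), dw (nat_lit 0x01)]
(.cons (nat_lit 7) [dw (nat_lit 0x0a0d)] [dw (nat_lit 0x01), dw (nat_lit 0x0202)]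
(.cons (nat_lit 8) [dw (nat_lit 0x0e0b0b)] [dw (nat_lit 0x01)]
.nil))), [dw (nat_lit 0x0309070b0d), dw (nat_lit 0x040401070d), dw (nat_lit 0x0b0b0d)]⟩,
⟨dw (nat_lit 0x010301), (nat_lit 0x100800000288041404062404400000), [dw (nat_lit 0x03), dw (nat_lit 0x05), dw (nat_lit 0x0b), dw (nat_lit 0x09), dw (nat_lit 0x07)], (.cons (nat_lit 14) [dw (nat_lit 0x0b0103)] [dw (nat_lit 0x01), dw (nat_lit 0x03), dw (nat_lit 0x05), dw (nat_lit 0x01), dw (nat_lit 0x03), dw (nat_lit 0x01), dw (nat_lit 0x03), dw (nat_lit 0x01)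
]
(.cons (nat_lit 7) [dw (nat_lit 0x0709)] [dw (nat_lit 0x01), dw (nat_lit 0x03), dw (nat_lit 0x01)]
(.cons (nat_lit 8) [dw (nat_lit 0x0c0d)] [dw (nat_lit 0x01)]
.nil))), [dw (nat_lit 0x03010b090c0d), dw (nat_lit 0x0a030a0b), dw (nat_lit 0x0c0d)]⟩,
⟨dw (nat_lit 0x0209010301), (nat_lit 0x20000000000000000000000), [], (.cons (nat_lit 14) [dw (nat_lit 0x01)] [dw (nat_lit 0x01), dw (nat_lit 0x03), dw (nat_lit 0x05), dw (nat_lit 0x03), dw (nat_lit 0x0203), dw (nat_lit 0x03), dw (nat_lit 0x05), dw (nat_lit 0x01)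
]
(.cons (nat_lit 7) [dw (nat_lit 0x07)] [dw (nat_lit 0x01), dw (nat_lit 0x0204), dw (nat_lit 0x01), dw (nat_lit 0x03), dw (nat_lit 0x01)]
(.cons (nat_lit 8) [dw (nat_lit 0x0b)] [dw (nat_lit 0x01), dw (nat_lit 0x0301)]
(.cons (nat_lit 13) [dw (nat_lit 0x0d)] [dw (nat_lit 0x01)]
.nil)))), [dw (nat_lit 0x0d), dw (nat_lit 0x0801080b0d), dw (nat_lit 0x09040109070c), dw (nat_lit 0x080b0d)]⟩]⟩
noncomputable def ex2 : List Word := [[nat_lit 22], [nat_lit 24]]
noncomputable def ws2 : List Word := List.append ex2 (lev2.gens ws3)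
noncomputable def rels2 : List (Word × Word) := List.append (lev2.rels ws3) (memRels (lev2.gens ws3) ex2 [dw (nat_lit 0x020a01030b090d), dw (nat_lit 0x0f0106010c060309090d0d0f)])
noncomputable def lev1 : Level := ⟨nat_lit 6,
[⟨[nat_lit 18], [dw (nat_lit 0x0213), dw (nat_lit 0x08110909), dw (nat_lit 0x140f11), dw (nat_lit 0x141111)], [dw (nat_lit 0x0d010a07120d12), dw (nat_lit 0x01090f1111), dw (nat_lit 0x0a0f0a070d0d111113), dw (nat_lit 0x111113)],
[⟨nat_lit 0, [], nat_lit 1, [], []⟩,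
⟨nat_lit 1, [], nat_lit 2, [], []⟩,
⟨nat_lit 2, [], nat_lit 2, dw (nat_lit 0x0904), dw (nat_lit 0x03070907110f)⟩,
⟨nat_lit 1, dw (nat_lit 0x01), nat_lit 1, dw (nat_lit 0x0301), dw (nat_lit 0x10050a0a070d0d12)⟩,
⟨nat_lit 1, dw (nat_lit 0x04), nat_lit 0, [], dw (nat_lit 0x030f0a070d1111)⟩,
⟨nat_lit 1, dw (nat_lit 0x06), nat_lit 1, dw (nat_lit 0x0f), dw (nat_lit 0x030310090f0d1113)⟩,
⟨nat_lit 2, dw (nat_lit 0x09), nat_lit 1, dw (nat_lit 0x03), dw (nat_lit 0x06040a120d1113)⟩],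
[dw (nat_lit 0x01), dw (nat_lit 0x05), dw (nat_lit 0x03), dw (nat_lit 0x01), dw (nat_lit 0x01), dw (nat_lit 0x07), dw (nat_lit 0x01), dw (nat_lit 0x03)
, dw (nat_lit 0x01)]⟩],
[⟨dw (nat_lit 0x01), (nat_lit 0x27410010950093a0c228500a301080), [dw (nat_lit 0x01), dw (nat_lit 0x03), dw (nat_lit 0x05), dw (nat_lit 0x09), dw (nat_lit 0x03), dw (nat_lit 0x0f), dw (nat_lit 0x01)], (.cons (nat_lit 2) [dw (nat_lit 0x0213)] [dw (nat_lit 0x01), dw (nat_lit 0x0501), dw (nat_lit 0x03), dw (nat_lit 0x01), dw (nat_lit 0x01), dw (nat_lit 0x01)]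
(.cons (nat_lit 14) [dw (nat_lit 0x090909)] [dw (nat_lit 0x01), dw (nat_lit 0x05), dw (nat_lit 0x03), dw (nat_lit 0x01), dw (nat_lit 0x05), dw (nat_lit 0x01)]
(.cons (nat_lit 7) [dw (nat_lit 0x0d0d)] [dw (nat_lit 0x01), dw (nat_lit 0x03), dw (nat_lit 0x01), dw (nat_lit 0x03), dw (nat_lit 0x01)]
(.cons (nat_lit 8) [dw (nat_lit 0x141111)] [dw (nat_lit 0x01)]
.nil)))), [dw (nat_lit 0x120412090e111113), dw (nat_lit 0x03051209110f11), dw (nat_lit 0x060f070d0d12), dw (nat_lit 0x111113)]⟩,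
⟨dw (nat_lit 0x0101), (nat_lit 0x48209a442035080b08418151854600), [dw (nat_lit 0x01), dw (nat_lit 0x03), dw (nat_lit 0x09), dw (nat_lit 0x01), dw (nat_lit 0x11), dw (nat_lit 0x03), dw (nat_lit 0x01)], (.cons (nat_lit 2) [dw (nat_lit 0x011102)] [dw (nat_lit 0x01), dw (nat_lit 0x07), dw (nat_lit 0x03), dw (nat_lit 0x05), dw (nat_lit 0x01), dw (nat_lit 0x07), dw (nat_lit 0x01)]
(.cons (nat_lit 14) [dw (nat_lit 0x07)] [dw (nat_lit 0x01), dw (nat_lit 0x07), dw (nat_lit 0x03), dw (nat_lit 0x0502), dw (nat_lit 0x01)]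
(.cons (nat_lit 7) [dw (nat_lit 0x0d11)] [dw (nat_lit 0x01), dw (nat_lit 0x03)]
(.cons (nat_lit 8) [dw (nat_lit 0x1111)] [dw (nat_lit 0x01)]
(.cons (nat_lit 13) [dw (nat_lit 0x13)] [dw (nat_lit 0x01)]
.nil))))), [dw (nat_lit 0x110f1113), dw (nat_lit 0x06040a0d0d), dw (nat_lit 0x0d11), dw (nat_lit 0x1111), dw (nat_lit 0x13)]⟩]⟩
noncomputable def ex1 : List Word := [[nat_lit 2], [nat_lit 6], [nat_lit 16]]
noncomputable def ws1 : List Word := List.append ex1 (lev1.gens ws2)
noncomputable def rels1 : List (Word × Word) := List.append (lev1.rels ws2) (memRels (lev1.gens ws2) ex1 [dw (nat_lit 0x02020505130c0915), dw (nat_lit 0x06010105140913), dw (nat_lit 0x08010103120b1114)])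
noncomputable def lev0 : Level := ⟨nat_lit 0,
[⟨[nat_lit 0], [dw (nat_lit 0x03), dw (nat_lit 0x0909), dw (nat_lit 0x0f), dw (nat_lit 0x1519)], [dw (nat_lit 0x03), dw (nat_lit 0x0909), dw (nat_lit 0x0f), dw (nat_lit 0x1519)],
[⟨nat_lit 0, [], nat_lit 1, [], []⟩,
⟨nat_lit 1, [], nat_lit 0, [], []⟩,
⟨nat_lit 2, [], nat_lit 1, dw (nat_lit 0x05), []⟩,
⟨nat_lit 1, dw (nat_lit 0x01), nat_lit 1, dw (nat_lit 0x01), dw (nat_lit 0x01)⟩,
⟨nat_lit 1, dw (nat_lit 0x05), nat_lit 2, [], []⟩,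
⟨nat_lit 2, dw (nat_lit 0x01), nat_lit 2, dw (nat_lit 0x01), dw (nat_lit 0x0b0b19120f1b)⟩,
⟨nat_lit 1, dw (nat_lit 0x0e08), nat_lit 1, dw (nat_lit 0x0e08), dw (nat_lit 0x0d0b121a151a1b)⟩],
[dw (nat_lit 0x05), dw (nat_lit 0x03), dw (nat_lit 0x07), dw (nat_lit 0x03), dw (nat_lit 0x01), dw (nat_lit 0x05), dw (nat_lit 0x07), dw (nat_lit 0x03)
, dw (nat_lit 0x01), dw (nat_lit 0x07), dw (nat_lit 0x05), dw (nat_lit 0x03), dw (nat_lit 0x0801), dw (nat_lit 0x03), dw (nat_lit 0x07), dw (nat_lit 0x05)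
]⟩],
[⟨dw (nat_lit 0x01), (nat_lit 0x909e65ab4aca645435962ea44aa93e), [dw (nat_lit 0x01), dw (nat_lit 0x05), dw (nat_lit 0x09), dw (nat_lit 0x11), dw (nat_lit 0x0b), dw (nat_lit 0x17), dw (nat_lit 0x19), dw (nat_lit 0x05)
, dw (nat_lit 0x07)], (.cons (nat_lit 6) [dw (nat_lit 0x03)] [dw (nat_lit 0x01), dw (nat_lit 0x03), dw (nat_lit 0x07), dw (nat_lit 0x05), dw (nat_lit 0x03), dw (nat_lit 0x0b), dw (nat_lit 0x07), dw (nat_lit 0x0609)
, dw (nat_lit 0x01), dw (nat_lit 0x07), dw (nat_lit 0x03), dw (nat_lit 0x01), dw (nat_lit 0x09), dw (nat_lit 0x05), dw (nat_lit 0x0b)]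
(.cons (nat_lit 2) [dw (nat_lit 0x0909)] [dw (nat_lit 0x01), dw (nat_lit 0x05), dw (nat_lit 0x03), dw (nat_lit 0x01), dw (nat_lit 0x09), dw (nat_lit 0x05), dw (nat_lit 0x01), dw (nat_lit 0x03)
, dw (nat_lit 0x05), dw (nat_lit 0x01)]
(.cons (nat_lit 14) [dw (nat_lit 0x0f)] [dw (nat_lit 0x01), dw (nat_lit 0x07), dw (nat_lit 0x03), dw (nat_lit 0x05), dw (nat_lit 0x01), dw (nat_lit 0x03)]
(.cons (nat_lit 7) [dw (nat_lit 0x1519)] [dw (nat_lit 0x01), dw (nat_lit 0x03)]
(.cons (nat_lit 8) [dw (nat_lit 0x1919)] [dw (nat_lit 0x01)]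
(.cons (nat_lit 13) [dw (nat_lit 0x1b)] [dw (nat_lit 0x01)]
.nil)))))), [dw (nat_lit 0x03), dw (nat_lit 0x0909), dw (nat_lit 0x0f), dw (nat_lit 0x1519), dw (nat_lit 0x1919), dw (nat_lit 0x1b)]⟩,
⟨dw (nat_lit 0x010701), (nat_lit 0x6f619a54b5359babca69d15bb556c0), [dw (nat_lit 0x01), dw (nat_lit 0x05), dw (nat_lit 0x07), dw (nat_lit 0x17), dw (nat_lit 0x11), dw (nat_lit 0x19), dw (nat_lit 0x05), dw (nat_lit 0x03)
], (.cons (nat_lit 6) [dw (nat_lit 0x03)] [dw (nat_lit 0x01), dw (nat_lit 0x03), dw (nat_lit 0x07), dw (nat_lit 0x03), dw (nat_lit 0x01), dw (nat_lit 0x03), dw (nat_lit 0x09), dw (nat_lit 0x03)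
, dw (nat_lit 0x01), dw (nat_lit 0x03), dw (nat_lit 0x01)]
(.cons (nat_lit 2) [dw (nat_lit 0x090d)] [dw (nat_lit 0x01), dw (nat_lit 0x0202), dw (nat_lit 0x03), dw (nat_lit 0x01), dw (nat_lit 0x05), dw (nat_lit 0x07), dw (nat_lit 0x01)]
(.cons (nat_lit 14) [dw (nat_lit 0x1215)] [dw (nat_lit 0x01), dw (nat_lit 0x05), dw (nat_lit 0x01), dw (nat_lit 0x03), dw (nat_lit 0x05), dw (nat_lit 0x03)]
(.cons (nat_lit 7) [dw (nat_lit 0x1715)] [dw (nat_lit 0x01), dw (nat_lit 0x03), dw (nat_lit 0x01)]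
(.cons (nat_lit 8) [dw (nat_lit 0x1a1b)] [dw (nat_lit 0x01)]
.nil))))), [dw (nat_lit 0x05030b0915130f161a1b), dw (nat_lit 0x0c010b181115191b), dw (nat_lit 0x1215), dw (nat_lit 0x0c010b), dw (nat_lit 0x0507090c130f1917191b)]⟩]⟩
noncomputable def ex0 : List Word := [[nat_lit 4], [nat_lit 8], [nat_lit 12]]
noncomputable def ws0 : List Word := List.append ex0 (lev0.gens ws1)
noncomputable def rels0 : List (Word × Word) := List.append (lev0.rels ws1) (memRels (lev0.gens ws1) ex0 [dw (nat_lit 0x07070107130f1a14111a), dw (nat_lit 0x0b010c), dw (nat_lit 0x1509010a1318)])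
noncomputable def rels : List (Word × Word) := List.append rels0 (List.append rels1 (List.append rels2 (List.append rels3 (List.append rels4 (List.append rels5 (List.append rels6 ([])))))))
noncomputable def defs : List Word := [dw (nat_lit 0x060e0e010309080b040509), dw (nat_lit 0x02040c070e0806020c10100302), dw (nat_lit 0x121410041311), dw (nat_lit 0x14080b10140412040b08), dw (nat_lit 0x040810110f1308141210140f03), dw (nat_lit 0x171a100b161a0c0c100c150c1918), dw (nat_lit 0x0c101c0c100c1c0b0f1b0c100c1b0b0f1c), dw (nat_lit 0x0c1b)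
, dw (nat_lit 0x1e201d1d1f1d1d201e), dw (nat_lit 0x1d1d2020201e)]
noncomputable def relsD : List (Word × Word) := defRels defs 8
noncomputable def relsO : List (Word × Word) := memRels ws0 (lets 8) [dw (nat_lit 0x07), dw (nat_lit 0x09), dw (nat_lit 0x01), dw (nat_lit 0x0b), dw (nat_lit 0x03), dw (nat_lit 0x191e), dw (nat_lit 0x05), dw (nat_lit 0x17)
]
noncomputable def relsS : List (Word × Word) := []
noncomputable def allRels : List (Word × Word) := List.append rels (List.append relsD (List.append relsO relsS))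
theorem reach_ok : subs (full 120) (orbRun nets (lets 8) reach (bits (List.map Prod.fst ss))) = true := by decide +kernel
theorem chk6 : lev6.chk 120 nets ws7 1 2 = true := by decide +kernel
theorem chk5 : lev5.chk 120 nets ws6 2 8 = true := by decide +kernel
theorem chk4 : lev4.chk 120 nets ws5 8 72 = true := by decide +kernel
theorem chk3 : lev3.chk 120 nets ws4 72 1440 = true := by decide +kernel
theorem chk2 : lev2.chk 120 nets ws3 1440 46080 = true := by decide +kernel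
theorem chk1 : lev1.chk 120 nets ws2 46080 2903040 = true := by decide +kernel
theorem chk0 : lev0.chk 120 nets ws1 2903040 348364800 = true := by decide +kernel
theorem rc0 : relsChk 120 nets 7 (idArr 120 7 7 0) allRels = true := by decide +kernel
section
variable {Γ Ω : Type*} [Group Γ] [MulAction Γ Ω] (M : PM Γ Ω 120 nets)

theorem all_ok (hs : M.Sep 7 (idArr 120 7 7 0)) : Rels M.gen allRels := (M.rels_of_chk hs rc0)
theorem sep [FaithfulSMul Γ Ω] : M.Sep 7 (idArr 120 7 7 0) := M.sep_idArr (by decide)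
theorem all_ok' [FaithfulSMul Γ Ω] : Rels M.gen allRels := all_ok M (sep M)
theorem rels_of_all {gen : ℕ → Γ} (h : Rels gen allRels) : Rels gen rels := Rels.left h
theorem relsD_of_all {gen : ℕ → Γ} (h : Rels gen allRels) : Rels gen relsD := Rels.left (Rels.right h)
theorem relsO_of_all {gen : ℕ → Γ} (h : Rels gen allRels) : Rels gen relsO := Rels.left (Rels.right (Rels.right h))
theorem relsS_of_all {gen : ℕ → Γ} (h : Rels gen allRels) : Rels gen relsS := Rels.right (Rels.right (Rels.right h))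
theorem card7 (_hR : Rels M.gen rels) : Nat.card (sub M.gen ws7) = 1 := M.card_nil
theorem fixw7 (_hR : Rels M.gen rels) : M.FixTriv ws7 [] := M.fixTriv_nil
theorem r6 (hR : Rels M.gen rels) : Rels M.gen rels6 := (Rels.left (Rels.right (Rels.right (Rels.right (Rels.right (Rels.right (Rels.right hR)))))))
theorem res6 (hR : Rels M.gen rels) : M.LevelRes ws7 lev6 2 := M.level (card7 M hR) chk6 (Rels.left (r6 M hR))
theorem ext6 (hR : Rels M.gen rels) : sub M.gen ws6 = sub M.gen (lev6.gens ws7) := sub_extend (Rels.right (r6 M hR))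
theorem card6 (hR : Rels M.gen rels) : Nat.card (sub M.gen ws6) = 2 := by rw [ext6 M hR]; exact (res6 M hR).card
theorem fix6 (hR : Rels M.gen rels) : M.FixTriv (lev6.gens ws7) [13] := (res6 M hR).fixTriv M (fixw7 M hR)
theorem fixw6 (hR : Rels M.gen rels) : M.FixTriv ws6 [13] := fun g hg => fix6 M hR g (ext6 M hR ▸ hg)
theorem stab6 (hR : Rels M.gen rels) : sub M.gen ws6 ⊓ MulAction.stabilizer Γ (M.dec 13) = sub M.gen ws7 := by rw [ext6 M hR]; exact (res6 M hR).stab
theorem orb6 (hR : Rels M.gen rels) (y : Ω) : y ∈ M.S lev6.orb ↔ ∃ g ∈ sub M.gen ws6, g • M.dec 13 = y := by rw [ext6 M hR]; exact (res6 M hR).orb y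
theorem r5 (hR : Rels M.gen rels) : Rels M.gen rels5 := (Rels.left (Rels.right (Rels.right (Rels.right (Rels.right (Rels.right hR))))))
theorem res5 (hR : Rels M.gen rels) : M.LevelRes ws6 lev5 8 := M.level (card6 M hR) chk5 (Rels.left (r5 M hR))
theorem ext5 (hR : Rels M.gen rels) : sub M.gen ws5 = sub M.gen (lev5.gens ws6) := sub_extend (Rels.right (r5 M hR))
theorem card5 (hR : Rels M.gen rels) : Nat.card (sub M.gen ws5) = 8 := by rw [ext5 M hR]; exact (res5 M hR).card
theorem fix5 (hR : Rels M.gen rels) : M.FixTriv (lev5.gens ws6) [8, 13] := (res5 M hR).fixTriv M (fixw6 M hR)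
theorem fixw5 (hR : Rels M.gen rels) : M.FixTriv ws5 [8, 13] := fun g hg => fix5 M hR g (ext5 M hR ▸ hg)
theorem stab5 (hR : Rels M.gen rels) : sub M.gen ws5 ⊓ MulAction.stabilizer Γ (M.dec 8) = sub M.gen ws6 := by rw [ext5 M hR]; exact (res5 M hR).stab
theorem orb5 (hR : Rels M.gen rels) (y : Ω) : y ∈ M.S lev5.orb ↔ ∃ g ∈ sub M.gen ws5, g • M.dec 8 = y := by rw [ext5 M hR]; exact (res5 M hR).orb y
theorem r4 (hR : Rels M.gen rels) : Rels M.gen rels4 := (Rels.left (Rels.right (Rels.right (Rels.right (Rels.right hR)))))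
theorem res4 (hR : Rels M.gen rels) : M.LevelRes ws5 lev4 72 := M.level (card5 M hR) chk4 (Rels.left (r4 M hR))
theorem ext4 (hR : Rels M.gen rels) : sub M.gen ws4 = sub M.gen (lev4.gens ws5) := sub_extend (Rels.right (r4 M hR))
theorem card4 (hR : Rels M.gen rels) : Nat.card (sub M.gen ws4) = 72 := by rw [ext4 M hR]; exact (res4 M hR).card
theorem fix4 (hR : Rels M.gen rels) : M.FixTriv (lev4.gens ws5) [7, 8, 13] := (res4 M hR).fixTriv M (fixw5 M hR)
theorem fixw4 (hR : Rels M.gen rels) : M.FixTriv ws4 [7, 8, 13] := fun g hg => fix4 M hR g (ext4 M hR ▸ hg)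
theorem stab4 (hR : Rels M.gen rels) : sub M.gen ws4 ⊓ MulAction.stabilizer Γ (M.dec 7) = sub M.gen ws5 := by rw [ext4 M hR]; exact (res4 M hR).stab
theorem orb4 (hR : Rels M.gen rels) (y : Ω) : y ∈ M.S lev4.orb ↔ ∃ g ∈ sub M.gen ws4, g • M.dec 7 = y := by rw [ext4 M hR]; exact (res4 M hR).orb y
theorem r3 (hR : Rels M.gen rels) : Rels M.gen rels3 := (Rels.left (Rels.right (Rels.right (Rels.right hR))))
theorem res3 (hR : Rels M.gen rels) : M.LevelRes ws4 lev3 1440 := M.level (card4 M hR) chk3 (Rels.left (r3 M hR))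
theorem ext3 (hR : Rels M.gen rels) : sub M.gen ws3 = sub M.gen (lev3.gens ws4) := sub_extend (Rels.right (r3 M hR))
theorem card3 (hR : Rels M.gen rels) : Nat.card (sub M.gen ws3) = 1440 := by rw [ext3 M hR]; exact (res3 M hR).card
theorem fix3 (hR : Rels M.gen rels) : M.FixTriv (lev3.gens ws4) [14, 7, 8, 13] := (res3 M hR).fixTriv M (fixw4 M hR)
theorem fixw3 (hR : Rels M.gen rels) : M.FixTriv ws3 [14, 7, 8, 13] := fun g hg => fix3 M hR g (ext3 M hR ▸ hg)
theorem stab3 (hR : Rels M.gen rels) : sub M.gen ws3 ⊓ MulAction.stabilizer Γ (M.dec 14) = sub M.gen ws4 := by rw [ext3 M hR]; exact (res3 M hR).stab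
theorem orb3 (hR : Rels M.gen rels) (y : Ω) : y ∈ M.S lev3.orb ↔ ∃ g ∈ sub M.gen ws3, g • M.dec 14 = y := by rw [ext3 M hR]; exact (res3 M hR).orb y
theorem r2 (hR : Rels M.gen rels) : Rels M.gen rels2 := (Rels.left (Rels.right (Rels.right hR)))
theorem res2 (hR : Rels M.gen rels) : M.LevelRes ws3 lev2 46080 := M.level (card3 M hR) chk2 (Rels.left (r2 M hR))
theorem ext2 (hR : Rels M.gen rels) : sub M.gen ws2 = sub M.gen (lev2.gens ws3) := sub_extend (Rels.right (r2 M hR))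
theorem card2 (hR : Rels M.gen rels) : Nat.card (sub M.gen ws2) = 46080 := by rw [ext2 M hR]; exact (res2 M hR).card
theorem fix2 (hR : Rels M.gen rels) : M.FixTriv (lev2.gens ws3) [2, 14, 7, 8, 13] := (res2 M hR).fixTriv M (fixw3 M hR)
theorem fixw2 (hR : Rels M.gen rels) : M.FixTriv ws2 [2, 14, 7, 8, 13] := fun g hg => fix2 M hR g (ext2 M hR ▸ hg)
theorem stab2 (hR : Rels M.gen rels) : sub M.gen ws2 ⊓ MulAction.stabilizer Γ (M.dec 2) = sub M.gen ws3 := by rw [ext2 M hR]; exact (res2 M hR).stab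
theorem orb2 (hR : Rels M.gen rels) (y : Ω) : y ∈ M.S lev2.orb ↔ ∃ g ∈ sub M.gen ws2, g • M.dec 2 = y := by rw [ext2 M hR]; exact (res2 M hR).orb y
theorem r1 (hR : Rels M.gen rels) : Rels M.gen rels1 := (Rels.left (Rels.right hR))
theorem res1 (hR : Rels M.gen rels) : M.LevelRes ws2 lev1 2903040 := M.level (card2 M hR) chk1 (Rels.left (r1 M hR))
theorem ext1 (hR : Rels M.gen rels) : sub M.gen ws1 = sub M.gen (lev1.gens ws2) := sub_extend (Rels.right (r1 M hR))
theorem card1 (hR : Rels M.gen rels) : Nat.card (sub M.gen ws1) = 2903040 := by rw [ext1 M hR]; exact (res1 M hR).card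
theorem fix1 (hR : Rels M.gen rels) : M.FixTriv (lev1.gens ws2) [6, 2, 14, 7, 8, 13] := (res1 M hR).fixTriv M (fixw2 M hR)
theorem fixw1 (hR : Rels M.gen rels) : M.FixTriv ws1 [6, 2, 14, 7, 8, 13] := fun g hg => fix1 M hR g (ext1 M hR ▸ hg)
theorem stab1 (hR : Rels M.gen rels) : sub M.gen ws1 ⊓ MulAction.stabilizer Γ (M.dec 6) = sub M.gen ws2 := by rw [ext1 M hR]; exact (res1 M hR).stab
theorem orb1 (hR : Rels M.gen rels) (y : Ω) : y ∈ M.S lev1.orb ↔ ∃ g ∈ sub M.gen ws1, g • M.dec 6 = y := by rw [ext1 M hR]; exact (res1 M hR).orb y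
theorem r0 (hR : Rels M.gen rels) : Rels M.gen rels0 := (Rels.left hR)
theorem res0 (hR : Rels M.gen rels) : M.LevelRes ws1 lev0 348364800 := M.level (card1 M hR) chk0 (Rels.left (r0 M hR))
theorem ext0 (hR : Rels M.gen rels) : sub M.gen ws0 = sub M.gen (lev0.gens ws1) := sub_extend (Rels.right (r0 M hR))
theorem card0 (hR : Rels M.gen rels) : Nat.card (sub M.gen ws0) = 348364800 := by rw [ext0 M hR]; exact (res0 M hR).card
theorem fix0 (hR : Rels M.gen rels) : M.FixTriv (lev0.gens ws1) [0, 6, 2, 14, 7, 8, 13] := (res0 M hR).fixTriv M (fixw1 M hR)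
theorem fixw0 (hR : Rels M.gen rels) : M.FixTriv ws0 [0, 6, 2, 14, 7, 8, 13] := fun g hg => fix0 M hR g (ext0 M hR ▸ hg)
theorem stab0 (hR : Rels M.gen rels) : sub M.gen ws0 ⊓ MulAction.stabilizer Γ (M.dec 0) = sub M.gen ws1 := by rw [ext0 M hR]; exact (res0 M hR).stab
theorem orb0 (hR : Rels M.gen rels) (y : Ω) : y ∈ M.S lev0.orb ↔ ∃ g ∈ sub M.gen ws0, g • M.dec 0 = y := by rw [ext0 M hR]; exact (res0 M hR).orb y
theorem orig_eq {gen : ℕ → Γ} (h : Rels gen allRels) : sub gen (lets 8) = sub gen ws0 :=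
  sub_lets_eq_of_rels (ds := defs) (by decide +kernel) (relsD_of_all h) (by decide +kernel) (relsO_of_all h)
theorem gen_mem {gen : ℕ → Γ} (h : Rels gen allRels) {X : Subgroup Γ} (h0 : ∀ l < 8, gen l ∈ X) : sub gen ws0 ≤ X :=
  sub_le_of_wsIn (lo := 0) (gen_mem_of_defRels (ds := defs) (fun l _ hl => h0 l hl) (by decide +kernel) (relsD_of_all h)) (by decide +kernel)

end

/-- the permutation group -/
noncomputable abbrev P := permPM 120 nets (by decide) (by decide) nets_ok
theorem allP : Rels P.gen allRels := all_ok' P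
/-- machines of this type -/
abbrev St (X : Type*) [Group X] := Std X 120 nets ws0 348364800 allRels
/-- the presentation on the strong generators -/
theorem hom {X : Type*} [Group X] (S : St X) {Δ : Type*} [Group Δ] (y : ℕ → Δ) (hy : Rels y rels) :
    ∃ φ : X →* Δ, φ.range = sub y ws0 ∧ ∀ w ∈ ws0, φ (H14.ev S.M.gen w) = H14.ev y w :=
  S.hom_ws y (card0 _ ((rels_of_all S.rels).prod hy))
/-- the presentation on all letters -/
theorem hom' {X : Type*} [Group X] (S : St X) {Δ : Type*} [Group Δ] (y : ℕ → Δ) (hy : Rels y allRels) :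
    ∃ φ : X →* Δ, φ.range = sub y (lets 8) ∧ ∀ l < 18, φ (S.M.gen l) = y l :=
  S.hom_all y (card0 _ (rels_of_all (S.rels.prod hy))) (orig_eq (S.rels.prod hy)) (orig_eq hy) (ds := defs)
    (by decide +kernel) (relsD_of_all (S.rels.prod hy)) (by decide +kernel)
/-- the matrices of the first letters (and their inverses) -/
def As : List (ℕ × ℕ) :=
[(nat_lit 0x8040d210faf6f0f3, nat_lit 0x8040d210faf6f0f3),
  (nat_lit 0x1840201090040299, nat_lit 0x1840201090040299),
  (nat_lit 0x8040c3f3ebe7e101, nat_lit 0x8040c3f3ebe7e101),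
  (nat_lit 0x8040521008767073, nat_lit 0x8040521008767073),
  (nat_lit 0x9f5f3f0f0804021e, nat_lit 0x9f5f3f0f0804021e),
  (nat_lit 0x8040206108757370, nat_lit 0x8040206108757370),
  (nat_lit 0x8040f3c3dbd702d2, nat_lit 0x8040f3c3dbd702d2),
  (nat_lit 0x8037576708737576, nat_lit 0x8037576708737576)]
/-- the vectors -/
def V : ℕ := nat_lit 0x7f8ea997b83126461b51d86cf7e51fc9caf23dee22f4dd2ad335e354f1273e2f17a38977c4bc6a23d619118ca69ed4fe8a4d93cb451d65e836b298b1fbd1e9adfd623ae4325b72c795bf8fc5efc65cda74156dbb7c4c4f644ea8e2c8f82b53639c7aac8d6b71591339dfa2445e8b47919a562eb579b6a788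
theorem eqv_ok : c2.eqvM (4 + 4) 120 [1] V As nets 8 = true := by decide +kernel
theorem sep_ok : c2.sepM (4 + 4) 120 [1] V (ss.map Prod.fst) = true := by decide +kernel
theorem core {F : Type*} [Field F] {a : Ar F} (ha : Ok a c2 2) {ι : Type} [Fintype ι] [DecidableEq ι]
    {e : ι ≃ Fin (4 + 4)} {T X : Type*} [Group T] [Group X] {ρ : T →* Matrix ι ι F} (h : Mem a e ρ As 8)
    (q : T →* X) (hq : ∀ g, q g = 1 → g = 1 ∨ g ∈ Subgroup.center T ∧ ∀ z ∈ sub P.gen (lets 8), (∀ x ∈ sub P.gen (lets 8), x * z = z * x) → z = 1)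
    (hB : Bd (⊤ : Subgroup X) 348364800) : ∃ S : St X, Spec S a e ρ q As 8 [1] V (ss.map Prod.fst) :=
  h.std ha (by decide +kernel) eqv_ok reach_ok sep_ok q hq (ds := defs) (by decide +kernel) (by decide +kernel)
    (relsD_of_all allP) hB (orig_eq allP) (card0 P (rels_of_all allP)) allP
theorem std_spec {F : Type*} [Field F] [Fintype F] (hF : Fintype.card F = 2) {a : Ar F} (ha : Ok a c2 2) :
    ∃ S : St (Cfsg.isometryGroup F (Cfsg.quadFormPlus 4 F)), Spec S a finSumFinEquiv (isoM F (Cfsg.quadFormPlus 4 F)) (MonoidHom.id _) As 8 [1] V (ss.map Prod.fst) :=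
  core ha (mem_plus ha.1 (L := As) (by decide +kernel)) _ hq_id (bd_go_plus hF (by decide +kernel))
theorem std {F : Type*} [Field F] [Fintype F] (hF : Fintype.card F = 2) : Nonempty (St (Cfsg.isometryGroup F (Cfsg.quadFormPlus 4 F))) :=
  let ⟨_, ha⟩ := ar_2 (F := F) hF
  let ⟨S, _⟩ := std_spec hF ha
  ⟨S⟩

end H15.StdGO8p2
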