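import Cfsg.Agent.H14.Dw2
import Cfsg.Agent.H15.Std3

/-! Standard machine: a simple permutation group of order 175560 (J1) on 266 points, standard generators
Generated certificate (tools14/pkgen, tools15/std.py) for the permutation group StdJ1 of degree 266, order 175560, base 0 1 14 2. -/
set_option autoImplicit false
set_option maxRecDepth 100000

namespace H15.StdJ1
open H14

noncomputable def n0 : Net := (.cons (nat_lit 1) (nat_lit 0x414440510444155104055011450010445454441455104154444040450040010440)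
(.cons (nat_lit 2) (nat_lit 0x11022122012100200101302331202322200013302230120000010021022021110)
(.cons (nat_lit 4) (nat_lit 0x501050902070c070002000c0f040404030600060e0d0400010c00080301010300)
(.cons (nat_lit 8) (nat_lit 0x580052000500080028001100a70006000c000900c90009004c000800030000)
(.cons (nat_lit 16) (nat_lit 0x651000040000000a7000000d14000008962000020340000880300000000)
(.cons (nat_lit 32) (nat_lit 0x40008850000000001008074800000000603488030000000000000000)
(.cons (nat_lit 64) (nat_lit 0x100807484010885100000000000000000000000000000000)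
(.cons (nat_lit 128) (nat_lit 0x10080748401088010000000000000050)
(.cons (nat_lit 256) (nat_lit 0x50)
(.cons (nat_lit 128) (nat_lit 0x50)
(.cons (nat_lit 64) (nat_lit 0x50088f4840108a5100000000000000006034880300000000)
(.cons (nat_lit 32) (nat_lit 0x4601885000000000bfcd17ce00000000e977f8330000000088030000)
(.cons (nat_lit 16) (nat_lit 0x5ed10000617e0000b778000081300000a9c6000077f800008fcb00000300)
(.cons (nat_lit 8) (nat_lit 0x7f00ff0080000d0038000100f70056007c007900e900580008007c00770030)
(.cons (nat_lit 4) (nat_lit 0xf040d040a0709070002020c0f010401060600030f0d01010408050c0701090f0c)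
(.cons (nat_lit 2) (nat_lit 0x100132032102011211110203220302233300112202221120100010021022021110)
(.cons (nat_lit 1) (nat_lit 0x1414440510445155104055011450010445454451455104154444040450040010441)
.nil)))))))))))))))))
theorem n0_ok : Net.ok 266 n0 = true := by decide +kernel
noncomputable def n1 : Net := (.cons (nat_lit 1) (nat_lit 0x105004045050454401010505014415551000050100401145500000000001000040)
(.cons (nat_lit 2) (nat_lit 0x331103003000010320313202331203332131000121000013111102111313320220)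
(.cons (nat_lit 4) (nat_lit 0xf0808020901010b000e0307060306000a06080204000c0a0a0803070c09010000)
(.cons (nat_lit 8) (nat_lit 0x7000ed001d008a0004001800e1000b001b009d008d0008008100c000980000)
(.cons (nat_lit 16) (nat_lit 0xe0e90000128600004648000000bc0000caa40000ff020000610800000000)
(.cons (nat_lit 32) (nat_lit 0x1ea60068000000000158a2a5000000009e4261000000000000000000)
(.cons (nat_lit 64) (nat_lit 0x11882b51442206800000000000000000000000000000000)
(.cons (nat_lit 128) (nat_lit 0x11882b5144220000000000000000068)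
(.cons (nat_lit 256) (nat_lit 0x68)
(.cons (nat_lit 128) (nat_lit 0x68)
(.cons (nat_lit 64) (nat_lit 0x1fbe82fd1552206800000000000000009e42610000000000)
(.cons (nat_lit 32) (nat_lit 0xfeef02ec000000008319cef500000000deffeb080000000061b90000)
(.cons (nat_lit 16) (nat_lit 0xf9690000ffb6000090870000914000007773000086e700007fff0000d600)
(.cons (nat_lit 8) (nat_lit 0x1001b0033008a0006008f001c00f6006e002200f1005800110080004800f70030)
(.cons (nat_lit 4) (nat_lit 0x308040e0d0a0208000a0606060107080204000b06050109030700020a03010b0c)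
(.cons (nat_lit 2) (nat_lit 0x320103023211203001001203321011022121213111110032211100010012110213)
(.cons (nat_lit 1) (nat_lit 0x411144044044440501415515101441000101554414445410450154504414505411)
.nil)))))))))))))))))
theorem n1_ok : Net.ok 266 n1 = true := by decide +kernel
noncomputable def n2 : Net := (.cons (nat_lit 1) (nat_lit 0x500511154100555501054515055114445155050404445150000541114010140414)
(.cons (nat_lit 2) (nat_lit 0x32013303033233222303123011323230102230323322000211013030311223210)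
(.cons (nat_lit 4) (nat_lit 0x2050e0f020601030e010c0b090c08020c0a050f090307020203080000000a0a01)
(.cons (nat_lit 8) (nat_lit 0x10085002c00ff00a900820075006e00980049007e00df006400610059008c0008)
(.cons (nat_lit 16) (nat_lit 0xa6bd000044e40000c2280000229100005567000002f80000b01000000108)
(.cons (nat_lit 32) (nat_lit 0x938d877c00000000c604c0310000000092e7b7490000000000000200)
(.cons (nat_lit 64) (nat_lit 0xc80412c102bbfc00000000000000000000000000000000)
(.cons (nat_lit 128) (nat_lit 0x480212c902fbae068624010000037c)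
(.cons (nat_lit 256) (nat_lit 0x37c)
(.cons (nat_lit 128) (nat_lit 0x37c)
(.cons (nat_lit 64) (nat_lit 0xb0480012a27f6bfe00000000000000005286ed55e0691208)
(.cons (nat_lit 32) (nat_lit 0x30b142f4000000001f97dd230000000079d260ca00000000c35032cc)
(.cons (nat_lit 16) (nat_lit 0xf27f00007d140000198a00002830000099740000295e00002c800000085c)
(.cons (nat_lit 8) (nat_lit 0x2007e002400a500e900e200e500cf00a90066003e009e0081001300580024004a)
(.cons (nat_lit 4) (nat_lit 0xd080209000a030d07090a02070f09030f0307080d030c050f0d0d06000e0b0b02)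
(.cons (nat_lit 2) (nat_lit 0x122300121000311011232132123330223121303223130033030322120323322233)
(.cons (nat_lit 1) (nat_lit 0x401504101505540551441011450010104410114500550041045400411554415111)
.nil)))))))))))))))))
theorem n2_ok : Net.ok 266 n2 = true := by decide +kernel
noncomputable def n3 : Net := (.cons (nat_lit 1) (nat_lit 0x1541141405040154441511111441441540015505145055511445450555111414440)
(.cons (nat_lit 2) (nat_lit 0x201011320032132201112101202331132000012022321300313021011031022121)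
(.cons (nat_lit 4) (nat_lit 0x10b0c0f0002080900090f0e00020d0809080a0f010804020608020a0c010f0c01)
(.cons (nat_lit 8) (nat_lit 0x200a400b0006a00a7006b00d50092002500b50032004a0024006300a400060008)
(.cons (nat_lit 16) (nat_lit 0xc2f800001b480000efcb00002fd000000142000065a00000471000000000)
(.cons (nat_lit 32) (nat_lit 0x1c06431600000000283204190000000011c073000000000000000200)
(.cons (nat_lit 64) (nat_lit 0xa210408990076f5d00000000000000000000000000000200)
(.cons (nat_lit 128) (nat_lit 0xea14038b91076eed1d60e0100000035c)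
(.cons (nat_lit 256) (nat_lit 0x35c)
(.cons (nat_lit 128) (nat_lit 0x35c)
(.cons (nat_lit 64) (nat_lit 0x62060b4da5266bdd00000000000000003283f0d9c5782200)
(.cons (nat_lit 32) (nat_lit 0x89f6638a000000008f6bbc5e00000000bd81493800000000c113d921)
(.cons (nat_lit 16) (nat_lit 0x4b4c00005347000019ae00000d08000044750000c1090000e7900000b637)
(.cons (nat_lit 8) (nat_lit 0x1005a0057001700da004400cd009200f600c5005600a200cc0042003c005000cb)
(.cons (nat_lit 4) (nat_lit 0x907080c08080800010e0808000b040d0e0909030b0b080a07070b03050e0b0f08)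
(.cons (nat_lit 2) (nat_lit 0x313130033303010100133023330301103321231222010223203231122121221102)
(.cons (nat_lit 1) (nat_lit 0x155414011010414504411454504150040501405511010141054015400411405411)
.nil)))))))))))))))))
theorem n3_ok : Net.ok 266 n3 = true := by decide +kernel
noncomputable def n4 : Net := (.cons (nat_lit 1) (nat_lit 0x445054544405541550445504055005404041100444441410455500511454151550)
(.cons (nat_lit 2) (nat_lit 0x131233102011331011230322211321301333233131010232220321020323121222)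
(.cons (nat_lit 4) (nat_lit 0x30e04060d050e0e080006020e0c05050206090f03010b0e0600050009070a0500)
(.cons (nat_lit 8) (nat_lit 0x3006100d30061004b00830072004b00b20071006a00320054000700af00200038)
(.cons (nat_lit 16) (nat_lit 0x465a00000f6a0000f1cf0000847f0000805d0000737c0000010500000182)
(.cons (nat_lit 32) (nat_lit 0xd919ab16000000000292f3f2000000000d2472950000000000000076)
(.cons (nat_lit 64) (nat_lit 0xc114920062429217000000000000000000000000000001e3)
(.cons (nat_lit 128) (nat_lit 0x68aa65dc1347d540a9be922b649d6a4a)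
(.cons (nat_lit 256) (nat_lit 0x3ff)
(.cons (nat_lit 128) (nat_lit 0x1f5)
(.cons (nat_lit 64) (nat_lit 0xb89715ae298b5eec0000000000000000e5e75b3b195e6093)
(.cons (nat_lit 32) (nat_lit 0x75579a7200000000bf7a63a80000000050ca1ec0000000007836ff84)
(.cons (nat_lit 16) (nat_lit 0xc0390000bdb5000023850000c7ad0000df140000f958000024930000bf1a)
(.cons (nat_lit 8) (nat_lit 0xf1001f008900820042008d00fc005300d2006f006900e8004f008e0036007c)
(.cons (nat_lit 4) (nat_lit 0x2020b09000400030d0b090d090f0f01060204080200060506070c0209090a010e)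
(.cons (nat_lit 2) (nat_lit 0x300100010100111022012333033203311121013121333002020111211220233220)
(.cons (nat_lit 1) (nat_lit 0x1115444541000010501040105051050105401550451454144115400441040441440)
.nil)))))))))))))))))
theorem n4_ok : Net.ok 266 n4 = true := by decide +kernel
noncomputable def n5 : Net := (.cons (nat_lit 1) (nat_lit 0x550555054455041141505041055555041545140504551455541001544550441140)
(.cons (nat_lit 2) (nat_lit 0x11300332320311100211232301121020012110100032103002002222110210030)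
(.cons (nat_lit 4) (nat_lit 0x10e0c04070c0d090602000105080c0f0c0a0709090503020c0a08060509050401)
(.cons (nat_lit 8) (nat_lit 0x1001200240034000c0046009400ca00a400920088008300ad00d4003500890090)
(.cons (nat_lit 16) (nat_lit 0xbde9000041100000b9f600003d43000051c60000317e0000124a000000c8)
(.cons (nat_lit 32) (nat_lit 0x811d6ec000000005d4400b2000000001127652500000000000000c8)
(.cons (nat_lit 64) (nat_lit 0x67017c08027f0e2b00000000000000000000000000000124)
(.cons (nat_lit 128) (nat_lit 0xbb8933cebc9615274cd2cd7553e9aa17)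
(.cons (nat_lit 256) (nat_lit 0x3ff)
(.cons (nat_lit 128) (nat_lit 0x25d)
(.cons (nat_lit 64) (nat_lit 0xe62741b9b5c2d07e00000000000000006aacd14ad650ae1d)
(.cons (nat_lit 32) (nat_lit 0xaf009fae00000000b3b7b0f100000000a72523450000000099e8c1ff)
(.cons (nat_lit 16) (nat_lit 0x9368000027ba0000a52a0000e5aa000037c000003e8200006ff40000a86c)
(.cons (nat_lit 8) (nat_lit 0x1009f002c0055000f0002005100f5007a00e800aa005d00410064006600c10095)
(.cons (nat_lit 4) (nat_lit 0x6060e070602010c03000a0005000b0e02050a03090f010205060e050e07030d0f)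
(.cons (nat_lit 2) (nat_lit 0x303033203131023021112133330212200232203001011121112220030133122102)
(.cons (nat_lit 1) (nat_lit 0x1105445541555015011554145510145100051505004010105500510140550504054)
.nil)))))))))))))))))
theorem n5_ok : Net.ok 266 n5 = true := by decide +kernel
noncomputable def n6 : Net := (.cons (nat_lit 1) (nat_lit 0x1545544150151045544010504014454110100150051410444404151550005015400)
(.cons (nat_lit 2) (nat_lit 0x230120030020100021130123212302302123313301331223320003132011333010)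
(.cons (nat_lit 4) (nat_lit 0x8030e000402070d030b0a0e0e060e020c0c04070a040b0e030d0c0f0d00030b00)
(.cons (nat_lit 8) (nat_lit 0x300a100a70077002f007200a7000d0014009500b200a9009100d0003d003c00c0)
(.cons (nat_lit 16) (nat_lit 0xb6bc0000fc7f000065e8000058510000cd9a0000aa420000082000000204)
(.cons (nat_lit 32) (nat_lit 0x732c301e00000000c8d20e33000000001a0010280000000000000044)
(.cons (nat_lit 64) (nat_lit 0xd6487e41222f56ce00000000000000000000000000000220)
(.cons (nat_lit 128) (nat_lit 0x46cfc3012d4d9d47b9933df64e2243de)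
(.cons (nat_lit 256) (nat_lit 0x3fe)
(.cons (nat_lit 128) (nat_lit 0x16e)
(.cons (nat_lit 64) (nat_lit 0xca03fbc9d4bcdfba00000000000000003c56230981023a34)
(.cons (nat_lit 32) (nat_lit 0x177a2da500000000369b4c900000000059a739d600000000132c7d2c)
(.cons (nat_lit 16) (nat_lit 0xc1090000256a0000a8db0000e01100003c160000438000009ca300009cbc)
(.cons (nat_lit 8) (nat_lit 0x3006800b10007002800410038007c0058006d005e0077007c00ef00ab00890098)
(.cons (nat_lit 4) (nat_lit 0x40103020d020d0a0d00060704050c0f03040d02010b0a0e0f020c090309070700)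
(.cons (nat_lit 2) (nat_lit 0x1310321032220322310101032301111032112220133212320113001232213100)
(.cons (nat_lit 1) (nat_lit 0x44011540110540510115141015554501410411410041454450154114545414514)
.nil)))))))))))))))))
theorem n6_ok : Net.ok 266 n6 = true := by decide +kernel
noncomputable def n7 : Net := (.cons (nat_lit 1) (nat_lit 0x544050555154114145051454054540551504455445545404050045054411555450)
(.cons (nat_lit 2) (nat_lit 0x120310320113113003200303333332100312201023322002320133011101100010)
(.cons (nat_lit 4) (nat_lit 0xf010c0404090c0007090407050708040f060207090b07030a040908000e010002)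
(.cons (nat_lit 8) (nat_lit 0x2003700a60078003200ea007200ce00500034000c004d006a005d00a100800000)
(.cons (nat_lit 16) (nat_lit 0xa6440000387e000037360000a8ef0000a5460000432600002b070000014b)
(.cons (nat_lit 32) (nat_lit 0x1000914400000000e4198b9e00000000a2084956000000000000019c)
(.cons (nat_lit 64) (nat_lit 0xb248122c48e8951000000000000000000000000000000328)
(.cons (nat_lit 128) (nat_lit 0xc9a24b913f0bb90a777d156ee5e46ee1)
(.cons (nat_lit 256) (nat_lit 0x3ff)
(.cons (nat_lit 128) (nat_lit 0x9e)
(.cons (nat_lit 64) (nat_lit 0x439235cd64a45b0b0000000000000000c1d69d44af0c4bb2)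
(.cons (nat_lit 32) (nat_lit 0x5812de3b000000000cc04f9000000000bce594c5000000000ca43e44)
(.cons (nat_lit 16) (nat_lit 0x67c00000adeb0000cc1b0000246500003bbb000074ac0000ece900006d8d)
(.cons (nat_lit 8) (nat_lit 0x3008500e700a6003c007500cc00c700f9008f007f0058009e0091008c00a00014)
(.cons (nat_lit 4) (nat_lit 0x7020e0a040000010c0a0407030e000506010d040703050d0f0b0100000407010a)
(.cons (nat_lit 2) (nat_lit 0x331100110233031033202131010310303333013002311021313323130220121230)
(.cons (nat_lit 1) (nat_lit 0x100004504050400545544004140115514045144545440450415110051041055010)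
.nil)))))))))))))))))
theorem n7_ok : Net.ok 266 n7 = true := by decide +kernel
noncomputable def nets : List Net := [n0, n1, n2, n3, n4, n5, n6, n7]
theorem nets_ok : netsOk 266 nets = true := List.all_eq_true.2 (fa_cons n0_ok (fa_cons n1_ok (fa_cons n2_ok (fa_cons n3_ok (fa_cons n4_ok (fa_cons n5_ok (fa_cons n6_ok (fa_cons n7_ok (fa_nil)))))))))
noncomputable def ws4 : List Word := []
noncomputable def lev3 : Level := ⟨nat_lit 2,
[⟨[nat_lit 14], [], [],
[⟨nat_lit 0, [], nat_lit 1, [], []⟩,
⟨nat_lit 1, [], nat_lit 3, [], []⟩,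
⟨nat_lit 2, [], nat_lit 0, [], []⟩,
⟨nat_lit 3, [], nat_lit 4, [], []⟩,
⟨nat_lit 4, [], nat_lit 2, [], []⟩],
[]⟩],
[⟨dw (nat_lit 0x01), (nat_lit 0x10000000000000000000000000000000000000000000000000000000000), [], .nil, []⟩,
⟨dw (nat_lit 0x02), (nat_lit 0x4000000000000000000000000000000000000), [], .nil, []⟩,
⟨dw (nat_lit 0x0101), (nat_lit 0x8000000), [], .nil, []⟩,
⟨dw (nat_lit 0x0202), (nat_lit 0x1000000000000000000000000000000000000000000000000), [], .nil, []⟩]⟩
noncomputable def ex3 : List Word := []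
noncomputable def ws3 : List Word := List.append ex3 (lev3.gens ws4)
noncomputable def rels3 : List (Word × Word) := List.append (lev3.rels ws4) (memRels (lev3.gens ws4) ex3 [])
noncomputable def lev2 : Level := ⟨nat_lit 14,
[⟨[nat_lit 12], [], [],
[⟨nat_lit 0, [], nat_lit 1, [], []⟩,
⟨nat_lit 1, [], nat_lit 2, dw (nat_lit 0x0101), dw (nat_lit 0x0202)⟩,
⟨nat_lit 2, [], nat_lit 0, [], []⟩,
⟨nat_lit 1, dw (nat_lit 0x01), nat_lit 1, dw (nat_lit 0x02), dw (nat_lit 0x0101)⟩,
⟨nat_lit 1, dw (nat_lit 0x02), nat_lit 1, dw (nat_lit 0x0202), dw (nat_lit 0x01)⟩,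
⟨nat_lit 2, dw (nat_lit 0x01), nat_lit 1, dw (nat_lit 0x0101), dw (nat_lit 0x02)⟩,
⟨nat_lit 2, dw (nat_lit 0x02), nat_lit 2, dw (nat_lit 0x01), dw (nat_lit 0x0202)⟩,
⟨nat_lit 1, dw (nat_lit 0x0101), nat_lit 2, [], dw (nat_lit 0x0101)⟩,
⟨nat_lit 1, dw (nat_lit 0x0202), nat_lit 2, dw (nat_lit 0x0202), []⟩,
⟨nat_lit 2, dw (nat_lit 0x0101), nat_lit 1, dw (nat_lit 0x01), dw (nat_lit 0x01)⟩,
⟨nat_lit 2, dw (nat_lit 0x0202), nat_lit 2, dw (nat_lit 0x02), dw (nat_lit 0x02)⟩],
[]⟩],
[⟨dw (nat_lit 0x01), (nat_lit 0x20000000000000000010020000000000000000010000002000000000000000000), [dw (nat_lit 0x01), dw (nat_lit 0x0202), dw (nat_lit 0x01)], .nil, []⟩,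
⟨dw (nat_lit 0x02), (nat_lit 0x20014000040000000000000000000000000000000000000000001000000), [dw (nat_lit 0x01), dw (nat_lit 0x0202), dw (nat_lit 0x01)], .nil, []⟩]⟩
noncomputable def ex2 : List Word := []
noncomputable def ws2 : List Word := List.append ex2 (lev2.gens ws3)
noncomputable def rels2 : List (Word × Word) := List.append (lev2.rels ws3) (memRels (lev2.gens ws3) ex2 [])
noncomputable def lev1 : Level := ⟨nat_lit 1,
[⟨[nat_lit 8], [dw (nat_lit 0x0203)], [dw (nat_lit 0x03010404)],
[⟨nat_lit 0, [], nat_lit 1, [], []⟩,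
⟨nat_lit 1, [], nat_lit 1, dw (nat_lit 0x02), dw (nat_lit 0x04)⟩,
⟨nat_lit 1, dw (nat_lit 0x03), nat_lit 1, dw (nat_lit 0x03), dw (nat_lit 0x01040103)⟩,
⟨nat_lit 1, dw (nat_lit 0x0204), nat_lit 0, [], dw (nat_lit 0x0301)⟩],
[dw (nat_lit 0x01), dw (nat_lit 0x0202), dw (nat_lit 0x01)]⟩],
[⟨dw (nat_lit 0x01), (nat_lit 0x40008800000000000000000000200000000080000008080003014000000000), [dw (nat_lit 0x01), dw (nat_lit 0x0101), dw (nat_lit 0x03), dw (nat_lit 0x01), dw (nat_lit 0x01)], (.cons (nat_lit 14) [dw (nat_lit 0x020301)] [dw (nat_lit 0x01), dw (nat_lit 0x01), dw (nat_lit 0x01), dw (nat_lit 0x01)]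
.nil), [dw (nat_lit 0x0401)]⟩]⟩
noncomputable def ex1 : List Word := [[nat_lit 10]]
noncomputable def ws1 : List Word := List.append ex1 (lev1.gens ws2)
noncomputable def rels1 : List (Word × Word) := List.append (lev1.rels ws2) (memRels (lev1.gens ws2) ex1 [dw (nat_lit 0x030103030505)])
noncomputable def lev0 : Level := ⟨nat_lit 0,
[⟨[nat_lit 4], [dw (nat_lit 0x0105), dw (nat_lit 0x060705)], [dw (nat_lit 0x0206), dw (nat_lit 0x08)],
[⟨nat_lit 0, [], nat_lit 1, [], []⟩,
⟨nat_lit 1, [], nat_lit 2, [], []⟩,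
⟨nat_lit 2, [], nat_lit 2, dw (nat_lit 0x02), dw (nat_lit 0x040707)⟩,
⟨nat_lit 3, [], nat_lit 3, dw (nat_lit 0x080805), dw (nat_lit 0x080207050507)⟩,
⟨nat_lit 4, [], nat_lit 3, dw (nat_lit 0x0502), dw (nat_lit 0x01010808)⟩,
⟨nat_lit 1, dw (nat_lit 0x01), nat_lit 0, [], dw (nat_lit 0x02)⟩,
⟨nat_lit 2, dw (nat_lit 0x01), nat_lit 1, dw (nat_lit 0x02), []⟩,
⟨nat_lit 2, dw (nat_lit 0x02), nat_lit 3, [], dw (nat_lit 0x040707)⟩,
⟨nat_lit 3, dw (nat_lit 0x01), nat_lit 2, dw (nat_lit 0x0202), dw (nat_lit 0x040707)⟩,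
⟨nat_lit 3, dw (nat_lit 0x02), nat_lit 4, [], []⟩,
⟨nat_lit 2, dw (nat_lit 0x0507), nat_lit 2, dw (nat_lit 0x0404), dw (nat_lit 0x04010805)⟩],
[dw (nat_lit 0x01), dw (nat_lit 0x03), dw (nat_lit 0x01), dw (nat_lit 0x03), dw (nat_lit 0x01), dw (nat_lit 0x03), dw (nat_lit 0x01), dw (nat_lit 0x03)
, dw (nat_lit 0x01), dw (nat_lit 0x03)]⟩],
[⟨dw (nat_lit 0x01), (nat_lit 0x100200000402800400000040000000000000000080100000000000000120000), [dw (nat_lit 0x01), dw (nat_lit 0x03), dw (nat_lit 0x05), dw (nat_lit 0x01), dw (nat_lit 0x03)], (.cons (nat_lit 1) [dw (nat_lit 0x0501)] [dw (nat_lit 0x01), dw (nat_lit 0x03), dw (nat_lit 0x01), dw (nat_lit 0x03), dw (nat_lit 0x03), dw (nat_lit 0x01), dw (nat_lit 0x01)]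
(.cons (nat_lit 2) [dw (nat_lit 0x07)] [dw (nat_lit 0x01), dw (nat_lit 0x0101), dw (nat_lit 0x01)]
.nil)), [dw (nat_lit 0x0202050808), dw (nat_lit 0x07050808)]⟩,
⟨dw (nat_lit 0x0101), (nat_lit 0x36cdea15503c900149b8a934c09e46d4cb601846d0295ac65104bec108f4c898c64), [dw (nat_lit 0x01), dw (nat_lit 0x03), dw (nat_lit 0x05), dw (nat_lit 0x01), dw (nat_lit 0x03), dw (nat_lit 0x07), dw (nat_lit 0x01), dw (nat_lit 0x05)
, dw (nat_lit 0x07)], (.cons (nat_lit 1) [dw (nat_lit 0x060703), dw (nat_lit 0x0303010701)] [dw (nat_lit 0x01), dw (nat_lit 0x03), dw (nat_lit 0x01)]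
.nil), [dw (nat_lit 0x020208), dw (nat_lit 0x030107050508)]⟩,
⟨dw (nat_lit 0x01010101), (nat_lit 0x93201e8a7436bfc364356cb3f21b929349fe7b927d625292e7b410ee30b3647398), [dw (nat_lit 0x01), dw (nat_lit 0x03), dw (nat_lit 0x05), dw (nat_lit 0x07), dw (nat_lit 0x03), dw (nat_lit 0x05), dw (nat_lit 0x01), dw (nat_lit 0x03)
, dw (nat_lit 0x07), dw (nat_lit 0x01)], (.cons (nat_lit 1) [dw (nat_lit 0x050103)] [dw (nat_lit 0x01), dw (nat_lit 0x01), dw (nat_lit 0x01), dw (nat_lit 0x01)]
.nil), [dw (nat_lit 0x0101070607)]⟩,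
⟨dw (nat_lit 0x010401010101), (nat_lit 0x40008800000000000000000000200000000080000008080003014000000002), [dw (nat_lit 0x01), dw (nat_lit 0x03), dw (nat_lit 0x01), dw (nat_lit 0x07), dw (nat_lit 0x03), dw (nat_lit 0x03)], (.cons (nat_lit 14) [dw (nat_lit 0x05)] [dw (nat_lit 0x01), dw (nat_lit 0x0301), dw (nat_lit 0x01), dw (nat_lit 0x0303)]
(.cons (nat_lit 2) [dw (nat_lit 0x07)] [dw (nat_lit 0x01), dw (nat_lit 0x0202), dw (nat_lit 0x01)]
.nil)), [dw (nat_lit 0x01010808), dw (nat_lit 0x0101070607)]⟩]⟩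
noncomputable def ex0 : List Word := [[nat_lit 6]]
noncomputable def ws0 : List Word := List.append ex0 (lev0.gens ws1)
noncomputable def rels0 : List (Word × Word) := List.append (lev0.rels ws1) (memRels (lev0.gens ws1) ex0 [dw (nat_lit 0x0a010101010a)])
noncomputable def prim0 : List (List Word) := [[dw (nat_lit 0x01), dw (nat_lit 0x0203), dw (nat_lit 0x05), dw (nat_lit 0x07), dw (nat_lit 0x01), dw (nat_lit 0x03), dw (nat_lit 0x05), dw (nat_lit 0x01)
, dw (nat_lit 0x07), dw (nat_lit 0x01), dw (nat_lit 0x09), dw (nat_lit 0x03), dw (nat_lit 0x01)],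
[dw (nat_lit 0x01), dw (nat_lit 0x03), dw (nat_lit 0x05), dw (nat_lit 0x07), dw (nat_lit 0x03), dw (nat_lit 0x05), dw (nat_lit 0x09), dw (nat_lit 0x03)
, dw (nat_lit 0x01), dw (nat_lit 0x05), dw (nat_lit 0x03), dw (nat_lit 0x05), dw (nat_lit 0x03)],
[dw (nat_lit 0x01), dw (nat_lit 0x03), dw (nat_lit 0x05), dw (nat_lit 0x07), dw (nat_lit 0x09), dw (nat_lit 0x05), dw (nat_lit 0x07), dw (nat_lit 0x03)
, dw (nat_lit 0x05), dw (nat_lit 0x01), dw (nat_lit 0x09), dw (nat_lit 0x07), dw (nat_lit 0x05)],
[dw (nat_lit 0x01), dw (nat_lit 0x03), dw (nat_lit 0x05), dw (nat_lit 0x03), dw (nat_lit 0x09), dw (nat_lit 0x01), dw (nat_lit 0x05), dw (nat_lit 0x03)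
, dw (nat_lit 0x09), dw (nat_lit 0x07), dw (nat_lit 0x05), dw (nat_lit 0x01), dw (nat_lit 0x03), dw (nat_lit 0x05), dw (nat_lit 0x03)]]
noncomputable def rels : List (Word × Word) := List.append rels0 (List.append rels1 (List.append rels2 (List.append rels3 ([]))))
noncomputable def defs : List Word := [dw (nat_lit 0x03020401), dw (nat_lit 0x0302030204010104), dw (nat_lit 0x070505080507070707), dw (nat_lit 0x0805050705050707070608), dw (nat_lit 0x0909090c0a0b0a0c), dw (nat_lit 0x0a0c0c0a)]
noncomputable def relsD : List (Word × Word) := defRels defs 2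
noncomputable def relsO : List (Word × Word) := memRels ws0 (lets 2) [dw (nat_lit 0x040a0601070609090c0c), dw (nat_lit 0x060b03010a0a)]
noncomputable def zc : Word := dw (nat_lit 0x0c0a0107050c)
noncomputable def relsS : List (Word × Word) := List.append [(powW [2 * 2] 19, [])] [([2 * (2 + 1)], conjW [2 * 2] (flat ws0 zc))]
noncomputable def allRels : List (Word × Word) := List.append rels (List.append relsD (List.append relsO relsS))
theorem chk3 : lev3.chk 266 nets ws4 1 5 = true := by decide +kernel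
theorem chk2 : lev2.chk 266 nets ws3 5 55 = true := by decide +kernel
theorem chk1 : lev1.chk 266 nets ws2 55 660 = true := by decide +kernel
theorem primc0 : PM.primChk nets ws1 lev0 lev0.sos prim0 = true := by decide +kernel
theorem chk0 : lev0.chk 266 nets ws1 660 175560 = true := by decide +kernel
theorem rc0 : relsChk 266 nets 9 (idArr 266 9 9 0) allRels = true := by decide +kernel
section
variable {Γ Ω : Type*} [Group Γ] [MulAction Γ Ω] (M : PM Γ Ω 266 nets)

theorem all_ok (hs : M.Sep 9 (idArr 266 9 9 0)) : Rels M.gen allRels := (M.rels_of_chk hs rc0)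
theorem sep [FaithfulSMul Γ Ω] : M.Sep 9 (idArr 266 9 9 0) := M.sep_idArr (by decide)
theorem all_ok' [FaithfulSMul Γ Ω] : Rels M.gen allRels := all_ok M (sep M)
theorem rels_of_all {gen : ℕ → Γ} (h : Rels gen allRels) : Rels gen rels := Rels.left h
theorem relsD_of_all {gen : ℕ → Γ} (h : Rels gen allRels) : Rels gen relsD := Rels.left (Rels.right h)
theorem relsO_of_all {gen : ℕ → Γ} (h : Rels gen allRels) : Rels gen relsO := Rels.left (Rels.right (Rels.right h))
theorem relsS_of_all {gen : ℕ → Γ} (h : Rels gen allRels) : Rels gen relsS := Rels.right (Rels.right (Rels.right h))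
theorem card4 (_hR : Rels M.gen rels) : Nat.card (sub M.gen ws4) = 1 := M.card_nil
theorem fixw4 (_hR : Rels M.gen rels) : M.FixTriv ws4 [] := M.fixTriv_nil
theorem r3 (hR : Rels M.gen rels) : Rels M.gen rels3 := (Rels.left (Rels.right (Rels.right (Rels.right hR))))
theorem res3 (hR : Rels M.gen rels) : M.LevelRes ws4 lev3 5 := M.level (card4 M hR) chk3 (Rels.left (r3 M hR))
theorem ext3 (hR : Rels M.gen rels) : sub M.gen ws3 = sub M.gen (lev3.gens ws4) := sub_extend (Rels.right (r3 M hR))
theorem card3 (hR : Rels M.gen rels) : Nat.card (sub M.gen ws3) = 5 := by rw [ext3 M hR]; exact (res3 M hR).card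
theorem fix3 (hR : Rels M.gen rels) : M.FixTriv (lev3.gens ws4) [2] := (res3 M hR).fixTriv M (fixw4 M hR)
theorem fixw3 (hR : Rels M.gen rels) : M.FixTriv ws3 [2] := fun g hg => fix3 M hR g (ext3 M hR ▸ hg)
theorem stab3 (hR : Rels M.gen rels) : sub M.gen ws3 ⊓ MulAction.stabilizer Γ (M.dec 2) = sub M.gen ws4 := by rw [ext3 M hR]; exact (res3 M hR).stab
theorem orb3 (hR : Rels M.gen rels) (y : Ω) : y ∈ M.S lev3.orb ↔ ∃ g ∈ sub M.gen ws3, g • M.dec 2 = y := by rw [ext3 M hR]; exact (res3 M hR).orb y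
theorem r2 (hR : Rels M.gen rels) : Rels M.gen rels2 := (Rels.left (Rels.right (Rels.right hR)))
theorem res2 (hR : Rels M.gen rels) : M.LevelRes ws3 lev2 55 := M.level (card3 M hR) chk2 (Rels.left (r2 M hR))
theorem ext2 (hR : Rels M.gen rels) : sub M.gen ws2 = sub M.gen (lev2.gens ws3) := sub_extend (Rels.right (r2 M hR))
theorem card2 (hR : Rels M.gen rels) : Nat.card (sub M.gen ws2) = 55 := by rw [ext2 M hR]; exact (res2 M hR).card
theorem fix2 (hR : Rels M.gen rels) : M.FixTriv (lev2.gens ws3) [14, 2] := (res2 M hR).fixTriv M (fixw3 M hR)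
theorem fixw2 (hR : Rels M.gen rels) : M.FixTriv ws2 [14, 2] := fun g hg => fix2 M hR g (ext2 M hR ▸ hg)
theorem stab2 (hR : Rels M.gen rels) : sub M.gen ws2 ⊓ MulAction.stabilizer Γ (M.dec 14) = sub M.gen ws3 := by rw [ext2 M hR]; exact (res2 M hR).stab
theorem orb2 (hR : Rels M.gen rels) (y : Ω) : y ∈ M.S lev2.orb ↔ ∃ g ∈ sub M.gen ws2, g • M.dec 14 = y := by rw [ext2 M hR]; exact (res2 M hR).orb y
theorem r1 (hR : Rels M.gen rels) : Rels M.gen rels1 := (Rels.left (Rels.right hR))
theorem res1 (hR : Rels M.gen rels) : M.LevelRes ws2 lev1 660 := M.level (card2 M hR) chk1 (Rels.left (r1 M hR))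
theorem ext1 (hR : Rels M.gen rels) : sub M.gen ws1 = sub M.gen (lev1.gens ws2) := sub_extend (Rels.right (r1 M hR))
theorem card1 (hR : Rels M.gen rels) : Nat.card (sub M.gen ws1) = 660 := by rw [ext1 M hR]; exact (res1 M hR).card
theorem fix1 (hR : Rels M.gen rels) : M.FixTriv (lev1.gens ws2) [1, 14, 2] := (res1 M hR).fixTriv M (fixw2 M hR)
theorem fixw1 (hR : Rels M.gen rels) : M.FixTriv ws1 [1, 14, 2] := fun g hg => fix1 M hR g (ext1 M hR ▸ hg)
theorem stab1 (hR : Rels M.gen rels) : sub M.gen ws1 ⊓ MulAction.stabilizer Γ (M.dec 1) = sub M.gen ws2 := by rw [ext1 M hR]; exact (res1 M hR).stab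
theorem orb1 (hR : Rels M.gen rels) (y : Ω) : y ∈ M.S lev1.orb ↔ ∃ g ∈ sub M.gen ws1, g • M.dec 1 = y := by rw [ext1 M hR]; exact (res1 M hR).orb y
theorem r0 (hR : Rels M.gen rels) : Rels M.gen rels0 := (Rels.left hR)
theorem res0 (hR : Rels M.gen rels) : M.LevelRes ws1 lev0 175560 := M.level (card1 M hR) chk0 (Rels.left (r0 M hR))
theorem ext0 (hR : Rels M.gen rels) : sub M.gen ws0 = sub M.gen (lev0.gens ws1) := sub_extend (Rels.right (r0 M hR))
theorem card0 (hR : Rels M.gen rels) : Nat.card (sub M.gen ws0) = 175560 := by rw [ext0 M hR]; exact (res0 M hR).card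
theorem fix0 (hR : Rels M.gen rels) : M.FixTriv (lev0.gens ws1) [0, 1, 14, 2] := (res0 M hR).fixTriv M (fixw1 M hR)
theorem fixw0 (hR : Rels M.gen rels) : M.FixTriv ws0 [0, 1, 14, 2] := fun g hg => fix0 M hR g (ext0 M hR ▸ hg)
theorem stab0 (hR : Rels M.gen rels) : sub M.gen ws0 ⊓ MulAction.stabilizer Γ (M.dec 0) = sub M.gen ws1 := by rw [ext0 M hR]; exact (res0 M hR).stab
theorem orb0 (hR : Rels M.gen rels) (y : Ω) : y ∈ M.S lev0.orb ↔ ∃ g ∈ sub M.gen ws0, g • M.dec 0 = y := by rw [ext0 M hR]; exact (res0 M hR).orb y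
theorem max0 (hR : Rels M.gen rels) (X : Subgroup Γ) (h1 : sub M.gen ws1 ≤ X) (h2 : X ≤ sub M.gen ws0) : X = sub M.gen ws1 ∨ X = sub M.gen ws0 := by rw [ext0 M hR] at h2 ⊢; exact (res0 M hR).max M primc0 X h1 h2
theorem orig_eq {gen : ℕ → Γ} (h : Rels gen allRels) : sub gen (lets 2) = sub gen ws0 :=
  sub_lets_eq_of_rels (ds := defs) (by decide +kernel) (relsD_of_all h) (by decide +kernel) (relsO_of_all h)
theorem gen_mem {gen : ℕ → Γ} (h : Rels gen allRels) {X : Subgroup Γ} (h0 : ∀ l < 2, gen l ∈ X) : sub gen ws0 ≤ X :=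
  sub_le_of_wsIn (lo := 0) (gen_mem_of_defRels (ds := defs) (fun l _ hl => h0 l hl) (by decide +kernel) (relsD_of_all h)) (by decide +kernel)
theorem simple (h : Rels M.gen allRels) : IsSimpleGroup (sub M.gen ws0) :=
  (res0 M (rels_of_all h)).simple (ext0 M (rels_of_all h)) (card1 M (rels_of_all h)) (by decide) primc0 (fix0 M (rels_of_all h)) (by decide +kernel)
    (z := M.gen 2) (by rw [← ev_single M.gen 2]; exact ev_getL_mem M.gen ws0 1) (m := 19)
    (by rw [← ev_single M.gen 2]; exact pow_eq_one_of_rels (Rels.left (relsS_of_all h))) (by norm_num)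
    (ncl_of_defRels (ds := defs.drop 2) (c := zc) (by decide +kernel) (defRels_drop defs 2 2 ▸ (relsD_of_all h).drop 2) (by decide +kernel) (Rels.right (relsS_of_all h)))

end

/-- the permutation group -/
noncomputable abbrev P := permPM 266 nets (by decide) (by decide) nets_ok
theorem allP : Rels P.gen allRels := all_ok' P
/-- machines of this type -/
abbrev St (X : Type*) [Group X] := Std X 266 nets ws0 175560 allRels
/-- the presentation on the strong generators -/
theorem hom {X : Type*} [Group X] (S : St X) {Δ : Type*} [Group Δ] (y : ℕ → Δ) (hy : Rels y rels) :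
    ∃ φ : X →* Δ, φ.range = sub y ws0 ∧ ∀ w ∈ ws0, φ (H14.ev S.M.gen w) = H14.ev y w :=
  S.hom_ws y (card0 _ ((rels_of_all S.rels).prod hy))
/-- the presentation on all letters -/
theorem hom' {X : Type*} [Group X] (S : St X) {Δ : Type*} [Group Δ] (y : ℕ → Δ) (hy : Rels y allRels) :
    ∃ φ : X →* Δ, φ.range = sub y (lets 2) ∧ ∀ l < 8, φ (S.M.gen l) = y l :=
  S.hom_all y (card0 _ (rels_of_all (S.rels.prod hy))) (orig_eq (S.rels.prod hy)) (orig_eq hy) (ds := defs)
    (by decide +kernel) (relsD_of_all (S.rels.prod hy)) (by decide +kernel)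
theorem St.simple {X : Type*} [Group X] (S : St X) : IsSimpleGroup X :=
  have := S.faithful
  simple_of_top (H15.StdJ1.simple S.M S.rels) S.top
theorem std : Nonempty (St (sub P.gen ws0)) :=
  let ⟨S, _⟩ := std_of_hom (sub P.gen ws0).subtype (k := 2)
    (fun _ hl => ⟨⟨_, orig_eq allP ▸ gen_mem_lets hl⟩, rfl⟩) (ds := defs) (by decide +kernel) (by decide +kernel)
    (relsD_of_all allP) (Bd.of_card (card0 P (rels_of_all allP)) (by decide)).top_sub
    (card0 P (rels_of_all allP)) allP
  ⟨S⟩
/-- a nontrivial group generated by letters satisfying the relations -/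
theorem std_of_rels {Δ : Type*} [Group Δ] {y : ℕ → Δ} (hy : Rels y allRels) (h : y 0 ≠ 1)
    (ht : sub y (lets 2) = ⊤) : ∃ S : St Δ, ∀ l < 8, S.M.gen l = y l := by
  obtain ⟨S⟩ := std
  obtain ⟨φ, h1, h2⟩ := hom' S y hy
  have := St.simple S
  let e := MulEquiv.ofBijective φ ⟨inj_of_simple φ (g := S.M.gen 0) (h2 0 (by decide) ▸ h),
    MonoidHom.range_eq_top.1 (h1.trans ht)⟩
  obtain ⟨S', h3⟩ := S.congr e.symm
  exact ⟨S', fun l hl => (e.symm_apply_eq.1 (h3 l)).trans (h2 l hl)⟩
/-- words satisfying the relations generate a simple group of this order -/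
theorem sub_simple {Δ : Type*} [Group Δ] {y : ℕ → Δ} (hy : Rels y allRels) (h : y 0 ≠ 1) :
    IsSimpleGroup (sub y (lets 2)) ∧ Nat.card (sub y (lets 2)) = 175560 := by
  obtain ⟨S⟩ := std
  obtain ⟨φ, h1, h2⟩ := hom' S y hy
  have := St.simple S
  have e := MonoidHom.ofInjective (inj_of_simple φ (g := S.M.gen 0) (h2 0 (by decide) ▸ h))
  rw [← h1]
  exact ⟨e.symm.isSimpleGroup, (Nat.card_congr e.symm.toEquiv).trans S.card⟩

end H15.StdJ1
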