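import Cfsg.Agent.H14.Dw2
import Cfsg.Agent.H15.Std3

/-! Standard machine: `PSL 4` over the field with 3 elements on the points, generated by elementary transvections
Generated certificate (tools14/pkgen, tools15/std.py) for the permutation group StdL43 of degree 40, order 6065280, base 0 1 3 8 6. -/
set_option autoImplicit false
set_option maxRecDepth 100000

namespace H15.StdL43
open H14

noncomputable def n0 : Net := (.cons (nat_lit 1) (nat_lit 0x554440110)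
(.cons (nat_lit 2) (nat_lit 0x2220000130)
(.cons (nat_lit 4) (nat_lit 0x40400)
(.cons (nat_lit 8) (nat_lit 0x8e0000)
(.cons (nat_lit 16) (nat_lit 0xc82)
(.cons (nat_lit 32) (nat_lit 0x82)
(.cons (nat_lit 16) (nat_lit 0x82)
(.cons (nat_lit 8) (nat_lit 0xbe0050)
(.cons (nat_lit 4) (nat_lit 0x80007040c)
(.cons (nat_lit 2) (nat_lit 0x2222000332)
(.cons (nat_lit 1) (nat_lit 0x554444144)
.nil)))))))))))
theorem n0_ok : Net.ok 40 n0 = true := by decide +kernel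
noncomputable def n1 : Net := (.cons (nat_lit 1) (nat_lit 0x1144440010)
(.cons (nat_lit 2) (nat_lit 0x110202000)
(.cons (nat_lit 4) (nat_lit 0x401000400)
(.cons (nat_lit 8) (nat_lit 0x240000)
(.cons (nat_lit 16) (nat_lit 0x3460)
(.cons (nat_lit 32) (nat_lit 0x60)
(.cons (nat_lit 16) (nat_lit 0x60)
(.cons (nat_lit 8) (nat_lit 0x3100c0)
(.cons (nat_lit 4) (nat_lit 0x4000e0b08)
(.cons (nat_lit 2) (nat_lit 0x131121010)
(.cons (nat_lit 1) (nat_lit 0x1144111450)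
.nil)))))))))))
theorem n1_ok : Net.ok 40 n1 = true := by decide +kernel
noncomputable def n2 : Net := (.cons (nat_lit 1) (nat_lit 0x500040000)
(.cons (nat_lit 2) (nat_lit 0x303201000)
(.cons (nat_lit 4) (nat_lit 0xd04000000)
(.cons (nat_lit 8) (nat_lit 0xa60080)
(.cons (nat_lit 16) (nat_lit 0x19b6)
(.cons (nat_lit 32) (nat_lit 0xb6)
(.cons (nat_lit 16) (nat_lit 0x36)
(.cons (nat_lit 8) (nat_lit 0x190080)
(.cons (nat_lit 4) (nat_lit 0x10d0a0900)
(.cons (nat_lit 2) (nat_lit 0x1222221000)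
(.cons (nat_lit 1) (nat_lit 0x4044144000)
.nil)))))))))))
theorem n2_ok : Net.ok 40 n2 = true := by decide +kernel
noncomputable def n3 : Net := (.cons (nat_lit 1) (nat_lit 0x441045504)
(.cons (nat_lit 2) (nat_lit 0x102111300)
(.cons (nat_lit 4) (nat_lit 0x40a000200)
(.cons (nat_lit 8) (nat_lit 0x50000)
(.cons (nat_lit 16) (nat_lit 0x8105)
(.cons (nat_lit 32) (nat_lit 0x5)
(.cons (nat_lit 16) (nat_lit 0x5)
(.cons (nat_lit 8) (nat_lit 0x650060)
(.cons (nat_lit 4) (nat_lit 0xb060b04)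
(.cons (nat_lit 2) (nat_lit 0x102111322)
(.cons (nat_lit 1) (nat_lit 0x441155505)
.nil)))))))))))
theorem n3_ok : Net.ok 40 n3 = true := by decide +kernel
noncomputable def n4 : Net := (.cons (nat_lit 1) (nat_lit 0x545141010)
(.cons (nat_lit 2) (nat_lit 0x201100200)
(.cons (nat_lit 4) (nat_lit 0x807000000)
(.cons (nat_lit 8) (nat_lit 0x420080)
(.cons (nat_lit 16) (nat_lit 0x43a2)
(.cons (nat_lit 32) (nat_lit 0xa2)
(.cons (nat_lit 16) (nat_lit 0x22)
(.cons (nat_lit 8) (nat_lit 0x8b00a0)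
(.cons (nat_lit 4) (nat_lit 0xa0f020a0c)
(.cons (nat_lit 2) (nat_lit 0x21122012)
(.cons (nat_lit 1) (nat_lit 0x545141010)
.nil)))))))))))
theorem n4_ok : Net.ok 40 n4 = true := by decide +kernel
noncomputable def n5 : Net := (.cons (nat_lit 1) (nat_lit 0x1011500010)
(.cons (nat_lit 2) (nat_lit 0x2202122220)
(.cons (nat_lit 4) (nat_lit 0x5010000)
(.cons (nat_lit 8) (nat_lit 0x780000)
(.cons (nat_lit 16) (nat_lit 0xff80)
(.cons (nat_lit 32) (nat_lit 0x80)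
(.cons (nat_lit 16) (nat_lit 0x80)
(.cons (nat_lit 8) (nat_lit 0x7f0078)
(.cons (nat_lit 4) (nat_lit 0x80d020100)
(.cons (nat_lit 2) (nat_lit 0x2202102330)
(.cons (nat_lit 1) (nat_lit 0x1011450550)
.nil)))))))))))
theorem n5_ok : Net.ok 40 n5 = true := by decide +kernel
noncomputable def n6 : Net := (.cons (nat_lit 1) (nat_lit 0x40051500)
(.cons (nat_lit 2) (nat_lit 0x2213222130)
(.cons (nat_lit 4) (nat_lit 0x10d0a0000)
(.cons (nat_lit 8) (nat_lit 0xc10081)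
(.cons (nat_lit 16) (nat_lit 0xe288)
(.cons (nat_lit 32) (nat_lit 0x89)
(.cons (nat_lit 16) (nat_lit 0x89)
(.cons (nat_lit 8) (nat_lit 0xa80019)
(.cons (nat_lit 4) (nat_lit 0x10a050b0c)
(.cons (nat_lit 2) (nat_lit 0x2322113010)
(.cons (nat_lit 1) (nat_lit 0x404140)
.nil)))))))))))
theorem n6_ok : Net.ok 40 n6 = true := by decide +kernel
noncomputable def n7 : Net := (.cons (nat_lit 1) (nat_lit 0x4044510400)
(.cons (nat_lit 2) (nat_lit 0x123112110)
(.cons (nat_lit 4) (nat_lit 0x306020200)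
(.cons (nat_lit 8) (nat_lit 0xf00001)
(.cons (nat_lit 16) (nat_lit 0x46b1)
(.cons (nat_lit 32) (nat_lit 0xb1)
(.cons (nat_lit 16) (nat_lit 0xb0)
(.cons (nat_lit 8) (nat_lit 0xd10031)
(.cons (nat_lit 4) (nat_lit 0xf03040a04)
(.cons (nat_lit 2) (nat_lit 0x2330032110)
(.cons (nat_lit 1) (nat_lit 0x455514400)
.nil)))))))))))
theorem n7_ok : Net.ok 40 n7 = true := by decide +kernel
noncomputable def n8 : Net := (.cons (nat_lit 1) (nat_lit 0x1105510000)
(.cons (nat_lit 2) (nat_lit 0x1033012310)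
(.cons (nat_lit 4) (nat_lit 0xa01040100)
(.cons (nat_lit 8) (nat_lit 0x8a00e2)
(.cons (nat_lit 16) (nat_lit 0x848c)
(.cons (nat_lit 32) (nat_lit 0xee)
(.cons (nat_lit 16) (nat_lit 0x8e)
(.cons (nat_lit 8) (nat_lit 0xe100f2)
(.cons (nat_lit 4) (nat_lit 0x10a070704)
(.cons (nat_lit 2) (nat_lit 0x2233002310)
(.cons (nat_lit 1) (nat_lit 0x5511405000)
.nil)))))))))))
theorem n8_ok : Net.ok 40 n8 = true := by decide +kernel
noncomputable def n9 : Net := (.cons (nat_lit 1) (nat_lit 0x501040400)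
(.cons (nat_lit 2) (nat_lit 0x2030003000)
(.cons (nat_lit 4) (nat_lit 0x100090600)
(.cons (nat_lit 8) (nat_lit 0x430012)
(.cons (nat_lit 16) (nat_lit 0x4011)
(.cons (nat_lit 32) (nat_lit 0x13)
(.cons (nat_lit 16) (nat_lit 0x83)
(.cons (nat_lit 8) (nat_lit 0x7200f2)
(.cons (nat_lit 4) (nat_lit 0xc0d040a00)
(.cons (nat_lit 2) (nat_lit 0x2030003000)
(.cons (nat_lit 1) (nat_lit 0x440505040)
.nil)))))))))))
theorem n9_ok : Net.ok 40 n9 = true := by decide +kernel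
noncomputable def n10 : Net := (.cons (nat_lit 1) (nat_lit 0x500540000)
(.cons (nat_lit 2) (nat_lit 0x2100000110)
(.cons (nat_lit 4) (nat_lit 0x1000100)
(.cons (nat_lit 8) (nat_lit 0xe90080)
(.cons (nat_lit 16) (nat_lit 0xc8fb)
(.cons (nat_lit 32) (nat_lit 0xfb)
(.cons (nat_lit 16) (nat_lit 0xfb)
(.cons (nat_lit 8) (nat_lit 0xde0090)
(.cons (nat_lit 4) (nat_lit 0xb0a030104)
(.cons (nat_lit 2) (nat_lit 0x2321010110)
(.cons (nat_lit 1) (nat_lit 0x500541000)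
.nil)))))))))))
theorem n10_ok : Net.ok 40 n10 = true := by decide +kernel
noncomputable def nets : List Net := [n0, n1, n2, n3, n4, n5, n6, n7, n8, n9, n10]
theorem nets_ok : netsOk 40 nets = true := List.all_eq_true.2 (fa_cons n0_ok (fa_cons n1_ok (fa_cons n2_ok (fa_cons n3_ok (fa_cons n4_ok (fa_cons n5_ok (fa_cons n6_ok (fa_cons n7_ok (fa_cons n8_ok (fa_cons n9_ok (fa_cons n10_ok (fa_nil))))))))))))
noncomputable def ss : List (Nat × Nat) := [(0, 0)]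
noncomputable def ws5 : List Word := []
noncomputable def reach : List Word := [dw (nat_lit 0x07), dw (nat_lit 0x01), dw (nat_lit 0x09), dw (nat_lit 0x01), dw (nat_lit 0x03), dw (nat_lit 0x0b), dw (nat_lit 0x050b), dw (nat_lit 0x03)
, dw (nat_lit 0x05)]
noncomputable def lev4 : Level := ⟨nat_lit 6,
[⟨[nat_lit 18], [], [],
[⟨nat_lit 0, [], nat_lit 1, [], []⟩,
⟨nat_lit 1, [], nat_lit 0, [], []⟩,
⟨nat_lit 2, [], nat_lit 3, [], []⟩,
⟨nat_lit 3, [], nat_lit 2, [], []⟩],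
[]⟩,
⟨[nat_lit 20], [], [],
[⟨nat_lit 0, [], nat_lit 2, [], []⟩,
⟨nat_lit 1, [], nat_lit 3, [], []⟩,
⟨nat_lit 2, [], nat_lit 0, [], []⟩,
⟨nat_lit 3, [], nat_lit 1, [], []⟩],
[]⟩],
[⟨dw (nat_lit 0x01), (nat_lit 0x2000), [], .nil, []⟩,
⟨dw (nat_lit 0x03), (nat_lit 0x400), [], .nil, []⟩,
⟨dw (nat_lit 0x0301), (nat_lit 0x1000), [], .nil, []⟩]⟩
noncomputable def ex4 : List Word := []
noncomputable def ws4 : List Word := List.append ex4 (lev4.gens ws5)
noncomputable def rels4 : List (Word × Word) := List.append (lev4.rels ws5) (memRels (lev4.gens ws5) ex4 [])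
noncomputable def lev3 : Level := ⟨nat_lit 8,
[⟨[nat_lit 14], [], [],
[⟨nat_lit 0, [], nat_lit 1, [], []⟩,
⟨nat_lit 1, [], nat_lit 3, [], []⟩,
⟨nat_lit 2, [], nat_lit 0, [], []⟩,
⟨nat_lit 3, [], nat_lit 4, [], []⟩,
⟨nat_lit 4, [], nat_lit 3, dw (nat_lit 0x01), dw (nat_lit 0x01)⟩,
⟨nat_lit 5, [], nat_lit 2, dw (nat_lit 0x01), []⟩,
⟨nat_lit 6, [], nat_lit 1, dw (nat_lit 0x01), []⟩,
⟨nat_lit 7, [], nat_lit 2, dw (nat_lit 0x03), []⟩,
⟨nat_lit 8, [], nat_lit 1, dw (nat_lit 0x03), []⟩,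
⟨nat_lit 1, dw (nat_lit 0x01), nat_lit 5, [], []⟩,
⟨nat_lit 1, dw (nat_lit 0x03), nat_lit 7, [], []⟩,
⟨nat_lit 2, dw (nat_lit 0x01), nat_lit 6, dw (nat_lit 0x03), dw (nat_lit 0x03)⟩,
⟨nat_lit 2, dw (nat_lit 0x03), nat_lit 8, dw (nat_lit 0x01), dw (nat_lit 0x01)⟩,
⟨nat_lit 3, dw (nat_lit 0x01), nat_lit 2, [], dw (nat_lit 0x01)⟩,
⟨nat_lit 4, dw (nat_lit 0x01), nat_lit 6, [], []⟩,
⟨nat_lit 4, dw (nat_lit 0x03), nat_lit 8, [], []⟩,
⟨nat_lit 5, dw (nat_lit 0x01), nat_lit 8, dw (nat_lit 0x0301), dw (nat_lit 0x03)⟩,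
⟨nat_lit 6, dw (nat_lit 0x01), nat_lit 7, dw (nat_lit 0x03), dw (nat_lit 0x0301)⟩,
⟨nat_lit 6, dw (nat_lit 0x03), nat_lit 4, dw (nat_lit 0x01), dw (nat_lit 0x03)⟩,
⟨nat_lit 7, dw (nat_lit 0x03), nat_lit 6, dw (nat_lit 0x0301), dw (nat_lit 0x01)⟩,
⟨nat_lit 8, dw (nat_lit 0x01), nat_lit 4, dw (nat_lit 0x03), dw (nat_lit 0x01)⟩,
⟨nat_lit 8, dw (nat_lit 0x03), nat_lit 5, dw (nat_lit 0x01), dw (nat_lit 0x0301)⟩,
⟨nat_lit 1, dw (nat_lit 0x0301), nat_lit 2, dw (nat_lit 0x0301), dw (nat_lit 0x0301)⟩,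
⟨nat_lit 2, dw (nat_lit 0x0301), nat_lit 4, dw (nat_lit 0x0301), dw (nat_lit 0x0301)⟩,
⟨nat_lit 4, dw (nat_lit 0x0301), nat_lit 1, dw (nat_lit 0x0301), dw (nat_lit 0x0301)⟩,
⟨nat_lit 6, dw (nat_lit 0x0301), nat_lit 8, dw (nat_lit 0x03), dw (nat_lit 0x01)⟩,
⟨nat_lit 8, dw (nat_lit 0x0301), nat_lit 6, dw (nat_lit 0x01), dw (nat_lit 0x03)⟩],
[]⟩],
[⟨dw (nat_lit 0x01), (nat_lit 0x2428000000), [dw (nat_lit 0x01), dw (nat_lit 0x03)], .nil, []⟩,
⟨dw (nat_lit 0x02), (nat_lit 0x182100000), [dw (nat_lit 0x01), dw (nat_lit 0x03)], .nil, []⟩,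
⟨dw (nat_lit 0x0101), (nat_lit 0x40800), [dw (nat_lit 0x01)], (.cons (nat_lit 6) [dw (nat_lit 0x0203)] [dw (nat_lit 0x01)]
.nil), [dw (nat_lit 0x0301)]⟩,
⟨dw (nat_lit 0x010101), (nat_lit 0x1014010000), [dw (nat_lit 0x01), dw (nat_lit 0x03)], .nil, []⟩,
⟨dw (nat_lit 0x010301), (nat_lit 0x200008000), [dw (nat_lit 0x01)], (.cons (nat_lit 6) [dw (nat_lit 0x03)] [dw (nat_lit 0x01)]
.nil), [dw (nat_lit 0x03)]⟩,
⟨dw (nat_lit 0x020301), (nat_lit 0x1884000), [dw (nat_lit 0x01), dw (nat_lit 0x03)], .nil, []⟩,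
⟨dw (nat_lit 0x010501), (nat_lit 0x8000020000), [dw (nat_lit 0x03)], (.cons (nat_lit 6) [dw (nat_lit 0x01)] [dw (nat_lit 0x01)]
.nil), [dw (nat_lit 0x01)]⟩,
⟨dw (nat_lit 0x020501), (nat_lit 0x4840200000), [dw (nat_lit 0x01), dw (nat_lit 0x03)], .nil, []⟩]⟩
noncomputable def ex3 : List Word := [[nat_lit 4], [nat_lit 16]]
noncomputable def ws3 : List Word := List.append ex3 (lev3.gens ws4)
noncomputable def rels3 : List (Word × Word) := List.append (lev3.rels ws4) (memRels (lev3.gens ws4) ex3 [dw (nat_lit 0x0301010105), dw (nat_lit 0x05030205)])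
noncomputable def lev2 : Level := ⟨nat_lit 3,
[⟨[nat_lit 10], [dw (nat_lit 0x010902), dw (nat_lit 0x07)], [dw (nat_lit 0x0907), dw (nat_lit 0x07)],
[⟨nat_lit 0, [], nat_lit 1, [], []⟩,
⟨nat_lit 1, [], nat_lit 1, dw (nat_lit 0x0306), dw (nat_lit 0x030607)⟩,
⟨nat_lit 2, [], nat_lit 1, dw (nat_lit 0x0303), dw (nat_lit 0x0207)⟩,
⟨nat_lit 3, [], nat_lit 1, dw (nat_lit 0x0601), dw (nat_lit 0x090307)⟩,
⟨nat_lit 4, [], nat_lit 1, dw (nat_lit 0x0606), dw (nat_lit 0x03050907)⟩,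
⟨nat_lit 1, dw (nat_lit 0x01), nat_lit 2, [], []⟩,
⟨nat_lit 1, dw (nat_lit 0x02), nat_lit 1, dw (nat_lit 0x02), dw (nat_lit 0x02)⟩,
⟨nat_lit 1, dw (nat_lit 0x03), nat_lit 1, dw (nat_lit 0x03), dw (nat_lit 0x060907)⟩,
⟨nat_lit 1, dw (nat_lit 0x04), nat_lit 1, dw (nat_lit 0x04), dw (nat_lit 0x020409)⟩,
⟨nat_lit 1, dw (nat_lit 0x05), nat_lit 3, [], []⟩,
⟨nat_lit 1, dw (nat_lit 0x0401), nat_lit 4, [], []⟩,
⟨nat_lit 1, dw (nat_lit 0x0302), nat_lit 1, dw (nat_lit 0x0305), dw (nat_lit 0x06060907)⟩,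
⟨nat_lit 1, dw (nat_lit 0x0306), nat_lit 0, [], dw (nat_lit 0x050407)⟩],
[dw (nat_lit 0x03), dw (nat_lit 0x01)]⟩],
[⟨dw (nat_lit 0x01), (nat_lit 0xffffbfc900), [dw (nat_lit 0x01), dw (nat_lit 0x03), dw (nat_lit 0x01), dw (nat_lit 0x07), dw (nat_lit 0x03), dw (nat_lit 0x05)], (.cons (nat_lit 6) [dw (nat_lit 0x07), dw (nat_lit 0x0a)] [dw (nat_lit 0x01), dw (nat_lit 0x03)]
.nil), [dw (nat_lit 0x07), dw (nat_lit 0x050409)]⟩,
⟨dw (nat_lit 0x010301), (nat_lit 0x400080), [dw (nat_lit 0x03)], (.cons (nat_lit 8) [dw (nat_lit 0x05), dw (nat_lit 0x0702080105)] [dw (nat_lit 0x01), dw (nat_lit 0x0101), dw (nat_lit 0x0206), dw (nat_lit 0x01), dw (nat_lit 0x03), dw (nat_lit 0x01)]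
(.cons (nat_lit 6) [dw (nat_lit 0x0809)] [dw (nat_lit 0x01)]
.nil)), [dw (nat_lit 0x030207), dw (nat_lit 0x0601), dw (nat_lit 0x050409)]⟩,
⟨dw (nat_lit 0x010701), (nat_lit 0x3440), [dw (nat_lit 0x03), dw (nat_lit 0x05)], (.cons (nat_lit 8) [dw (nat_lit 0x01), dw (nat_lit 0x040a), dw (nat_lit 0x050206060809)] [dw (nat_lit 0x01), dw (nat_lit 0x03), dw (nat_lit 0x01), dw (nat_lit 0x03), dw (nat_lit 0x05), dw (nat_lit 0x05)]
.nil), [dw (nat_lit 0x05020907), dw (nat_lit 0x030507), dw (nat_lit 0x050907)]⟩,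
⟨dw (nat_lit 0x01060301), (nat_lit 0x220), [dw (nat_lit 0x05)], (.cons (nat_lit 8) [dw (nat_lit 0x01), dw (nat_lit 0x03)] [dw (nat_lit 0x01), dw (nat_lit 0x03), dw (nat_lit 0x01), dw (nat_lit 0x05), dw (nat_lit 0x03), dw (nat_lit 0x03)]
(.cons (nat_lit 6) [dw (nat_lit 0x09)] [dw (nat_lit 0x01)]
.nil)), [dw (nat_lit 0x060307), dw (nat_lit 0x040409), dw (nat_lit 0x05040907)]⟩]⟩
noncomputable def ex2 : List Word := [[nat_lit 2], [nat_lit 12]]
noncomputable def ws2 : List Word := List.append ex2 (lev2.gens ws3)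
noncomputable def rels2 : List (Word × Word) := List.append (lev2.rels ws3) (memRels (lev2.gens ws3) ex2 [dw (nat_lit 0x02080207), dw (nat_lit 0x01080108060309)])
noncomputable def lev1 : Level := ⟨nat_lit 1,
[⟨[nat_lit 8], [dw (nat_lit 0x0a0302), dw (nat_lit 0x0b), dw (nat_lit 0x070b)], [dw (nat_lit 0x080a), dw (nat_lit 0x0b08), dw (nat_lit 0x0b07)],
[⟨nat_lit 0, [], nat_lit 1, [], []⟩,
⟨nat_lit 1, [], nat_lit 1, dw (nat_lit 0x0302), dw (nat_lit 0x0302090c0f)⟩,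
⟨nat_lit 2, [], nat_lit 1, dw (nat_lit 0x0b0301), dw (nat_lit 0x020c090f)⟩,
⟨nat_lit 1, dw (nat_lit 0x01), nat_lit 2, [], []⟩,
⟨nat_lit 1, dw (nat_lit 0x02), nat_lit 1, dw (nat_lit 0x02), dw (nat_lit 0x02)⟩,
⟨nat_lit 1, dw (nat_lit 0x05), nat_lit 1, dw (nat_lit 0x0705), dw (nat_lit 0x080507)⟩,
⟨nat_lit 1, dw (nat_lit 0x0302), nat_lit 0, [], dw (nat_lit 0x0104090c0f)⟩],
[dw (nat_lit 0x03), dw (nat_lit 0x01), dw (nat_lit 0x03), dw (nat_lit 0x05), dw (nat_lit 0x03), dw (nat_lit 0x03), dw (nat_lit 0x03)]⟩],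
[⟨dw (nat_lit 0x01), (nat_lit 0xffffffffe8), [dw (nat_lit 0x01), dw (nat_lit 0x03), dw (nat_lit 0x05), dw (nat_lit 0x0b), dw (nat_lit 0x05), dw (nat_lit 0x07), dw (nat_lit 0x03)], (.cons (nat_lit 8) [dw (nat_lit 0x09)] [dw (nat_lit 0x01), dw (nat_lit 0x0501), dw (nat_lit 0x03), dw (nat_lit 0x01), dw (nat_lit 0x03), dw (nat_lit 0x01), dw (nat_lit 0x05)]
(.cons (nat_lit 6) [dw (nat_lit 0x0d), dw (nat_lit 0x10)] [dw (nat_lit 0x01), dw (nat_lit 0x03)]
.nil)), [dw (nat_lit 0x01040908), dw (nat_lit 0x01040d), dw (nat_lit 0x01040d070f0d)]⟩,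
⟨dw (nat_lit 0x010301), (nat_lit 0x14), [dw (nat_lit 0x03)], (.cons (nat_lit 3) [dw (nat_lit 0x05)] [dw (nat_lit 0x01), dw (nat_lit 0x01), dw (nat_lit 0x03), dw (nat_lit 0x03), dw (nat_lit 0x05), dw (nat_lit 0x07), dw (nat_lit 0x01), dw (nat_lit 0x01)
, dw (nat_lit 0x03)]
(.cons (nat_lit 8) [dw (nat_lit 0x07), dw (nat_lit 0x0a1007)] [dw (nat_lit 0x01), dw (nat_lit 0x0501), dw (nat_lit 0x01), dw (nat_lit 0x03), dw (nat_lit 0x05), dw (nat_lit 0x01), dw (nat_lit 0x01)]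
(.cons (nat_lit 6) [dw (nat_lit 0x0d)] [dw (nat_lit 0x01)]
.nil))), [dw (nat_lit 0x06), dw (nat_lit 0x0b080f0d), dw (nat_lit 0x09080f), dw (nat_lit 0x0104090c0f0d)]⟩]⟩
noncomputable def ex1 : List Word := [[nat_lit 0]]
noncomputable def ws1 : List Word := List.append ex1 (lev1.gens ws2)
noncomputable def rels1 : List (Word × Word) := List.append (lev1.rels ws2) (memRels (lev1.gens ws2) ex1 [dw (nat_lit 0x010301030b0e11)])
noncomputable def lev0 : Level := ⟨nat_lit 0,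
[⟨[nat_lit 6], [dw (nat_lit 0x0207), dw (nat_lit 0x09), dw (nat_lit 0x0e1412)], [dw (nat_lit 0x0811), dw (nat_lit 0x09), dw (nat_lit 0x06100d)],
[⟨nat_lit 0, [], nat_lit 1, [], []⟩,
⟨nat_lit 1, [], nat_lit 1, dw (nat_lit 0x01), dw (nat_lit 0x0107060d101311)⟩,
⟨nat_lit 1, dw (nat_lit 0x01), nat_lit 0, [], dw (nat_lit 0x0207060d101311)⟩,
⟨nat_lit 1, dw (nat_lit 0x03), nat_lit 1, dw (nat_lit 0x0401), dw (nat_lit 0x030107060d101311)⟩],
[dw (nat_lit 0x01), dw (nat_lit 0x03), dw (nat_lit 0x03), dw (nat_lit 0x0202), dw (nat_lit 0x05), dw (nat_lit 0x01), dw (nat_lit 0x03), dw (nat_lit 0x05)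
, dw (nat_lit 0x03)]⟩],
[⟨dw (nat_lit 0x01), (nat_lit 0xfffffffffe), [dw (nat_lit 0x01), dw (nat_lit 0x03), dw (nat_lit 0x07), dw (nat_lit 0x09), dw (nat_lit 0x05), dw (nat_lit 0x07), dw (nat_lit 0x0b), dw (nat_lit 0x07)
], (.cons (nat_lit 3) [dw (nat_lit 0x09)] [dw (nat_lit 0x01), dw (nat_lit 0x0401), dw (nat_lit 0x01), dw (nat_lit 0x03), dw (nat_lit 0x05), dw (nat_lit 0x03), dw (nat_lit 0x01), dw (nat_lit 0x03)
, dw (nat_lit 0x05)]
(.cons (nat_lit 8) [dw (nat_lit 0x0d)] [dw (nat_lit 0x01), dw (nat_lit 0x0101), dw (nat_lit 0x03), dw (nat_lit 0x01), dw (nat_lit 0x05), dw (nat_lit 0x01), dw (nat_lit 0x03), dw (nat_lit 0x01)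
]
(.cons (nat_lit 6) [dw (nat_lit 0x11), dw (nat_lit 0x1114)] [dw (nat_lit 0x01), dw (nat_lit 0x03)]
.nil))), [dw (nat_lit 0x09), dw (nat_lit 0x0207050f0e11), dw (nat_lit 0x0511), dw (nat_lit 0x0207061013)]⟩]⟩
noncomputable def ex0 : List Word := []
noncomputable def ws0 : List Word := List.append ex0 (lev0.gens ws1)
noncomputable def rels0 : List (Word × Word) := List.append (lev0.rels ws1) (memRels (lev0.gens ws1) ex0 [])
noncomputable def prim0 : List (List Word) := [[dw (nat_lit 0x01), dw (nat_lit 0x01), dw (nat_lit 0x05), dw (nat_lit 0x09), dw (nat_lit 0x0b), dw (nat_lit 0x07), dw (nat_lit 0x09), dw (nat_lit 0x0d)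
, dw (nat_lit 0x09)]]
noncomputable def rels : List (Word × Word) := List.append rels0 (List.append rels1 (List.append rels2 (List.append rels3 (List.append rels4 ([])))))
noncomputable def defs : List Word := [dw (nat_lit 0x09040c04010b09), dw (nat_lit 0x040c0d0604050e0b040d), dw (nat_lit 0x0c0d040d060c040d), dw (nat_lit 0x0612061006), dw (nat_lit 0x111010050f0505050f0f05050f)]
noncomputable def relsD : List (Word × Word) := defRels defs 6
noncomputable def relsO : List (Word × Word) := memRels ws0 (lets 6) [dw (nat_lit 0x03), dw (nat_lit 0x07), dw (nat_lit 0x0d), dw (nat_lit 0x01), dw (nat_lit 0x05), dw (nat_lit 0x0b)]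
noncomputable def relsS : List (Word × Word) := []
noncomputable def allRels : List (Word × Word) := List.append rels (List.append relsD (List.append relsO relsS))
theorem reach_ok : subs (full 40) (orbRun nets (lets 6) reach (bits (List.map Prod.fst ss))) = true := by decide +kernel
theorem chk4 : lev4.chk 40 nets ws5 1 4 = true := by decide +kernel
theorem chk3 : lev3.chk 40 nets ws4 4 108 = true := by decide +kernel
theorem chk2 : lev2.chk 40 nets ws3 108 3888 = true := by decide +kernel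
theorem chk1 : lev1.chk 40 nets ws2 3888 151632 = true := by decide +kernel
theorem primc0 : PM.primChk nets ws1 lev0 lev0.sos prim0 = true := by decide +kernel
theorem chk0 : lev0.chk 40 nets ws1 151632 6065280 = true := by decide +kernel
theorem rc0 : relsChk 40 nets 6 (idArr 40 6 6 0) allRels = true := by decide +kernel
section
variable {Γ Ω : Type*} [Group Γ] [MulAction Γ Ω] (M : PM Γ Ω 40 nets)

theorem all_ok (hs : M.Sep 6 (idArr 40 6 6 0)) : Rels M.gen allRels := (M.rels_of_chk hs rc0)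
theorem sep [FaithfulSMul Γ Ω] : M.Sep 6 (idArr 40 6 6 0) := M.sep_idArr (by decide)
theorem all_ok' [FaithfulSMul Γ Ω] : Rels M.gen allRels := all_ok M (sep M)
theorem rels_of_all {gen : ℕ → Γ} (h : Rels gen allRels) : Rels gen rels := Rels.left h
theorem relsD_of_all {gen : ℕ → Γ} (h : Rels gen allRels) : Rels gen relsD := Rels.left (Rels.right h)
theorem relsO_of_all {gen : ℕ → Γ} (h : Rels gen allRels) : Rels gen relsO := Rels.left (Rels.right (Rels.right h))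
theorem relsS_of_all {gen : ℕ → Γ} (h : Rels gen allRels) : Rels gen relsS := Rels.right (Rels.right (Rels.right h))
theorem card5 (_hR : Rels M.gen rels) : Nat.card (sub M.gen ws5) = 1 := M.card_nil
theorem fixw5 (_hR : Rels M.gen rels) : M.FixTriv ws5 [] := M.fixTriv_nil
theorem r4 (hR : Rels M.gen rels) : Rels M.gen rels4 := (Rels.left (Rels.right (Rels.right (Rels.right (Rels.right hR)))))
theorem res4 (hR : Rels M.gen rels) : M.LevelRes ws5 lev4 4 := M.level (card5 M hR) chk4 (Rels.left (r4 M hR))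
theorem ext4 (hR : Rels M.gen rels) : sub M.gen ws4 = sub M.gen (lev4.gens ws5) := sub_extend (Rels.right (r4 M hR))
theorem card4 (hR : Rels M.gen rels) : Nat.card (sub M.gen ws4) = 4 := by rw [ext4 M hR]; exact (res4 M hR).card
theorem fix4 (hR : Rels M.gen rels) : M.FixTriv (lev4.gens ws5) [6] := (res4 M hR).fixTriv M (fixw5 M hR)
theorem fixw4 (hR : Rels M.gen rels) : M.FixTriv ws4 [6] := fun g hg => fix4 M hR g (ext4 M hR ▸ hg)
theorem stab4 (hR : Rels M.gen rels) : sub M.gen ws4 ⊓ MulAction.stabilizer Γ (M.dec 6) = sub M.gen ws5 := by rw [ext4 M hR]; exact (res4 M hR).stab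
theorem orb4 (hR : Rels M.gen rels) (y : Ω) : y ∈ M.S lev4.orb ↔ ∃ g ∈ sub M.gen ws4, g • M.dec 6 = y := by rw [ext4 M hR]; exact (res4 M hR).orb y
theorem r3 (hR : Rels M.gen rels) : Rels M.gen rels3 := (Rels.left (Rels.right (Rels.right (Rels.right hR))))
theorem res3 (hR : Rels M.gen rels) : M.LevelRes ws4 lev3 108 := M.level (card4 M hR) chk3 (Rels.left (r3 M hR))
theorem ext3 (hR : Rels M.gen rels) : sub M.gen ws3 = sub M.gen (lev3.gens ws4) := sub_extend (Rels.right (r3 M hR))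
theorem card3 (hR : Rels M.gen rels) : Nat.card (sub M.gen ws3) = 108 := by rw [ext3 M hR]; exact (res3 M hR).card
theorem fix3 (hR : Rels M.gen rels) : M.FixTriv (lev3.gens ws4) [8, 6] := (res3 M hR).fixTriv M (fixw4 M hR)
theorem fixw3 (hR : Rels M.gen rels) : M.FixTriv ws3 [8, 6] := fun g hg => fix3 M hR g (ext3 M hR ▸ hg)
theorem stab3 (hR : Rels M.gen rels) : sub M.gen ws3 ⊓ MulAction.stabilizer Γ (M.dec 8) = sub M.gen ws4 := by rw [ext3 M hR]; exact (res3 M hR).stab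
theorem orb3 (hR : Rels M.gen rels) (y : Ω) : y ∈ M.S lev3.orb ↔ ∃ g ∈ sub M.gen ws3, g • M.dec 8 = y := by rw [ext3 M hR]; exact (res3 M hR).orb y
theorem r2 (hR : Rels M.gen rels) : Rels M.gen rels2 := (Rels.left (Rels.right (Rels.right hR)))
theorem res2 (hR : Rels M.gen rels) : M.LevelRes ws3 lev2 3888 := M.level (card3 M hR) chk2 (Rels.left (r2 M hR))
theorem ext2 (hR : Rels M.gen rels) : sub M.gen ws2 = sub M.gen (lev2.gens ws3) := sub_extend (Rels.right (r2 M hR))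
theorem card2 (hR : Rels M.gen rels) : Nat.card (sub M.gen ws2) = 3888 := by rw [ext2 M hR]; exact (res2 M hR).card
theorem fix2 (hR : Rels M.gen rels) : M.FixTriv (lev2.gens ws3) [3, 8, 6] := (res2 M hR).fixTriv M (fixw3 M hR)
theorem fixw2 (hR : Rels M.gen rels) : M.FixTriv ws2 [3, 8, 6] := fun g hg => fix2 M hR g (ext2 M hR ▸ hg)
theorem stab2 (hR : Rels M.gen rels) : sub M.gen ws2 ⊓ MulAction.stabilizer Γ (M.dec 3) = sub M.gen ws3 := by rw [ext2 M hR]; exact (res2 M hR).stab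
theorem orb2 (hR : Rels M.gen rels) (y : Ω) : y ∈ M.S lev2.orb ↔ ∃ g ∈ sub M.gen ws2, g • M.dec 3 = y := by rw [ext2 M hR]; exact (res2 M hR).orb y
theorem r1 (hR : Rels M.gen rels) : Rels M.gen rels1 := (Rels.left (Rels.right hR))
theorem res1 (hR : Rels M.gen rels) : M.LevelRes ws2 lev1 151632 := M.level (card2 M hR) chk1 (Rels.left (r1 M hR))
theorem ext1 (hR : Rels M.gen rels) : sub M.gen ws1 = sub M.gen (lev1.gens ws2) := sub_extend (Rels.right (r1 M hR))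
theorem card1 (hR : Rels M.gen rels) : Nat.card (sub M.gen ws1) = 151632 := by rw [ext1 M hR]; exact (res1 M hR).card
theorem fix1 (hR : Rels M.gen rels) : M.FixTriv (lev1.gens ws2) [1, 3, 8, 6] := (res1 M hR).fixTriv M (fixw2 M hR)
theorem fixw1 (hR : Rels M.gen rels) : M.FixTriv ws1 [1, 3, 8, 6] := fun g hg => fix1 M hR g (ext1 M hR ▸ hg)
theorem stab1 (hR : Rels M.gen rels) : sub M.gen ws1 ⊓ MulAction.stabilizer Γ (M.dec 1) = sub M.gen ws2 := by rw [ext1 M hR]; exact (res1 M hR).stab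
theorem orb1 (hR : Rels M.gen rels) (y : Ω) : y ∈ M.S lev1.orb ↔ ∃ g ∈ sub M.gen ws1, g • M.dec 1 = y := by rw [ext1 M hR]; exact (res1 M hR).orb y
theorem r0 (hR : Rels M.gen rels) : Rels M.gen rels0 := (Rels.left hR)
theorem res0 (hR : Rels M.gen rels) : M.LevelRes ws1 lev0 6065280 := M.level (card1 M hR) chk0 (Rels.left (r0 M hR))
theorem ext0 (hR : Rels M.gen rels) : sub M.gen ws0 = sub M.gen (lev0.gens ws1) := sub_extend (Rels.right (r0 M hR))
theorem card0 (hR : Rels M.gen rels) : Nat.card (sub M.gen ws0) = 6065280 := by rw [ext0 M hR]; exact (res0 M hR).card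
theorem fix0 (hR : Rels M.gen rels) : M.FixTriv (lev0.gens ws1) [0, 1, 3, 8, 6] := (res0 M hR).fixTriv M (fixw1 M hR)
theorem fixw0 (hR : Rels M.gen rels) : M.FixTriv ws0 [0, 1, 3, 8, 6] := fun g hg => fix0 M hR g (ext0 M hR ▸ hg)
theorem stab0 (hR : Rels M.gen rels) : sub M.gen ws0 ⊓ MulAction.stabilizer Γ (M.dec 0) = sub M.gen ws1 := by rw [ext0 M hR]; exact (res0 M hR).stab
theorem orb0 (hR : Rels M.gen rels) (y : Ω) : y ∈ M.S lev0.orb ↔ ∃ g ∈ sub M.gen ws0, g • M.dec 0 = y := by rw [ext0 M hR]; exact (res0 M hR).orb y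
theorem max0 (hR : Rels M.gen rels) (X : Subgroup Γ) (h1 : sub M.gen ws1 ≤ X) (h2 : X ≤ sub M.gen ws0) : X = sub M.gen ws1 ∨ X = sub M.gen ws0 := by rw [ext0 M hR] at h2 ⊢; exact (res0 M hR).max M primc0 X h1 h2
theorem orig_eq {gen : ℕ → Γ} (h : Rels gen allRels) : sub gen (lets 6) = sub gen ws0 :=
  sub_lets_eq_of_rels (ds := defs) (by decide +kernel) (relsD_of_all h) (by decide +kernel) (relsO_of_all h)
theorem gen_mem {gen : ℕ → Γ} (h : Rels gen allRels) {X : Subgroup Γ} (h0 : ∀ l < 6, gen l ∈ X) : sub gen ws0 ≤ X :=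
  sub_le_of_wsIn (lo := 0) (gen_mem_of_defRels (ds := defs) (fun l _ hl => h0 l hl) (by decide +kernel) (relsD_of_all h)) (by decide +kernel)

end

/-- the permutation group -/
noncomputable abbrev P := permPM 40 nets (by decide) (by decide) nets_ok
theorem allP : Rels P.gen allRels := all_ok' P
/-- machines of this type -/
abbrev St (X : Type*) [Group X] := Std X 40 nets ws0 6065280 allRels
/-- the presentation on the strong generators -/
theorem hom {X : Type*} [Group X] (S : St X) {Δ : Type*} [Group Δ] (y : ℕ → Δ) (hy : Rels y rels) :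
    ∃ φ : X →* Δ, φ.range = sub y ws0 ∧ ∀ w ∈ ws0, φ (H14.ev S.M.gen w) = H14.ev y w :=
  S.hom_ws y (card0 _ ((rels_of_all S.rels).prod hy))
/-- the presentation on all letters -/
theorem hom' {X : Type*} [Group X] (S : St X) {Δ : Type*} [Group Δ] (y : ℕ → Δ) (hy : Rels y allRels) :
    ∃ φ : X →* Δ, φ.range = sub y (lets 6) ∧ ∀ l < 11, φ (S.M.gen l) = y l :=
  S.hom_all y (card0 _ (rels_of_all (S.rels.prod hy))) (orig_eq (S.rels.prod hy)) (orig_eq hy) (ds := defs)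
    (by decide +kernel) (relsD_of_all (S.rels.prod hy)) (by decide +kernel)
/-- the matrices of the first letters (and their inverses) -/
def As : List (ℕ × ℕ) :=
[(nat_lit 0x40100405, nat_lit 0x40100409),
  (nat_lit 0x40101401, nat_lit 0x40102401),
  (nat_lit 0x40500401, nat_lit 0x40900401),
  (nat_lit 0x40100501, nat_lit 0x40100601),
  (nat_lit 0x40140401, nat_lit 0x40180401),
  (nat_lit 0x50100401, nat_lit 0x60100401)]
/-- the vectors -/
def V : ℕ := nat_lit 0x404244604148504662686445614a49515810696652546a655a591118561214551a19160415060501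
theorem eqv_ok : c3.eqvM 4 40 [1, 2] V As nets 6 = true := by decide +kernel
theorem sep_ok : c3.sepM 4 40 [1, 2] V (ss.map Prod.fst) = true := by decide +kernel
theorem ctrP : ∀ z ∈ sub P.gen (lets 6), (∀ x ∈ sub P.gen (lets 6), x * z = z * x) → z = 1 :=
  orig_eq allP ▸ center_triv (res0 P (rels_of_all allP)) (ext0 P (rels_of_all allP)) (card1 P (rels_of_all allP))
    (by decide) primc0 (fix0 P (rels_of_all allP)) (by decide +kernel)
theorem core {F : Type*} [Field F] {a : Ar F} (ha : Ok a c3 3) {ι : Type} [Fintype ι] [DecidableEq ι]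
    {e : ι ≃ Fin 4} {T X : Type*} [Group T] [Group X] {ρ : T →* Matrix ι ι F} (h : Mem a e ρ As 6)
    (q : T →* X) (hq : ∀ g, q g = 1 → g = 1 ∨ g ∈ Subgroup.center T ∧ ∀ z ∈ sub P.gen (lets 6), (∀ x ∈ sub P.gen (lets 6), x * z = z * x) → z = 1)
    (hB : Bd (⊤ : Subgroup X) 6065280) : ∃ S : St X, Spec S a e ρ q As 6 [1, 2] V (ss.map Prod.fst) :=
  h.std ha (by decide +kernel) eqv_ok reach_ok sep_ok q hq (ds := defs) (by decide +kernel) (by decide +kernel)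
    (relsD_of_all allP) hB (orig_eq allP) (card0 P (rels_of_all allP)) allP
theorem std_spec {F : Type*} [Field F] [Fintype F] (hF : Fintype.card F = 3) {a : Ar F} (ha : Ok a c3 3) :
    ∃ S : St (Matrix.ProjectiveSpecialLinearGroup (Fin 4) F), Spec S a (Equiv.refl _) (slM (Fin 4) F) (QuotientGroup.mk' _) As 6 [1, 2] V (ss.map Prod.fst) :=
  core ha (mem_sl _ ha.1 (p := 3) ha.2.2 (by norm_num) (L := As) (by decide +kernel)) _ (hq_ctr ctrP) (bd_psl hF (by decide +kernel))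
theorem std {F : Type*} [Field F] [Fintype F] (hF : Fintype.card F = 3) : Nonempty (St (Matrix.ProjectiveSpecialLinearGroup (Fin 4) F)) :=
  let ⟨_, ha⟩ := ar_3 (F := F) hF
  let ⟨S, _⟩ := std_spec hF ha
  ⟨S⟩

end H15.StdL43
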