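import Cfsg.Agent.H14.Dw2
import Cfsg.Agent.H15.Std3

/-! Standard machine: a simple permutation group of order 7920 (M11) on 11 points
Generated certificate (tools14/pkgen, tools15/std.py) for the permutation group StdM11 of degree 11, order 7920, base 0 1 2 3. -/
set_option autoImplicit false
set_option maxRecDepth 100000

namespace H15.StdM11
open H14

noncomputable def n0 : Net := (.cons (nat_lit 1) (nat_lit 0x54)
(.cons (nat_lit 2) (nat_lit 0x10)
(.cons (nat_lit 4) (nat_lit 0x1)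
(.cons (nat_lit 8) (nat_lit 0x7)
(.cons (nat_lit 4) (nat_lit 0x1)
(.cons (nat_lit 2) (nat_lit 0x30)
(.cons (nat_lit 1) (nat_lit 0x54)
.nil)))))))
theorem n0_ok : Net.ok 11 n0 = true := by decide +kernel
noncomputable def n1 : Net := (.cons (nat_lit 1) (nat_lit 0x140)
(.cons (nat_lit 4) (nat_lit 0x2)
(.cons (nat_lit 8) (nat_lit 0x2)
(.cons (nat_lit 4) (nat_lit 0x4)
(.cons (nat_lit 2) (nat_lit 0x1)
(.cons (nat_lit 1) (nat_lit 0x154)
.nil))))))
theorem n1_ok : Net.ok 11 n1 = true := by decide +kernel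
noncomputable def n2 : Net := (.cons (nat_lit 1) (nat_lit 0x110)
(.cons (nat_lit 2) (nat_lit 0x20)
(.cons (nat_lit 8) (nat_lit 0x5)
(.cons (nat_lit 4) (nat_lit 0x2)
(.cons (nat_lit 2) (nat_lit 0x130)
(.cons (nat_lit 1) (nat_lit 0x45)
.nil))))))
theorem n2_ok : Net.ok 11 n2 = true := by decide +kernel
noncomputable def n3 : Net := (.cons (nat_lit 1) (nat_lit 0x5)
(.cons (nat_lit 4) (nat_lit 0xa)
(.cons (nat_lit 8) (nat_lit 0x7)
(.cons (nat_lit 4) (nat_lit 0x2)
(.cons (nat_lit 2) (nat_lit 0x12)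
(.cons (nat_lit 1) (nat_lit 0x110)
.nil))))))
theorem n3_ok : Net.ok 11 n3 = true := by decide +kernel
noncomputable def n4 : Net := (.cons (nat_lit 1) (nat_lit 0x10)
(.cons (nat_lit 4) (nat_lit 0x7)
(.cons (nat_lit 8) (nat_lit 0x7)
(.cons (nat_lit 4) (nat_lit 0x3)
(.cons (nat_lit 2) (nat_lit 0x102)
(.cons (nat_lit 1) (nat_lit 0x150)
.nil))))))
theorem n4_ok : Net.ok 11 n4 = true := by decide +kernel
noncomputable def n5 : Net := (.cons (nat_lit 2) (nat_lit 0x22)
(.cons (nat_lit 4) (nat_lit 0x3)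
(.cons (nat_lit 8) (nat_lit 0x3)
(.cons (nat_lit 4) (nat_lit 0x1)
(.cons (nat_lit 2) (nat_lit 0x32)
(.cons (nat_lit 1) (nat_lit 0x14)
.nil))))))
theorem n5_ok : Net.ok 11 n5 = true := by decide +kernel
noncomputable def n6 : Net := (.cons (nat_lit 2) (nat_lit 0x32)
(.cons (nat_lit 4) (nat_lit 0x4)
(.cons (nat_lit 8) (nat_lit 0x6)
(.cons (nat_lit 4) (nat_lit 0x2)
(.cons (nat_lit 2) (nat_lit 0x112)
.nil)))))
theorem n6_ok : Net.ok 11 n6 = true := by decide +kernel
noncomputable def n7 : Net := (.cons (nat_lit 2) (nat_lit 0x102)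
(.cons (nat_lit 4) (nat_lit 0x4)
(.cons (nat_lit 8) (nat_lit 0x6)
(.cons (nat_lit 4) (nat_lit 0x6)
(.cons (nat_lit 2) (nat_lit 0x2)
(.cons (nat_lit 1) (nat_lit 0x50)
.nil))))))
theorem n7_ok : Net.ok 11 n7 = true := by decide +kernel
noncomputable def n8 : Net := (.cons (nat_lit 1) (nat_lit 0x110)
(.cons (nat_lit 2) (nat_lit 0x2)
(.cons (nat_lit 4) (nat_lit 0x3)
(.cons (nat_lit 8) (nat_lit 0x3)
(.cons (nat_lit 4) (nat_lit 0x1)
(.cons (nat_lit 2) (nat_lit 0x132)
(.cons (nat_lit 1) (nat_lit 0x140)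
.nil)))))))
theorem n8_ok : Net.ok 11 n8 = true := by decide +kernel
noncomputable def nets : List Net := [n0, n1, n2, n3, n4, n5, n6, n7, n8]
theorem nets_ok : netsOk 11 nets = true := List.all_eq_true.2 (fa_cons n0_ok (fa_cons n1_ok (fa_cons n2_ok (fa_cons n3_ok (fa_cons n4_ok (fa_cons n5_ok (fa_cons n6_ok (fa_cons n7_ok (fa_cons n8_ok (fa_nil))))))))))
noncomputable def ws4 : List Word := []
noncomputable def lev3 : Level := ⟨nat_lit 3,
[⟨[nat_lit 14], [], [],
[⟨nat_lit 0, [], nat_lit 1, [], []⟩,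
⟨nat_lit 1, [], nat_lit 5, [], []⟩,
⟨nat_lit 2, [], nat_lit 0, [], []⟩,
⟨nat_lit 3, [], nat_lit 7, [], []⟩,
⟨nat_lit 4, [], nat_lit 6, [], []⟩,
⟨nat_lit 5, [], nat_lit 2, [], []⟩,
⟨nat_lit 6, [], nat_lit 3, [], []⟩,
⟨nat_lit 7, [], nat_lit 4, [], []⟩],
[]⟩,
⟨[nat_lit 16], [], [],
[⟨nat_lit 0, [], nat_lit 3, [], []⟩,
⟨nat_lit 1, [], nat_lit 6, [], []⟩,
⟨nat_lit 2, [], nat_lit 7, [], []⟩,
⟨nat_lit 3, [], nat_lit 5, [], []⟩,
⟨nat_lit 4, [], nat_lit 0, [], []⟩,
⟨nat_lit 5, [], nat_lit 4, [], []⟩,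
⟨nat_lit 6, [], nat_lit 2, [], []⟩,
⟨nat_lit 7, [], nat_lit 1, [], []⟩],
[]⟩],
[⟨dw (nat_lit 0x01), (nat_lit 0x200), [], .nil, []⟩,
⟨dw (nat_lit 0x02), (nat_lit 0x20), [], .nil, []⟩,
⟨dw (nat_lit 0x03), (nat_lit 0x40), [], .nil, []⟩,
⟨dw (nat_lit 0x04), (nat_lit 0x100), [], .nil, []⟩,
⟨dw (nat_lit 0x0101), (nat_lit 0x10), [], .nil, []⟩,
⟨dw (nat_lit 0x0301), (nat_lit 0x80), [], .nil, []⟩,
⟨dw (nat_lit 0x0401), (nat_lit 0x400), [], .nil, []⟩]⟩
noncomputable def ex3 : List Word := []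
noncomputable def ws3 : List Word := List.append ex3 (lev3.gens ws4)
noncomputable def rels3 : List (Word × Word) := List.append (lev3.rels ws4) (memRels (lev3.gens ws4) ex3 [])
noncomputable def lev2 : Level := ⟨nat_lit 2,
[⟨[nat_lit 10], [], [],
[⟨nat_lit 0, [], nat_lit 1, [], []⟩,
⟨nat_lit 1, [], nat_lit 1, dw (nat_lit 0x0301), dw (nat_lit 0x04)⟩,
⟨nat_lit 1, dw (nat_lit 0x01), nat_lit 0, [], dw (nat_lit 0x02)⟩,
⟨nat_lit 1, dw (nat_lit 0x02), nat_lit 1, dw (nat_lit 0x0101), dw (nat_lit 0x0101)⟩,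
⟨nat_lit 1, dw (nat_lit 0x03), nat_lit 1, dw (nat_lit 0x02), dw (nat_lit 0x03)⟩,
⟨nat_lit 1, dw (nat_lit 0x04), nat_lit 1, dw (nat_lit 0x03), dw (nat_lit 0x01)⟩,
⟨nat_lit 1, dw (nat_lit 0x0101), nat_lit 1, dw (nat_lit 0x04), dw (nat_lit 0x0301)⟩,
⟨nat_lit 1, dw (nat_lit 0x0301), nat_lit 1, dw (nat_lit 0x01), dw (nat_lit 0x0401)⟩,
⟨nat_lit 1, dw (nat_lit 0x0401), nat_lit 1, dw (nat_lit 0x0401), dw (nat_lit 0x02)⟩],
[]⟩],
[⟨dw (nat_lit 0x01), (nat_lit 0x7f8), [dw (nat_lit 0x01), dw (nat_lit 0x03), dw (nat_lit 0x0202)], .nil, []⟩]⟩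
noncomputable def ex2 : List Word := [[nat_lit 12]]
noncomputable def ws2 : List Word := List.append ex2 (lev2.gens ws3)
noncomputable def rels2 : List (Word × Word) := List.append (lev2.rels ws3) (memRels (lev2.gens ws3) ex2 [dw (nat_lit 0x03020503)])
noncomputable def lev1 : Level := ⟨nat_lit 1,
[⟨[nat_lit 8], [dw (nat_lit 0x0103), dw (nat_lit 0x080107)], [dw (nat_lit 0x02030705), dw (nat_lit 0x080107)],
[⟨nat_lit 0, [], nat_lit 1, [], []⟩,
⟨nat_lit 1, [], nat_lit 0, [], dw (nat_lit 0x080107)⟩,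
⟨nat_lit 1, dw (nat_lit 0x08), nat_lit 1, dw (nat_lit 0x06), dw (nat_lit 0x010107)⟩],
[dw (nat_lit 0x01), dw (nat_lit 0x03), dw (nat_lit 0x01), dw (nat_lit 0x01)]⟩],
[⟨dw (nat_lit 0x01), (nat_lit 0x7fc), [dw (nat_lit 0x01), dw (nat_lit 0x03), dw (nat_lit 0x01), dw (nat_lit 0x07)], (.cons (nat_lit 2) [dw (nat_lit 0x0103), dw (nat_lit 0x080107)] [dw (nat_lit 0x01), dw (nat_lit 0x03), dw (nat_lit 0x0101)]
.nil), [dw (nat_lit 0x010106), dw (nat_lit 0x080107)]⟩]⟩
noncomputable def ex1 : List Word := []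
noncomputable def ws1 : List Word := List.append ex1 (lev1.gens ws2)
noncomputable def rels1 : List (Word × Word) := List.append (lev1.rels ws2) (memRels (lev1.gens ws2) ex1 [])
noncomputable def lev0 : Level := ⟨nat_lit 0,
[⟨[nat_lit 4], [dw (nat_lit 0x0207), dw (nat_lit 0x0309), dw (nat_lit 0x030a0308)], [dw (nat_lit 0x0307), dw (nat_lit 0x06010309), dw (nat_lit 0x0a01030308)],
[⟨nat_lit 0, [], nat_lit 1, [], []⟩,
⟨nat_lit 1, [], nat_lit 1, dw (nat_lit 0x0501), dw (nat_lit 0x06010907)⟩,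
⟨nat_lit 1, dw (nat_lit 0x0101), nat_lit 0, [], dw (nat_lit 0x08010a030907)⟩],
[dw (nat_lit 0x01), dw (nat_lit 0x05), dw (nat_lit 0x01), dw (nat_lit 0x01), dw (nat_lit 0x01)]⟩],
[⟨dw (nat_lit 0x01), (nat_lit 0x7fe), [dw (nat_lit 0x01), dw (nat_lit 0x050a), dw (nat_lit 0x01), dw (nat_lit 0x07)], (.cons (nat_lit 1) [dw (nat_lit 0x0203)] [dw (nat_lit 0x01), dw (nat_lit 0x03), dw (nat_lit 0x0303), dw (nat_lit 0x05)]
(.cons (nat_lit 2) [dw (nat_lit 0x05), dw (nat_lit 0x03080909)] [dw (nat_lit 0x01), dw (nat_lit 0x0101), dw (nat_lit 0x03)]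
.nil)), [dw (nat_lit 0x080103030a), dw (nat_lit 0x01030109), dw (nat_lit 0x010603)]⟩]⟩
noncomputable def ex0 : List Word := [[nat_lit 6]]
noncomputable def ws0 : List Word := List.append ex0 (lev0.gens ws1)
noncomputable def rels0 : List (Word × Word) := List.append (lev0.rels ws1) (memRels (lev0.gens ws1) ex0 [dw (nat_lit 0x01010803050b)])
noncomputable def prim0 : List (List Word) := [[dw (nat_lit 0x01), dw (nat_lit 0x0101), dw (nat_lit 0x03), dw (nat_lit 0x09), dw (nat_lit 0x03)]]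
noncomputable def rels : List (Word × Word) := List.append rels0 (List.append rels1 (List.append rels2 (List.append rels3 ([]))))
noncomputable def defs : List Word := [dw (nat_lit 0x0103), dw (nat_lit 0x0301010103020204), dw (nat_lit 0x080505050508050507), dw (nat_lit 0x0705050805), dw (nat_lit 0x0c0c0909), dw (nat_lit 0x0b0e0e0c0c), dw (nat_lit 0x0c0d0b0b)]
noncomputable def relsD : List (Word × Word) := defRels defs 2
noncomputable def relsO : List (Word × Word) := memRels ws0 (lets 2) [dw (nat_lit 0x07050a070b0b), dw (nat_lit 0x0107050a070b0b)]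
noncomputable def zc : Word := dw (nat_lit 0x0107050a070b0b)
noncomputable def relsS : List (Word × Word) := List.append [(powW [2 * 2] 11, [])] [([2 * (2 + 1)], conjW [2 * 2] (flat ws0 zc))]
noncomputable def allRels : List (Word × Word) := List.append rels (List.append relsD (List.append relsO relsS))
theorem chk3 : lev3.chk 11 nets ws4 1 8 = true := by decide +kernel
theorem chk2 : lev2.chk 11 nets ws3 8 72 = true := by decide +kernel
theorem chk1 : lev1.chk 11 nets ws2 72 720 = true := by decide +kernel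
theorem primc0 : PM.primChk nets ws1 lev0 lev0.sos prim0 = true := by decide +kernel
theorem chk0 : lev0.chk 11 nets ws1 720 7920 = true := by decide +kernel
theorem rc0 : relsChk 11 nets 4 (idArr 11 4 4 0) allRels = true := by decide +kernel
section
variable {Γ Ω : Type*} [Group Γ] [MulAction Γ Ω] (M : PM Γ Ω 11 nets)

theorem all_ok (hs : M.Sep 4 (idArr 11 4 4 0)) : Rels M.gen allRels := (M.rels_of_chk hs rc0)
theorem sep [FaithfulSMul Γ Ω] : M.Sep 4 (idArr 11 4 4 0) := M.sep_idArr (by decide)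
theorem all_ok' [FaithfulSMul Γ Ω] : Rels M.gen allRels := all_ok M (sep M)
theorem rels_of_all {gen : ℕ → Γ} (h : Rels gen allRels) : Rels gen rels := Rels.left h
theorem relsD_of_all {gen : ℕ → Γ} (h : Rels gen allRels) : Rels gen relsD := Rels.left (Rels.right h)
theorem relsO_of_all {gen : ℕ → Γ} (h : Rels gen allRels) : Rels gen relsO := Rels.left (Rels.right (Rels.right h))
theorem relsS_of_all {gen : ℕ → Γ} (h : Rels gen allRels) : Rels gen relsS := Rels.right (Rels.right (Rels.right h))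
theorem card4 (_hR : Rels M.gen rels) : Nat.card (sub M.gen ws4) = 1 := M.card_nil
theorem fixw4 (_hR : Rels M.gen rels) : M.FixTriv ws4 [] := M.fixTriv_nil
theorem r3 (hR : Rels M.gen rels) : Rels M.gen rels3 := (Rels.left (Rels.right (Rels.right (Rels.right hR))))
theorem res3 (hR : Rels M.gen rels) : M.LevelRes ws4 lev3 8 := M.level (card4 M hR) chk3 (Rels.left (r3 M hR))
theorem ext3 (hR : Rels M.gen rels) : sub M.gen ws3 = sub M.gen (lev3.gens ws4) := sub_extend (Rels.right (r3 M hR))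
theorem card3 (hR : Rels M.gen rels) : Nat.card (sub M.gen ws3) = 8 := by rw [ext3 M hR]; exact (res3 M hR).card
theorem fix3 (hR : Rels M.gen rels) : M.FixTriv (lev3.gens ws4) [3] := (res3 M hR).fixTriv M (fixw4 M hR)
theorem fixw3 (hR : Rels M.gen rels) : M.FixTriv ws3 [3] := fun g hg => fix3 M hR g (ext3 M hR ▸ hg)
theorem stab3 (hR : Rels M.gen rels) : sub M.gen ws3 ⊓ MulAction.stabilizer Γ (M.dec 3) = sub M.gen ws4 := by rw [ext3 M hR]; exact (res3 M hR).stab
theorem orb3 (hR : Rels M.gen rels) (y : Ω) : y ∈ M.S lev3.orb ↔ ∃ g ∈ sub M.gen ws3, g • M.dec 3 = y := by rw [ext3 M hR]; exact (res3 M hR).orb y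
theorem r2 (hR : Rels M.gen rels) : Rels M.gen rels2 := (Rels.left (Rels.right (Rels.right hR)))
theorem res2 (hR : Rels M.gen rels) : M.LevelRes ws3 lev2 72 := M.level (card3 M hR) chk2 (Rels.left (r2 M hR))
theorem ext2 (hR : Rels M.gen rels) : sub M.gen ws2 = sub M.gen (lev2.gens ws3) := sub_extend (Rels.right (r2 M hR))
theorem card2 (hR : Rels M.gen rels) : Nat.card (sub M.gen ws2) = 72 := by rw [ext2 M hR]; exact (res2 M hR).card
theorem fix2 (hR : Rels M.gen rels) : M.FixTriv (lev2.gens ws3) [2, 3] := (res2 M hR).fixTriv M (fixw3 M hR)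
theorem fixw2 (hR : Rels M.gen rels) : M.FixTriv ws2 [2, 3] := fun g hg => fix2 M hR g (ext2 M hR ▸ hg)
theorem stab2 (hR : Rels M.gen rels) : sub M.gen ws2 ⊓ MulAction.stabilizer Γ (M.dec 2) = sub M.gen ws3 := by rw [ext2 M hR]; exact (res2 M hR).stab
theorem orb2 (hR : Rels M.gen rels) (y : Ω) : y ∈ M.S lev2.orb ↔ ∃ g ∈ sub M.gen ws2, g • M.dec 2 = y := by rw [ext2 M hR]; exact (res2 M hR).orb y
theorem r1 (hR : Rels M.gen rels) : Rels M.gen rels1 := (Rels.left (Rels.right hR))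
theorem res1 (hR : Rels M.gen rels) : M.LevelRes ws2 lev1 720 := M.level (card2 M hR) chk1 (Rels.left (r1 M hR))
theorem ext1 (hR : Rels M.gen rels) : sub M.gen ws1 = sub M.gen (lev1.gens ws2) := sub_extend (Rels.right (r1 M hR))
theorem card1 (hR : Rels M.gen rels) : Nat.card (sub M.gen ws1) = 720 := by rw [ext1 M hR]; exact (res1 M hR).card
theorem fix1 (hR : Rels M.gen rels) : M.FixTriv (lev1.gens ws2) [1, 2, 3] := (res1 M hR).fixTriv M (fixw2 M hR)
theorem fixw1 (hR : Rels M.gen rels) : M.FixTriv ws1 [1, 2, 3] := fun g hg => fix1 M hR g (ext1 M hR ▸ hg)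
theorem stab1 (hR : Rels M.gen rels) : sub M.gen ws1 ⊓ MulAction.stabilizer Γ (M.dec 1) = sub M.gen ws2 := by rw [ext1 M hR]; exact (res1 M hR).stab
theorem orb1 (hR : Rels M.gen rels) (y : Ω) : y ∈ M.S lev1.orb ↔ ∃ g ∈ sub M.gen ws1, g • M.dec 1 = y := by rw [ext1 M hR]; exact (res1 M hR).orb y
theorem r0 (hR : Rels M.gen rels) : Rels M.gen rels0 := (Rels.left hR)
theorem res0 (hR : Rels M.gen rels) : M.LevelRes ws1 lev0 7920 := M.level (card1 M hR) chk0 (Rels.left (r0 M hR))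
theorem ext0 (hR : Rels M.gen rels) : sub M.gen ws0 = sub M.gen (lev0.gens ws1) := sub_extend (Rels.right (r0 M hR))
theorem card0 (hR : Rels M.gen rels) : Nat.card (sub M.gen ws0) = 7920 := by rw [ext0 M hR]; exact (res0 M hR).card
theorem fix0 (hR : Rels M.gen rels) : M.FixTriv (lev0.gens ws1) [0, 1, 2, 3] := (res0 M hR).fixTriv M (fixw1 M hR)
theorem fixw0 (hR : Rels M.gen rels) : M.FixTriv ws0 [0, 1, 2, 3] := fun g hg => fix0 M hR g (ext0 M hR ▸ hg)
theorem stab0 (hR : Rels M.gen rels) : sub M.gen ws0 ⊓ MulAction.stabilizer Γ (M.dec 0) = sub M.gen ws1 := by rw [ext0 M hR]; exact (res0 M hR).stab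
theorem orb0 (hR : Rels M.gen rels) (y : Ω) : y ∈ M.S lev0.orb ↔ ∃ g ∈ sub M.gen ws0, g • M.dec 0 = y := by rw [ext0 M hR]; exact (res0 M hR).orb y
theorem max0 (hR : Rels M.gen rels) (X : Subgroup Γ) (h1 : sub M.gen ws1 ≤ X) (h2 : X ≤ sub M.gen ws0) : X = sub M.gen ws1 ∨ X = sub M.gen ws0 := by rw [ext0 M hR] at h2 ⊢; exact (res0 M hR).max M primc0 X h1 h2
theorem orig_eq {gen : ℕ → Γ} (h : Rels gen allRels) : sub gen (lets 2) = sub gen ws0 :=
  sub_lets_eq_of_rels (ds := defs) (by decide +kernel) (relsD_of_all h) (by decide +kernel) (relsO_of_all h)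
theorem gen_mem {gen : ℕ → Γ} (h : Rels gen allRels) {X : Subgroup Γ} (h0 : ∀ l < 2, gen l ∈ X) : sub gen ws0 ≤ X :=
  sub_le_of_wsIn (lo := 0) (gen_mem_of_defRels (ds := defs) (fun l _ hl => h0 l hl) (by decide +kernel) (relsD_of_all h)) (by decide +kernel)
theorem simple (h : Rels M.gen allRels) : IsSimpleGroup (sub M.gen ws0) :=
  (res0 M (rels_of_all h)).simple (ext0 M (rels_of_all h)) (card1 M (rels_of_all h)) (by decide) primc0 (fix0 M (rels_of_all h)) (by decide +kernel)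
    (z := M.gen 2) (by rw [← ev_single M.gen 2]; exact ev_getL_mem M.gen ws0 1) (m := 11)
    (by rw [← ev_single M.gen 2]; exact pow_eq_one_of_rels (Rels.left (relsS_of_all h))) (by norm_num)
    (ncl_of_defRels (ds := defs.drop 2) (c := zc) (by decide +kernel) (defRels_drop defs 2 2 ▸ (relsD_of_all h).drop 2) (by decide +kernel) (Rels.right (relsS_of_all h)))

end

/-- the permutation group -/
noncomputable abbrev P := permPM 11 nets (by decide) (by decide) nets_ok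
theorem allP : Rels P.gen allRels := all_ok' P
/-- machines of this type -/
abbrev St (X : Type*) [Group X] := Std X 11 nets ws0 7920 allRels
/-- the presentation on the strong generators -/
theorem hom {X : Type*} [Group X] (S : St X) {Δ : Type*} [Group Δ] (y : ℕ → Δ) (hy : Rels y rels) :
    ∃ φ : X →* Δ, φ.range = sub y ws0 ∧ ∀ w ∈ ws0, φ (H14.ev S.M.gen w) = H14.ev y w :=
  S.hom_ws y (card0 _ ((rels_of_all S.rels).prod hy))
/-- the presentation on all letters -/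
theorem hom' {X : Type*} [Group X] (S : St X) {Δ : Type*} [Group Δ] (y : ℕ → Δ) (hy : Rels y allRels) :
    ∃ φ : X →* Δ, φ.range = sub y (lets 2) ∧ ∀ l < 9, φ (S.M.gen l) = y l :=
  S.hom_all y (card0 _ (rels_of_all (S.rels.prod hy))) (orig_eq (S.rels.prod hy)) (orig_eq hy) (ds := defs)
    (by decide +kernel) (relsD_of_all (S.rels.prod hy)) (by decide +kernel)
theorem St.simple {X : Type*} [Group X] (S : St X) : IsSimpleGroup X :=
  have := S.faithful
  simple_of_top (H15.StdM11.simple S.M S.rels) S.top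
theorem std : Nonempty (St (sub P.gen ws0)) :=
  let ⟨S, _⟩ := std_of_hom (sub P.gen ws0).subtype (k := 2)
    (fun _ hl => ⟨⟨_, orig_eq allP ▸ gen_mem_lets hl⟩, rfl⟩) (ds := defs) (by decide +kernel) (by decide +kernel)
    (relsD_of_all allP) (Bd.of_card (card0 P (rels_of_all allP)) (by decide)).top_sub
    (card0 P (rels_of_all allP)) allP
  ⟨S⟩
/-- a nontrivial group generated by letters satisfying the relations -/
theorem std_of_rels {Δ : Type*} [Group Δ] {y : ℕ → Δ} (hy : Rels y allRels) (h : y 0 ≠ 1)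
    (ht : sub y (lets 2) = ⊤) : ∃ S : St Δ, ∀ l < 9, S.M.gen l = y l := by
  obtain ⟨S⟩ := std
  obtain ⟨φ, h1, h2⟩ := hom' S y hy
  have := St.simple S
  let e := MulEquiv.ofBijective φ ⟨inj_of_simple φ (g := S.M.gen 0) (h2 0 (by decide) ▸ h),
    MonoidHom.range_eq_top.1 (h1.trans ht)⟩
  obtain ⟨S', h3⟩ := S.congr e.symm
  exact ⟨S', fun l hl => (e.symm_apply_eq.1 (h3 l)).trans (h2 l hl)⟩
/-- words satisfying the relations generate a simple group of this order -/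
theorem sub_simple {Δ : Type*} [Group Δ] {y : ℕ → Δ} (hy : Rels y allRels) (h : y 0 ≠ 1) :
    IsSimpleGroup (sub y (lets 2)) ∧ Nat.card (sub y (lets 2)) = 7920 := by
  obtain ⟨S⟩ := std
  obtain ⟨φ, h1, h2⟩ := hom' S y hy
  have := St.simple S
  have e := MonoidHom.ofInjective (inj_of_simple φ (g := S.M.gen 0) (h2 0 (by decide) ▸ h))
  rw [← h1]
  exact ⟨e.symm.isSimpleGroup, (Nat.card_congr e.symm.toEquiv).trans S.card⟩

end H15.StdM11
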