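import Cfsg.Agent.H14.Dw2
import Cfsg.Agent.H15.Std3

/-! Standard machine: `PSp 2` over the field with 4 elements on the points, generated by 5 transvections
Generated certificate (tools14/pkgen, tools15/std.py) for the permutation group StdS44 of degree 85, order 979200, base 0 1 3 2. -/
set_option autoImplicit false
set_option maxRecDepth 100000

namespace H15.StdS44
open H14

noncomputable def n0 : Net := (.cons (nat_lit 1) (nat_lit 0x411550410000451004000)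
(.cons (nat_lit 2) (nat_lit 0x32212030221020130100)
(.cons (nat_lit 4) (nat_lit 0xb0709000206000d0000)
(.cons (nat_lit 8) (nat_lit 0x300070002000090000)
(.cons (nat_lit 16) (nat_lit 0xb600000000)
(.cons (nat_lit 32) (nat_lit 0x2090b6)
(.cons (nat_lit 64) (nat_lit 0x90b6)
(.cons (nat_lit 32) (nat_lit 0x1790b6)
(.cons (nat_lit 16) (nat_lit 0xed3e00009bc0)
(.cons (nat_lit 8) (nat_lit 0xf800f000a000090004)
(.cons (nat_lit 4) (nat_lit 0xb0709000206040d0002)
(.cons (nat_lit 2) (nat_lit 0x232212030221020130100)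
(.cons (nat_lit 1) (nat_lit 0x411551410010451014040)
.nil)))))))))))))
theorem n0_ok : Net.ok 85 n0 = true := by decide +kernel
noncomputable def n1 : Net := (.cons (nat_lit 1) (nat_lit 0x544444510451400411110)
(.cons (nat_lit 2) (nat_lit 0x20000210220201212100)
(.cons (nat_lit 4) (nat_lit 0xb04080008050800)
(.cons (nat_lit 8) (nat_lit 0x510050008000100000)
(.cons (nat_lit 16) (nat_lit 0x34ce00000000)
(.cons (nat_lit 32) (nat_lit 0x60a01540)
(.cons (nat_lit 64) (nat_lit 0x1540)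
(.cons (nat_lit 32) (nat_lit 0xe1540)
(.cons (nat_lit 16) (nat_lit 0x1a00009cee00009140)
(.cons (nat_lit 8) (nat_lit 0xd1007100280030005c)
(.cons (nat_lit 4) (nat_lit 0x403040409080d0a00)
(.cons (nat_lit 2) (nat_lit 0x20000210220201203130)
(.cons (nat_lit 1) (nat_lit 0x544444510451404411511)
.nil)))))))))))))
theorem n1_ok : Net.ok 85 n1 = true := by decide +kernel
noncomputable def n2 : Net := (.cons (nat_lit 1) (nat_lit 0x505110150410410140514)
(.cons (nat_lit 2) (nat_lit 0x302000122200211200)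
(.cons (nat_lit 4) (nat_lit 0x10300000e0d0d07050604)
(.cons (nat_lit 8) (nat_lit 0x4100c3000500190000)
(.cons (nat_lit 16) (nat_lit 0xa9e500000000)
(.cons (nat_lit 32) (nat_lit 0xe0e04900)
(.cons (nat_lit 64) (nat_lit 0x4900)
(.cons (nat_lit 32) (nat_lit 0x1d5900)
(.cons (nat_lit 16) (nat_lit 0x15000068f600001f80)
(.cons (nat_lit 8) (nat_lit 0x6100e200b4003900f0)
(.cons (nat_lit 4) (nat_lit 0x1030500070c0d0e0c0602)
(.cons (nat_lit 2) (nat_lit 0x100212001132200211233)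
(.cons (nat_lit 1) (nat_lit 0x505110154400514004041)
.nil)))))))))))))
theorem n2_ok : Net.ok 85 n2 = true := by decide +kernel
noncomputable def n3 : Net := (.cons (nat_lit 1) (nat_lit 0x500110410405004115404)
(.cons (nat_lit 2) (nat_lit 0x101230110330230100020)
(.cons (nat_lit 4) (nat_lit 0xb020204020e04010000)
(.cons (nat_lit 8) (nat_lit 0x3a0034004900810000)
(.cons (nat_lit 16) (nat_lit 0x41ce00000000)
(.cons (nat_lit 32) (nat_lit 0x10407181)
(.cons (nat_lit 64) (nat_lit 0x7181)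
(.cons (nat_lit 32) (nat_lit 0xf7181)
(.cons (nat_lit 16) (nat_lit 0x1e00004ffe0000a720)
(.cons (nat_lit 8) (nat_lit 0x3a003400c900810018)
(.cons (nat_lit 4) (nat_lit 0xb020204020e0c010000)
(.cons (nat_lit 2) (nat_lit 0x321230110330230100021)
(.cons (nat_lit 1) (nat_lit 0x500110410405004115404)
.nil)))))))))))))
theorem n3_ok : Net.ok 85 n3 = true := by decide +kernel
noncomputable def n4 : Net := (.cons (nat_lit 1) (nat_lit 0x545111044011144450400)
(.cons (nat_lit 2) (nat_lit 0x10301212000012120020)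
(.cons (nat_lit 4) (nat_lit 0xc0c0c05000e000d0000)
(.cons (nat_lit 8) (nat_lit 0x48004800e600010000)
(.cons (nat_lit 16) (nat_lit 0x10000b0760000a000)
(.cons (nat_lit 32) (nat_lit 0xe821b950)
(.cons (nat_lit 64) (nat_lit 0x1b950)
(.cons (nat_lit 32) (nat_lit 0x17f950)
(.cons (nat_lit 16) (nat_lit 0x70000b7ff0000a3c0)
(.cons (nat_lit 8) (nat_lit 0x49004900e700010004)
(.cons (nat_lit 4) (nat_lit 0xc0c0c05000e010d0003)
(.cons (nat_lit 2) (nat_lit 0x10301212000012120020)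
(.cons (nat_lit 1) (nat_lit 0x545111044011144450400)
.nil)))))))))))))
theorem n4_ok : Net.ok 85 n4 = true := by decide +kernel
noncomputable def n5 : Net := (.cons (nat_lit 1) (nat_lit 0x541544015104411140054)
(.cons (nat_lit 2) (nat_lit 0x23203002010022200310)
(.cons (nat_lit 4) (nat_lit 0xf0802000402090b02)
(.cons (nat_lit 8) (nat_lit 0xf30006002a00810005)
(.cons (nat_lit 16) (nat_lit 0x1d0000db00000036a0)
(.cons (nat_lit 32) (nat_lit 0x41a64a16)
(.cons (nat_lit 64) (nat_lit 0xf7eb6)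
(.cons (nat_lit 32) (nat_lit 0x4b0d9)
(.cons (nat_lit 16) (nat_lit 0x1000004550000086b0)
(.cons (nat_lit 8) (nat_lit 0x6f00ba004a00d20007)
(.cons (nat_lit 4) (nat_lit 0xb060207070f01080c02)
(.cons (nat_lit 2) (nat_lit 0x300323031310030002112)
(.cons (nat_lit 1) (nat_lit 0x415115050511440505510)
.nil)))))))))))))
theorem n5_ok : Net.ok 85 n5 = true := by decide +kernel
noncomputable def n6 : Net := (.cons (nat_lit 1) (nat_lit 0x44155051501111450510)
(.cons (nat_lit 2) (nat_lit 0x120021103031123121010)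
(.cons (nat_lit 4) (nat_lit 0x1080c020704040c04030e)
(.cons (nat_lit 8) (nat_lit 0x3300ed00000092000e)
(.cons (nat_lit 16) (nat_lit 0x7000003ea0000a220)
(.cons (nat_lit 32) (nat_lit 0x11ce2491)
(.cons (nat_lit 64) (nat_lit 0x1fb6bb)
(.cons (nat_lit 32) (nat_lit 0x1e5a25)
(.cons (nat_lit 16) (nat_lit 0x1900009d190000c728)
(.cons (nat_lit 8) (nat_lit 0x5c005e00e80014000c)
(.cons (nat_lit 4) (nat_lit 0x1030806080c0d0805010a)
(.cons (nat_lit 2) (nat_lit 0x12312302110312311310)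
(.cons (nat_lit 1) (nat_lit 0x404150140040051044444)
.nil)))))))))))))
theorem n6_ok : Net.ok 85 n6 = true := by decide +kernel
noncomputable def n7 : Net := (.cons (nat_lit 1) (nat_lit 0x151554555015000050040)
(.cons (nat_lit 2) (nat_lit 0x111102011123202011000)
(.cons (nat_lit 4) (nat_lit 0x60406010d00000b0102)
(.cons (nat_lit 8) (nat_lit 0x90000002c00110000)
(.cons (nat_lit 16) (nat_lit 0x13000082580000c0a0)
(.cons (nat_lit 32) (nat_lit 0xe1d36600)
(.cons (nat_lit 64) (nat_lit 0x13e7fa)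
(.cons (nat_lit 32) (nat_lit 0xb6610)
(.cons (nat_lit 16) (nat_lit 0x70000926c0000d2b0)
(.cons (nat_lit 8) (nat_lit 0x90000002f00110004)
(.cons (nat_lit 4) (nat_lit 0x60406010d00000b0102)
(.cons (nat_lit 2) (nat_lit 0x111302011123202031000)
(.cons (nat_lit 1) (nat_lit 0x151554555015000050040)
.nil)))))))))))))
theorem n7_ok : Net.ok 85 n7 = true := by decide +kernel
noncomputable def n8 : Net := (.cons (nat_lit 1) (nat_lit 0x144100154444051041000)
(.cons (nat_lit 2) (nat_lit 0x231131230220022001010)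
(.cons (nat_lit 4) (nat_lit 0x100020b020204070a080a)
(.cons (nat_lit 8) (nat_lit 0x8700b2000200020000)
(.cons (nat_lit 16) (nat_lit 0x410000000a80)
(.cons (nat_lit 32) (nat_lit 0x8815610d)
(.cons (nat_lit 64) (nat_lit 0x1d7b9d)
(.cons (nat_lit 32) (nat_lit 0x17e10f)
(.cons (nat_lit 16) (nat_lit 0x60000532600008b80)
(.cons (nat_lit 8) (nat_lit 0x87003a00020072000a)
(.cons (nat_lit 4) (nat_lit 0x10002030a0204070a040e)
(.cons (nat_lit 2) (nat_lit 0x231133230020002001230)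
(.cons (nat_lit 1) (nat_lit 0x144100154444051041000)
.nil)))))))))))))
theorem n8_ok : Net.ok 85 n8 = true := by decide +kernel
noncomputable def n9 : Net := (.cons (nat_lit 1) (nat_lit 0x51454555004104005000)
(.cons (nat_lit 2) (nat_lit 0x331213010010120001000)
(.cons (nat_lit 4) (nat_lit 0x1050d0a040202030f0400)
(.cons (nat_lit 8) (nat_lit 0x5600c8006d00000004)
(.cons (nat_lit 16) (nat_lit 0x100000ce0100002820)
(.cons (nat_lit 32) (nat_lit 0x5938c840)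
(.cons (nat_lit 64) (nat_lit 0x1ce9f4)
(.cons (nat_lit 32) (nat_lit 0x1bde40)
(.cons (nat_lit 16) (nat_lit 0x130000ba410000fc60)
(.cons (nat_lit 8) (nat_lit 0x160088002f00480044)
(.cons (nat_lit 4) (nat_lit 0x1050d0e040206070f0404)
(.cons (nat_lit 2) (nat_lit 0x331213010010120001000)
(.cons (nat_lit 1) (nat_lit 0x51454555004104005000)
.nil)))))))))))))
theorem n9_ok : Net.ok 85 n9 = true := by decide +kernel
noncomputable def nets : List Net := [n0, n1, n2, n3, n4, n5, n6, n7, n8, n9]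
theorem nets_ok : netsOk 85 nets = true := List.all_eq_true.2 (fa_cons n0_ok (fa_cons n1_ok (fa_cons n2_ok (fa_cons n3_ok (fa_cons n4_ok (fa_cons n5_ok (fa_cons n6_ok (fa_cons n7_ok (fa_cons n8_ok (fa_cons n9_ok (fa_nil)))))))))))
noncomputable def ss : List (Nat × Nat) := [(0, 0)]
noncomputable def ws4 : List Word := []
noncomputable def reach : List Word := [dw (nat_lit 0x03), dw (nat_lit 0x05), dw (nat_lit 0x09), dw (nat_lit 0x01), dw (nat_lit 0x03), dw (nat_lit 0x07), dw (nat_lit 0x01), dw (nat_lit 0x0905)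
, dw (nat_lit 0x03), dw (nat_lit 0x07), dw (nat_lit 0x01)]
noncomputable def lev3 : Level := ⟨nat_lit 2,
[⟨[nat_lit 16], [], [],
[⟨nat_lit 0, [], nat_lit 1, [], []⟩,
⟨nat_lit 1, [], nat_lit 0, [], []⟩,
⟨nat_lit 2, [], nat_lit 3, [], []⟩,
⟨nat_lit 3, [], nat_lit 2, [], []⟩],
[]⟩,
⟨[nat_lit 18], [], [],
[⟨nat_lit 0, [], nat_lit 2, [], []⟩,
⟨nat_lit 1, [], nat_lit 3, [], []⟩,
⟨nat_lit 2, [], nat_lit 0, [], []⟩,
⟨nat_lit 3, [], nat_lit 1, [], []⟩],
[]⟩],
[⟨dw (nat_lit 0x01), (nat_lit 0x10), [], .nil, []⟩,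
⟨dw (nat_lit 0x03), (nat_lit 0x8000000000), [], .nil, []⟩,
⟨dw (nat_lit 0x0301), (nat_lit 0x400000000000000000000), [], .nil, []⟩]⟩
noncomputable def ex3 : List Word := []
noncomputable def ws3 : List Word := List.append ex3 (lev3.gens ws4)
noncomputable def rels3 : List (Word × Word) := List.append (lev3.rels ws4) (memRels (lev3.gens ws4) ex3 [])
noncomputable def lev2 : Level := ⟨nat_lit 3,
[⟨[nat_lit 12], [], [],
[⟨nat_lit 0, [], nat_lit 1, [], []⟩,
⟨nat_lit 1, [], nat_lit 3, [], []⟩,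
⟨nat_lit 2, [], nat_lit 0, [], []⟩,
⟨nat_lit 3, [], nat_lit 5, [], []⟩,
⟨nat_lit 4, [], nat_lit 2, [], []⟩,
⟨nat_lit 5, [], nat_lit 1, dw (nat_lit 0x0301), dw (nat_lit 0x0301)⟩,
⟨nat_lit 6, [], nat_lit 1, dw (nat_lit 0x01), []⟩,
⟨nat_lit 7, [], nat_lit 14, [], []⟩,
⟨nat_lit 8, [], nat_lit 1, dw (nat_lit 0x03), []⟩,
⟨nat_lit 9, [], nat_lit 2, dw (nat_lit 0x03), []⟩,
⟨nat_lit 10, [], nat_lit 3, dw (nat_lit 0x01), []⟩,
⟨nat_lit 11, [], nat_lit 4, dw (nat_lit 0x03), dw (nat_lit 0x03)⟩,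
⟨nat_lit 12, [], nat_lit 6, [], []⟩,
⟨nat_lit 13, [], nat_lit 8, dw (nat_lit 0x01), dw (nat_lit 0x01)⟩,
⟨nat_lit 14, [], nat_lit 9, [], dw (nat_lit 0x01)⟩,
⟨nat_lit 15, [], nat_lit 5, dw (nat_lit 0x03), dw (nat_lit 0x01)⟩,
⟨nat_lit 16, [], nat_lit 7, dw (nat_lit 0x0301), dw (nat_lit 0x01)⟩,
⟨nat_lit 17, [], nat_lit 2, dw (nat_lit 0x0301), []⟩,
⟨nat_lit 1, dw (nat_lit 0x01), nat_lit 2, dw (nat_lit 0x01), dw (nat_lit 0x01)⟩,
⟨nat_lit 1, dw (nat_lit 0x03), nat_lit 7, [], []⟩,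
⟨nat_lit 2, dw (nat_lit 0x01), nat_lit 6, dw (nat_lit 0x0301), dw (nat_lit 0x0301)⟩,
⟨nat_lit 2, dw (nat_lit 0x03), nat_lit 8, dw (nat_lit 0x0301), dw (nat_lit 0x0301)⟩,
⟨nat_lit 3, dw (nat_lit 0x01), nat_lit 6, dw (nat_lit 0x01), []⟩,
⟨nat_lit 3, dw (nat_lit 0x03), nat_lit 11, [], []⟩,
⟨nat_lit 4, dw (nat_lit 0x01), nat_lit 15, [], []⟩,
⟨nat_lit 4, dw (nat_lit 0x03), nat_lit 7, dw (nat_lit 0x03), dw (nat_lit 0x0301)⟩,
⟨nat_lit 5, dw (nat_lit 0x01), nat_lit 10, [], dw (nat_lit 0x03)⟩,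
⟨nat_lit 5, dw (nat_lit 0x03), nat_lit 9, dw (nat_lit 0x01), []⟩,
⟨nat_lit 6, dw (nat_lit 0x01), nat_lit 9, dw (nat_lit 0x03), dw (nat_lit 0x03)⟩,
⟨nat_lit 6, dw (nat_lit 0x03), nat_lit 4, dw (nat_lit 0x01), dw (nat_lit 0x0301)⟩,
⟨nat_lit 7, dw (nat_lit 0x01), nat_lit 5, dw (nat_lit 0x01), dw (nat_lit 0x0301)⟩,
⟨nat_lit 7, dw (nat_lit 0x03), nat_lit 6, dw (nat_lit 0x03), dw (nat_lit 0x01)⟩,
⟨nat_lit 8, dw (nat_lit 0x01), nat_lit 4, dw (nat_lit 0x0301), dw (nat_lit 0x01)⟩,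
⟨nat_lit 8, dw (nat_lit 0x03), nat_lit 17, [], dw (nat_lit 0x03)⟩,
⟨nat_lit 9, dw (nat_lit 0x01), nat_lit 7, dw (nat_lit 0x01), dw (nat_lit 0x03)⟩,
⟨nat_lit 9, dw (nat_lit 0x03), nat_lit 3, dw (nat_lit 0x03), dw (nat_lit 0x0301)⟩,
⟨nat_lit 1, dw (nat_lit 0x0301), nat_lit 13, [], []⟩,
⟨nat_lit 2, dw (nat_lit 0x0301), nat_lit 5, dw (nat_lit 0x0301), []⟩,
⟨nat_lit 3, dw (nat_lit 0x0301), nat_lit 8, dw (nat_lit 0x03), dw (nat_lit 0x03)⟩,
⟨nat_lit 4, dw (nat_lit 0x0301), nat_lit 3, dw (nat_lit 0x0301), []⟩,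
⟨nat_lit 5, dw (nat_lit 0x0301), nat_lit 4, [], dw (nat_lit 0x0301)⟩,
⟨nat_lit 6, dw (nat_lit 0x0301), nat_lit 16, [], dw (nat_lit 0x0301)⟩,
⟨nat_lit 7, dw (nat_lit 0x0301), nat_lit 8, [], dw (nat_lit 0x03)⟩,
⟨nat_lit 8, dw (nat_lit 0x0301), nat_lit 9, dw (nat_lit 0x0301), dw (nat_lit 0x01)⟩,
⟨nat_lit 9, dw (nat_lit 0x0301), nat_lit 12, [], dw (nat_lit 0x01)⟩],
[]⟩],
[⟨dw (nat_lit 0x01), (nat_lit 0x40000000040002100000), [dw (nat_lit 0x01), dw (nat_lit 0x03)], .nil, []⟩,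
⟨dw (nat_lit 0x02), (nat_lit 0x800202040000000), [dw (nat_lit 0x01), dw (nat_lit 0x03)], .nil, []⟩,
⟨dw (nat_lit 0x0101), (nat_lit 0x8010000000008020), [dw (nat_lit 0x01), dw (nat_lit 0x03)], .nil, []⟩,
⟨dw (nat_lit 0x0202), (nat_lit 0x200002200000010000000), [dw (nat_lit 0x01), dw (nat_lit 0x03)], .nil, []⟩,
⟨dw (nat_lit 0x010101), (nat_lit 0x80000000000020004100), [dw (nat_lit 0x01), dw (nat_lit 0x03)], .nil, []⟩,
⟨dw (nat_lit 0x020301), (nat_lit 0x20000400800000800), [dw (nat_lit 0x01), dw (nat_lit 0x03)], .nil, []⟩,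
⟨dw (nat_lit 0x010501), (nat_lit 0x100000000000004c00000), [dw (nat_lit 0x01), dw (nat_lit 0x03)], .nil, []⟩,
⟨dw (nat_lit 0x020501), (nat_lit 0x8000104000100000000), [dw (nat_lit 0x01), dw (nat_lit 0x03)], .nil, []⟩,
⟨dw (nat_lit 0x020502), (nat_lit 0x803000008000000000000), [dw (nat_lit 0x01), dw (nat_lit 0x03)], .nil, []⟩,
⟨dw (nat_lit 0x02030101), (nat_lit 0x200000000000000000), [], (.cons (nat_lit 2) [dw (nat_lit 0x01), dw (nat_lit 0x0104)] [dw (nat_lit 0x01), dw (nat_lit 0x03)]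
.nil), [dw (nat_lit 0x03), dw (nat_lit 0x01)]⟩,
⟨dw (nat_lit 0x01050101), (nat_lit 0x80000), [], (.cons (nat_lit 2) [dw (nat_lit 0x01), dw (nat_lit 0x0301)] [dw (nat_lit 0x01), dw (nat_lit 0x03)]
.nil), [dw (nat_lit 0x03), dw (nat_lit 0x01)]⟩,
⟨dw (nat_lit 0x02020301), (nat_lit 0x800000000000), [], (.cons (nat_lit 2) [dw (nat_lit 0x01), dw (nat_lit 0x0103)] [dw (nat_lit 0x01), dw (nat_lit 0x03)]
.nil), [dw (nat_lit 0x0301), dw (nat_lit 0x03)]⟩,
⟨dw (nat_lit 0x01050301), (nat_lit 0x1000), [], (.cons (nat_lit 2) [dw (nat_lit 0x01), dw (nat_lit 0x03)] [dw (nat_lit 0x01), dw (nat_lit 0x03)]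
.nil), [dw (nat_lit 0x01), dw (nat_lit 0x03)]⟩,
⟨dw (nat_lit 0x01010501), (nat_lit 0x80000000000), [], (.cons (nat_lit 2) [dw (nat_lit 0x01), dw (nat_lit 0x0204)] [dw (nat_lit 0x01), dw (nat_lit 0x03)]
.nil), [dw (nat_lit 0x0301), dw (nat_lit 0x03)]⟩,
⟨dw (nat_lit 0x01030202), (nat_lit 0x10000000000), [], (.cons (nat_lit 2) [dw (nat_lit 0x01), dw (nat_lit 0x0104)] [dw (nat_lit 0x01), dw (nat_lit 0x03)]
.nil), [dw (nat_lit 0x03), dw (nat_lit 0x01)]⟩,
⟨dw (nat_lit 0x01010302), (nat_lit 0x4000000000), [], (.cons (nat_lit 2) [dw (nat_lit 0x01), dw (nat_lit 0x04)] [dw (nat_lit 0x01), dw (nat_lit 0x03)]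
.nil), [dw (nat_lit 0x0301), dw (nat_lit 0x01)]⟩,
⟨dw (nat_lit 0x02050302), (nat_lit 0x80000000), [], (.cons (nat_lit 2) [dw (nat_lit 0x01), dw (nat_lit 0x03)] [dw (nat_lit 0x01), dw (nat_lit 0x03)]
.nil), [dw (nat_lit 0x01), dw (nat_lit 0x03)]⟩]⟩
noncomputable def ex2 : List Word := [[nat_lit 14]]
noncomputable def ws2 : List Word := List.append ex2 (lev2.gens ws3)
noncomputable def rels2 : List (Word × Word) := List.append (lev2.rels ws3) (memRels (lev2.gens ws3) ex2 [dw (nat_lit 0x020501)])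
noncomputable def lev1 : Level := ⟨nat_lit 1,
[⟨[nat_lit 0], [dw (nat_lit 0x040103), dw (nat_lit 0x0204050404)], [dw (nat_lit 0x040103), dw (nat_lit 0x050105)],
[⟨nat_lit 0, [], nat_lit 1, [], []⟩,
⟨nat_lit 1, [], nat_lit 0, [], []⟩,
⟨nat_lit 2, [], nat_lit 1, dw (nat_lit 0x03), []⟩,
⟨nat_lit 3, [], nat_lit 1, dw (nat_lit 0x030301), []⟩,
⟨nat_lit 1, dw (nat_lit 0x01), nat_lit 1, dw (nat_lit 0x01), dw (nat_lit 0x01)⟩,
⟨nat_lit 1, dw (nat_lit 0x03), nat_lit 2, [], []⟩,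
⟨nat_lit 1, dw (nat_lit 0x04), nat_lit 2, dw (nat_lit 0x0701), dw (nat_lit 0x05040405)⟩,
⟨nat_lit 1, dw (nat_lit 0x05), nat_lit 1, dw (nat_lit 0x0301), dw (nat_lit 0x0407)⟩,
⟨nat_lit 1, dw (nat_lit 0x07), nat_lit 1, dw (nat_lit 0x010401), dw (nat_lit 0x010301)⟩,
⟨nat_lit 2, dw (nat_lit 0x01), nat_lit 2, dw (nat_lit 0x01), dw (nat_lit 0x040103)⟩,
⟨nat_lit 2, dw (nat_lit 0x03), nat_lit 1, dw (nat_lit 0x0401), dw (nat_lit 0x0107)⟩,
⟨nat_lit 3, dw (nat_lit 0x03), nat_lit 1, dw (nat_lit 0x030501), dw (nat_lit 0x0401)⟩,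
⟨nat_lit 3, dw (nat_lit 0x04), nat_lit 2, dw (nat_lit 0x0404), dw (nat_lit 0x010504010705)⟩,
⟨nat_lit 1, dw (nat_lit 0x0301), nat_lit 1, dw (nat_lit 0x05), dw (nat_lit 0x0301)⟩,
⟨nat_lit 1, dw (nat_lit 0x0701), nat_lit 2, dw (nat_lit 0x0301), dw (nat_lit 0x030701)⟩,
⟨nat_lit 1, dw (nat_lit 0x010401), nat_lit 1, dw (nat_lit 0x07), dw (nat_lit 0x010401)⟩,
⟨nat_lit 1, dw (nat_lit 0x0503), nat_lit 1, dw (nat_lit 0x0405), dw (nat_lit 0x0405)⟩,
⟨nat_lit 1, dw (nat_lit 0x0104), nat_lit 1, dw (nat_lit 0x0104), dw (nat_lit 0x05)⟩,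
⟨nat_lit 1, dw (nat_lit 0x0404), nat_lit 1, dw (nat_lit 0x0404), dw (nat_lit 0x01070501)⟩,
⟨nat_lit 1, dw (nat_lit 0x0405), nat_lit 1, dw (nat_lit 0x0503), dw (nat_lit 0x0503)⟩,
⟨nat_lit 1, dw (nat_lit 0x0107), nat_lit 2, dw (nat_lit 0x0103), dw (nat_lit 0x03)⟩,
⟨nat_lit 2, dw (nat_lit 0x0301), nat_lit 1, dw (nat_lit 0x0701), dw (nat_lit 0x0405010705)⟩,
⟨nat_lit 2, dw (nat_lit 0x0103), nat_lit 1, dw (nat_lit 0x0107), dw (nat_lit 0x04)⟩,
⟨nat_lit 2, dw (nat_lit 0x0404), nat_lit 3, dw (nat_lit 0x04), dw (nat_lit 0x0103050105)⟩,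
⟨nat_lit 1, dw (nat_lit 0x030301), nat_lit 3, [], []⟩,
⟨nat_lit 1, dw (nat_lit 0x030501), nat_lit 3, dw (nat_lit 0x03), dw (nat_lit 0x0103)⟩,
⟨nat_lit 1, dw (nat_lit 0x070504), nat_lit 1, dw (nat_lit 0x030705), dw (nat_lit 0x0104040107)⟩,
⟨nat_lit 1, dw (nat_lit 0x030705), nat_lit 1, dw (nat_lit 0x070504), dw (nat_lit 0x0504010705)⟩],
[dw (nat_lit 0x01), dw (nat_lit 0x03)]⟩],
[⟨dw (nat_lit 0x01), (nat_lit 0xbcb22ab1ced69f6d8d928), [dw (nat_lit 0x01), dw (nat_lit 0x03), dw (nat_lit 0x05), dw (nat_lit 0x03), dw (nat_lit 0x07), dw (nat_lit 0x01), dw (nat_lit 0x05), dw (nat_lit 0x01)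
], (.cons (nat_lit 3) [dw (nat_lit 0x040103), dw (nat_lit 0x0204050404)] [dw (nat_lit 0x01), dw (nat_lit 0x03)]
.nil), [dw (nat_lit 0x040103), dw (nat_lit 0x050105)]⟩,
⟨dw (nat_lit 0x010501), (nat_lit 0x1420910001008400242414), [dw (nat_lit 0x01), dw (nat_lit 0x03), dw (nat_lit 0x05), dw (nat_lit 0x03), dw (nat_lit 0x0702), dw (nat_lit 0x01)], (.cons (nat_lit 3) [dw (nat_lit 0x02030501)] [dw (nat_lit 0x01), dw (nat_lit 0x01)]
(.cons (nat_lit 2) [dw (nat_lit 0x05), dw (nat_lit 0x07)] [dw (nat_lit 0x01), dw (nat_lit 0x03)]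
.nil)), [dw (nat_lit 0x03010705), dw (nat_lit 0x01), dw (nat_lit 0x0303030705)]⟩,
⟨dw (nat_lit 0x0105050301), (nat_lit 0x420001000000000), [dw (nat_lit 0x03), dw (nat_lit 0x03)], (.cons (nat_lit 3) [dw (nat_lit 0x01)] [dw (nat_lit 0x01), dw (nat_lit 0x03), dw (nat_lit 0x01), dw (nat_lit 0x05), dw (nat_lit 0x01), dw (nat_lit 0x03), dw (nat_lit 0x01)]
(.cons (nat_lit 2) [dw (nat_lit 0x05), dw (nat_lit 0x060706)] [dw (nat_lit 0x01), dw (nat_lit 0x03)]
.nil)), [dw (nat_lit 0x030504), dw (nat_lit 0x07), dw (nat_lit 0x0705)]⟩]⟩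
noncomputable def ex1 : List Word := [[nat_lit 10]]
noncomputable def ws1 : List Word := List.append ex1 (lev1.gens ws2)
noncomputable def rels1 : List (Word × Word) := List.append (lev1.rels ws2) (memRels (lev1.gens ws2) ex1 [dw (nat_lit 0x07060109060309)])
noncomputable def lev0 : Level := ⟨nat_lit 0,
[⟨[nat_lit 2], [dw (nat_lit 0x07), dw (nat_lit 0x09), dw (nat_lit 0x0a0c)], [dw (nat_lit 0x0b09080b09), dw (nat_lit 0x09), dw (nat_lit 0x0b09)],
[⟨nat_lit 0, [], nat_lit 1, [], []⟩,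
⟨nat_lit 1, [], nat_lit 0, [], []⟩,
⟨nat_lit 2, [], nat_lit 1, dw (nat_lit 0x0101), []⟩,
⟨nat_lit 1, dw (nat_lit 0x01), nat_lit 1, dw (nat_lit 0x01), dw (nat_lit 0x050701070b050b)⟩,
⟨nat_lit 2, dw (nat_lit 0x01), nat_lit 2, dw (nat_lit 0x01), dw (nat_lit 0x05)⟩,
⟨nat_lit 1, dw (nat_lit 0x0101), nat_lit 2, [], []⟩,
⟨nat_lit 1, dw (nat_lit 0x030501), nat_lit 1, dw (nat_lit 0x020503), dw (nat_lit 0x0205030707070b09)⟩],
[dw (nat_lit 0x01), dw (nat_lit 0x0101), dw (nat_lit 0x03), dw (nat_lit 0x05), dw (nat_lit 0x01), dw (nat_lit 0x0101), dw (nat_lit 0x03), dw (nat_lit 0x01)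
]⟩],
[⟨dw (nat_lit 0x01), (nat_lit 0x1febb3af3dedfdf6fcfd3e), [dw (nat_lit 0x01), dw (nat_lit 0x020b), dw (nat_lit 0x03), dw (nat_lit 0x07), dw (nat_lit 0x09), dw (nat_lit 0x0b), dw (nat_lit 0x05), dw (nat_lit 0x01)
, dw (nat_lit 0x01)], (.cons (nat_lit 3) [dw (nat_lit 0x07)] [dw (nat_lit 0x01), dw (nat_lit 0x0204), dw (nat_lit 0x03), dw (nat_lit 0x05), dw (nat_lit 0x01), dw (nat_lit 0x0101), dw (nat_lit 0x03), dw (nat_lit 0x01)
]
(.cons (nat_lit 2) [dw (nat_lit 0x09), dw (nat_lit 0x0c)] [dw (nat_lit 0x01), dw (nat_lit 0x03)]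
.nil)), [dw (nat_lit 0x0b09080b09), dw (nat_lit 0x09), dw (nat_lit 0x0b)]⟩,
⟨dw (nat_lit 0x01030301), (nat_lit 0x144c50c21202090302c0), [dw (nat_lit 0x01), dw (nat_lit 0x07), dw (nat_lit 0x01), dw (nat_lit 0x05), dw (nat_lit 0x01), dw (nat_lit 0x0b)], (.cons (nat_lit 1) [dw (nat_lit 0x080302)] [dw (nat_lit 0x01), dw (nat_lit 0x03), dw (nat_lit 0x01), dw (nat_lit 0x03), dw (nat_lit 0x01), dw (nat_lit 0x03), dw (nat_lit 0x01), dw (nat_lit 0x03)
, dw (nat_lit 0x01), dw (nat_lit 0x03), dw (nat_lit 0x01), dw (nat_lit 0x01)]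
(.cons (nat_lit 3) [dw (nat_lit 0x0709), dw (nat_lit 0x0808090808)] [dw (nat_lit 0x01), dw (nat_lit 0x01), dw (nat_lit 0x03), dw (nat_lit 0x01), dw (nat_lit 0x01)]
.nil)), [dw (nat_lit 0x010901050b09050b09), dw (nat_lit 0x050709050b), dw (nat_lit 0x0b080b09)]⟩]⟩
noncomputable def ex0 : List Word := [[nat_lit 4], [nat_lit 6], [nat_lit 8]]
noncomputable def ws0 : List Word := List.append ex0 (lev0.gens ws1)
noncomputable def rels0 : List (Word × Word) := List.append (lev0.rels ws1) (memRels (lev0.gens ws1) ex0 [dw (nat_lit 0x0404010303), dw (nat_lit 0x040404010b05070a070d0b), dw (nat_lit 0x0d030301030a030b09070d)])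
noncomputable def prim0 : List (List Word) := [[dw (nat_lit 0x01), dw (nat_lit 0x03), dw (nat_lit 0x0303), dw (nat_lit 0x09), dw (nat_lit 0x0409), dw (nat_lit 0x01), dw (nat_lit 0x03), dw (nat_lit 0x09)
, dw (nat_lit 0x07), dw (nat_lit 0x0b), dw (nat_lit 0x01)],
[dw (nat_lit 0x01), dw (nat_lit 0x03), dw (nat_lit 0x09), dw (nat_lit 0x03), dw (nat_lit 0x07), dw (nat_lit 0x03), dw (nat_lit 0x01), dw (nat_lit 0x03)
, dw (nat_lit 0x0b), dw (nat_lit 0x03), dw (nat_lit 0x05)]]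
noncomputable def rels : List (Word × Word) := List.append rels0 (List.append rels1 (List.append rels2 (List.append rels3 ([]))))
noncomputable def defs : List Word := [dw (nat_lit 0x0402040204080209020501), dw (nat_lit 0x0b0b0b0b0b0b0202020b0b020b0b), dw (nat_lit 0x0b0b02020c01010c0c020b), dw (nat_lit 0x0e100d0d100e0e0e0e0f), dw (nat_lit 0x100d100e0f0d100e0f)]
noncomputable def relsD : List (Word × Word) := defRels defs 5
noncomputable def relsO : List (Word × Word) := memRels ws0 (lets 5) [dw (nat_lit 0x0b), dw (nat_lit 0x07), dw (nat_lit 0x01), dw (nat_lit 0x03), dw (nat_lit 0x05)]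
noncomputable def relsS : List (Word × Word) := []
noncomputable def allRels : List (Word × Word) := List.append rels (List.append relsD (List.append relsO relsS))
theorem reach_ok : subs (full 85) (orbRun nets (lets 5) reach (bits (List.map Prod.fst ss))) = true := by decide +kernel
theorem chk3 : lev3.chk 85 nets ws4 1 4 = true := by decide +kernel
theorem chk2 : lev2.chk 85 nets ws3 4 180 = true := by decide +kernel
theorem chk1 : lev1.chk 85 nets ws2 180 11520 = true := by decide +kernel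
theorem primc0 : PM.primChk nets ws1 lev0 lev0.sos prim0 = true := by decide +kernel
theorem chk0 : lev0.chk 85 nets ws1 11520 979200 = true := by decide +kernel
theorem rc0 : relsChk 85 nets 7 (idArr 85 7 7 0) allRels = true := by decide +kernel
section
variable {Γ Ω : Type*} [Group Γ] [MulAction Γ Ω] (M : PM Γ Ω 85 nets)

theorem all_ok (hs : M.Sep 7 (idArr 85 7 7 0)) : Rels M.gen allRels := (M.rels_of_chk hs rc0)
theorem sep [FaithfulSMul Γ Ω] : M.Sep 7 (idArr 85 7 7 0) := M.sep_idArr (by decide)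
theorem all_ok' [FaithfulSMul Γ Ω] : Rels M.gen allRels := all_ok M (sep M)
theorem rels_of_all {gen : ℕ → Γ} (h : Rels gen allRels) : Rels gen rels := Rels.left h
theorem relsD_of_all {gen : ℕ → Γ} (h : Rels gen allRels) : Rels gen relsD := Rels.left (Rels.right h)
theorem relsO_of_all {gen : ℕ → Γ} (h : Rels gen allRels) : Rels gen relsO := Rels.left (Rels.right (Rels.right h))
theorem relsS_of_all {gen : ℕ → Γ} (h : Rels gen allRels) : Rels gen relsS := Rels.right (Rels.right (Rels.right h))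
theorem card4 (_hR : Rels M.gen rels) : Nat.card (sub M.gen ws4) = 1 := M.card_nil
theorem fixw4 (_hR : Rels M.gen rels) : M.FixTriv ws4 [] := M.fixTriv_nil
theorem r3 (hR : Rels M.gen rels) : Rels M.gen rels3 := (Rels.left (Rels.right (Rels.right (Rels.right hR))))
theorem res3 (hR : Rels M.gen rels) : M.LevelRes ws4 lev3 4 := M.level (card4 M hR) chk3 (Rels.left (r3 M hR))
theorem ext3 (hR : Rels M.gen rels) : sub M.gen ws3 = sub M.gen (lev3.gens ws4) := sub_extend (Rels.right (r3 M hR))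
theorem card3 (hR : Rels M.gen rels) : Nat.card (sub M.gen ws3) = 4 := by rw [ext3 M hR]; exact (res3 M hR).card
theorem fix3 (hR : Rels M.gen rels) : M.FixTriv (lev3.gens ws4) [2] := (res3 M hR).fixTriv M (fixw4 M hR)
theorem fixw3 (hR : Rels M.gen rels) : M.FixTriv ws3 [2] := fun g hg => fix3 M hR g (ext3 M hR ▸ hg)
theorem stab3 (hR : Rels M.gen rels) : sub M.gen ws3 ⊓ MulAction.stabilizer Γ (M.dec 2) = sub M.gen ws4 := by rw [ext3 M hR]; exact (res3 M hR).stab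
theorem orb3 (hR : Rels M.gen rels) (y : Ω) : y ∈ M.S lev3.orb ↔ ∃ g ∈ sub M.gen ws3, g • M.dec 2 = y := by rw [ext3 M hR]; exact (res3 M hR).orb y
theorem r2 (hR : Rels M.gen rels) : Rels M.gen rels2 := (Rels.left (Rels.right (Rels.right hR)))
theorem res2 (hR : Rels M.gen rels) : M.LevelRes ws3 lev2 180 := M.level (card3 M hR) chk2 (Rels.left (r2 M hR))
theorem ext2 (hR : Rels M.gen rels) : sub M.gen ws2 = sub M.gen (lev2.gens ws3) := sub_extend (Rels.right (r2 M hR))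
theorem card2 (hR : Rels M.gen rels) : Nat.card (sub M.gen ws2) = 180 := by rw [ext2 M hR]; exact (res2 M hR).card
theorem fix2 (hR : Rels M.gen rels) : M.FixTriv (lev2.gens ws3) [3, 2] := (res2 M hR).fixTriv M (fixw3 M hR)
theorem fixw2 (hR : Rels M.gen rels) : M.FixTriv ws2 [3, 2] := fun g hg => fix2 M hR g (ext2 M hR ▸ hg)
theorem stab2 (hR : Rels M.gen rels) : sub M.gen ws2 ⊓ MulAction.stabilizer Γ (M.dec 3) = sub M.gen ws3 := by rw [ext2 M hR]; exact (res2 M hR).stab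
theorem orb2 (hR : Rels M.gen rels) (y : Ω) : y ∈ M.S lev2.orb ↔ ∃ g ∈ sub M.gen ws2, g • M.dec 3 = y := by rw [ext2 M hR]; exact (res2 M hR).orb y
theorem r1 (hR : Rels M.gen rels) : Rels M.gen rels1 := (Rels.left (Rels.right hR))
theorem res1 (hR : Rels M.gen rels) : M.LevelRes ws2 lev1 11520 := M.level (card2 M hR) chk1 (Rels.left (r1 M hR))
theorem ext1 (hR : Rels M.gen rels) : sub M.gen ws1 = sub M.gen (lev1.gens ws2) := sub_extend (Rels.right (r1 M hR))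
theorem card1 (hR : Rels M.gen rels) : Nat.card (sub M.gen ws1) = 11520 := by rw [ext1 M hR]; exact (res1 M hR).card
theorem fix1 (hR : Rels M.gen rels) : M.FixTriv (lev1.gens ws2) [1, 3, 2] := (res1 M hR).fixTriv M (fixw2 M hR)
theorem fixw1 (hR : Rels M.gen rels) : M.FixTriv ws1 [1, 3, 2] := fun g hg => fix1 M hR g (ext1 M hR ▸ hg)
theorem stab1 (hR : Rels M.gen rels) : sub M.gen ws1 ⊓ MulAction.stabilizer Γ (M.dec 1) = sub M.gen ws2 := by rw [ext1 M hR]; exact (res1 M hR).stab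
theorem orb1 (hR : Rels M.gen rels) (y : Ω) : y ∈ M.S lev1.orb ↔ ∃ g ∈ sub M.gen ws1, g • M.dec 1 = y := by rw [ext1 M hR]; exact (res1 M hR).orb y
theorem r0 (hR : Rels M.gen rels) : Rels M.gen rels0 := (Rels.left hR)
theorem res0 (hR : Rels M.gen rels) : M.LevelRes ws1 lev0 979200 := M.level (card1 M hR) chk0 (Rels.left (r0 M hR))
theorem ext0 (hR : Rels M.gen rels) : sub M.gen ws0 = sub M.gen (lev0.gens ws1) := sub_extend (Rels.right (r0 M hR))
theorem card0 (hR : Rels M.gen rels) : Nat.card (sub M.gen ws0) = 979200 := by rw [ext0 M hR]; exact (res0 M hR).card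
theorem fix0 (hR : Rels M.gen rels) : M.FixTriv (lev0.gens ws1) [0, 1, 3, 2] := (res0 M hR).fixTriv M (fixw1 M hR)
theorem fixw0 (hR : Rels M.gen rels) : M.FixTriv ws0 [0, 1, 3, 2] := fun g hg => fix0 M hR g (ext0 M hR ▸ hg)
theorem stab0 (hR : Rels M.gen rels) : sub M.gen ws0 ⊓ MulAction.stabilizer Γ (M.dec 0) = sub M.gen ws1 := by rw [ext0 M hR]; exact (res0 M hR).stab
theorem orb0 (hR : Rels M.gen rels) (y : Ω) : y ∈ M.S lev0.orb ↔ ∃ g ∈ sub M.gen ws0, g • M.dec 0 = y := by rw [ext0 M hR]; exact (res0 M hR).orb y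
theorem max0 (hR : Rels M.gen rels) (X : Subgroup Γ) (h1 : sub M.gen ws1 ≤ X) (h2 : X ≤ sub M.gen ws0) : X = sub M.gen ws1 ∨ X = sub M.gen ws0 := by rw [ext0 M hR] at h2 ⊢; exact (res0 M hR).max M primc0 X h1 h2
theorem orig_eq {gen : ℕ → Γ} (h : Rels gen allRels) : sub gen (lets 5) = sub gen ws0 :=
  sub_lets_eq_of_rels (ds := defs) (by decide +kernel) (relsD_of_all h) (by decide +kernel) (relsO_of_all h)
theorem gen_mem {gen : ℕ → Γ} (h : Rels gen allRels) {X : Subgroup Γ} (h0 : ∀ l < 5, gen l ∈ X) : sub gen ws0 ≤ X :=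
  sub_le_of_wsIn (lo := 0) (gen_mem_of_defRels (ds := defs) (fun l _ hl => h0 l hl) (by decide +kernel) (relsD_of_all h)) (by decide +kernel)

end

/-- the permutation group -/
noncomputable abbrev P := permPM 85 nets (by decide) (by decide) nets_ok
theorem allP : Rels P.gen allRels := all_ok' P
/-- machines of this type -/
abbrev St (X : Type*) [Group X] := Std X 85 nets ws0 979200 allRels
/-- the presentation on the strong generators -/
theorem hom {X : Type*} [Group X] (S : St X) {Δ : Type*} [Group Δ] (y : ℕ → Δ) (hy : Rels y rels) :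
    ∃ φ : X →* Δ, φ.range = sub y ws0 ∧ ∀ w ∈ ws0, φ (H14.ev S.M.gen w) = H14.ev y w :=
  S.hom_ws y (card0 _ ((rels_of_all S.rels).prod hy))
/-- the presentation on all letters -/
theorem hom' {X : Type*} [Group X] (S : St X) {Δ : Type*} [Group Δ] (y : ℕ → Δ) (hy : Rels y allRels) :
    ∃ φ : X →* Δ, φ.range = sub y (lets 5) ∧ ∀ l < 10, φ (S.M.gen l) = y l :=
  S.hom_all y (card0 _ (rels_of_all (S.rels.prod hy))) (orig_eq (S.rels.prod hy)) (orig_eq hy) (ds := defs)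
    (by decide +kernel) (relsD_of_all (S.rels.prod hy)) (by decide +kernel)
/-- the matrices of the first letters (and their inverses) -/
def As : List (ℕ × ℕ) :=
[(nat_lit 0x662b043a, nat_lit 0x662b043a),
  (nat_lit 0xb410a8ad, nat_lit 0xb410a8ad),
  (nat_lit 0xf410dc6d, nat_lit 0xf410dc6d),
  (nat_lit 0xcdd64f01, nat_lit 0xcdd64f01),
  (nat_lit 0x40e1a7a2, nat_lit 0x40e1a7a2)]
/-- the vectors -/
def V : ℕ := nat_lit 0x476b6e6a49561f6f4355511e751710746d7113066c19731c701a4a4e5b01114f4b4c5c521518546750574d127e141d48055f7b6107697d0476626477537f1b78685d447263655e16665979415a60427c7a58464540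
theorem eqv_ok : c4.eqvM (2 + 2) 85 [1, 2, 3] V As nets 5 = true := by decide +kernel
theorem sep_ok : c4.sepM (2 + 2) 85 [1, 2, 3] V (ss.map Prod.fst) = true := by decide +kernel
theorem ctrP : ∀ z ∈ sub P.gen (lets 5), (∀ x ∈ sub P.gen (lets 5), x * z = z * x) → z = 1 :=
  orig_eq allP ▸ center_triv (res0 P (rels_of_all allP)) (ext0 P (rels_of_all allP)) (card1 P (rels_of_all allP))
    (by decide) primc0 (fix0 P (rels_of_all allP)) (by decide +kernel)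
theorem core {F : Type*} [Field F] {a : Ar F} (ha : Ok a c4 2) {ι : Type} [Fintype ι] [DecidableEq ι]
    {e : ι ≃ Fin (2 + 2)} {T X : Type*} [Group T] [Group X] {ρ : T →* Matrix ι ι F} (h : Mem a e ρ As 5)
    (q : T →* X) (hq : ∀ g, q g = 1 → g = 1 ∨ g ∈ Subgroup.center T ∧ ∀ z ∈ sub P.gen (lets 5), (∀ x ∈ sub P.gen (lets 5), x * z = z * x) → z = 1)
    (hB : Bd (⊤ : Subgroup X) 979200) : ∃ S : St X, Spec S a e ρ q As 5 [1, 2, 3] V (ss.map Prod.fst) :=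
  h.std ha (by decide +kernel) eqv_ok reach_ok sep_ok q hq (ds := defs) (by decide +kernel) (by decide +kernel)
    (relsD_of_all allP) hB (orig_eq allP) (card0 P (rels_of_all allP)) allP
theorem std_spec {F : Type*} [Field F] [Fintype F] (hF : Fintype.card F = 4) {a : Ar F} (ha : Ok a c4 2) :
    ∃ S : St (Cfsg.PSp 2 F), Spec S a finSumFinEquiv (spM 2 F) (QuotientGroup.mk' _) As 5 [1, 2, 3] V (ss.map Prod.fst) :=
  core ha (mem_sp ha.1 (x := 1) (ha.neg_one (by decide +kernel)) (L := As) (by decide +kernel)) _ (hq_ctr ctrP) (bd_psp hF (by decide +kernel))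
theorem std {F : Type*} [Field F] [Fintype F] (hF : Fintype.card F = 4) : Nonempty (St (Cfsg.PSp 2 F)) :=
  let ⟨_, ha⟩ := ar_4 (F := F) hF
  let ⟨S, _⟩ := std_spec hF ha
  ⟨S⟩
theorem stdSp_spec {F : Type*} [Field F] [Fintype F] (hF : Fintype.card F = 4) {a : Ar F} (ha : Ok a c4 2) :
    ∃ S : St (Matrix.symplecticGroup (Fin 2) F), Spec S a finSumFinEquiv (spM 2 F) (MonoidHom.id _) As 5 [1, 2, 3] V (ss.map Prod.fst) :=
  core ha (mem_sp ha.1 (x := 1) (ha.neg_one (by decide +kernel)) (L := As) (by decide +kernel)) _ hq_id (bd_sp hF (by decide +kernel))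
theorem stdSp {F : Type*} [Field F] [Fintype F] (hF : Fintype.card F = 4) : Nonempty (St (Matrix.symplecticGroup (Fin 2) F)) :=
  let ⟨_, ha⟩ := ar_4 (F := F) hF
  let ⟨S, _⟩ := stdSp_spec hF ha
  ⟨S⟩

end H15.StdS44
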