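import Cfsg.Agent.H14.Dw2
import Cfsg.Agent.H15.Std3

/-! Standard machine: `SL 3` over the field with 4 elements on the vectors, generated by elementary transvections
Generated certificate (tools14/pkgen, tools15/std.py) for the permutation group StdSL34 of degree 63, order 60480, base 0 1 3. -/
set_option autoImplicit false
set_option maxRecDepth 100000

namespace H15.StdSL34
open H14

noncomputable def n0 : Net := (.cons (nat_lit 1) (nat_lit 0x101400114040454)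
(.cons (nat_lit 2) (nat_lit 0x2101000102010)
(.cons (nat_lit 4) (nat_lit 0x200080e05010000)
(.cons (nat_lit 8) (nat_lit 0x28000c00c00000)
(.cons (nat_lit 16) (nat_lit 0x6a100008000)
(.cons (nat_lit 32) (nat_lit 0xea58000)
(.cons (nat_lit 16) (nat_lit 0x2a250000d000)
(.cons (nat_lit 8) (nat_lit 0x2e005800360000)
(.cons (nat_lit 4) (nat_lit 0x20808030f060204)
(.cons (nat_lit 2) (nat_lit 0x202020303213132)
(.cons (nat_lit 1) (nat_lit 0x101400114040454)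
.nil)))))))))))
theorem n0_ok : Net.ok 63 n0 = true := by decide +kernel
noncomputable def n1 : Net := (.cons (nat_lit 1) (nat_lit 0x1051100114401400)
(.cons (nat_lit 2) (nat_lit 0x1230020200000200)
(.cons (nat_lit 4) (nat_lit 0x10b080903080200)
(.cons (nat_lit 8) (nat_lit 0x5c005400c40000)
(.cons (nat_lit 16) (nat_lit 0x30e400008000)
(.cons (nat_lit 32) (nat_lit 0x38e48000)
(.cons (nat_lit 16) (nat_lit 0x7e7e0000c400)
(.cons (nat_lit 8) (nat_lit 0x7d00d400450020)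
(.cons (nat_lit 4) (nat_lit 0x50304090f080308)
(.cons (nat_lit 2) (nat_lit 0x1230020200000200)
(.cons (nat_lit 1) (nat_lit 0x1051100114401400)
.nil)))))))))))
theorem n1_ok : Net.ok 63 n1 = true := by decide +kernel
noncomputable def n2 : Net := (.cons (nat_lit 1) (nat_lit 0x1505044401004100)
(.cons (nat_lit 2) (nat_lit 0x131132111003000)
(.cons (nat_lit 4) (nat_lit 0x6050e0000010100)
(.cons (nat_lit 8) (nat_lit 0x18000a00890000)
(.cons (nat_lit 16) (nat_lit 0x662c00000000)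
(.cons (nat_lit 32) (nat_lit 0x666c0000)
(.cons (nat_lit 16) (nat_lit 0x3eec00008900)
(.cons (nat_lit 8) (nat_lit 0x5b004b00d90050)
(.cons (nat_lit 4) (nat_lit 0x6050e0000010308)
(.cons (nat_lit 2) (nat_lit 0x131132111003000)
(.cons (nat_lit 1) (nat_lit 0x1505044401004101)
.nil)))))))))))
theorem n2_ok : Net.ok 63 n2 = true := by decide +kernel
noncomputable def n3 : Net := (.cons (nat_lit 1) (nat_lit 0x1454044004144510)
(.cons (nat_lit 2) (nat_lit 0x210110322010110)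
(.cons (nat_lit 4) (nat_lit 0x40d0c030e010300)
(.cons (nat_lit 8) (nat_lit 0x15000500850080)
(.cons (nat_lit 16) (nat_lit 0x207500008000)
(.cons (nat_lit 32) (nat_lit 0x30758000)
(.cons (nat_lit 16) (nat_lit 0x27f50000c580)
(.cons (nat_lit 8) (nat_lit 0x55000d008700b0)
(.cons (nat_lit 4) (nat_lit 0x50d0c030e010304)
(.cons (nat_lit 2) (nat_lit 0x210110322010112)
(.cons (nat_lit 1) (nat_lit 0x1454044004144510)
.nil)))))))))))
theorem n3_ok : Net.ok 63 n3 = true := by decide +kernel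
noncomputable def n4 : Net := (.cons (nat_lit 1) (nat_lit 0x405000010010510)
(.cons (nat_lit 2) (nat_lit 0x22123020110300)
(.cons (nat_lit 4) (nat_lit 0x502080a04010100)
(.cons (nat_lit 8) (nat_lit 0x18002a00050000)
(.cons (nat_lit 16) (nat_lit 0x26100000000)
(.cons (nat_lit 32) (nat_lit 0xa650000)
(.cons (nat_lit 16) (nat_lit 0x42fb0000c500)
(.cons (nat_lit 8) (nat_lit 0x38008c00270018)
(.cons (nat_lit 4) (nat_lit 0x5020a08060b0106)
(.cons (nat_lit 2) (nat_lit 0x2103220110300)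
(.cons (nat_lit 1) (nat_lit 0x405000010010510)
.nil)))))))))))
theorem n4_ok : Net.ok 63 n4 = true := by decide +kernel
noncomputable def n5 : Net := (.cons (nat_lit 1) (nat_lit 0x4550500005400)
(.cons (nat_lit 2) (nat_lit 0x1100110010000000)
(.cons (nat_lit 4) (nat_lit 0x40a010f08080000)
(.cons (nat_lit 8) (nat_lit 0x31009e00280000)
(.cons (nat_lit 16) (nat_lit 0x220c00008000)
(.cons (nat_lit 32) (nat_lit 0x322d9020)
(.cons (nat_lit 16) (nat_lit 0x63dc00008d80)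
(.cons (nat_lit 8) (nat_lit 0x7f00de00280088)
(.cons (nat_lit 4) (nat_lit 0x40a010f08000808)
(.cons (nat_lit 2) (nat_lit 0x1100110010000000)
(.cons (nat_lit 1) (nat_lit 0x4554500005400)
.nil)))))))))))
theorem n5_ok : Net.ok 63 n5 = true := by decide +kernel
noncomputable def n6 : Net := (.cons (nat_lit 1) (nat_lit 0x40404045400400)
(.cons (nat_lit 2) (nat_lit 0x1201321020020200)
(.cons (nat_lit 4) (nat_lit 0x1080b0402020000)
(.cons (nat_lit 8) (nat_lit 0x1000c3008a0000)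
(.cons (nat_lit 16) (nat_lit 0x440300000000)
(.cons (nat_lit 32) (nat_lit 0x47830380)
(.cons (nat_lit 16) (nat_lit 0x4c5300002028)
(.cons (nat_lit 8) (nat_lit 0x1400e300aa0020)
(.cons (nat_lit 4) (nat_lit 0x1090b0c02060400)
(.cons (nat_lit 2) (nat_lit 0x1221321020020200)
(.cons (nat_lit 1) (nat_lit 0x1040404045400400)
.nil)))))))))))
theorem n6_ok : Net.ok 63 n6 = true := by decide +kernel
noncomputable def n7 : Net := (.cons (nat_lit 1) (nat_lit 0x145504005440400)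
(.cons (nat_lit 2) (nat_lit 0x302332301020220)
(.cons (nat_lit 4) (nat_lit 0xe0c0e00000200)
(.cons (nat_lit 8) (nat_lit 0x41004000820000)
(.cons (nat_lit 16) (nat_lit 0x242000000000)
(.cons (nat_lit 32) (nat_lit 0x64a04000)
(.cons (nat_lit 16) (nat_lit 0x2e2f00000200)
(.cons (nat_lit 8) (nat_lit 0x7300c200830020)
(.cons (nat_lit 4) (nat_lit 0x40e0d0e00040208)
(.cons (nat_lit 2) (nat_lit 0x302332303020320)
(.cons (nat_lit 1) (nat_lit 0x145504005440400)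
.nil)))))))))))
theorem n7_ok : Net.ok 63 n7 = true := by decide +kernel
noncomputable def nets : List Net := [n0, n1, n2, n3, n4, n5, n6, n7]
theorem nets_ok : netsOk 63 nets = true := List.all_eq_true.2 (fa_cons n0_ok (fa_cons n1_ok (fa_cons n2_ok (fa_cons n3_ok (fa_cons n4_ok (fa_cons n5_ok (fa_cons n6_ok (fa_cons n7_ok (fa_nil)))))))))
noncomputable def ss : List (Nat × Nat) := [(0, 0)]
noncomputable def ws3 : List Word := []
noncomputable def reach : List Word := [dw (nat_lit 0x05), dw (nat_lit 0x01), dw (nat_lit 0x07), dw (nat_lit 0x09), dw (nat_lit 0x05), dw (nat_lit 0x03), dw (nat_lit 0x01), dw (nat_lit 0x07)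
, dw (nat_lit 0x03), dw (nat_lit 0x09), dw (nat_lit 0x03), dw (nat_lit 0x05)]
noncomputable def lev2 : Level := ⟨nat_lit 3,
[⟨[nat_lit 2], [], [],
[⟨nat_lit 0, [], nat_lit 1, [], []⟩,
⟨nat_lit 1, [], nat_lit 0, [], []⟩,
⟨nat_lit 2, [], nat_lit 5, [], []⟩,
⟨nat_lit 3, [], nat_lit 6, [], []⟩,
⟨nat_lit 4, [], nat_lit 7, [], []⟩,
⟨nat_lit 5, [], nat_lit 2, [], []⟩,
⟨nat_lit 6, [], nat_lit 3, [], []⟩,
⟨nat_lit 7, [], nat_lit 4, [], []⟩,
⟨nat_lit 8, [], nat_lit 11, [], []⟩,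
⟨nat_lit 9, [], nat_lit 12, [], []⟩,
⟨nat_lit 10, [], nat_lit 13, [], []⟩,
⟨nat_lit 11, [], nat_lit 8, [], []⟩,
⟨nat_lit 12, [], nat_lit 9, [], []⟩,
⟨nat_lit 13, [], nat_lit 10, [], []⟩,
⟨nat_lit 14, [], nat_lit 15, [], []⟩,
⟨nat_lit 15, [], nat_lit 14, [], []⟩],
[]⟩,
⟨[nat_lit 10], [], [],
[⟨nat_lit 0, [], nat_lit 2, [], []⟩,
⟨nat_lit 1, [], nat_lit 5, [], []⟩,
⟨nat_lit 2, [], nat_lit 0, [], []⟩,
⟨nat_lit 3, [], nat_lit 8, [], []⟩,
⟨nat_lit 4, [], nat_lit 9, [], []⟩,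
⟨nat_lit 5, [], nat_lit 1, [], []⟩,
⟨nat_lit 6, [], nat_lit 11, [], []⟩,
⟨nat_lit 7, [], nat_lit 12, [], []⟩,
⟨nat_lit 8, [], nat_lit 3, [], []⟩,
⟨nat_lit 9, [], nat_lit 4, [], []⟩,
⟨nat_lit 10, [], nat_lit 14, [], []⟩,
⟨nat_lit 11, [], nat_lit 6, [], []⟩,
⟨nat_lit 12, [], nat_lit 7, [], []⟩,
⟨nat_lit 13, [], nat_lit 15, [], []⟩,
⟨nat_lit 14, [], nat_lit 10, [], []⟩,
⟨nat_lit 15, [], nat_lit 13, [], []⟩],
[]⟩,
⟨[nat_lit 12], [], [],
[⟨nat_lit 0, [], nat_lit 3, [], []⟩,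
⟨nat_lit 1, [], nat_lit 6, [], []⟩,
⟨nat_lit 2, [], nat_lit 8, [], []⟩,
⟨nat_lit 3, [], nat_lit 0, [], []⟩,
⟨nat_lit 4, [], nat_lit 10, [], []⟩,
⟨nat_lit 5, [], nat_lit 11, [], []⟩,
⟨nat_lit 6, [], nat_lit 1, [], []⟩,
⟨nat_lit 7, [], nat_lit 13, [], []⟩,
⟨nat_lit 8, [], nat_lit 2, [], []⟩,
⟨nat_lit 9, [], nat_lit 14, [], []⟩,
⟨nat_lit 10, [], nat_lit 4, [], []⟩,
⟨nat_lit 11, [], nat_lit 5, [], []⟩,
⟨nat_lit 12, [], nat_lit 15, [], []⟩,
⟨nat_lit 13, [], nat_lit 7, [], []⟩,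
⟨nat_lit 14, [], nat_lit 9, [], []⟩,
⟨nat_lit 15, [], nat_lit 12, [], []⟩],
[]⟩,
⟨[nat_lit 14], [], [],
[⟨nat_lit 0, [], nat_lit 4, [], []⟩,
⟨nat_lit 1, [], nat_lit 7, [], []⟩,
⟨nat_lit 2, [], nat_lit 9, [], []⟩,
⟨nat_lit 3, [], nat_lit 10, [], []⟩,
⟨nat_lit 4, [], nat_lit 0, [], []⟩,
⟨nat_lit 5, [], nat_lit 12, [], []⟩,
⟨nat_lit 6, [], nat_lit 13, [], []⟩,
⟨nat_lit 7, [], nat_lit 1, [], []⟩,
⟨nat_lit 8, [], nat_lit 14, [], []⟩,
⟨nat_lit 9, [], nat_lit 2, [], []⟩,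
⟨nat_lit 10, [], nat_lit 3, [], []⟩,
⟨nat_lit 11, [], nat_lit 15, [], []⟩,
⟨nat_lit 12, [], nat_lit 5, [], []⟩,
⟨nat_lit 13, [], nat_lit 6, [], []⟩,
⟨nat_lit 14, [], nat_lit 8, [], []⟩,
⟨nat_lit 15, [], nat_lit 11, [], []⟩],
[]⟩],
[⟨dw (nat_lit 0x01), (nat_lit 0x80), [], .nil, []⟩,
⟨dw (nat_lit 0x03), (nat_lit 0x4000), [], .nil, []⟩,
⟨dw (nat_lit 0x05), (nat_lit 0x4000000), [], .nil, []⟩,
⟨dw (nat_lit 0x07), (nat_lit 0x20), [], .nil, []⟩,
⟨dw (nat_lit 0x0301), (nat_lit 0x800000), [], .nil, []⟩,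
⟨dw (nat_lit 0x0501), (nat_lit 0x20000000000), [], .nil, []⟩,
⟨dw (nat_lit 0x0701), (nat_lit 0x400), [], .nil, []⟩,
⟨dw (nat_lit 0x0503), (nat_lit 0x800), [], .nil, []⟩,
⟨dw (nat_lit 0x0703), (nat_lit 0x100000000), [], .nil, []⟩,
⟨dw (nat_lit 0x0705), (nat_lit 0x1000000), [], .nil, []⟩,
⟨dw (nat_lit 0x050301), (nat_lit 0x40000), [], .nil, []⟩,
⟨dw (nat_lit 0x070301), (nat_lit 0x80000), [], .nil, []⟩,
⟨dw (nat_lit 0x070501), (nat_lit 0x200000000), [], .nil, []⟩,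
⟨dw (nat_lit 0x070503), (nat_lit 0x100), [], .nil, []⟩,
⟨dw (nat_lit 0x07050301), (nat_lit 0x2000), [], .nil, []⟩]⟩
noncomputable def ex2 : List Word := []
noncomputable def ws2 : List Word := List.append ex2 (lev2.gens ws3)
noncomputable def rels2 : List (Word × Word) := List.append (lev2.rels ws3) (memRels (lev2.gens ws3) ex2 [])
noncomputable def lev1 : Level := ⟨nat_lit 1,
[⟨[nat_lit 6], [], [],
[⟨nat_lit 0, [], nat_lit 1, [], []⟩,
⟨nat_lit 1, [], nat_lit 0, [], []⟩,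
⟨nat_lit 2, [], nat_lit 1, dw (nat_lit 0x03), []⟩,
⟨nat_lit 3, [], nat_lit 1, dw (nat_lit 0x07), []⟩,
⟨nat_lit 4, [], nat_lit 1, dw (nat_lit 0x0301), []⟩,
⟨nat_lit 5, [], nat_lit 1, dw (nat_lit 0x0503), []⟩,
⟨nat_lit 6, [], nat_lit 1, dw (nat_lit 0x070503), []⟩,
⟨nat_lit 7, [], nat_lit 4, dw (nat_lit 0x03), []⟩,
⟨nat_lit 8, [], nat_lit 4, dw (nat_lit 0x05), []⟩,
⟨nat_lit 9, [], nat_lit 4, dw (nat_lit 0x0705), dw (nat_lit 0x070503)⟩,
⟨nat_lit 10, [], nat_lit 4, dw (nat_lit 0x0703), dw (nat_lit 0x070503)⟩,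
⟨nat_lit 11, [], nat_lit 2, dw (nat_lit 0x0301), []⟩,
⟨nat_lit 12, [], nat_lit 2, dw (nat_lit 0x0501), []⟩,
⟨nat_lit 13, [], nat_lit 2, dw (nat_lit 0x070301), dw (nat_lit 0x07)⟩,
⟨nat_lit 14, [], nat_lit 2, dw (nat_lit 0x070501), dw (nat_lit 0x07)⟩,
⟨nat_lit 1, dw (nat_lit 0x01), nat_lit 1, dw (nat_lit 0x01), dw (nat_lit 0x01)⟩,
⟨nat_lit 1, dw (nat_lit 0x03), nat_lit 2, [], []⟩,
⟨nat_lit 1, dw (nat_lit 0x05), nat_lit 2, dw (nat_lit 0x07), dw (nat_lit 0x07)⟩,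
⟨nat_lit 1, dw (nat_lit 0x07), nat_lit 3, [], []⟩,
⟨nat_lit 2, dw (nat_lit 0x01), nat_lit 4, dw (nat_lit 0x01), []⟩,
⟨nat_lit 2, dw (nat_lit 0x03), nat_lit 2, dw (nat_lit 0x03), dw (nat_lit 0x03)⟩,
⟨nat_lit 2, dw (nat_lit 0x05), nat_lit 2, dw (nat_lit 0x05), dw (nat_lit 0x0703)⟩,
⟨nat_lit 2, dw (nat_lit 0x07), nat_lit 1, dw (nat_lit 0x05), dw (nat_lit 0x07)⟩,
⟨nat_lit 4, dw (nat_lit 0x01), nat_lit 2, dw (nat_lit 0x01), []⟩,
⟨nat_lit 4, dw (nat_lit 0x03), nat_lit 7, [], []⟩,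
⟨nat_lit 4, dw (nat_lit 0x05), nat_lit 8, [], []⟩,
⟨nat_lit 4, dw (nat_lit 0x07), nat_lit 1, dw (nat_lit 0x070501), dw (nat_lit 0x07)⟩,
⟨nat_lit 1, dw (nat_lit 0x0301), nat_lit 4, [], []⟩,
⟨nat_lit 1, dw (nat_lit 0x0501), nat_lit 4, dw (nat_lit 0x070503), dw (nat_lit 0x070503)⟩,
⟨nat_lit 1, dw (nat_lit 0x0701), nat_lit 1, dw (nat_lit 0x0701), dw (nat_lit 0x0701)⟩,
⟨nat_lit 1, dw (nat_lit 0x0503), nat_lit 5, [], []⟩,
⟨nat_lit 1, dw (nat_lit 0x0703), nat_lit 2, dw (nat_lit 0x070503), dw (nat_lit 0x070503)⟩,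
⟨nat_lit 1, dw (nat_lit 0x0705), nat_lit 2, dw (nat_lit 0x0503), dw (nat_lit 0x0503)⟩,
⟨nat_lit 2, dw (nat_lit 0x0301), nat_lit 11, [], []⟩,
⟨nat_lit 2, dw (nat_lit 0x0501), nat_lit 12, [], []⟩,
⟨nat_lit 2, dw (nat_lit 0x0701), nat_lit 4, dw (nat_lit 0x07050301), dw (nat_lit 0x0503)⟩,
⟨nat_lit 2, dw (nat_lit 0x0503), nat_lit 1, dw (nat_lit 0x0705), dw (nat_lit 0x0503)⟩,
⟨nat_lit 2, dw (nat_lit 0x0703), nat_lit 2, dw (nat_lit 0x0703), dw (nat_lit 0x0705)⟩,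
⟨nat_lit 2, dw (nat_lit 0x0705), nat_lit 2, dw (nat_lit 0x0705), dw (nat_lit 0x05)⟩,
⟨nat_lit 4, dw (nat_lit 0x0301), nat_lit 4, dw (nat_lit 0x0301), dw (nat_lit 0x0301)⟩,
⟨nat_lit 4, dw (nat_lit 0x0501), nat_lit 4, dw (nat_lit 0x0501), dw (nat_lit 0x070501)⟩,
⟨nat_lit 4, dw (nat_lit 0x0701), nat_lit 2, dw (nat_lit 0x050301), dw (nat_lit 0x070503)⟩,
⟨nat_lit 4, dw (nat_lit 0x0503), nat_lit 1, dw (nat_lit 0x070301), dw (nat_lit 0x0503)⟩,
⟨nat_lit 4, dw (nat_lit 0x0703), nat_lit 10, [], dw (nat_lit 0x070503)⟩,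
⟨nat_lit 4, dw (nat_lit 0x0705), nat_lit 9, [], dw (nat_lit 0x070503)⟩,
⟨nat_lit 1, dw (nat_lit 0x050301), nat_lit 1, dw (nat_lit 0x050301), dw (nat_lit 0x050301)⟩,
⟨nat_lit 1, dw (nat_lit 0x070301), nat_lit 4, dw (nat_lit 0x0503), dw (nat_lit 0x0503)⟩,
⟨nat_lit 1, dw (nat_lit 0x070501), nat_lit 4, dw (nat_lit 0x07), dw (nat_lit 0x07)⟩,
⟨nat_lit 1, dw (nat_lit 0x070503), nat_lit 6, [], []⟩,
⟨nat_lit 2, dw (nat_lit 0x050301), nat_lit 4, dw (nat_lit 0x0701), dw (nat_lit 0x070503)⟩,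
⟨nat_lit 2, dw (nat_lit 0x070301), nat_lit 13, [], dw (nat_lit 0x07)⟩,
⟨nat_lit 2, dw (nat_lit 0x070501), nat_lit 14, [], dw (nat_lit 0x07)⟩,
⟨nat_lit 2, dw (nat_lit 0x070503), nat_lit 1, dw (nat_lit 0x0703), dw (nat_lit 0x070503)⟩,
⟨nat_lit 4, dw (nat_lit 0x050301), nat_lit 2, dw (nat_lit 0x07050301), dw (nat_lit 0x07)⟩,
⟨nat_lit 4, dw (nat_lit 0x070301), nat_lit 4, dw (nat_lit 0x070301), dw (nat_lit 0x0501)⟩,
⟨nat_lit 4, dw (nat_lit 0x070501), nat_lit 4, dw (nat_lit 0x070501), dw (nat_lit 0x070301)⟩,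
⟨nat_lit 4, dw (nat_lit 0x070503), nat_lit 1, dw (nat_lit 0x0501), dw (nat_lit 0x070503)⟩,
⟨nat_lit 1, dw (nat_lit 0x07050301), nat_lit 1, dw (nat_lit 0x07050301), dw (nat_lit 0x07050301)⟩,
⟨nat_lit 2, dw (nat_lit 0x07050301), nat_lit 4, dw (nat_lit 0x050301), dw (nat_lit 0x07)⟩,
⟨nat_lit 4, dw (nat_lit 0x07050301), nat_lit 2, dw (nat_lit 0x0701), dw (nat_lit 0x0503)⟩],
[]⟩],
[⟨dw (nat_lit 0x01), (nat_lit 0x203058c6da8), [dw (nat_lit 0x01), dw (nat_lit 0x03), dw (nat_lit 0x05), dw (nat_lit 0x07)], .nil, []⟩,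
⟨dw (nat_lit 0x010501), (nat_lit 0x4be038e802200000), [dw (nat_lit 0x01), dw (nat_lit 0x03), dw (nat_lit 0x05), dw (nat_lit 0x07)], .nil, []⟩,
⟨dw (nat_lit 0x010901), (nat_lit 0x4), [], (.cons (nat_lit 3) [dw (nat_lit 0x01), dw (nat_lit 0x0203), dw (nat_lit 0x05), dw (nat_lit 0x070303)] [dw (nat_lit 0x01), dw (nat_lit 0x05), dw (nat_lit 0x03), dw (nat_lit 0x07)]
.nil), [dw (nat_lit 0x0701), dw (nat_lit 0x070501), dw (nat_lit 0x03), dw (nat_lit 0x07)]⟩,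
⟨dw (nat_lit 0x01050301), (nat_lit 0x341dc404e8010000), [dw (nat_lit 0x01), dw (nat_lit 0x03), dw (nat_lit 0x05), dw (nat_lit 0x07)], .nil, []⟩,
⟨dw (nat_lit 0x01070501), (nat_lit 0x40), [], (.cons (nat_lit 3) [dw (nat_lit 0x01), dw (nat_lit 0x05), dw (nat_lit 0x04), dw (nat_lit 0x0508)] [dw (nat_lit 0x01), dw (nat_lit 0x03), dw (nat_lit 0x05), dw (nat_lit 0x07)]
.nil), [dw (nat_lit 0x050301), dw (nat_lit 0x0703), dw (nat_lit 0x0705), dw (nat_lit 0x03)]⟩,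
⟨dw (nat_lit 0x0109070501), (nat_lit 0x10), [], (.cons (nat_lit 3) [dw (nat_lit 0x01), dw (nat_lit 0x05), dw (nat_lit 0x07), dw (nat_lit 0x0804)] [dw (nat_lit 0x01), dw (nat_lit 0x03), dw (nat_lit 0x05), dw (nat_lit 0x07)]
.nil), [dw (nat_lit 0x07050301), dw (nat_lit 0x0705), dw (nat_lit 0x07), dw (nat_lit 0x03)]⟩,
⟨dw (nat_lit 0x010501050301), (nat_lit 0x20000), [], (.cons (nat_lit 3) [dw (nat_lit 0x01), dw (nat_lit 0x07), dw (nat_lit 0x03), dw (nat_lit 0x0502)] [dw (nat_lit 0x01), dw (nat_lit 0x03), dw (nat_lit 0x05), dw (nat_lit 0x07)]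
.nil), [dw (nat_lit 0x0301), dw (nat_lit 0x0503), dw (nat_lit 0x01), dw (nat_lit 0x0705)]⟩,
⟨dw (nat_lit 0x010701050301), (nat_lit 0x8000), [], (.cons (nat_lit 3) [dw (nat_lit 0x01), dw (nat_lit 0x0405), dw (nat_lit 0x07), dw (nat_lit 0x06)] [dw (nat_lit 0x01), dw (nat_lit 0x05), dw (nat_lit 0x07), dw (nat_lit 0x03)]
.nil), [dw (nat_lit 0x070501), dw (nat_lit 0x070503), dw (nat_lit 0x0503), dw (nat_lit 0x050301)]⟩,
⟨dw (nat_lit 0x010501070301), (nat_lit 0x200), [], (.cons (nat_lit 3) [dw (nat_lit 0x01), dw (nat_lit 0x010105), dw (nat_lit 0x03), dw (nat_lit 0x060207)] [dw (nat_lit 0x01), dw (nat_lit 0x05), dw (nat_lit 0x03), dw (nat_lit 0x07)]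
.nil), [dw (nat_lit 0x070301), dw (nat_lit 0x0701), dw (nat_lit 0x050301), dw (nat_lit 0x05)]⟩,
⟨dw (nat_lit 0x010701070301), (nat_lit 0x10000000), [], (.cons (nat_lit 3) [dw (nat_lit 0x01), dw (nat_lit 0x05), dw (nat_lit 0x0407), dw (nat_lit 0x04)] [dw (nat_lit 0x01), dw (nat_lit 0x03), dw (nat_lit 0x07), dw (nat_lit 0x05)]
.nil), [dw (nat_lit 0x0501), dw (nat_lit 0x01), dw (nat_lit 0x0701), dw (nat_lit 0x07050301)]⟩,
⟨dw (nat_lit 0x010503010501), (nat_lit 0x1000), [], (.cons (nat_lit 3) [dw (nat_lit 0x01), dw (nat_lit 0x07), dw (nat_lit 0x0607), dw (nat_lit 0x03)] [dw (nat_lit 0x01), dw (nat_lit 0x03), dw (nat_lit 0x07), dw (nat_lit 0x05)]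
.nil), [dw (nat_lit 0x03), dw (nat_lit 0x070503), dw (nat_lit 0x0501), dw (nat_lit 0x0301)]⟩,
⟨dw (nat_lit 0x010703010501), (nat_lit 0x1000000000), [], (.cons (nat_lit 3) [dw (nat_lit 0x01), dw (nat_lit 0x07), dw (nat_lit 0x06), dw (nat_lit 0x03)] [dw (nat_lit 0x01), dw (nat_lit 0x03), dw (nat_lit 0x05), dw (nat_lit 0x07)]
.nil), [dw (nat_lit 0x0703), dw (nat_lit 0x070503), dw (nat_lit 0x070501), dw (nat_lit 0x0501)]⟩,
⟨dw (nat_lit 0x010503010701), (nat_lit 0x100000), [], (.cons (nat_lit 3) [dw (nat_lit 0x01), dw (nat_lit 0x03050407), dw (nat_lit 0x04), dw (nat_lit 0x07)] [dw (nat_lit 0x01), dw (nat_lit 0x05), dw (nat_lit 0x07), dw (nat_lit 0x03)]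
.nil), [dw (nat_lit 0x0705), dw (nat_lit 0x070501), dw (nat_lit 0x070301), dw (nat_lit 0x070503)]⟩,
⟨dw (nat_lit 0x010703010701), (nat_lit 0x400000), [], (.cons (nat_lit 3) [dw (nat_lit 0x01), dw (nat_lit 0x08), dw (nat_lit 0x05), dw (nat_lit 0x0308)] [dw (nat_lit 0x01), dw (nat_lit 0x03), dw (nat_lit 0x05), dw (nat_lit 0x07)]
.nil), [dw (nat_lit 0x05), dw (nat_lit 0x070503), dw (nat_lit 0x0501), dw (nat_lit 0x0301)]⟩]⟩
noncomputable def ex1 : List Word := [[nat_lit 0], [nat_lit 8]]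
noncomputable def ws1 : List Word := List.append ex1 (lev1.gens ws2)
noncomputable def rels1 : List (Word × Word) := List.append (lev1.rels ws2) (memRels (lev1.gens ws2) ex1 [dw (nat_lit 0x01090109), dw (nat_lit 0x0109070501090705)])
noncomputable def lev0 : Level := ⟨nat_lit 0,
[⟨[nat_lit 4], [dw (nat_lit 0x07), dw (nat_lit 0x08080908), dw (nat_lit 0x0c), dw (nat_lit 0x0a0e)], [dw (nat_lit 0x07), dw (nat_lit 0x0d0b09), dw (nat_lit 0x0b07), dw (nat_lit 0x0b09)],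
[⟨nat_lit 0, [], nat_lit 1, [], []⟩,
⟨nat_lit 1, [], nat_lit 0, [], []⟩,
⟨nat_lit 2, [], nat_lit 1, dw (nat_lit 0x050b07050b05), dw (nat_lit 0x05090509070507)⟩,
⟨nat_lit 3, [], nat_lit 1, dw (nat_lit 0x050b050b0705), dw (nat_lit 0x050b070509050d0b0907)⟩,
⟨nat_lit 1, dw (nat_lit 0x01), nat_lit 1, dw (nat_lit 0x01), dw (nat_lit 0x01)⟩,
⟨nat_lit 1, dw (nat_lit 0x03), nat_lit 1, dw (nat_lit 0x0509050b0705), dw (nat_lit 0x050b07050905)⟩,
⟨nat_lit 1, dw (nat_lit 0x05), nat_lit 1, dw (nat_lit 0x0705), dw (nat_lit 0x070507)⟩,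
⟨nat_lit 1, dw (nat_lit 0x0301), nat_lit 1, dw (nat_lit 0x050907050905), dw (nat_lit 0x0509050907050907)⟩,
⟨nat_lit 1, dw (nat_lit 0x050b05), nat_lit 1, dw (nat_lit 0x050b05), dw (nat_lit 0x050b05)⟩,
⟨nat_lit 1, dw (nat_lit 0x050b0705), nat_lit 1, dw (nat_lit 0x050b0705), dw (nat_lit 0x050b0705)⟩,
⟨nat_lit 1, dw (nat_lit 0x050905090705), nat_lit 1, dw (nat_lit 0x050905090705), dw (nat_lit 0x03010d0b09)⟩,
⟨nat_lit 1, dw (nat_lit 0x050b05090705), nat_lit 1, dw (nat_lit 0x050907050b05), dw (nat_lit 0x050907050b05)⟩,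
⟨nat_lit 1, dw (nat_lit 0x0509050b0705), nat_lit 1, dw (nat_lit 0x03), dw (nat_lit 0x0509050b0705)⟩,
⟨nat_lit 1, dw (nat_lit 0x050b050b0705), nat_lit 3, [], dw (nat_lit 0x0509050b07050907)⟩,
⟨nat_lit 1, dw (nat_lit 0x050907050905), nat_lit 1, dw (nat_lit 0x0301), dw (nat_lit 0x05090705090507)⟩,
⟨nat_lit 1, dw (nat_lit 0x050b07050905), nat_lit 1, dw (nat_lit 0x050b07050905), dw (nat_lit 0x03)⟩,
⟨nat_lit 1, dw (nat_lit 0x050907050b05), nat_lit 1, dw (nat_lit 0x050b05090705), dw (nat_lit 0x050b05090705)⟩,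
⟨nat_lit 1, dw (nat_lit 0x050b07050b05), nat_lit 2, [], dw (nat_lit 0x05090705090509)⟩],
[dw (nat_lit 0x01), dw (nat_lit 0x05), dw (nat_lit 0x07), dw (nat_lit 0x03)]⟩],
[⟨dw (nat_lit 0x01), (nat_lit 0x7ffdfefffffffffe), [dw (nat_lit 0x01), dw (nat_lit 0x03), dw (nat_lit 0x05), dw (nat_lit 0x07), dw (nat_lit 0x09), dw (nat_lit 0x05), dw (nat_lit 0x07), dw (nat_lit 0x09)
, dw (nat_lit 0x05)], (.cons (nat_lit 3) [dw (nat_lit 0x07), dw (nat_lit 0x080a), dw (nat_lit 0x0c0d), dw (nat_lit 0x0b)] [dw (nat_lit 0x01), dw (nat_lit 0x07), dw (nat_lit 0x03), dw (nat_lit 0x05)]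
.nil), [dw (nat_lit 0x07), dw (nat_lit 0x0d0b09), dw (nat_lit 0x0d0b), dw (nat_lit 0x0b07)]⟩,
⟨dw (nat_lit 0x010501050301), (nat_lit 0x10000000000), [], (.cons (nat_lit 1) [dw (nat_lit 0x05)] [dw (nat_lit 0x01), dw (nat_lit 0x03), dw (nat_lit 0x05), dw (nat_lit 0x07), dw (nat_lit 0x01), dw (nat_lit 0x09), dw (nat_lit 0x0401), dw (nat_lit 0x05)
, dw (nat_lit 0x01), dw (nat_lit 0x03)]
(.cons (nat_lit 3) [dw (nat_lit 0x07), dw (nat_lit 0x0a), dw (nat_lit 0x0b), dw (nat_lit 0x0e0a)] [dw (nat_lit 0x01), dw (nat_lit 0x03), dw (nat_lit 0x05), dw (nat_lit 0x07)]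
.nil)), [dw (nat_lit 0x07050b0705010d07), dw (nat_lit 0x0d0b), dw (nat_lit 0x0d0907), dw (nat_lit 0x0907), dw (nat_lit 0x0b07)]⟩,
⟨dw (nat_lit 0x010503010501), (nat_lit 0x2000000000000), [], (.cons (nat_lit 1) [dw (nat_lit 0x05)] [dw (nat_lit 0x01), dw (nat_lit 0x03), dw (nat_lit 0x05), dw (nat_lit 0x07), dw (nat_lit 0x01), dw (nat_lit 0x09), dw (nat_lit 0x0702), dw (nat_lit 0x01)
, dw (nat_lit 0x03), dw (nat_lit 0x01)]
(.cons (nat_lit 3) [dw (nat_lit 0x07), dw (nat_lit 0x0c), dw (nat_lit 0x0a), dw (nat_lit 0x070e09)] [dw (nat_lit 0x01), dw (nat_lit 0x03), dw (nat_lit 0x05), dw (nat_lit 0x07)]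
.nil)), [dw (nat_lit 0x07050b05010d07), dw (nat_lit 0x0d0b07), dw (nat_lit 0x0b0907), dw (nat_lit 0x0d07), dw (nat_lit 0x09)]⟩]⟩
noncomputable def ex0 : List Word := []
noncomputable def ws0 : List Word := List.append ex0 (lev0.gens ws1)
noncomputable def rels0 : List (Word × Word) := List.append (lev0.rels ws1) (memRels (lev0.gens ws1) ex0 [])
noncomputable def rels : List (Word × Word) := List.append rels0 (List.append rels1 (List.append rels2 ([])))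
noncomputable def defs : List Word := [dw (nat_lit 0x060a060404050305050905), dw (nat_lit 0x02080a010b020c080c), dw (nat_lit 0x02030104)]
noncomputable def relsD : List (Word × Word) := defRels defs 5
noncomputable def relsO : List (Word × Word) := memRels ws0 (lets 5) [dw (nat_lit 0x03), dw (nat_lit 0x09), dw (nat_lit 0x01), dw (nat_lit 0x07), dw (nat_lit 0x05)]
noncomputable def relsS : List (Word × Word) := []
noncomputable def allRels : List (Word × Word) := List.append rels (List.append relsD (List.append relsO relsS))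
theorem reach_ok : subs (full 63) (orbRun nets (lets 5) reach (bits (List.map Prod.fst ss))) = true := by decide +kernel
theorem chk2 : lev2.chk 63 nets ws3 1 16 = true := by decide +kernel
theorem chk1 : lev1.chk 63 nets ws2 16 960 = true := by decide +kernel
theorem chk0 : lev0.chk 63 nets ws1 960 60480 = true := by decide +kernel
theorem rc0 : relsChk 63 nets 6 (idArr 63 6 6 0) allRels = true := by decide +kernel
section
variable {Γ Ω : Type*} [Group Γ] [MulAction Γ Ω] (M : PM Γ Ω 63 nets)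

theorem all_ok (hs : M.Sep 6 (idArr 63 6 6 0)) : Rels M.gen allRels := (M.rels_of_chk hs rc0)
theorem sep [FaithfulSMul Γ Ω] : M.Sep 6 (idArr 63 6 6 0) := M.sep_idArr (by decide)
theorem all_ok' [FaithfulSMul Γ Ω] : Rels M.gen allRels := all_ok M (sep M)
theorem rels_of_all {gen : ℕ → Γ} (h : Rels gen allRels) : Rels gen rels := Rels.left h
theorem relsD_of_all {gen : ℕ → Γ} (h : Rels gen allRels) : Rels gen relsD := Rels.left (Rels.right h)
theorem relsO_of_all {gen : ℕ → Γ} (h : Rels gen allRels) : Rels gen relsO := Rels.left (Rels.right (Rels.right h))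
theorem relsS_of_all {gen : ℕ → Γ} (h : Rels gen allRels) : Rels gen relsS := Rels.right (Rels.right (Rels.right h))
theorem card3 (_hR : Rels M.gen rels) : Nat.card (sub M.gen ws3) = 1 := M.card_nil
theorem fixw3 (_hR : Rels M.gen rels) : M.FixTriv ws3 [] := M.fixTriv_nil
theorem r2 (hR : Rels M.gen rels) : Rels M.gen rels2 := (Rels.left (Rels.right (Rels.right hR)))
theorem res2 (hR : Rels M.gen rels) : M.LevelRes ws3 lev2 16 := M.level (card3 M hR) chk2 (Rels.left (r2 M hR))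
theorem ext2 (hR : Rels M.gen rels) : sub M.gen ws2 = sub M.gen (lev2.gens ws3) := sub_extend (Rels.right (r2 M hR))
theorem card2 (hR : Rels M.gen rels) : Nat.card (sub M.gen ws2) = 16 := by rw [ext2 M hR]; exact (res2 M hR).card
theorem fix2 (hR : Rels M.gen rels) : M.FixTriv (lev2.gens ws3) [3] := (res2 M hR).fixTriv M (fixw3 M hR)
theorem fixw2 (hR : Rels M.gen rels) : M.FixTriv ws2 [3] := fun g hg => fix2 M hR g (ext2 M hR ▸ hg)
theorem stab2 (hR : Rels M.gen rels) : sub M.gen ws2 ⊓ MulAction.stabilizer Γ (M.dec 3) = sub M.gen ws3 := by rw [ext2 M hR]; exact (res2 M hR).stab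
theorem orb2 (hR : Rels M.gen rels) (y : Ω) : y ∈ M.S lev2.orb ↔ ∃ g ∈ sub M.gen ws2, g • M.dec 3 = y := by rw [ext2 M hR]; exact (res2 M hR).orb y
theorem r1 (hR : Rels M.gen rels) : Rels M.gen rels1 := (Rels.left (Rels.right hR))
theorem res1 (hR : Rels M.gen rels) : M.LevelRes ws2 lev1 960 := M.level (card2 M hR) chk1 (Rels.left (r1 M hR))
theorem ext1 (hR : Rels M.gen rels) : sub M.gen ws1 = sub M.gen (lev1.gens ws2) := sub_extend (Rels.right (r1 M hR))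
theorem card1 (hR : Rels M.gen rels) : Nat.card (sub M.gen ws1) = 960 := by rw [ext1 M hR]; exact (res1 M hR).card
theorem fix1 (hR : Rels M.gen rels) : M.FixTriv (lev1.gens ws2) [1, 3] := (res1 M hR).fixTriv M (fixw2 M hR)
theorem fixw1 (hR : Rels M.gen rels) : M.FixTriv ws1 [1, 3] := fun g hg => fix1 M hR g (ext1 M hR ▸ hg)
theorem stab1 (hR : Rels M.gen rels) : sub M.gen ws1 ⊓ MulAction.stabilizer Γ (M.dec 1) = sub M.gen ws2 := by rw [ext1 M hR]; exact (res1 M hR).stab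
theorem orb1 (hR : Rels M.gen rels) (y : Ω) : y ∈ M.S lev1.orb ↔ ∃ g ∈ sub M.gen ws1, g • M.dec 1 = y := by rw [ext1 M hR]; exact (res1 M hR).orb y
theorem r0 (hR : Rels M.gen rels) : Rels M.gen rels0 := (Rels.left hR)
theorem res0 (hR : Rels M.gen rels) : M.LevelRes ws1 lev0 60480 := M.level (card1 M hR) chk0 (Rels.left (r0 M hR))
theorem ext0 (hR : Rels M.gen rels) : sub M.gen ws0 = sub M.gen (lev0.gens ws1) := sub_extend (Rels.right (r0 M hR))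
theorem card0 (hR : Rels M.gen rels) : Nat.card (sub M.gen ws0) = 60480 := by rw [ext0 M hR]; exact (res0 M hR).card
theorem fix0 (hR : Rels M.gen rels) : M.FixTriv (lev0.gens ws1) [0, 1, 3] := (res0 M hR).fixTriv M (fixw1 M hR)
theorem fixw0 (hR : Rels M.gen rels) : M.FixTriv ws0 [0, 1, 3] := fun g hg => fix0 M hR g (ext0 M hR ▸ hg)
theorem stab0 (hR : Rels M.gen rels) : sub M.gen ws0 ⊓ MulAction.stabilizer Γ (M.dec 0) = sub M.gen ws1 := by rw [ext0 M hR]; exact (res0 M hR).stab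
theorem orb0 (hR : Rels M.gen rels) (y : Ω) : y ∈ M.S lev0.orb ↔ ∃ g ∈ sub M.gen ws0, g • M.dec 0 = y := by rw [ext0 M hR]; exact (res0 M hR).orb y
theorem orig_eq {gen : ℕ → Γ} (h : Rels gen allRels) : sub gen (lets 5) = sub gen ws0 :=
  sub_lets_eq_of_rels (ds := defs) (by decide +kernel) (relsD_of_all h) (by decide +kernel) (relsO_of_all h)
theorem gen_mem {gen : ℕ → Γ} (h : Rels gen allRels) {X : Subgroup Γ} (h0 : ∀ l < 5, gen l ∈ X) : sub gen ws0 ≤ X :=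
  sub_le_of_wsIn (lo := 0) (gen_mem_of_defRels (ds := defs) (fun l _ hl => h0 l hl) (by decide +kernel) (relsD_of_all h)) (by decide +kernel)

end

/-- the permutation group -/
noncomputable abbrev P := permPM 63 nets (by decide) (by decide) nets_ok
theorem allP : Rels P.gen allRels := all_ok' P
/-- machines of this type -/
abbrev St (X : Type*) [Group X] := Std X 63 nets ws0 60480 allRels
/-- the presentation on the strong generators -/
theorem hom {X : Type*} [Group X] (S : St X) {Δ : Type*} [Group Δ] (y : ℕ → Δ) (hy : Rels y rels) :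
    ∃ φ : X →* Δ, φ.range = sub y ws0 ∧ ∀ w ∈ ws0, φ (H14.ev S.M.gen w) = H14.ev y w :=
  S.hom_ws y (card0 _ ((rels_of_all S.rels).prod hy))
/-- the presentation on all letters -/
theorem hom' {X : Type*} [Group X] (S : St X) {Δ : Type*} [Group Δ] (y : ℕ → Δ) (hy : Rels y allRels) :
    ∃ φ : X →* Δ, φ.range = sub y (lets 5) ∧ ∀ l < 8, φ (S.M.gen l) = y l :=
  S.hom_all y (card0 _ (rels_of_all (S.rels.prod hy))) (orig_eq (S.rels.prod hy)) (orig_eq hy) (ds := defs)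
    (by decide +kernel) (relsD_of_all (S.rels.prod hy)) (by decide +kernel)
/-- the matrices of the first letters (and their inverses) -/
def As : List (ℕ × ℕ) :=
[(nat_lit 0x10105, nat_lit 0x10105),
  (nat_lit 0x10501, nat_lit 0x10501),
  (nat_lit 0x10141, nat_lit 0x10141),
  (nat_lit 0x14101, nat_lit 0x14101),
  (nat_lit 0x10109, nat_lit 0x10109)]
/-- the vectors -/
def V : ℕ := nat_lit 0x30922d6ccf4f31ea09660aab61e37e6f703ff6c8cf6e75aa278caa58ed97cff8d79222b25b4ce5902d7446507544141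
theorem eqv_ok : c4.eqvM 3 63 [1] V As nets 5 = true := by decide +kernel
theorem sep_ok : c4.sepM 3 63 [1] V (ss.map Prod.fst) = true := by decide +kernel
theorem core {F : Type*} [Field F] {a : Ar F} (ha : Ok a c4 2) {ι : Type} [Fintype ι] [DecidableEq ι]
    {e : ι ≃ Fin 3} {T X : Type*} [Group T] [Group X] {ρ : T →* Matrix ι ι F} (h : Mem a e ρ As 5)
    (q : T →* X) (hq : ∀ g, q g = 1 → g = 1 ∨ g ∈ Subgroup.center T ∧ ∀ z ∈ sub P.gen (lets 5), (∀ x ∈ sub P.gen (lets 5), x * z = z * x) → z = 1)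
    (hB : Bd (⊤ : Subgroup X) 60480) : ∃ S : St X, Spec S a e ρ q As 5 [1] V (ss.map Prod.fst) :=
  h.std ha (by decide +kernel) eqv_ok reach_ok sep_ok q hq (ds := defs) (by decide +kernel) (by decide +kernel)
    (relsD_of_all allP) hB (orig_eq allP) (card0 P (rels_of_all allP)) allP
theorem std_spec {F : Type*} [Field F] [Fintype F] (hF : Fintype.card F = 4) {a : Ar F} (ha : Ok a c4 2) :
    ∃ S : St (Matrix.SpecialLinearGroup (Fin 3) F), Spec S a (Equiv.refl _) (slM (Fin 3) F) (MonoidHom.id _) As 5 [1] V (ss.map Prod.fst) :=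
  core ha (mem_sl _ ha.1 (p := 2) ha.2.2 (by norm_num) (L := As) (by decide +kernel)) _ hq_id (bd_sl hF (by decide +kernel))
theorem std {F : Type*} [Field F] [Fintype F] (hF : Fintype.card F = 4) : Nonempty (St (Matrix.SpecialLinearGroup (Fin 3) F)) :=
  let ⟨_, ha⟩ := ar_4 (F := F) hF
  let ⟨S, _⟩ := std_spec hF ha
  ⟨S⟩

end H15.StdSL34
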