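import Cfsg.Agent.H14.Dw2
import Cfsg.Agent.H15.Std3

/-! Standard machine: `Sp 2` over the field with 3 elements on the vectors, generated by 4 transvections
Generated certificate (tools14/pkgen, tools15/std.py) for the permutation group StdSp43 of degree 80, order 51840, base 0 1 2 4. -/
set_option autoImplicit false
set_option maxRecDepth 100000

namespace H15.StdSp43
open H14

noncomputable def n0 : Net := (.cons (nat_lit 1) (nat_lit 0x10410004500001510144)
(.cons (nat_lit 2) (nat_lit 0x20210122200000220200)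
(.cons (nat_lit 4) (nat_lit 0x2000a070804070400)
(.cons (nat_lit 8) (nat_lit 0x8800610077001b0000)
(.cons (nat_lit 16) (nat_lit 0xf0700000000)
(.cons (nat_lit 32) (nat_lit 0x671c8803)
(.cons (nat_lit 64) (nat_lit 0x8803)
(.cons (nat_lit 32) (nat_lit 0x8803)
(.cons (nat_lit 16) (nat_lit 0x671c00009f40)
(.cons (nat_lit 8) (nat_lit 0x8800610073009f0018)
(.cons (nat_lit 4) (nat_lit 0x208000a0f0801060506)
(.cons (nat_lit 2) (nat_lit 0x230132000011331200)
(.cons (nat_lit 1) (nat_lit 0x10410004500001404041)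
.nil)))))))))))))
theorem n0_ok : Net.ok 80 n0 = true := by decide +kernel
noncomputable def n1 : Net := (.cons (nat_lit 1) (nat_lit 0x11004054144110440040)
(.cons (nat_lit 2) (nat_lit 0x12021211022312022020)
(.cons (nat_lit 4) (nat_lit 0x5010001000801020a00)
(.cons (nat_lit 8) (nat_lit 0x100c1000100000000)
(.cons (nat_lit 16) (nat_lit 0x136800000000)
(.cons (nat_lit 32) (nat_lit 0xa3161368)
(.cons (nat_lit 64) (nat_lit 0x1368)
(.cons (nat_lit 32) (nat_lit 0x1368)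
(.cons (nat_lit 16) (nat_lit 0x221600001b20)
(.cons (nat_lit 8) (nat_lit 0x700c100010081001c)
(.cons (nat_lit 4) (nat_lit 0x501000a020b03020a02)
(.cons (nat_lit 2) (nat_lit 0x12021232020212232021)
(.cons (nat_lit 1) (nat_lit 0x1104014145110440040)
.nil)))))))))))))
theorem n1_ok : Net.ok 80 n1 = true := by decide +kernel
noncomputable def n2 : Net := (.cons (nat_lit 1) (nat_lit 0x11151104451504110104)
(.cons (nat_lit 2) (nat_lit 0x3003200011312122000)
(.cons (nat_lit 4) (nat_lit 0x2090400040600090400)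
(.cons (nat_lit 8) (nat_lit 0xcf004000800000)
(.cons (nat_lit 16) (nat_lit 0x2da100000000)
(.cons (nat_lit 32) (nat_lit 0x254e28a1)
(.cons (nat_lit 64) (nat_lit 0x28a1)
(.cons (nat_lit 32) (nat_lit 0x28a1)
(.cons (nat_lit 16) (nat_lit 0x254e000039a0)
(.cons (nat_lit 8) (nat_lit 0x1800c700000005000c)
(.cons (nat_lit 4) (nat_lit 0x3010800000801030502)
(.cons (nat_lit 2) (nat_lit 0x1001000001313302021)
(.cons (nat_lit 1) (nat_lit 0x11051004451104110104)
.nil)))))))))))))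
theorem n2_ok : Net.ok 80 n2 = true := by decide +kernel
noncomputable def n3 : Net := (.cons (nat_lit 1) (nat_lit 0x1544040404144404100)
(.cons (nat_lit 2) (nat_lit 0x2022202003023120200)
(.cons (nat_lit 4) (nat_lit 0x6050007040404010000)
(.cons (nat_lit 8) (nat_lit 0x4800420046000d0000)
(.cons (nat_lit 16) (nat_lit 0xef6900004000)
(.cons (nat_lit 32) (nat_lit 0x8fc66029)
(.cons (nat_lit 64) (nat_lit 0x6029)
(.cons (nat_lit 32) (nat_lit 0x2029)
(.cons (nat_lit 16) (nat_lit 0xafc20000df60)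
(.cons (nat_lit 8) (nat_lit 0x440062000c00090056)
(.cons (nat_lit 4) (nat_lit 0x20502030402000f0407)
(.cons (nat_lit 2) (nat_lit 0x22200021223301001)
(.cons (nat_lit 1) (nat_lit 0x1544000405144444100)
.nil)))))))))))))
theorem n3_ok : Net.ok 80 n3 = true := by decide +kernel
noncomputable def n4 : Net := (.cons (nat_lit 1) (nat_lit 0x4144005051554450410)
(.cons (nat_lit 2) (nat_lit 0x10122022020002103200)
(.cons (nat_lit 4) (nat_lit 0x60a05000b0005050000)
(.cons (nat_lit 8) (nat_lit 0x470096000f00400000)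
(.cons (nat_lit 16) (nat_lit 0x322c00000700)
(.cons (nat_lit 32) (nat_lit 0x24204486)
(.cons (nat_lit 64) (nat_lit 0x4786)
(.cons (nat_lit 32) (nat_lit 0x578e)
(.cons (nat_lit 16) (nat_lit 0x33a50000d200)
(.cons (nat_lit 8) (nat_lit 0x70016002a00610082)
(.cons (nat_lit 4) (nat_lit 0x60a01010b0204050104)
(.cons (nat_lit 2) (nat_lit 0x30122022000002113010)
(.cons (nat_lit 1) (nat_lit 0x4155015051554450410)
.nil)))))))))))))
theorem n4_ok : Net.ok 80 n4 = true := by decide +kernel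
noncomputable def n5 : Net := (.cons (nat_lit 1) (nat_lit 0x11114445141401005450)
(.cons (nat_lit 2) (nat_lit 0x32033013131201230000)
(.cons (nat_lit 4) (nat_lit 0x50f040f0f030b030600)
(.cons (nat_lit 8) (nat_lit 0x870029004900e80000)
(.cons (nat_lit 16) (nat_lit 0xf9000004104)
(.cons (nat_lit 32) (nat_lit 0xc87d6528)
(.cons (nat_lit 64) (nat_lit 0xef6c)
(.cons (nat_lit 32) (nat_lit 0x76e0)
(.cons (nat_lit 16) (nat_lit 0x2a4000007808)
(.cons (nat_lit 8) (nat_lit 0x8800e100d00069001a)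
(.cons (nat_lit 4) (nat_lit 0x500080e0a0b07030008)
(.cons (nat_lit 2) (nat_lit 0x23203303131010222332)
(.cons (nat_lit 1) (nat_lit 0x11550054151505001140)
.nil)))))))))))))
theorem n5_ok : Net.ok 80 n5 = true := by decide +kernel
noncomputable def n6 : Net := (.cons (nat_lit 1) (nat_lit 0x41444444151541151454)
(.cons (nat_lit 2) (nat_lit 0x200010223123201010)
(.cons (nat_lit 4) (nat_lit 0x3080309070306030a00)
(.cons (nat_lit 8) (nat_lit 0x4900e1008400920000)
(.cons (nat_lit 16) (nat_lit 0x220800000289)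
(.cons (nat_lit 32) (nat_lit 0x9302231e)
(.cons (nat_lit 64) (nat_lit 0x23df)
(.cons (nat_lit 32) (nat_lit 0xf211)
(.cons (nat_lit 16) (nat_lit 0xb1f500009687)
(.cons (nat_lit 8) (nat_lit 0x4008600b1000d0014)
(.cons (nat_lit 4) (nat_lit 0x109090904060b090402)
(.cons (nat_lit 2) (nat_lit 0x32300101312113223132)
(.cons (nat_lit 1) (nat_lit 0x54014511141055140454)
.nil)))))))))))))
theorem n6_ok : Net.ok 80 n6 = true := by decide +kernel
noncomputable def n7 : Net := (.cons (nat_lit 1) (nat_lit 0x41541155040000011450)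
(.cons (nat_lit 2) (nat_lit 0x12301221003021110020)
(.cons (nat_lit 4) (nat_lit 0x40e020703040b040800)
(.cons (nat_lit 8) (nat_lit 0xe600bb002500830000)
(.cons (nat_lit 16) (nat_lit 0xd00800000922)
(.cons (nat_lit 32) (nat_lit 0xd52c1cb9)
(.cons (nat_lit 64) (nat_lit 0xdfbf)
(.cons (nat_lit 32) (nat_lit 0x37f1)
(.cons (nat_lit 16) (nat_lit 0x4b740000c0c6)
(.cons (nat_lit 8) (nat_lit 0x4c00a30065006d0040)
(.cons (nat_lit 4) (nat_lit 0xd0807070f0c0604020c)
(.cons (nat_lit 2) (nat_lit 0x21212130302012332000)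
(.cons (nat_lit 1) (nat_lit 0x40151501000005005454)
.nil)))))))))))))
theorem n7_ok : Net.ok 80 n7 = true := by decide +kernel
noncomputable def n8 : Net := (.cons (nat_lit 1) (nat_lit 0x11514105415011045410)
(.cons (nat_lit 2) (nat_lit 0x13101103001022002110)
(.cons (nat_lit 4) (nat_lit 0xb060503050c00060000)
(.cons (nat_lit 8) (nat_lit 0x420087009000800000)
(.cons (nat_lit 16) (nat_lit 0x2ad60000c136)
(.cons (nat_lit 32) (nat_lit 0xeaf5b417)
(.cons (nat_lit 64) (nat_lit 0xfdbf)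
(.cons (nat_lit 32) (nat_lit 0x9115)
(.cons (nat_lit 16) (nat_lit 0xf43700008136)
(.cons (nat_lit 8) (nat_lit 0x100071003100710088)
(.cons (nat_lit 4) (nat_lit 0x30209070109080d0200)
(.cons (nat_lit 2) (nat_lit 0x1033223030022020330)
(.cons (nat_lit 1) (nat_lit 0x45555015010014045514)
.nil)))))))))))))
theorem n8_ok : Net.ok 80 n8 = true := by decide +kernel
noncomputable def n9 : Net := (.cons (nat_lit 1) (nat_lit 0x40154014404410400000)
(.cons (nat_lit 2) (nat_lit 0x13121110303101200100)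
(.cons (nat_lit 4) (nat_lit 0xb00070a040202080000)
(.cons (nat_lit 8) (nat_lit 0x66002500d000040000)
(.cons (nat_lit 16) (nat_lit 0x42b900000388)
(.cons (nat_lit 32) (nat_lit 0x18466179)
(.cons (nat_lit 64) (nat_lit 0xf7f9)
(.cons (nat_lit 32) (nat_lit 0xf6e1)
(.cons (nat_lit 16) (nat_lit 0x187600000388)
(.cons (nat_lit 8) (nat_lit 0xf4002d00da00060000)
(.cons (nat_lit 4) (nat_lit 0xb0a010a0e0302000000)
(.cons (nat_lit 2) (nat_lit 0x10000030320001220100)
(.cons (nat_lit 1) (nat_lit 0x51554144444410400000)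
.nil)))))))))))))
theorem n9_ok : Net.ok 80 n9 = true := by decide +kernel
noncomputable def nets : List Net := [n0, n1, n2, n3, n4, n5, n6, n7, n8, n9]
theorem nets_ok : netsOk 80 nets = true := List.all_eq_true.2 (fa_cons n0_ok (fa_cons n1_ok (fa_cons n2_ok (fa_cons n3_ok (fa_cons n4_ok (fa_cons n5_ok (fa_cons n6_ok (fa_cons n7_ok (fa_cons n8_ok (fa_cons n9_ok (fa_nil)))))))))))
noncomputable def ss : List (Nat × Nat) := [(0, 0)]
noncomputable def ws4 : List Word := []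
noncomputable def reach : List Word := [dw (nat_lit 0x01), dw (nat_lit 0x03), dw (nat_lit 0x07), dw (nat_lit 0x05), dw (nat_lit 0x01), dw (nat_lit 0x03), dw (nat_lit 0x07), dw (nat_lit 0x05)
, dw (nat_lit 0x03), dw (nat_lit 0x05), dw (nat_lit 0x01), dw (nat_lit 0x07), dw (nat_lit 0x03)]
noncomputable def lev3 : Level := ⟨nat_lit 4,
[⟨[nat_lit 18], [], [],
[⟨nat_lit 0, [], nat_lit 1, [], []⟩,
⟨nat_lit 1, [], nat_lit 2, [], []⟩,
⟨nat_lit 2, [], nat_lit 0, [], []⟩],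
[]⟩],
[⟨dw (nat_lit 0x01), (nat_lit 0x80000000000000), [], .nil, []⟩,
⟨dw (nat_lit 0x02), (nat_lit 0x400000000000000000), [], .nil, []⟩]⟩
noncomputable def ex3 : List Word := []
noncomputable def ws3 : List Word := List.append ex3 (lev3.gens ws4)
noncomputable def rels3 : List (Word × Word) := List.append (lev3.rels ws4) (memRels (lev3.gens ws4) ex3 [])
noncomputable def lev2 : Level := ⟨nat_lit 2,
[⟨[nat_lit 14], [], [],
[⟨nat_lit 0, [], nat_lit 1, [], []⟩,
⟨nat_lit 1, [], nat_lit 1, dw (nat_lit 0x02), dw (nat_lit 0x02)⟩,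
⟨nat_lit 2, [], nat_lit 0, [], []⟩,
⟨nat_lit 3, [], nat_lit 2, dw (nat_lit 0x01), dw (nat_lit 0x01)⟩,
⟨nat_lit 1, dw (nat_lit 0x01), nat_lit 2, dw (nat_lit 0x02), dw (nat_lit 0x02)⟩,
⟨nat_lit 1, dw (nat_lit 0x02), nat_lit 3, [], dw (nat_lit 0x01)⟩,
⟨nat_lit 2, dw (nat_lit 0x01), nat_lit 2, [], dw (nat_lit 0x02)⟩,
⟨nat_lit 2, dw (nat_lit 0x02), nat_lit 1, dw (nat_lit 0x01), []⟩],
[]⟩],
[⟨dw (nat_lit 0x01), (nat_lit 0x80000000010004000000), [dw (nat_lit 0x01), dw (nat_lit 0x01)], .nil, []⟩,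
⟨dw (nat_lit 0x02), (nat_lit 0x800000408000000), [dw (nat_lit 0x01), dw (nat_lit 0x01)], .nil, []⟩,
⟨dw (nat_lit 0x010101), (nat_lit 0x40000000), [], (.cons (nat_lit 4) [dw (nat_lit 0x01)] [dw (nat_lit 0x01), dw (nat_lit 0x01)]
.nil), [dw (nat_lit 0x01)]⟩]⟩
noncomputable def ex2 : List Word := [[nat_lit 16]]
noncomputable def ws2 : List Word := List.append ex2 (lev2.gens ws3)
noncomputable def rels2 : List (Word × Word) := List.append (lev2.rels ws3) (memRels (lev2.gens ws3) ex2 [dw (nat_lit 0x020204)])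
noncomputable def lev1 : Level := ⟨nat_lit 1,
[⟨[nat_lit 8], [dw (nat_lit 0x05)], [dw (nat_lit 0x05)],
[⟨nat_lit 0, [], nat_lit 1, [], []⟩,
⟨nat_lit 1, [], nat_lit 2, [], []⟩,
⟨nat_lit 2, [], nat_lit 0, [], []⟩,
⟨nat_lit 3, [], nat_lit 2, dw (nat_lit 0x0302), dw (nat_lit 0x0501)⟩,
⟨nat_lit 4, [], nat_lit 3, dw (nat_lit 0x0302), dw (nat_lit 0x0406)⟩,
⟨nat_lit 5, [], nat_lit 2, dw (nat_lit 0x0101), []⟩,
⟨nat_lit 1, dw (nat_lit 0x01), nat_lit 3, [], []⟩,
⟨nat_lit 1, dw (nat_lit 0x02), nat_lit 1, dw (nat_lit 0x02), dw (nat_lit 0x030205)⟩,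
⟨nat_lit 2, dw (nat_lit 0x01), nat_lit 2, dw (nat_lit 0x01), dw (nat_lit 0x0206)⟩,
⟨nat_lit 2, dw (nat_lit 0x02), nat_lit 1, dw (nat_lit 0x0501), dw (nat_lit 0x02)⟩,
⟨nat_lit 3, dw (nat_lit 0x01), nat_lit 3, dw (nat_lit 0x01), dw (nat_lit 0x050205)⟩,
⟨nat_lit 1, dw (nat_lit 0x0101), nat_lit 4, [], []⟩,
⟨nat_lit 2, dw (nat_lit 0x0101), nat_lit 3, dw (nat_lit 0x0301), dw (nat_lit 0x0302)⟩,
⟨nat_lit 3, dw (nat_lit 0x0301), nat_lit 5, [], dw (nat_lit 0x050105)⟩,
⟨nat_lit 3, dw (nat_lit 0x0302), nat_lit 1, dw (nat_lit 0x0101), dw (nat_lit 0x050205)⟩],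
[dw (nat_lit 0x01), dw (nat_lit 0x01)]⟩],
[⟨dw (nat_lit 0x01), (nat_lit 0x220004080c000001200), [dw (nat_lit 0x01), dw (nat_lit 0x03), dw (nat_lit 0x01), dw (nat_lit 0x03)], (.cons (nat_lit 4) [dw (nat_lit 0x05)] [dw (nat_lit 0x01), dw (nat_lit 0x01)]
.nil), [dw (nat_lit 0x05)]⟩,
⟨dw (nat_lit 0x02), (nat_lit 0xd002208000000080400), [dw (nat_lit 0x01), dw (nat_lit 0x03), dw (nat_lit 0x01), dw (nat_lit 0x03)], (.cons (nat_lit 4) [dw (nat_lit 0x05)] [dw (nat_lit 0x01), dw (nat_lit 0x01)]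
.nil), [dw (nat_lit 0x05)]⟩,
⟨dw (nat_lit 0x010301), (nat_lit 0x50000402080028008), [dw (nat_lit 0x01), dw (nat_lit 0x03), dw (nat_lit 0x01), dw (nat_lit 0x03)], (.cons (nat_lit 2) [dw (nat_lit 0x0105)] [dw (nat_lit 0x01), dw (nat_lit 0x01)]
.nil), [dw (nat_lit 0x0501)]⟩,
⟨dw (nat_lit 0x01030301), (nat_lit 0x1000000000000), [], (.cons (nat_lit 2) [dw (nat_lit 0x01)] [dw (nat_lit 0x01), dw (nat_lit 0x0301), dw (nat_lit 0x01), dw (nat_lit 0x03)]
(.cons (nat_lit 4) [dw (nat_lit 0x05)] [dw (nat_lit 0x01), dw (nat_lit 0x01)]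
.nil)), [dw (nat_lit 0x0405), dw (nat_lit 0x05)]⟩,
⟨dw (nat_lit 0x02030302), (nat_lit 0x800), [], (.cons (nat_lit 2) [dw (nat_lit 0x01)] [dw (nat_lit 0x01), dw (nat_lit 0x0401), dw (nat_lit 0x01), dw (nat_lit 0x0104)]
(.cons (nat_lit 4) [dw (nat_lit 0x05)] [dw (nat_lit 0x01), dw (nat_lit 0x01)]
.nil)), [dw (nat_lit 0x050106), dw (nat_lit 0x05)]⟩]⟩
noncomputable def ex1 : List Word := [[nat_lit 10], [nat_lit 12]]
noncomputable def ws1 : List Word := List.append ex1 (lev1.gens ws2)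
noncomputable def rels1 : List (Word × Word) := List.append (lev1.rels ws2) (memRels (lev1.gens ws2) ex1 [dw (nat_lit 0x020303020408), dw (nat_lit 0x060103)])
noncomputable def lev0 : Level := ⟨nat_lit 0,
[⟨[nat_lit 0], [dw (nat_lit 0x07), dw (nat_lit 0x0b)], [dw (nat_lit 0x07), dw (nat_lit 0x0b)],
[⟨nat_lit 0, [], nat_lit 1, [], []⟩,
⟨nat_lit 1, [], nat_lit 2, [], []⟩,
⟨nat_lit 2, [], nat_lit 0, [], []⟩,
⟨nat_lit 3, [], nat_lit 2, dw (nat_lit 0x02), dw (nat_lit 0x010a0c)⟩,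
⟨nat_lit 4, [], nat_lit 2, dw (nat_lit 0x0a06), dw (nat_lit 0x0507)⟩,
⟨nat_lit 1, dw (nat_lit 0x01), nat_lit 3, [], []⟩,
⟨nat_lit 1, dw (nat_lit 0x02), nat_lit 1, dw (nat_lit 0x02), dw (nat_lit 0x020a0c)⟩,
⟨nat_lit 1, dw (nat_lit 0x03), nat_lit 4, [], []⟩,
⟨nat_lit 1, dw (nat_lit 0x04), nat_lit 1, dw (nat_lit 0x04), dw (nat_lit 0x0a06080b)⟩,
⟨nat_lit 2, dw (nat_lit 0x01), nat_lit 2, dw (nat_lit 0x01), dw (nat_lit 0x020a0c)⟩,
⟨nat_lit 2, dw (nat_lit 0x02), nat_lit 1, dw (nat_lit 0x01), dw (nat_lit 0x020b080b)⟩,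
⟨nat_lit 2, dw (nat_lit 0x03), nat_lit 2, dw (nat_lit 0x03), dw (nat_lit 0x0407070c)⟩,
⟨nat_lit 2, dw (nat_lit 0x06), nat_lit 1, dw (nat_lit 0x05), dw (nat_lit 0x06)⟩,
⟨nat_lit 4, dw (nat_lit 0x03), nat_lit 4, dw (nat_lit 0x03), dw (nat_lit 0x01030c)⟩,
⟨nat_lit 4, dw (nat_lit 0x06), nat_lit 1, dw (nat_lit 0x0401), dw (nat_lit 0x06030c)⟩,
⟨nat_lit 1, dw (nat_lit 0x0601), nat_lit 2, dw (nat_lit 0x0502), dw (nat_lit 0x03020a0b)⟩,
⟨nat_lit 2, dw (nat_lit 0x0401), nat_lit 4, dw (nat_lit 0x0501), dw (nat_lit 0x06010c)⟩],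
[dw (nat_lit 0x01), dw (nat_lit 0x0202), dw (nat_lit 0x03), dw (nat_lit 0x01)]⟩],
[⟨dw (nat_lit 0x01), (nat_lit 0xf252249c0e0800a9e0a), [dw (nat_lit 0x01), dw (nat_lit 0x03), dw (nat_lit 0x05), dw (nat_lit 0x01), dw (nat_lit 0x05), dw (nat_lit 0x07), dw (nat_lit 0x01)], (.cons (nat_lit 2) [dw (nat_lit 0x07)] [dw (nat_lit 0x01), dw (nat_lit 0x0203), dw (nat_lit 0x01), dw (nat_lit 0x0203)]
(.cons (nat_lit 4) [dw (nat_lit 0x0b)] [dw (nat_lit 0x01), dw (nat_lit 0x01)]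
.nil)), [dw (nat_lit 0x07), dw (nat_lit 0x0b)]⟩,
⟨dw (nat_lit 0x02), (nat_lit 0xa0d0098627064c2060f4), [dw (nat_lit 0x01), dw (nat_lit 0x03), dw (nat_lit 0x05), dw (nat_lit 0x01), dw (nat_lit 0x05), dw (nat_lit 0x07), dw (nat_lit 0x01)], (.cons (nat_lit 2) [dw (nat_lit 0x07)] [dw (nat_lit 0x01), dw (nat_lit 0x0204), dw (nat_lit 0x01), dw (nat_lit 0x03)]
(.cons (nat_lit 4) [dw (nat_lit 0x0b)] [dw (nat_lit 0x01), dw (nat_lit 0x01)]
.nil)), [dw (nat_lit 0x07), dw (nat_lit 0x0b)]⟩,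
⟨dw (nat_lit 0x010301), (nat_lit 0x400000), [], (.cons (nat_lit 1) [dw (nat_lit 0x03)] [dw (nat_lit 0x01), dw (nat_lit 0x0206), dw (nat_lit 0x03), dw (nat_lit 0x01), dw (nat_lit 0x0202), dw (nat_lit 0x03), dw (nat_lit 0x01), dw (nat_lit 0x01)
]
(.cons (nat_lit 2) [dw (nat_lit 0x07)] [dw (nat_lit 0x01), dw (nat_lit 0x0301), dw (nat_lit 0x01), dw (nat_lit 0x03)]
(.cons (nat_lit 4) [dw (nat_lit 0x0b)] [dw (nat_lit 0x01), dw (nat_lit 0x01)]
.nil))), [dw (nat_lit 0x0602070b), dw (nat_lit 0x09080c), dw (nat_lit 0x070b)]⟩,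
⟨dw (nat_lit 0x010501), (nat_lit 0x500ad430181933950100), [dw (nat_lit 0x01), dw (nat_lit 0x03), dw (nat_lit 0x09), dw (nat_lit 0x07), dw (nat_lit 0x05), dw (nat_lit 0x07)], (.cons (nat_lit 1) [dw (nat_lit 0x0109), dw (nat_lit 0x010704)] [dw (nat_lit 0x01), dw (nat_lit 0x03), dw (nat_lit 0x01), dw (nat_lit 0x03)]
(.cons (nat_lit 2) [dw (nat_lit 0x090b)] [dw (nat_lit 0x01), dw (nat_lit 0x01)]
.nil)), [dw (nat_lit 0x040209080c), dw (nat_lit 0x0706010a0b), dw (nat_lit 0x0b080b)]⟩]⟩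
noncomputable def ex0 : List Word := [[nat_lit 2], [nat_lit 4], [nat_lit 6]]
noncomputable def ws0 : List Word := List.append ex0 (lev0.gens ws1)
noncomputable def rels0 : List (Word × Word) := List.append (lev0.rels ws1) (memRels (lev0.gens ws1) ex0 [dw (nat_lit 0x080207), dw (nat_lit 0x0704010308), dw (nat_lit 0x0407020803)])
noncomputable def rels : List (Word × Word) := List.append rels0 (List.append rels1 (List.append rels2 (List.append rels3 ([]))))
noncomputable def defs : List Word := [dw (nat_lit 0x030204), dw (nat_lit 0x020308050107020604040507020207), dw (nat_lit 0x0508040502040207030107), dw (nat_lit 0x0a0c0e090b09), dw (nat_lit 0x0d0b0e0c), dw (nat_lit 0x0f0f121210101210121210)]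
noncomputable def relsD : List (Word × Word) := defRels defs 4
noncomputable def relsO : List (Word × Word) := memRels ws0 (lets 4) [dw (nat_lit 0x07), dw (nat_lit 0x01), dw (nat_lit 0x03), dw (nat_lit 0x05)]
noncomputable def relsS : List (Word × Word) := []
noncomputable def allRels : List (Word × Word) := List.append rels (List.append relsD (List.append relsO relsS))
theorem reach_ok : subs (full 80) (orbRun nets (lets 4) reach (bits (List.map Prod.fst ss))) = true := by decide +kernel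
theorem chk3 : lev3.chk 80 nets ws4 1 3 = true := by decide +kernel
theorem chk2 : lev2.chk 80 nets ws3 3 24 = true := by decide +kernel
theorem chk1 : lev1.chk 80 nets ws2 24 648 = true := by decide +kernel
theorem chk0 : lev0.chk 80 nets ws1 648 51840 = true := by decide +kernel
theorem rc0 : relsChk 80 nets 7 (idArr 80 7 7 0) allRels = true := by decide +kernel
section
variable {Γ Ω : Type*} [Group Γ] [MulAction Γ Ω] (M : PM Γ Ω 80 nets)

theorem all_ok (hs : M.Sep 7 (idArr 80 7 7 0)) : Rels M.gen allRels := (M.rels_of_chk hs rc0)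
theorem sep [FaithfulSMul Γ Ω] : M.Sep 7 (idArr 80 7 7 0) := M.sep_idArr (by decide)
theorem all_ok' [FaithfulSMul Γ Ω] : Rels M.gen allRels := all_ok M (sep M)
theorem rels_of_all {gen : ℕ → Γ} (h : Rels gen allRels) : Rels gen rels := Rels.left h
theorem relsD_of_all {gen : ℕ → Γ} (h : Rels gen allRels) : Rels gen relsD := Rels.left (Rels.right h)
theorem relsO_of_all {gen : ℕ → Γ} (h : Rels gen allRels) : Rels gen relsO := Rels.left (Rels.right (Rels.right h))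
theorem relsS_of_all {gen : ℕ → Γ} (h : Rels gen allRels) : Rels gen relsS := Rels.right (Rels.right (Rels.right h))
theorem card4 (_hR : Rels M.gen rels) : Nat.card (sub M.gen ws4) = 1 := M.card_nil
theorem fixw4 (_hR : Rels M.gen rels) : M.FixTriv ws4 [] := M.fixTriv_nil
theorem r3 (hR : Rels M.gen rels) : Rels M.gen rels3 := (Rels.left (Rels.right (Rels.right (Rels.right hR))))
theorem res3 (hR : Rels M.gen rels) : M.LevelRes ws4 lev3 3 := M.level (card4 M hR) chk3 (Rels.left (r3 M hR))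
theorem ext3 (hR : Rels M.gen rels) : sub M.gen ws3 = sub M.gen (lev3.gens ws4) := sub_extend (Rels.right (r3 M hR))
theorem card3 (hR : Rels M.gen rels) : Nat.card (sub M.gen ws3) = 3 := by rw [ext3 M hR]; exact (res3 M hR).card
theorem fix3 (hR : Rels M.gen rels) : M.FixTriv (lev3.gens ws4) [4] := (res3 M hR).fixTriv M (fixw4 M hR)
theorem fixw3 (hR : Rels M.gen rels) : M.FixTriv ws3 [4] := fun g hg => fix3 M hR g (ext3 M hR ▸ hg)
theorem stab3 (hR : Rels M.gen rels) : sub M.gen ws3 ⊓ MulAction.stabilizer Γ (M.dec 4) = sub M.gen ws4 := by rw [ext3 M hR]; exact (res3 M hR).stab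
theorem orb3 (hR : Rels M.gen rels) (y : Ω) : y ∈ M.S lev3.orb ↔ ∃ g ∈ sub M.gen ws3, g • M.dec 4 = y := by rw [ext3 M hR]; exact (res3 M hR).orb y
theorem r2 (hR : Rels M.gen rels) : Rels M.gen rels2 := (Rels.left (Rels.right (Rels.right hR)))
theorem res2 (hR : Rels M.gen rels) : M.LevelRes ws3 lev2 24 := M.level (card3 M hR) chk2 (Rels.left (r2 M hR))
theorem ext2 (hR : Rels M.gen rels) : sub M.gen ws2 = sub M.gen (lev2.gens ws3) := sub_extend (Rels.right (r2 M hR))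
theorem card2 (hR : Rels M.gen rels) : Nat.card (sub M.gen ws2) = 24 := by rw [ext2 M hR]; exact (res2 M hR).card
theorem fix2 (hR : Rels M.gen rels) : M.FixTriv (lev2.gens ws3) [2, 4] := (res2 M hR).fixTriv M (fixw3 M hR)
theorem fixw2 (hR : Rels M.gen rels) : M.FixTriv ws2 [2, 4] := fun g hg => fix2 M hR g (ext2 M hR ▸ hg)
theorem stab2 (hR : Rels M.gen rels) : sub M.gen ws2 ⊓ MulAction.stabilizer Γ (M.dec 2) = sub M.gen ws3 := by rw [ext2 M hR]; exact (res2 M hR).stab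
theorem orb2 (hR : Rels M.gen rels) (y : Ω) : y ∈ M.S lev2.orb ↔ ∃ g ∈ sub M.gen ws2, g • M.dec 2 = y := by rw [ext2 M hR]; exact (res2 M hR).orb y
theorem r1 (hR : Rels M.gen rels) : Rels M.gen rels1 := (Rels.left (Rels.right hR))
theorem res1 (hR : Rels M.gen rels) : M.LevelRes ws2 lev1 648 := M.level (card2 M hR) chk1 (Rels.left (r1 M hR))
theorem ext1 (hR : Rels M.gen rels) : sub M.gen ws1 = sub M.gen (lev1.gens ws2) := sub_extend (Rels.right (r1 M hR))
theorem card1 (hR : Rels M.gen rels) : Nat.card (sub M.gen ws1) = 648 := by rw [ext1 M hR]; exact (res1 M hR).card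
theorem fix1 (hR : Rels M.gen rels) : M.FixTriv (lev1.gens ws2) [1, 2, 4] := (res1 M hR).fixTriv M (fixw2 M hR)
theorem fixw1 (hR : Rels M.gen rels) : M.FixTriv ws1 [1, 2, 4] := fun g hg => fix1 M hR g (ext1 M hR ▸ hg)
theorem stab1 (hR : Rels M.gen rels) : sub M.gen ws1 ⊓ MulAction.stabilizer Γ (M.dec 1) = sub M.gen ws2 := by rw [ext1 M hR]; exact (res1 M hR).stab
theorem orb1 (hR : Rels M.gen rels) (y : Ω) : y ∈ M.S lev1.orb ↔ ∃ g ∈ sub M.gen ws1, g • M.dec 1 = y := by rw [ext1 M hR]; exact (res1 M hR).orb y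
theorem r0 (hR : Rels M.gen rels) : Rels M.gen rels0 := (Rels.left hR)
theorem res0 (hR : Rels M.gen rels) : M.LevelRes ws1 lev0 51840 := M.level (card1 M hR) chk0 (Rels.left (r0 M hR))
theorem ext0 (hR : Rels M.gen rels) : sub M.gen ws0 = sub M.gen (lev0.gens ws1) := sub_extend (Rels.right (r0 M hR))
theorem card0 (hR : Rels M.gen rels) : Nat.card (sub M.gen ws0) = 51840 := by rw [ext0 M hR]; exact (res0 M hR).card
theorem fix0 (hR : Rels M.gen rels) : M.FixTriv (lev0.gens ws1) [0, 1, 2, 4] := (res0 M hR).fixTriv M (fixw1 M hR)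
theorem fixw0 (hR : Rels M.gen rels) : M.FixTriv ws0 [0, 1, 2, 4] := fun g hg => fix0 M hR g (ext0 M hR ▸ hg)
theorem stab0 (hR : Rels M.gen rels) : sub M.gen ws0 ⊓ MulAction.stabilizer Γ (M.dec 0) = sub M.gen ws1 := by rw [ext0 M hR]; exact (res0 M hR).stab
theorem orb0 (hR : Rels M.gen rels) (y : Ω) : y ∈ M.S lev0.orb ↔ ∃ g ∈ sub M.gen ws0, g • M.dec 0 = y := by rw [ext0 M hR]; exact (res0 M hR).orb y
theorem orig_eq {gen : ℕ → Γ} (h : Rels gen allRels) : sub gen (lets 4) = sub gen ws0 :=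
  sub_lets_eq_of_rels (ds := defs) (by decide +kernel) (relsD_of_all h) (by decide +kernel) (relsO_of_all h)
theorem gen_mem {gen : ℕ → Γ} (h : Rels gen allRels) {X : Subgroup Γ} (h0 : ∀ l < 4, gen l ∈ X) : sub gen ws0 ≤ X :=
  sub_le_of_wsIn (lo := 0) (gen_mem_of_defRels (ds := defs) (fun l _ hl => h0 l hl) (by decide +kernel) (relsD_of_all h)) (by decide +kernel)

end

/-- the permutation group -/
noncomputable abbrev P := permPM 80 nets (by decide) (by decide) nets_ok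
theorem allP : Rels P.gen allRels := all_ok' P
/-- machines of this type -/
abbrev St (X : Type*) [Group X] := Std X 80 nets ws0 51840 allRels
/-- the presentation on the strong generators -/
theorem hom {X : Type*} [Group X] (S : St X) {Δ : Type*} [Group Δ] (y : ℕ → Δ) (hy : Rels y rels) :
    ∃ φ : X →* Δ, φ.range = sub y ws0 ∧ ∀ w ∈ ws0, φ (H14.ev S.M.gen w) = H14.ev y w :=
  S.hom_ws y (card0 _ ((rels_of_all S.rels).prod hy))
/-- the presentation on all letters -/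
theorem hom' {X : Type*} [Group X] (S : St X) {Δ : Type*} [Group Δ] (y : ℕ → Δ) (hy : Rels y allRels) :
    ∃ φ : X →* Δ, φ.range = sub y (lets 4) ∧ ∀ l < 10, φ (S.M.gen l) = y l :=
  S.hom_all y (card0 _ (rels_of_all (S.rels.prod hy))) (orig_eq (S.rels.prod hy)) (orig_eq hy) (ds := defs)
    (by decide +kernel) (relsD_of_all (S.rels.prod hy)) (by decide +kernel)
/-- the matrices of the first letters (and their inverses) -/
def As : List (ℕ × ℕ) :=
[(nat_lit 0x16499a6a, nat_lit 0xa9a66194),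
  (nat_lit 0x40524601, nat_lit 0x40918501),
  (nat_lit 0x4010a4a1, nat_lit 0x40105451),
  (nat_lit 0x9a6a5258, nat_lit 0x2585a9a6)]
/-- the vectors -/
def V : ℕ := nat_lit 0x9692446029490918240648a501584269116188221582aa55649841910a569499289a2590a21686651a6a89a050462651a8852002a4045281108084125a2108a12a4566a959688a621405a6954a541940
theorem eqv_ok : c3.eqvM (2 + 2) 80 [1] V As nets 4 = true := by decide +kernel
theorem sep_ok : c3.sepM (2 + 2) 80 [1] V (ss.map Prod.fst) = true := by decide +kernel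
theorem core {F : Type*} [Field F] {a : Ar F} (ha : Ok a c3 3) {ι : Type} [Fintype ι] [DecidableEq ι]
    {e : ι ≃ Fin (2 + 2)} {T X : Type*} [Group T] [Group X] {ρ : T →* Matrix ι ι F} (h : Mem a e ρ As 4)
    (q : T →* X) (hq : ∀ g, q g = 1 → g = 1 ∨ g ∈ Subgroup.center T ∧ ∀ z ∈ sub P.gen (lets 4), (∀ x ∈ sub P.gen (lets 4), x * z = z * x) → z = 1)
    (hB : Bd (⊤ : Subgroup X) 51840) : ∃ S : St X, Spec S a e ρ q As 4 [1] V (ss.map Prod.fst) :=
  h.std ha (by decide +kernel) eqv_ok reach_ok sep_ok q hq (ds := defs) (by decide +kernel) (by decide +kernel)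
    (relsD_of_all allP) hB (orig_eq allP) (card0 P (rels_of_all allP)) allP
theorem std_spec {F : Type*} [Field F] [Fintype F] (hF : Fintype.card F = 3) {a : Ar F} (ha : Ok a c3 3) :
    ∃ S : St (Matrix.symplecticGroup (Fin 2) F), Spec S a finSumFinEquiv (spM 2 F) (MonoidHom.id _) As 4 [1] V (ss.map Prod.fst) :=
  core ha (mem_sp ha.1 (x := 2) (ha.neg_one (by decide +kernel)) (L := As) (by decide +kernel)) _ hq_id (bd_sp hF (by decide +kernel))
theorem std {F : Type*} [Field F] [Fintype F] (hF : Fintype.card F = 3) : Nonempty (St (Matrix.symplecticGroup (Fin 2) F)) :=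
  let ⟨_, ha⟩ := ar_3 (F := F) hF
  let ⟨S, _⟩ := std_spec hF ha
  ⟨S⟩

end H15.StdSp43
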