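import Cfsg.Agent.H14.Dw2
import Cfsg.Agent.H15.Std4

/-! Standard machine: `Lie.Sz F 4` over the field with 8 elements on the 65 points of the ovoid
Generated certificate (tools14/pkgen, tools15/std.py) for the permutation group StdSz8 of degree 65, order 29120, base 0 1 2. -/
set_option autoImplicit false
set_option maxRecDepth 100000

namespace H15.StdSz8
open H14

noncomputable def n0 : Net := (.cons (nat_lit 1) (nat_lit 0x5014400001105400)
(.cons (nat_lit 2) (nat_lit 0x1310201002112020)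
(.cons (nat_lit 4) (nat_lit 0x9040c0109040000)
(.cons (nat_lit 8) (nat_lit 0x47002500300000)
(.cons (nat_lit 16) (nat_lit 0xd0100000000)
(.cons (nat_lit 32) (nat_lit 0x4f200001)
(.cons (nat_lit 64) (nat_lit 0x1)
(.cons (nat_lit 32) (nat_lit 0x1)
(.cons (nat_lit 16) (nat_lit 0xdf250000b400)
(.cons (nat_lit 8) (nat_lit 0xde00df00bd0060)
(.cons (nat_lit 4) (nat_lit 0xa0c010800080f08)
(.cons (nat_lit 2) (nat_lit 0x2120101312010332)
(.cons (nat_lit 1) (nat_lit 0x1500405544050544)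
.nil)))))))))))))
theorem n0_ok : Net.ok 65 n0 = true := by decide +kernel
noncomputable def n1 : Net := (.cons (nat_lit 1) (nat_lit 0x5401154045550540)
(.cons (nat_lit 2) (nat_lit 0x1112020000032110)
(.cons (nat_lit 4) (nat_lit 0x50d010008000300)
(.cons (nat_lit 8) (nat_lit 0xe10044000b0000)
(.cons (nat_lit 16) (nat_lit 0x440100000000)
(.cons (nat_lit 32) (nat_lit 0x44010001)
(.cons (nat_lit 64) (nat_lit 0x1)
(.cons (nat_lit 32) (nat_lit 0x1)
(.cons (nat_lit 16) (nat_lit 0xed4100000b00)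
(.cons (nat_lit 8) (nat_lit 0x7d004600bb0030)
(.cons (nat_lit 4) (nat_lit 0xf0509080204070c)
(.cons (nat_lit 2) (nat_lit 0x1112030022232110)
(.cons (nat_lit 1) (nat_lit 0x5405155045550541)
.nil)))))))))))))
theorem n1_ok : Net.ok 65 n1 = true := by decide +kernel
noncomputable def n2 : Net := (.cons (nat_lit 1) (nat_lit 0x1141400544554100)
(.cons (nat_lit 2) (nat_lit 0x2101303312322200)
(.cons (nat_lit 4) (nat_lit 0x90d050e09020800)
(.cons (nat_lit 8) (nat_lit 0x28002e008d0000)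
(.cons (nat_lit 16) (nat_lit 0x347000000000)
(.cons (nat_lit 32) (nat_lit 0x1f626997)
(.cons (nat_lit 64) (nat_lit 0x1)
(.cons (nat_lit 32) (nat_lit 0x1)
(.cons (nat_lit 16) (nat_lit 0x8dd40000df1e)
(.cons (nat_lit 8) (nat_lit 0xa1006800ef0016)
(.cons (nat_lit 4) (nat_lit 0xf040f0003010206)
(.cons (nat_lit 2) (nat_lit 0x2310033120121300)
(.cons (nat_lit 1) (nat_lit 0x55540050004414)
.nil)))))))))))))
theorem n2_ok : Net.ok 65 n2 = true := by decide +kernel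
noncomputable def n3 : Net := (.cons (nat_lit 1) (nat_lit 0x5410140441500050)
(.cons (nat_lit 2) (nat_lit 0x2320102001220020)
(.cons (nat_lit 4) (nat_lit 0x20d03000a090a00)
(.cons (nat_lit 8) (nat_lit 0x2000800200000)
(.cons (nat_lit 16) (nat_lit 0x788700000001)
(.cons (nat_lit 32) (nat_lit 0x93626dcc)
(.cons (nat_lit 64) (nat_lit 0x1)
(.cons (nat_lit 32) (nat_lit 0x1)
(.cons (nat_lit 16) (nat_lit 0x7b080000406d)
(.cons (nat_lit 8) (nat_lit 0xd2007c00a20044)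
(.cons (nat_lit 4) (nat_lit 0x7060b01030d0f04)
(.cons (nat_lit 2) (nat_lit 0x1100030232233310)
(.cons (nat_lit 1) (nat_lit 0x1114450505041140)
.nil)))))))))))))
theorem n3_ok : Net.ok 65 n3 = true := by decide +kernel
noncomputable def nets : List Net := [n0, n1, n2, n3]
theorem nets_ok : netsOk 65 nets = true := List.all_eq_true.2 (fa_cons n0_ok (fa_cons n1_ok (fa_cons n2_ok (fa_cons n3_ok (fa_nil)))))
noncomputable def ss : List (Nat × Nat) := [(0, 0)]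
noncomputable def ws3 : List Word := []
noncomputable def reach : List Word := [dw (nat_lit 0x03), dw (nat_lit 0x01), dw (nat_lit 0x0301), dw (nat_lit 0x01), dw (nat_lit 0x0401), dw (nat_lit 0x01), dw (nat_lit 0x0401), dw (nat_lit 0x01)
, dw (nat_lit 0x0101), dw (nat_lit 0x03), dw (nat_lit 0x01), dw (nat_lit 0x03), dw (nat_lit 0x01)]
noncomputable def lev2 : Level := ⟨nat_lit 2,
[⟨[nat_lit 6], [], [],
[⟨nat_lit 0, [], nat_lit 1, [], []⟩,
⟨nat_lit 1, [], nat_lit 3, [], []⟩,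
⟨nat_lit 2, [], nat_lit 0, [], []⟩,
⟨nat_lit 3, [], nat_lit 5, [], []⟩,
⟨nat_lit 4, [], nat_lit 2, [], []⟩,
⟨nat_lit 5, [], nat_lit 6, [], []⟩,
⟨nat_lit 6, [], nat_lit 4, [], []⟩],
[]⟩],
[⟨dw (nat_lit 0x01), (nat_lit 0x20000000000), [], .nil, []⟩,
⟨dw (nat_lit 0x02), (nat_lit 0x80000000), [], .nil, []⟩,
⟨dw (nat_lit 0x0101), (nat_lit 0x2000000000), [], .nil, []⟩,
⟨dw (nat_lit 0x0202), (nat_lit 0x200000000), [], .nil, []⟩,
⟨dw (nat_lit 0x010101), (nat_lit 0x8000000000000000), [], .nil, []⟩,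
⟨dw (nat_lit 0x020202), (nat_lit 0x10000000), [], .nil, []⟩]⟩
noncomputable def ex2 : List Word := []
noncomputable def ws2 : List Word := List.append ex2 (lev2.gens ws3)
noncomputable def rels2 : List (Word × Word) := List.append (lev2.rels ws3) (memRels (lev2.gens ws3) ex2 [])
noncomputable def lev1 : Level := ⟨nat_lit 1,
[⟨[nat_lit 0], [], [],
[⟨nat_lit 0, [], nat_lit 1, [], []⟩,
⟨nat_lit 1, [], nat_lit 3, [], []⟩,
⟨nat_lit 2, [], nat_lit 0, [], []⟩,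
⟨nat_lit 3, [], nat_lit 2, [], []⟩,
⟨nat_lit 4, [], nat_lit 9, dw (nat_lit 0x020202), dw (nat_lit 0x0202)⟩,
⟨nat_lit 5, [], nat_lit 5, dw (nat_lit 0x0101), dw (nat_lit 0x0202)⟩,
⟨nat_lit 6, [], nat_lit 4, dw (nat_lit 0x010101), dw (nat_lit 0x020202)⟩,
⟨nat_lit 7, [], nat_lit 2, dw (nat_lit 0x01), []⟩,
⟨nat_lit 8, [], nat_lit 7, dw (nat_lit 0x01), dw (nat_lit 0x020202)⟩,
⟨nat_lit 9, [], nat_lit 2, dw (nat_lit 0x02), []⟩,
⟨nat_lit 1, dw (nat_lit 0x01), nat_lit 4, [], []⟩,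
⟨nat_lit 1, dw (nat_lit 0x02), nat_lit 5, [], []⟩,
⟨nat_lit 2, dw (nat_lit 0x01), nat_lit 6, [], []⟩,
⟨nat_lit 2, dw (nat_lit 0x02), nat_lit 8, [], []⟩,
⟨nat_lit 3, dw (nat_lit 0x01), nat_lit 5, dw (nat_lit 0x010101), dw (nat_lit 0x02)⟩,
⟨nat_lit 3, dw (nat_lit 0x02), nat_lit 9, dw (nat_lit 0x010101), dw (nat_lit 0x020202)⟩,
⟨nat_lit 4, dw (nat_lit 0x01), nat_lit 4, dw (nat_lit 0x02), dw (nat_lit 0x0101)⟩,
⟨nat_lit 4, dw (nat_lit 0x02), nat_lit 8, dw (nat_lit 0x0101), dw (nat_lit 0x02)⟩,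
⟨nat_lit 5, dw (nat_lit 0x01), nat_lit 6, dw (nat_lit 0x010101), dw (nat_lit 0x010101)⟩,
⟨nat_lit 5, dw (nat_lit 0x02), nat_lit 6, dw (nat_lit 0x020202), []⟩,
⟨nat_lit 6, dw (nat_lit 0x01), nat_lit 7, dw (nat_lit 0x02), dw (nat_lit 0x0101)⟩,
⟨nat_lit 6, dw (nat_lit 0x02), nat_lit 4, dw (nat_lit 0x01), dw (nat_lit 0x0202)⟩,
⟨nat_lit 7, dw (nat_lit 0x01), nat_lit 9, [], dw (nat_lit 0x010101)⟩,
⟨nat_lit 7, dw (nat_lit 0x02), nat_lit 9, dw (nat_lit 0x0101), dw (nat_lit 0x02)⟩,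
⟨nat_lit 8, dw (nat_lit 0x01), nat_lit 5, dw (nat_lit 0x020202), dw (nat_lit 0x020202)⟩,
⟨nat_lit 8, dw (nat_lit 0x02), nat_lit 4, dw (nat_lit 0x020202), []⟩,
⟨nat_lit 9, dw (nat_lit 0x01), nat_lit 7, dw (nat_lit 0x010101), dw (nat_lit 0x010101)⟩,
⟨nat_lit 9, dw (nat_lit 0x02), nat_lit 5, dw (nat_lit 0x0202), dw (nat_lit 0x01)⟩,
⟨nat_lit 1, dw (nat_lit 0x0101), nat_lit 5, dw (nat_lit 0x02), dw (nat_lit 0x020202)⟩,
⟨nat_lit 1, dw (nat_lit 0x0202), nat_lit 1, dw (nat_lit 0x01), dw (nat_lit 0x020202)⟩,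
⟨nat_lit 2, dw (nat_lit 0x0101), nat_lit 6, dw (nat_lit 0x0202), dw (nat_lit 0x010101)⟩,
⟨nat_lit 2, dw (nat_lit 0x0202), nat_lit 8, dw (nat_lit 0x020202), dw (nat_lit 0x0101)⟩,
⟨nat_lit 3, dw (nat_lit 0x0101), nat_lit 4, dw (nat_lit 0x0101), dw (nat_lit 0x02)⟩,
⟨nat_lit 3, dw (nat_lit 0x0202), nat_lit 6, dw (nat_lit 0x0101), dw (nat_lit 0x0101)⟩,
⟨nat_lit 4, dw (nat_lit 0x0101), nat_lit 3, dw (nat_lit 0x02), dw (nat_lit 0x020202)⟩,
⟨nat_lit 4, dw (nat_lit 0x0202), nat_lit 1, dw (nat_lit 0x0101), dw (nat_lit 0x020202)⟩,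
⟨nat_lit 5, dw (nat_lit 0x0101), nat_lit 2, dw (nat_lit 0x020202), dw (nat_lit 0x020202)⟩,
⟨nat_lit 5, dw (nat_lit 0x0202), nat_lit 7, dw (nat_lit 0x0202), dw (nat_lit 0x0202)⟩,
⟨nat_lit 6, dw (nat_lit 0x0101), nat_lit 3, dw (nat_lit 0x020202), dw (nat_lit 0x02)⟩,
⟨nat_lit 6, dw (nat_lit 0x0202), nat_lit 8, dw (nat_lit 0x0202), dw (nat_lit 0x0101)⟩,
⟨nat_lit 7, dw (nat_lit 0x0101), nat_lit 3, dw (nat_lit 0x01), dw (nat_lit 0x0101)⟩,
⟨nat_lit 7, dw (nat_lit 0x0202), nat_lit 9, dw (nat_lit 0x0202), dw (nat_lit 0x0101)⟩,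
⟨nat_lit 8, dw (nat_lit 0x0101), nat_lit 6, dw (nat_lit 0x02), dw (nat_lit 0x01)⟩,
⟨nat_lit 8, dw (nat_lit 0x0202), nat_lit 2, dw (nat_lit 0x010101), dw (nat_lit 0x01)⟩,
⟨nat_lit 9, dw (nat_lit 0x0101), nat_lit 1, dw (nat_lit 0x020202), dw (nat_lit 0x020202)⟩,
⟨nat_lit 9, dw (nat_lit 0x0202), nat_lit 9, dw (nat_lit 0x02), dw (nat_lit 0x02)⟩,
⟨nat_lit 1, dw (nat_lit 0x010101), nat_lit 7, dw (nat_lit 0x020202), dw (nat_lit 0x0202)⟩,
⟨nat_lit 1, dw (nat_lit 0x020202), nat_lit 6, dw (nat_lit 0x01), dw (nat_lit 0x0101)⟩,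
⟨nat_lit 2, dw (nat_lit 0x010101), nat_lit 2, dw (nat_lit 0x0101), dw (nat_lit 0x01)⟩,
⟨nat_lit 2, dw (nat_lit 0x020202), nat_lit 1, dw (nat_lit 0x02), dw (nat_lit 0x0202)⟩,
⟨nat_lit 3, dw (nat_lit 0x010101), nat_lit 7, dw (nat_lit 0x0101), []⟩,
⟨nat_lit 3, dw (nat_lit 0x020202), nat_lit 8, dw (nat_lit 0x010101), dw (nat_lit 0x0101)⟩,
⟨nat_lit 4, dw (nat_lit 0x010101), nat_lit 7, [], dw (nat_lit 0x010101)⟩,
⟨nat_lit 4, dw (nat_lit 0x020202), nat_lit 1, dw (nat_lit 0x010101), dw (nat_lit 0x0101)⟩,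
⟨nat_lit 5, dw (nat_lit 0x010101), nat_lit 3, dw (nat_lit 0x010101), dw (nat_lit 0x02)⟩,
⟨nat_lit 5, dw (nat_lit 0x020202), nat_lit 5, dw (nat_lit 0x01), dw (nat_lit 0x010101)⟩,
⟨nat_lit 6, dw (nat_lit 0x010101), nat_lit 8, dw (nat_lit 0x01), dw (nat_lit 0x020202)⟩,
⟨nat_lit 6, dw (nat_lit 0x020202), nat_lit 4, dw (nat_lit 0x0202), dw (nat_lit 0x02)⟩,
⟨nat_lit 7, dw (nat_lit 0x010101), nat_lit 2, dw (nat_lit 0x0202), dw (nat_lit 0x02)⟩,
⟨nat_lit 7, dw (nat_lit 0x020202), nat_lit 8, dw (nat_lit 0x02), []⟩,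
⟨nat_lit 8, dw (nat_lit 0x010101), nat_lit 3, dw (nat_lit 0x0202), dw (nat_lit 0x020202)⟩,
⟨nat_lit 8, dw (nat_lit 0x020202), nat_lit 9, dw (nat_lit 0x01), dw (nat_lit 0x010101)⟩,
⟨nat_lit 9, dw (nat_lit 0x010101), nat_lit 3, dw (nat_lit 0x0101), []⟩,
⟨nat_lit 9, dw (nat_lit 0x020202), nat_lit 1, dw (nat_lit 0x0202), dw (nat_lit 0x0202)⟩],
[]⟩],
[⟨dw (nat_lit 0x01), (nat_lit 0x8000022290000004), [dw (nat_lit 0x01), dw (nat_lit 0x0202), dw (nat_lit 0x020202)], .nil, []⟩,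
⟨dw (nat_lit 0x02), (nat_lit 0x8081000a0000a0), [dw (nat_lit 0x01), dw (nat_lit 0x0202), dw (nat_lit 0x020202)], .nil, []⟩,
⟨dw (nat_lit 0x0101), (nat_lit 0x2124000000100208), [dw (nat_lit 0x01), dw (nat_lit 0x0202), dw (nat_lit 0x020202)], .nil, []⟩,
⟨dw (nat_lit 0x010301), (nat_lit 0x80200004104a000), [dw (nat_lit 0x01), dw (nat_lit 0x0101), dw (nat_lit 0x010101)], .nil, []⟩,
⟨dw (nat_lit 0x010401), (nat_lit 0x10002040200b0000), [dw (nat_lit 0x01), dw (nat_lit 0x0202), dw (nat_lit 0x010101)], .nil, []⟩,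
⟨dw (nat_lit 0x010302), (nat_lit 0x240000800c01400), [dw (nat_lit 0x01), dw (nat_lit 0x0202), dw (nat_lit 0x0101), dw (nat_lit 0x01)], .nil, []⟩,
⟨dw (nat_lit 0x020302), (nat_lit 0x100000c9000200010), [dw (nat_lit 0x01), dw (nat_lit 0x0202), dw (nat_lit 0x020202)], .nil, []⟩,
⟨dw (nat_lit 0x010402), (nat_lit 0x4401000500000900), [dw (nat_lit 0x01), dw (nat_lit 0x0202), dw (nat_lit 0x0101), dw (nat_lit 0x01)], .nil, []⟩,
⟨dw (nat_lit 0x020402), (nat_lit 0x18500004004040), [dw (nat_lit 0x01), dw (nat_lit 0x0202), dw (nat_lit 0x010101)], .nil, []⟩]⟩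
noncomputable def ex1 : List Word := [[nat_lit 4]]
noncomputable def ws1 : List Word := List.append ex1 (lev1.gens ws2)
noncomputable def rels1 : List (Word × Word) := List.append (lev1.rels ws2) (memRels (lev1.gens ws2) ex1 [dw (nat_lit 0x020301040404)])
noncomputable def lev0 : Level := ⟨nat_lit 0,
[⟨[nat_lit 2], [dw (nat_lit 0x05)], [dw (nat_lit 0x06)],
[⟨nat_lit 0, [], nat_lit 1, [], []⟩,
⟨nat_lit 1, [], nat_lit 0, [], []⟩,
⟨nat_lit 1, dw (nat_lit 0x03), nat_lit 1, dw (nat_lit 0x040502), dw (nat_lit 0x01030202)⟩,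
⟨nat_lit 1, dw (nat_lit 0x02), nat_lit 1, dw (nat_lit 0x04010601), dw (nat_lit 0x03030101050505)⟩,
⟨nat_lit 1, dw (nat_lit 0x0401), nat_lit 1, dw (nat_lit 0x060402), dw (nat_lit 0x0204010606)⟩,
⟨nat_lit 1, dw (nat_lit 0x0402), nat_lit 1, dw (nat_lit 0x060401), dw (nat_lit 0x05020306)⟩,
⟨nat_lit 1, dw (nat_lit 0x0203), nat_lit 1, dw (nat_lit 0x050203), dw (nat_lit 0x06040206)⟩,
⟨nat_lit 1, dw (nat_lit 0x030101), nat_lit 1, dw (nat_lit 0x030601), dw (nat_lit 0x040101060606)⟩,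
⟨nat_lit 1, dw (nat_lit 0x030601), nat_lit 1, dw (nat_lit 0x030101), dw (nat_lit 0x0601050505)⟩,
⟨nat_lit 1, dw (nat_lit 0x040502), nat_lit 1, dw (nat_lit 0x03), dw (nat_lit 0x04010601050505)⟩,
⟨nat_lit 1, dw (nat_lit 0x04010601), nat_lit 1, dw (nat_lit 0x02), dw (nat_lit 0x01010401)⟩],
[dw (nat_lit 0x01), dw (nat_lit 0x0202), dw (nat_lit 0x010101)]⟩],
[⟨dw (nat_lit 0x01), (nat_lit 0x1fffffffffffffffe), [dw (nat_lit 0x01), dw (nat_lit 0x03), dw (nat_lit 0x01), dw (nat_lit 0x03), dw (nat_lit 0x05), dw (nat_lit 0x01), dw (nat_lit 0x03), dw (nat_lit 0x03)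
, dw (nat_lit 0x05), dw (nat_lit 0x01)], (.cons (nat_lit 2) [dw (nat_lit 0x05)] [dw (nat_lit 0x01), dw (nat_lit 0x0101), dw (nat_lit 0x0101), dw (nat_lit 0x01)]
.nil), [dw (nat_lit 0x06)]⟩]⟩
noncomputable def ex0 : List Word := []
noncomputable def ws0 : List Word := List.append ex0 (lev0.gens ws1)
noncomputable def rels0 : List (Word × Word) := List.append (lev0.rels ws1) (memRels (lev0.gens ws1) ex0 [])
noncomputable def prim0 : List (List Word) := [[dw (nat_lit 0x01), dw (nat_lit 0x03), dw (nat_lit 0x05), dw (nat_lit 0x01), dw (nat_lit 0x03), dw (nat_lit 0x05), dw (nat_lit 0x07), dw (nat_lit 0x01)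
, dw (nat_lit 0x03), dw (nat_lit 0x05)]]
noncomputable def rels : List (Word × Word) := List.append rels0 (List.append rels1 (List.append rels2 ([])))
noncomputable def defs : List Word := [dw (nat_lit 0x0402040204020404020401010401030202), dw (nat_lit 0x0202060606020601)]
noncomputable def relsD : List (Word × Word) := defRels defs 2
noncomputable def relsO : List (Word × Word) := memRels ws0 (lets 2) [dw (nat_lit 0x05), dw (nat_lit 0x01)]
noncomputable def relsS : List (Word × Word) := []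
noncomputable def allRels : List (Word × Word) := List.append rels (List.append relsD (List.append relsO relsS))
theorem reach_ok : subs (full 65) (orbRun nets (lets 2) reach (bits (List.map Prod.fst ss))) = true := by decide +kernel
theorem chk2 : lev2.chk 65 nets ws3 1 7 = true := by decide +kernel
theorem chk1 : lev1.chk 65 nets ws2 7 448 = true := by decide +kernel
theorem primc0 : PM.primChk nets ws1 lev0 lev0.sos prim0 = true := by decide +kernel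
theorem chk0 : lev0.chk 65 nets ws1 448 29120 = true := by decide +kernel
theorem rc0 : relsChk 65 nets 7 (idArr 65 7 7 0) allRels = true := by decide +kernel
section
variable {Γ Ω : Type*} [Group Γ] [MulAction Γ Ω] (M : PM Γ Ω 65 nets)

theorem all_ok (hs : M.Sep 7 (idArr 65 7 7 0)) : Rels M.gen allRels := (M.rels_of_chk hs rc0)
theorem sep [FaithfulSMul Γ Ω] : M.Sep 7 (idArr 65 7 7 0) := M.sep_idArr (by decide)
theorem all_ok' [FaithfulSMul Γ Ω] : Rels M.gen allRels := all_ok M (sep M)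
theorem rels_of_all {gen : ℕ → Γ} (h : Rels gen allRels) : Rels gen rels := Rels.left h
theorem relsD_of_all {gen : ℕ → Γ} (h : Rels gen allRels) : Rels gen relsD := Rels.left (Rels.right h)
theorem relsO_of_all {gen : ℕ → Γ} (h : Rels gen allRels) : Rels gen relsO := Rels.left (Rels.right (Rels.right h))
theorem relsS_of_all {gen : ℕ → Γ} (h : Rels gen allRels) : Rels gen relsS := Rels.right (Rels.right (Rels.right h))
theorem card3 (_hR : Rels M.gen rels) : Nat.card (sub M.gen ws3) = 1 := M.card_nil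
theorem fixw3 (_hR : Rels M.gen rels) : M.FixTriv ws3 [] := M.fixTriv_nil
theorem r2 (hR : Rels M.gen rels) : Rels M.gen rels2 := (Rels.left (Rels.right (Rels.right hR)))
theorem res2 (hR : Rels M.gen rels) : M.LevelRes ws3 lev2 7 := M.level (card3 M hR) chk2 (Rels.left (r2 M hR))
theorem ext2 (hR : Rels M.gen rels) : sub M.gen ws2 = sub M.gen (lev2.gens ws3) := sub_extend (Rels.right (r2 M hR))
theorem card2 (hR : Rels M.gen rels) : Nat.card (sub M.gen ws2) = 7 := by rw [ext2 M hR]; exact (res2 M hR).card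
theorem fix2 (hR : Rels M.gen rels) : M.FixTriv (lev2.gens ws3) [2] := (res2 M hR).fixTriv M (fixw3 M hR)
theorem fixw2 (hR : Rels M.gen rels) : M.FixTriv ws2 [2] := fun g hg => fix2 M hR g (ext2 M hR ▸ hg)
theorem stab2 (hR : Rels M.gen rels) : sub M.gen ws2 ⊓ MulAction.stabilizer Γ (M.dec 2) = sub M.gen ws3 := by rw [ext2 M hR]; exact (res2 M hR).stab
theorem orb2 (hR : Rels M.gen rels) (y : Ω) : y ∈ M.S lev2.orb ↔ ∃ g ∈ sub M.gen ws2, g • M.dec 2 = y := by rw [ext2 M hR]; exact (res2 M hR).orb y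
theorem r1 (hR : Rels M.gen rels) : Rels M.gen rels1 := (Rels.left (Rels.right hR))
theorem res1 (hR : Rels M.gen rels) : M.LevelRes ws2 lev1 448 := M.level (card2 M hR) chk1 (Rels.left (r1 M hR))
theorem ext1 (hR : Rels M.gen rels) : sub M.gen ws1 = sub M.gen (lev1.gens ws2) := sub_extend (Rels.right (r1 M hR))
theorem card1 (hR : Rels M.gen rels) : Nat.card (sub M.gen ws1) = 448 := by rw [ext1 M hR]; exact (res1 M hR).card
theorem fix1 (hR : Rels M.gen rels) : M.FixTriv (lev1.gens ws2) [1, 2] := (res1 M hR).fixTriv M (fixw2 M hR)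
theorem fixw1 (hR : Rels M.gen rels) : M.FixTriv ws1 [1, 2] := fun g hg => fix1 M hR g (ext1 M hR ▸ hg)
theorem stab1 (hR : Rels M.gen rels) : sub M.gen ws1 ⊓ MulAction.stabilizer Γ (M.dec 1) = sub M.gen ws2 := by rw [ext1 M hR]; exact (res1 M hR).stab
theorem orb1 (hR : Rels M.gen rels) (y : Ω) : y ∈ M.S lev1.orb ↔ ∃ g ∈ sub M.gen ws1, g • M.dec 1 = y := by rw [ext1 M hR]; exact (res1 M hR).orb y
theorem r0 (hR : Rels M.gen rels) : Rels M.gen rels0 := (Rels.left hR)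
theorem res0 (hR : Rels M.gen rels) : M.LevelRes ws1 lev0 29120 := M.level (card1 M hR) chk0 (Rels.left (r0 M hR))
theorem ext0 (hR : Rels M.gen rels) : sub M.gen ws0 = sub M.gen (lev0.gens ws1) := sub_extend (Rels.right (r0 M hR))
theorem card0 (hR : Rels M.gen rels) : Nat.card (sub M.gen ws0) = 29120 := by rw [ext0 M hR]; exact (res0 M hR).card
theorem fix0 (hR : Rels M.gen rels) : M.FixTriv (lev0.gens ws1) [0, 1, 2] := (res0 M hR).fixTriv M (fixw1 M hR)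
theorem fixw0 (hR : Rels M.gen rels) : M.FixTriv ws0 [0, 1, 2] := fun g hg => fix0 M hR g (ext0 M hR ▸ hg)
theorem stab0 (hR : Rels M.gen rels) : sub M.gen ws0 ⊓ MulAction.stabilizer Γ (M.dec 0) = sub M.gen ws1 := by rw [ext0 M hR]; exact (res0 M hR).stab
theorem orb0 (hR : Rels M.gen rels) (y : Ω) : y ∈ M.S lev0.orb ↔ ∃ g ∈ sub M.gen ws0, g • M.dec 0 = y := by rw [ext0 M hR]; exact (res0 M hR).orb y
theorem max0 (hR : Rels M.gen rels) (X : Subgroup Γ) (h1 : sub M.gen ws1 ≤ X) (h2 : X ≤ sub M.gen ws0) : X = sub M.gen ws1 ∨ X = sub M.gen ws0 := by rw [ext0 M hR] at h2 ⊢; exact (res0 M hR).max M primc0 X h1 h2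
theorem orig_eq {gen : ℕ → Γ} (h : Rels gen allRels) : sub gen (lets 2) = sub gen ws0 :=
  sub_lets_eq_of_rels (ds := defs) (by decide +kernel) (relsD_of_all h) (by decide +kernel) (relsO_of_all h)
theorem gen_mem {gen : ℕ → Γ} (h : Rels gen allRels) {X : Subgroup Γ} (h0 : ∀ l < 2, gen l ∈ X) : sub gen ws0 ≤ X :=
  sub_le_of_wsIn (lo := 0) (gen_mem_of_defRels (ds := defs) (fun l _ hl => h0 l hl) (by decide +kernel) (relsD_of_all h)) (by decide +kernel)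

end

/-- the permutation group -/
noncomputable abbrev P := permPM 65 nets (by decide) (by decide) nets_ok
theorem allP : Rels P.gen allRels := all_ok' P
/-- machines of this type -/
abbrev St (X : Type*) [Group X] := Std X 65 nets ws0 29120 allRels
/-- the presentation on the strong generators -/
theorem hom {X : Type*} [Group X] (S : St X) {Δ : Type*} [Group Δ] (y : ℕ → Δ) (hy : Rels y rels) :
    ∃ φ : X →* Δ, φ.range = sub y ws0 ∧ ∀ w ∈ ws0, φ (H14.ev S.M.gen w) = H14.ev y w :=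
  S.hom_ws y (card0 _ ((rels_of_all S.rels).prod hy))
/-- the presentation on all letters -/
theorem hom' {X : Type*} [Group X] (S : St X) {Δ : Type*} [Group Δ] (y : ℕ → Δ) (hy : Rels y allRels) :
    ∃ φ : X →* Δ, φ.range = sub y (lets 2) ∧ ∀ l < 4, φ (S.M.gen l) = y l :=
  S.hom_all y (card0 _ (rels_of_all (S.rels.prod hy))) (orig_eq (S.rels.prod hy)) (orig_eq hy) (ds := defs)
    (by decide +kernel) (relsD_of_all (S.rels.prod hy)) (by decide +kernel)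
/-- the matrices of the first letters (and their inverses) -/
def As : List (ℕ × ℕ) :=
[(nat_lit 0x200240648a89, nat_lit 0x200240448ac9),
  (nat_lit 0x1008040200, nat_lit 0x1008040200)]
/-- the vectors -/
def V : ℕ := nat_lit 0x2dc29727b22226f2d634e2a423d33627322b2853072343ab29c2e33422b62c63752673ca2af33b3552f328e30a3e73a42e932e2bd2cc37938c3c43593622f93d73e921f32331f3d93ba3f438324936e3b539d2163123fa24125539220925d200001
theorem eqv_ok : c8.eqvM 4 65 [1, 2, 3, 4, 5, 6, 7] V As nets 2 = true := by decide +kernel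
theorem sep_ok : c8.sepM 4 65 [1, 2, 3, 4, 5, 6, 7] V (ss.map Prod.fst) = true := by decide +kernel
theorem ctrP : ∀ z ∈ sub P.gen (lets 2), (∀ x ∈ sub P.gen (lets 2), x * z = z * x) → z = 1 :=
  orig_eq allP ▸ center_triv (res0 P (rels_of_all allP)) (ext0 P (rels_of_all allP)) (card1 P (rels_of_all allP))
    (by decide) primc0 (fix0 P (rels_of_all allP)) (by decide +kernel)
theorem core {F : Type*} [Field F] {a : Ar F} (ha : Ok a c8 2) {ι : Type} [Fintype ι] [DecidableEq ι]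
    {e : ι ≃ Fin 4} {T X : Type*} [Group T] [Group X] {ρ : T →* Matrix ι ι F} (h : Mem a e ρ As 2)
    (q : T →* X) (hq : ∀ g, q g = 1 → g = 1 ∨ g ∈ Subgroup.center T ∧ ∀ z ∈ sub P.gen (lets 2), (∀ x ∈ sub P.gen (lets 2), x * z = z * x) → z = 1)
    (hB : Bd (⊤ : Subgroup X) 29120) : ∃ S : St X, Spec S a e ρ q As 2 [1, 2, 3, 4, 5, 6, 7] V (ss.map Prod.fst) :=
  h.std ha (by decide +kernel) eqv_ok reach_ok sep_ok q hq (ds := defs) (by decide +kernel) (by decide +kernel)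
    (relsD_of_all allP) hB (orig_eq allP) (card0 P (rels_of_all allP)) allP
theorem std_spec {F : Type*} [Field F] [Fintype F] (hF : Fintype.card F = 8) {a : Ar F} (ha : Ok a c8 2) :
    ∃ S : St (Cfsg.Lie.Sz F 4), Spec S a (Equiv.refl _) (glM (Cfsg.Lie.Sz F 4)) (MonoidHom.id _) As 2 [1, 2, 3, 4, 5, 6, 7] V (ss.map Prod.fst) :=
  core ha (mem_sz ha (m := 1) (by decide +kernel) (e := 4) (L := As) (by decide +kernel)) _ hq_id (bd_sz8 hF)
theorem std {F : Type*} [Field F] [Fintype F] (hF : Fintype.card F = 8) : Nonempty (St (Cfsg.Lie.Sz F 4)) :=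
  let ⟨_, ha⟩ := ar_8 (F := F) hF
  let ⟨S, _⟩ := std_spec hF ha
  ⟨S⟩

end H15.StdSz8
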