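import Cfsg.Agent.H15.TC2

/-! Coset enumeration certificate TSuz4 (presentation Suz, letters cd, subgroup trivial), complete. -/
set_option maxRecDepth 8000
set_option Elab.async false
namespace H15.TSuz4
open TC

def tT : BT := (.node (nat_lit 1) (.leaf (nat_lit 0x7b81013d1b9a000e139ac0404ddec5800374c5a81012f6a92000d9292804049d68380035483981011f498a000d118a404045ce4180033441841010b288008082402000064820000031e2)) (.leaf (nat_lit 0x0)))
def tP : BT := (.node (nat_lit 1) (.leaf (nat_lit 0x806078000000040020100000000001000804000000000040020100000000001000804000000000040020100000000001000804000004020040000000200000000)) (.leaf (nat_lit 0x0)))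
def tS : BT := (.node (nat_lit 1) (.leaf (nat_lit 0x0)) (.leaf (nat_lit 0x0)))
def rels : List (List ℕ) := [[nat_lit 0,nat_lit 0],
  [nat_lit 1,nat_lit 1],
  [nat_lit 0,nat_lit 1,nat_lit 0,nat_lit 1,nat_lit 0,nat_lit 1,nat_lit 0,nat_lit 1,nat_lit 0,nat_lit 1,nat_lit 0,nat_lit 1,nat_lit 0,nat_lit 1,nat_lit 0,nat_lit 1]]
def subs : List (List ℕ) := []
noncomputable def row (v : ℕ) : ℕ := mkRow (BT.get tT) (nat_lit 32) (nat_lit 37) (nat_lit 0x2000000000) v
noncomputable def DC (c r : ℕ) : List ℕ := ruleC (nat_lit 0xfc0000000000000000000000000000000000000000000000000000000000000000000000000000000000000000002040) (nat_lit 37) rels c r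
noncomputable def D1 (r : ℕ) : List ℕ := rule (nat_lit 0xfc0000000000000000000000000000000000000000000000000000000000000000000000000000000000000000002040) (rels ++ subs.map (List.cons 63)) r
noncomputable def chk (v : ℕ) : Bool := chkRow row (nat_lit 7) (nat_lit 128) (nat_lit 32) (nat_lit 0xfc0000000000000000000000000000000000000000000000000000000000000000000000000000000000000000002040) (nat_lit 2) (nat_lit 16) (nat_lit 16) (nat_lit 17) (nat_lit 131072) (nat_lit 1536) (nat_lit 21) (nat_lit 11) (nat_lit 2048) DC D1 [nat_lit 0,nat_lit 1]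
  (mkRow (BT.get tP) (nat_lit 32) (nat_lit 33) (nat_lit 0x200000000) v) (Nat.rec 0 (fun j _ => BT.get tS j) (Nat.succ (Nat.div v (nat_lit 32)))) (Nat.succ v)
theorem c0 : allB chk 11 0 = true := by decide +kernel
theorem g0 : ∀ i < 1, allB chk 11 (0 + i) = true := (fl (c := 0) fl0 c0)
theorem call : ∀ i < 1, allB chk 11 i = true := (fl_add (a := 0) (b := 1) fl0 g0)
theorem sd : side (row 0) (nat_lit 37) (nat_lit 0x2000000000) (nat_lit 7) (nat_lit 32) (nat_lit 0xfc0000000000000000000000000000000000000000000000000000000000000000000000000000000000000000002040) (nat_lit 2) (nat_lit 16) (nat_lit 16) (nat_lit 21) 11 1 rels subs [nat_lit 0,nat_lit 1] = true := by decide +kernel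
theorem idx {G : Type*} [Group G] (gen : ℕ → G) (hrel : ∀ w ∈ rels, ev gen w = 1) (H : Subgroup G)
    (hsub : ∀ w ∈ subs, ev gen w ∈ H) :
    H.relIndex (Subgroup.closure (gen '' Set.Iio 2)) ≠ 0 ∧ H.relIndex (Subgroup.closure (gen '' Set.Iio 2)) ≤ 16 :=
  TC.idx (by decide) (final (fun _ => rfl) (fun _ _ => rfl) (fun _ => rfl) (fun _ h => ⟨_, _, h⟩) sd call hrel hsub)

end H15.TSuz4
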