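import Cfsg.Agent.H15.Lite
import Cfsg.Agent.H15.TSuz0
import Cfsg.Agent.H15.TSuz1
import Cfsg.Agent.H15.TSuz2
import Cfsg.Agent.H15.TSuz3
import Cfsg.Agent.H15.TSuz4
import Cfsg.Agent.H15.SuzP
import Cfsg.Prelude.Def_Spor_Suz

/-! The presented group `Cfsg.Spor.Suz`: order, simplicity, faithful action on 1782 points as a machine
`H15.Suz.M` (generator `ix a` is the generator `a`), point stabiliser `H15.Suz.stab`. -/

set_option linter.constructorNameAsVariable false

namespace H15.Suz
open Cfsg.Spor Cfsg.Spor.Suz H14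

/-- generators in order -/
def gl : List Gen := [.a, .b, .c, .d, .e, .f, .g]
def ix (a : Gen) : ℕ := gl.idxOf a
def ld : List (Gen × Bool) := gl.map fun a => (a, true)
/-- letters of the coset enumerations -/
def gen : ℕ → Cfsg.Spor.Suz := genOf ld (pof edges extra)

theorem codes : Codes (pof edges extra) (encOf ld) gen :=
  codes_cox (fun a => by cases a <;> decide) fun a => by cases a <;> decide

theorem rel : ∀ w ∈ allW (encOf ld) edges extra gl gl, ev gen w = 1 :=
  allW_rel codes (by decide) gl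

theorem top0 : Kl gen [0, 1, 2, 3, 4, 5, 6] = ⊤ := Kl_top codes fun a => by cases a <;> decide

theorem bd4 : Bd (Kl gen [2, 3]) (1 * 16) := (Bd.nil gen).step
  (idx_ren TSuz4.idx [2, 3] rfl (rel_ren rel (by decide +kernel)) _ (sub_ren gen (by decide +kernel)))
theorem bd3 : Bd (Kl gen [0, 1, 2, 3]) (1 * 16 * 135) := bd4.step
  (idx_ren TSuz3.idx [0, 1, 2, 3] rfl (rel_ren rel (by decide +kernel)) _ (sub_ren gen (by decide +kernel)))
theorem bd2 : Bd (Kl gen [0, 1, 2, 3, 4]) (1 * 16 * 135 * 280) := bd3.step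
  (idx_ren TSuz2.idx [0, 1, 2, 3, 4] rfl (rel_ren rel (by decide +kernel)) _ (sub_ren gen (by decide +kernel)))
theorem bd1 : Bd (Kl gen [0, 1, 2, 3, 4, 5]) (1 * 16 * 135 * 280 * 416) := bd2.step
  (idx_ren TSuz1.idx [0, 1, 2, 3, 4, 5] rfl (rel_ren rel (by decide +kernel)) _
    (sub_ren gen (by decide +kernel)))
theorem idx0 : (Kl gen [0, 1, 2, 3, 4, 5]).index ≠ 0 ∧ (Kl gen [0, 1, 2, 3, 4, 5]).index ≤ 1782 := by
  rw [← Subgroup.relIndex_top_right, ← top0]
  exact idx_ren TSuz0.idx [0, 1, 2, 3, 4, 5, 6] rfl (rel_ren rel (by decide +kernel)) _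
    (sub_ren gen (by decide +kernel))
theorem bd0 : Bd (⊤ : Subgroup Cfsg.Spor.Suz) 448345497600 :=
  bd1.step (K' := ⊤) (n := 1782) (by rw [Subgroup.relIndex_top_right]; exact idx0)

/-- the permutation machine -/
noncomputable abbrev P := permPM 1782 SuzP.nets (by decide) (by decide) SuzP.nets_ok

theorem hc : relsChk 1782 SuzP.nets 11 (idArr 1782 11 11 0) (homW ix edges extra gl) = true := by
  decide +kernel

theorem ex_pi : ∃ π : Cfsg.Spor.Suz →* Equiv.Perm (Fin 1782), ∀ a, π (pof edges extra a) = P.gen (ix a) :=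
  exists_hom ix P.gen (by decide) (P.rels_of_idArr (by decide) hc)

/-- the permutation representation -/
noncomputable def pi : Cfsg.Spor.Suz →* Equiv.Perm (Fin 1782) := ex_pi.choose

theorem pi_gen (a : Gen) : pi (pof edges extra a) = P.gen (ix a) := ex_pi.choose_spec a

theorem gen_range : ∀ l < 7, P.gen l ∈ pi.range := fun l hl => by
  obtain ⟨a, rfl⟩ : ∃ a, ix a = l := ⟨gl.getD l .a, by revert l; decide⟩
  exact ⟨_, pi_gen a⟩

theorem inj : Function.Injective pi ∧ Nat.card Cfsg.Spor.Suz = 448345497600 :=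
  inj_of_card pi bd0 (SuzP.gen_mem (SuzP.all_ok' P) gen_range)
    (SuzP.card0 P (SuzP.rels_of_all (SuzP.all_ok' P)))

instance instFaithful : FaithfulSMul Cfsg.Spor.Suz (Pt pi) := faithful_Pt inj.1

theorem ex_M : ∃ M : PM Cfsg.Spor.Suz (Pt pi) 1782 SuzP.nets, ∀ l, pi (M.gen l) = P.gen l :=
  exists_machine pi gen_range (ds := SuzP.defs) (by decide +kernel) (by decide +kernel)
    (SuzP.relsD_of_all (SuzP.all_ok' P))

/-- the presented group as a permutation machine -/
noncomputable def M : PM Cfsg.Spor.Suz (Pt pi) 1782 SuzP.nets := ex_M.choose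

theorem M_gen (a : Gen) : M.gen (ix a) = pof edges extra a :=
  inj.1 ((ex_M.choose_spec _).trans (pi_gen a).symm)

theorem R : Rels M.gen SuzP.allRels := SuzP.all_ok' M
theorem R' : Rels M.gen SuzP.rels := SuzP.rels_of_all R

theorem top : sub M.gen SuzP.ws0 = ⊤ :=
  (SuzP.orig_eq R).symm.trans (lets_top M_gen fun a => by cases a <;> decide)

theorem simple : IsSimpleGroup Cfsg.Spor.Suz := by
  have := SuzP.simple M R
  rw [top] at this
  exact Subgroup.topEquiv.symm.isSimpleGroup

theorem stab1 : sub M.gen SuzP.ws1 = MulAction.stabilizer Cfsg.Spor.Suz (M.dec 0) := by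
  rw [← SuzP.stab0 M R', top, top_inf_eq]

theorem index_stab0 : (MulAction.stabilizer Cfsg.Spor.Suz (M.dec 0)).index = 1782 :=
  (index_stab M top (SuzP.orb0 M R')).trans (by decide +kernel)

/-- the subgroup on `a, ..., f` -/
abbrev H : Subgroup Cfsg.Spor.Suz := (Subgroup.closure {r | r ∈ [a, b, c, d, e, f]}).map
  (PresentedGroup.mk (coxRelators edges ∪ {r | r ∈ extra}))

theorem Kl_le_H : Kl gen [0, 1, 2, 3, 4, 5] ≤ H := Kl_le fun x hx => by
  have := mem_map_closure codes (rs := [a, b, c, d, e, f]) (subs := [[0], [1], [2], [3], [4], [5]])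
    (by decide +kernel) [x] (by simpa using hx)
  simpa using this

theorem stab : H = MulAction.stabilizer Cfsg.Spor.Suz (M.dec 0) := by
  refine eq_stab ?_ (index_mono Kl_le_H idx0) index_stab0
  rw [H, map_closure_eq_sub M_gen]
  exact M.fix_sound (by decide) (by decide +kernel)

end H15.Suz
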