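import Cfsg.Agent.H15.TC2

/-! Coset enumeration certificates for the Carmichael presentations of the alternating groups of degree at most 12. -/
set_option maxRecDepth 8000
set_option Elab.async false
namespace H15.TAlt1
open TC

noncomputable def tT : BT := (.node (nat_lit 1) (.leaf (nat_lit 0x24006540016c0003a))
 (.leaf (nat_lit 0x0))
)
noncomputable def tP : BT := (.node (nat_lit 1) (.leaf (nat_lit 0xa03000020000000800))
 (.leaf (nat_lit 0x0))
)
noncomputable def tS : BT := (.node (nat_lit 1) (.leaf (nat_lit 0x0))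
 (.leaf (nat_lit 0x0))
)
def rels : List (List ℕ) := [[nat_lit 0,nat_lit 1],
  [nat_lit 0,nat_lit 0,nat_lit 0]]
def subs : List (List ℕ) := []
noncomputable def row (v : ℕ) : ℕ := mkRow (BT.get tT) (nat_lit 32) (nat_lit 22) (nat_lit 0x400000) v
noncomputable def DC (c r : ℕ) : List ℕ := ruleC (nat_lit 0xfc0000000000000000000000000000000000000000000000000000000000000000000000000000000000000000002001) (nat_lit 22) rels c r
noncomputable def D1 (r : ℕ) : List ℕ := rule (nat_lit 0xfc0000000000000000000000000000000000000000000000000000000000000000000000000000000000000000002001) (rels ++ subs.map (List.cons 63)) r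
noncomputable def chk (v : ℕ) : Bool := chkRow row (nat_lit 4) (nat_lit 16) (nat_lit 4) (nat_lit 0xfc0000000000000000000000000000000000000000000000000000000000000000000000000000000000000000002001) (nat_lit 2) (nat_lit 3) (nat_lit 3) (nat_lit 17) (nat_lit 131072) (nat_lit 1024) (nat_lit 12) (nat_lit 10) (nat_lit 1024) DC D1 [nat_lit 0,nat_lit 1]
  (mkRow (BT.get tP) (nat_lit 32) (nat_lit 30) (nat_lit 0x40000000) v) (Nat.rec 0 (fun j _ => BT.get tS j) (Nat.succ (Nat.div v (nat_lit 32)))) (Nat.succ v)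
theorem c0 : allB chk 11 0 = true := by decide +kernel
theorem g0 : ∀ i < 1, allB chk 11 (0 + i) = true := (fl (c := 0) fl0 c0)
theorem call : ∀ i < 1, allB chk 11 i = true := (fl_add (a := 0) (b := 1) fl0 g0)
theorem sd : side (row 0) (nat_lit 22) (nat_lit 0x400000) (nat_lit 4) (nat_lit 4) (nat_lit 0xfc0000000000000000000000000000000000000000000000000000000000000000000000000000000000000000002001) (nat_lit 2) (nat_lit 3) (nat_lit 3) (nat_lit 12) 11 1 rels subs [nat_lit 0,nat_lit 1] = true := by decide +kernel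
theorem idx {G : Type*} [Group G] (gen : ℕ → G) (hrel : ∀ w ∈ rels, ev gen w = 1) (H : Subgroup G)
    (hsub : ∀ w ∈ subs, ev gen w ∈ H) :
    H.relIndex (Subgroup.closure (gen '' Set.Iio 2)) ≠ 0 ∧ H.relIndex (Subgroup.closure (gen '' Set.Iio 2)) ≤ 3 :=
  TC.idx (by decide) (final (fun _ => rfl) (fun _ _ => rfl) (fun _ => rfl) (fun _ h => ⟨_, _, h⟩) sd call hrel hsub)

end H15.TAlt1
namespace H15.TAlt2
open TC

noncomputable def tT : BT := (.node (nat_lit 1) (.leaf (nat_lit 0x64100c113a91080aa968c202029cf48c00008f2a71))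
 (.leaf (nat_lit 0x0))
)
noncomputable def tP : BT := (.node (nat_lit 1) (.leaf (nat_lit 0x903201502001000202603002001000202000000801000202000002c02))
 (.leaf (nat_lit 0x0))
)
noncomputable def tS : BT := (.node (nat_lit 1) (.leaf (nat_lit 0x1f8000414040000))
 (.leaf (nat_lit 0x0))
)
def rels : List (List ℕ) := [[nat_lit 0,nat_lit 1],
  [nat_lit 2,nat_lit 3],
  [nat_lit 0,nat_lit 0,nat_lit 0],
  [nat_lit 2,nat_lit 2,nat_lit 2],
  [nat_lit 0,nat_lit 2,nat_lit 0,nat_lit 2]]
def subs : List (List ℕ) := [[nat_lit 0]]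
noncomputable def row (v : ℕ) : ℕ := mkRow (BT.get tT) (nat_lit 32) (nat_lit 42) (nat_lit 0x40000000000) v
noncomputable def DC (c r : ℕ) : List ℕ := ruleC (nat_lit 0xfc0000000000000000000000000000000000000000000000000000000000000000000000000000000000000004083001) (nat_lit 42) rels c r
noncomputable def D1 (r : ℕ) : List ℕ := rule (nat_lit 0xfc0000000000000000000000000000000000000000000000000000000000000000000000000000000000000004083001) (rels ++ subs.map (List.cons 63)) r
noncomputable def chk (v : ℕ) : Bool := chkRow row (nat_lit 6) (nat_lit 64) (nat_lit 8) (nat_lit 0xfc0000000000000000000000000000000000000000000000000000000000000000000000000000000000000004083001) (nat_lit 4) (nat_lit 4) (nat_lit 4) (nat_lit 17) (nat_lit 131072) (nat_lit 3072) (nat_lit 30) (nat_lit 12) (nat_lit 4096) DC D1 [nat_lit 0,nat_lit 1,nat_lit 2,nat_lit 3]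
  (mkRow (BT.get tP) (nat_lit 32) (nat_lit 60) (nat_lit 0x1000000000000000) v) (Nat.rec 0 (fun j _ => BT.get tS j) (Nat.succ (Nat.div v (nat_lit 32)))) (Nat.succ v)
theorem c0 : allB chk 11 0 = true := by decide +kernel
theorem g0 : ∀ i < 1, allB chk 11 (0 + i) = true := (fl (c := 0) fl0 c0)
theorem call : ∀ i < 1, allB chk 11 i = true := (fl_add (a := 0) (b := 1) fl0 g0)
theorem sd : side (row 0) (nat_lit 42) (nat_lit 0x40000000000) (nat_lit 6) (nat_lit 8) (nat_lit 0xfc0000000000000000000000000000000000000000000000000000000000000000000000000000000000000004083001) (nat_lit 4) (nat_lit 4) (nat_lit 4) (nat_lit 30) 11 1 rels subs [nat_lit 0,nat_lit 1,nat_lit 2,nat_lit 3] = true := by decide +kernel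
theorem idx {G : Type*} [Group G] (gen : ℕ → G) (hrel : ∀ w ∈ rels, ev gen w = 1) (H : Subgroup G)
    (hsub : ∀ w ∈ subs, ev gen w ∈ H) :
    H.relIndex (Subgroup.closure (gen '' Set.Iio 4)) ≠ 0 ∧ H.relIndex (Subgroup.closure (gen '' Set.Iio 4)) ≤ 4 :=
  TC.idx (by decide) (final (fun _ => rfl) (fun _ _ => rfl) (fun _ => rfl) (fun _ h => ⟨_, _, h⟩) sd call hrel hsub)

end H15.TAlt2
namespace H15.TAlt3
open TC

noncomputable def tT : BT := (.node (nat_lit 1) (.leaf (nat_lit 0x210c03454ea34564100c10c113a91100aa968d68c204029cf58f48c00008f2a71a71))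
 (.leaf (nat_lit 0x0))
)
noncomputable def tP : BT := (.node (nat_lit 1) (.leaf (nat_lit 0x22064014810805a040010003c0c802d031009c08002000201280c4042010010004000402000000200200070080008040001015814005602))
 (.leaf (nat_lit 0x0))
)
noncomputable def tS : BT := (.node (nat_lit 1) (.leaf (nat_lit 0xfc00021402001f8000424040000))
 (.leaf (nat_lit 0x0))
)
def rels : List (List ℕ) := [[nat_lit 0,nat_lit 1],
  [nat_lit 2,nat_lit 3],
  [nat_lit 4,nat_lit 5],
  [nat_lit 0,nat_lit 0,nat_lit 0],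
  [nat_lit 2,nat_lit 2,nat_lit 2],
  [nat_lit 4,nat_lit 4,nat_lit 4],
  [nat_lit 0,nat_lit 2,nat_lit 0,nat_lit 2],
  [nat_lit 0,nat_lit 4,nat_lit 0,nat_lit 4],
  [nat_lit 2,nat_lit 4,nat_lit 2,nat_lit 4]]
def subs : List (List ℕ) := [[nat_lit 0],
  [nat_lit 2]]
noncomputable def row (v : ℕ) : ℕ := mkRow (BT.get tT) (nat_lit 32) (nat_lit 54) (nat_lit 0x40000000000000) v
noncomputable def DC (c r : ℕ) : List ℕ := ruleC (nat_lit 0xfc0000000000000000000000000000000000000000000000000000000000000000000000000000000000006105083001) (nat_lit 54) rels c r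
noncomputable def D1 (r : ℕ) : List ℕ := rule (nat_lit 0xfc0000000000000000000000000000000000000000000000000000000000000000000000000000000000006105083001) (rels ++ subs.map (List.cons 63)) r
noncomputable def chk (v : ℕ) : Bool := chkRow row (nat_lit 6) (nat_lit 64) (nat_lit 8) (nat_lit 0xfc0000000000000000000000000000000000000000000000000000000000000000000000000000000000006105083001) (nat_lit 6) (nat_lit 5) (nat_lit 5) (nat_lit 17) (nat_lit 131072) (nat_lit 5632) (nat_lit 42) (nat_lit 13) (nat_lit 8192) DC D1 [nat_lit 0,nat_lit 1,nat_lit 2,nat_lit 3,nat_lit 4,nat_lit 5]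
  (mkRow (BT.get tP) (nat_lit 32) (nat_lit 91) (nat_lit 0x80000000000000000000000) v) (Nat.rec 0 (fun j _ => BT.get tS j) (Nat.succ (Nat.div v (nat_lit 32)))) (Nat.succ v)
theorem c0 : allB chk 11 0 = true := by decide +kernel
theorem g0 : ∀ i < 1, allB chk 11 (0 + i) = true := (fl (c := 0) fl0 c0)
theorem call : ∀ i < 1, allB chk 11 i = true := (fl_add (a := 0) (b := 1) fl0 g0)
theorem sd : side (row 0) (nat_lit 54) (nat_lit 0x40000000000000) (nat_lit 6) (nat_lit 8) (nat_lit 0xfc0000000000000000000000000000000000000000000000000000000000000000000000000000000000006105083001) (nat_lit 6) (nat_lit 5) (nat_lit 5) (nat_lit 42) 11 1 rels subs [nat_lit 0,nat_lit 1,nat_lit 2,nat_lit 3,nat_lit 4,nat_lit 5] = true := by decide +kernel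
theorem idx {G : Type*} [Group G] (gen : ℕ → G) (hrel : ∀ w ∈ rels, ev gen w = 1) (H : Subgroup G)
    (hsub : ∀ w ∈ subs, ev gen w ∈ H) :
    H.relIndex (Subgroup.closure (gen '' Set.Iio 6)) ≠ 0 ∧ H.relIndex (Subgroup.closure (gen '' Set.Iio 6)) ≤ 5 :=
  TC.idx (by decide) (final (fun _ => rfl) (fun _ _ => rfl) (fun _ => rfl) (fun _ h => ⟨_, _, h⟩) sd call hrel hsub)

end H15.TAlt3
namespace H15.TAlt4
open TC

noncomputable def tT : BT := (.node (nat_lit 1) (.leaf (nat_lit 0xa4500e193a8e18e1a10c03453454ea34564100c10c10c113a91180aa968e68d68c206029cf68f58f48c00008f2a71a71a71))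
 (.leaf (nat_lit 0x0))
)
noncomputable def tP : BT := (.node (nat_lit 1) (.leaf (nat_lit 0x1b031804d02100570208053020004000640c6015c0c4012c082014408001000150318053031005103080490200040001808e03100840108082010008001000060200000006804000600400050040001808000100a208080a205000a202))
 (.leaf (nat_lit 0x0))
)
noncomputable def tS : BT := (.node (nat_lit 1) (.leaf (nat_lit 0x7e00011001000fc00021e02001f8000438040000))
 (.leaf (nat_lit 0x0))
)
def rels : List (List ℕ) := [[nat_lit 0,nat_lit 1],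
  [nat_lit 2,nat_lit 3],
  [nat_lit 4,nat_lit 5],
  [nat_lit 6,nat_lit 7],
  [nat_lit 0,nat_lit 0,nat_lit 0],
  [nat_lit 2,nat_lit 2,nat_lit 2],
  [nat_lit 4,nat_lit 4,nat_lit 4],
  [nat_lit 6,nat_lit 6,nat_lit 6],
  [nat_lit 0,nat_lit 2,nat_lit 0,nat_lit 2],
  [nat_lit 0,nat_lit 4,nat_lit 0,nat_lit 4],
  [nat_lit 0,nat_lit 6,nat_lit 0,nat_lit 6],
  [nat_lit 2,nat_lit 4,nat_lit 2,nat_lit 4],
  [nat_lit 2,nat_lit 6,nat_lit 2,nat_lit 6],
  [nat_lit 4,nat_lit 6,nat_lit 4,nat_lit 6]]
def subs : List (List ℕ) := [[nat_lit 0],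
  [nat_lit 2],
  [nat_lit 4]]
noncomputable def row (v : ℕ) : ℕ := mkRow (BT.get tT) (nat_lit 32) (nat_lit 66) (nat_lit 0x40000000000000000) v
noncomputable def DC (c r : ℕ) : List ℕ := ruleC (nat_lit 0xfc0000000000000000000000000000000000000000000000000000000000000000000000000000000008187105083001) (nat_lit 66) rels c r
noncomputable def D1 (r : ℕ) : List ℕ := rule (nat_lit 0xfc0000000000000000000000000000000000000000000000000000000000000000000000000000000008187105083001) (rels ++ subs.map (List.cons 63)) r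
noncomputable def chk (v : ℕ) : Bool := chkRow row (nat_lit 6) (nat_lit 64) (nat_lit 8) (nat_lit 0xfc0000000000000000000000000000000000000000000000000000000000000000000000000000000008187105083001) (nat_lit 8) (nat_lit 6) (nat_lit 6) (nat_lit 17) (nat_lit 131072) (nat_lit 8704) (nat_lit 54) (nat_lit 14) (nat_lit 16384) DC D1 [nat_lit 0,nat_lit 1,nat_lit 2,nat_lit 3,nat_lit 4,nat_lit 5,nat_lit 6,nat_lit 7]
  (mkRow (BT.get tP) (nat_lit 32) (nat_lit 126) (nat_lit 0x40000000000000000000000000000000) v) (Nat.rec 0 (fun j _ => BT.get tS j) (Nat.succ (Nat.div v (nat_lit 32)))) (Nat.succ v)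
theorem c0 : allB chk 11 0 = true := by decide +kernel
theorem g0 : ∀ i < 1, allB chk 11 (0 + i) = true := (fl (c := 0) fl0 c0)
theorem call : ∀ i < 1, allB chk 11 i = true := (fl_add (a := 0) (b := 1) fl0 g0)
theorem sd : side (row 0) (nat_lit 66) (nat_lit 0x40000000000000000) (nat_lit 6) (nat_lit 8) (nat_lit 0xfc0000000000000000000000000000000000000000000000000000000000000000000000000000000008187105083001) (nat_lit 8) (nat_lit 6) (nat_lit 6) (nat_lit 54) 11 1 rels subs [nat_lit 0,nat_lit 1,nat_lit 2,nat_lit 3,nat_lit 4,nat_lit 5,nat_lit 6,nat_lit 7] = true := by decide +kernel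
theorem idx {G : Type*} [Group G] (gen : ℕ → G) (hrel : ∀ w ∈ rels, ev gen w = 1) (H : Subgroup G)
    (hsub : ∀ w ∈ subs, ev gen w ∈ H) :
    H.relIndex (Subgroup.closure (gen '' Set.Iio 8)) ≠ 0 ∧ H.relIndex (Subgroup.closure (gen '' Set.Iio 8)) ≤ 6 :=
  TC.idx (by decide) (final (fun _ => rfl) (fun _ _ => rfl) (fun _ => rfl) (fun _ h => ⟨_, _, h⟩) sd call hrel hsub)

end H15.TAlt4
namespace H15.TAlt5
open TC

noncomputable def tT : BT := (.node (nat_lit 1) (.leaf (nat_lit 0x311c03c74ea3c73c73c7a4500e18e193a8e18e1a10c03453453454ea34564100c10c10c10c113a91200aa968f68e68d68c208029cf78f68f58f48c00008f2a71a71a71a71))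
 (.leaf (nat_lit 0x0))
)
noncomputable def tP : BT := (.node (nat_lit 1) (.leaf (nat_lit 0x9c0c80144086018c084017c082016408001000250320063031804f021005d0208057020004000840c8017c0c601740c401340820154080010001b032005903180570310055030804b020004000200920318086011008401080820100080010000802000000098040009004000800400068040002008000180b00b100b008080b005000b002))
 (.leaf (nat_lit 0x0))
)
noncomputable def tS : BT := (.node (nat_lit 1) (.leaf (nat_lit 0x3f00008b808007e00011601000fc00022a02001f8000450040000))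
 (.leaf (nat_lit 0x0))
)
def rels : List (List ℕ) := [[nat_lit 0,nat_lit 1],
  [nat_lit 2,nat_lit 3],
  [nat_lit 4,nat_lit 5],
  [nat_lit 6,nat_lit 7],
  [nat_lit 8,nat_lit 9],
  [nat_lit 0,nat_lit 0,nat_lit 0],
  [nat_lit 2,nat_lit 2,nat_lit 2],
  [nat_lit 4,nat_lit 4,nat_lit 4],
  [nat_lit 6,nat_lit 6,nat_lit 6],
  [nat_lit 8,nat_lit 8,nat_lit 8],
  [nat_lit 0,nat_lit 2,nat_lit 0,nat_lit 2],
  [nat_lit 0,nat_lit 4,nat_lit 0,nat_lit 4],
  [nat_lit 0,nat_lit 6,nat_lit 0,nat_lit 6],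
  [nat_lit 0,nat_lit 8,nat_lit 0,nat_lit 8],
  [nat_lit 2,nat_lit 4,nat_lit 2,nat_lit 4],
  [nat_lit 2,nat_lit 6,nat_lit 2,nat_lit 6],
  [nat_lit 2,nat_lit 8,nat_lit 2,nat_lit 8],
  [nat_lit 4,nat_lit 6,nat_lit 4,nat_lit 6],
  [nat_lit 4,nat_lit 8,nat_lit 4,nat_lit 8],
  [nat_lit 6,nat_lit 8,nat_lit 6,nat_lit 8]]
def subs : List (List ℕ) := [[nat_lit 0],
  [nat_lit 2],
  [nat_lit 4],
  [nat_lit 6]]
noncomputable def row (v : ℕ) : ℕ := mkRow (BT.get tT) (nat_lit 32) (nat_lit 78) (nat_lit 0x40000000000000000000) v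
noncomputable def DC (c r : ℕ) : List ℕ := ruleC (nat_lit 0xfc000000000000000000000000000000000000000000000000000000000000000000000000000000a209187105083001) (nat_lit 78) rels c r
noncomputable def D1 (r : ℕ) : List ℕ := rule (nat_lit 0xfc000000000000000000000000000000000000000000000000000000000000000000000000000000a209187105083001) (rels ++ subs.map (List.cons 63)) r
noncomputable def chk (v : ℕ) : Bool := chkRow row (nat_lit 6) (nat_lit 64) (nat_lit 8) (nat_lit 0xfc000000000000000000000000000000000000000000000000000000000000000000000000000000a209187105083001) (nat_lit 10) (nat_lit 7) (nat_lit 7) (nat_lit 17) (nat_lit 131072) (nat_lit 12288) (nat_lit 66) (nat_lit 14) (nat_lit 16384) DC D1 [nat_lit 0,nat_lit 1,nat_lit 2,nat_lit 3,nat_lit 4,nat_lit 5,nat_lit 6,nat_lit 7,nat_lit 8,nat_lit 9]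
  (mkRow (BT.get tP) (nat_lit 32) (nat_lit 154) (nat_lit 0x400000000000000000000000000000000000000) v) (Nat.rec 0 (fun j _ => BT.get tS j) (Nat.succ (Nat.div v (nat_lit 32)))) (Nat.succ v)
theorem c0 : allB chk 11 0 = true := by decide +kernel
theorem g0 : ∀ i < 1, allB chk 11 (0 + i) = true := (fl (c := 0) fl0 c0)
theorem call : ∀ i < 1, allB chk 11 i = true := (fl_add (a := 0) (b := 1) fl0 g0)
theorem sd : side (row 0) (nat_lit 78) (nat_lit 0x40000000000000000000) (nat_lit 6) (nat_lit 8) (nat_lit 0xfc000000000000000000000000000000000000000000000000000000000000000000000000000000a209187105083001) (nat_lit 10) (nat_lit 7) (nat_lit 7) (nat_lit 66) 11 1 rels subs [nat_lit 0,nat_lit 1,nat_lit 2,nat_lit 3,nat_lit 4,nat_lit 5,nat_lit 6,nat_lit 7,nat_lit 8,nat_lit 9] = true := by decide +kernel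
theorem idx {G : Type*} [Group G] (gen : ℕ → G) (hrel : ∀ w ∈ rels, ev gen w = 1) (H : Subgroup G)
    (hsub : ∀ w ∈ subs, ev gen w ∈ H) :
    H.relIndex (Subgroup.closure (gen '' Set.Iio 10)) ≠ 0 ∧ H.relIndex (Subgroup.closure (gen '' Set.Iio 10)) ≤ 7 :=
  TC.idx (by decide) (final (fun _ => rfl) (fun _ _ => rfl) (fun _ => rfl) (fun _ h => ⟨_, _, h⟩) sd call hrel hsub)

end H15.TAlt5
namespace H15.TAlt6
open TC

noncomputable def tT : BT := (.node (nat_lit 1) (.leaf (nat_lit 0x7124018108e918106041810604308e00b872e1d1d22e1cb872e1d44500583160c58323a4583160c821802a14a852a14a854748a85310401408502140850214088e910940295164619176459915645040a01471e8879e1e687961e48600000878a8e1a3868e1a3868e1))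
 (.leaf (nat_lit 0x0))
)
noncomputable def tP : BT := (.node (nat_lit 1) (.leaf (nat_lit 0xd40c50095021002c408300ad0208029c081009f02000200019818a016206200498106015604100528102013a0400040002f031402b40c400ab030c024408200a30204026c0800080005206280538188014a06180518184011e040804c8100010000840c5009f031002740c3009b030802640c1008d02000200005011603100420043010601080410041010201000400040000a0200000001a00800064020001700800050020001000800014040000401400e0c05002c2014008040500140014002))
 (.leaf (nat_lit 0x0))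
)
noncomputable def tS : BT := (.node (nat_lit 1) (.leaf (nat_lit 0x1f800047c04003f00008f008007e00011d01000fc00023802001f800046c040000))
 (.leaf (nat_lit 0x0))
)
def rels : List (List ℕ) := [[nat_lit 0,nat_lit 1],
  [nat_lit 2,nat_lit 3],
  [nat_lit 4,nat_lit 5],
  [nat_lit 6,nat_lit 7],
  [nat_lit 8,nat_lit 9],
  [nat_lit 10,nat_lit 11],
  [nat_lit 0,nat_lit 0,nat_lit 0],
  [nat_lit 2,nat_lit 2,nat_lit 2],
  [nat_lit 4,nat_lit 4,nat_lit 4],
  [nat_lit 6,nat_lit 6,nat_lit 6],
  [nat_lit 8,nat_lit 8,nat_lit 8],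
  [nat_lit 10,nat_lit 10,nat_lit 10],
  [nat_lit 0,nat_lit 2,nat_lit 0,nat_lit 2],
  [nat_lit 0,nat_lit 4,nat_lit 0,nat_lit 4],
  [nat_lit 0,nat_lit 6,nat_lit 0,nat_lit 6],
  [nat_lit 0,nat_lit 8,nat_lit 0,nat_lit 8],
  [nat_lit 0,nat_lit 10,nat_lit 0,nat_lit 10],
  [nat_lit 2,nat_lit 4,nat_lit 2,nat_lit 4],
  [nat_lit 2,nat_lit 6,nat_lit 2,nat_lit 6],
  [nat_lit 2,nat_lit 8,nat_lit 2,nat_lit 8],
  [nat_lit 2,nat_lit 10,nat_lit 2,nat_lit 10],
  [nat_lit 4,nat_lit 6,nat_lit 4,nat_lit 6],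
  [nat_lit 4,nat_lit 8,nat_lit 4,nat_lit 8],
  [nat_lit 4,nat_lit 10,nat_lit 4,nat_lit 10],
  [nat_lit 6,nat_lit 8,nat_lit 6,nat_lit 8],
  [nat_lit 6,nat_lit 10,nat_lit 6,nat_lit 10],
  [nat_lit 8,nat_lit 10,nat_lit 8,nat_lit 10]]
def subs : List (List ℕ) := [[nat_lit 0],
  [nat_lit 2],
  [nat_lit 4],
  [nat_lit 6],
  [nat_lit 8]]
noncomputable def row (v : ℕ) : ℕ := mkRow (BT.get tT) (nat_lit 32) (nat_lit 105) (nat_lit 0x200000000000000000000000000) v
noncomputable def DC (c r : ℕ) : List ℕ := ruleC (nat_lit 0xfc000000000000000000000000000000000000000000000000000000000000000000000000000c28b209187105083001) (nat_lit 105) rels c r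
noncomputable def D1 (r : ℕ) : List ℕ := rule (nat_lit 0xfc000000000000000000000000000000000000000000000000000000000000000000000000000c28b209187105083001) (rels ++ subs.map (List.cons 63)) r
noncomputable def chk (v : ℕ) : Bool := chkRow row (nat_lit 7) (nat_lit 128) (nat_lit 16) (nat_lit 0xfc000000000000000000000000000000000000000000000000000000000000000000000000000c28b209187105083001) (nat_lit 12) (nat_lit 8) (nat_lit 8) (nat_lit 17) (nat_lit 131072) (nat_lit 16384) (nat_lit 91) (nat_lit 15) (nat_lit 32768) DC D1 [nat_lit 0,nat_lit 1,nat_lit 2,nat_lit 3,nat_lit 4,nat_lit 5,nat_lit 6,nat_lit 7,nat_lit 8,nat_lit 9,nat_lit 10,nat_lit 11]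
  (mkRow (BT.get tP) (nat_lit 32) (nat_lit 195) (nat_lit 0x8000000000000000000000000000000000000000000000000) v) (Nat.rec 0 (fun j _ => BT.get tS j) (Nat.succ (Nat.div v (nat_lit 32)))) (Nat.succ v)
theorem c0 : allB chk 11 0 = true := by decide +kernel
theorem g0 : ∀ i < 1, allB chk 11 (0 + i) = true := (fl (c := 0) fl0 c0)
theorem call : ∀ i < 1, allB chk 11 i = true := (fl_add (a := 0) (b := 1) fl0 g0)
theorem sd : side (row 0) (nat_lit 105) (nat_lit 0x200000000000000000000000000) (nat_lit 7) (nat_lit 16) (nat_lit 0xfc000000000000000000000000000000000000000000000000000000000000000000000000000c28b209187105083001) (nat_lit 12) (nat_lit 8) (nat_lit 8) (nat_lit 91) 11 1 rels subs [nat_lit 0,nat_lit 1,nat_lit 2,nat_lit 3,nat_lit 4,nat_lit 5,nat_lit 6,nat_lit 7,nat_lit 8,nat_lit 9,nat_lit 10,nat_lit 11] = true := by decide +kernel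
theorem idx {G : Type*} [Group G] (gen : ℕ → G) (hrel : ∀ w ∈ rels, ev gen w = 1) (H : Subgroup G)
    (hsub : ∀ w ∈ subs, ev gen w ∈ H) :
    H.relIndex (Subgroup.closure (gen '' Set.Iio 12)) ≠ 0 ∧ H.relIndex (Subgroup.closure (gen '' Set.Iio 12)) ≤ 8 :=
  TC.idx (by decide) (final (fun _ => rfl) (fun _ _ => rfl) (fun _ => rfl) (fun _ h => ⟨_, _, h⟩) sd call hrel hsub)

end H15.TAlt6
namespace H15.TAlt7
open TC

noncomputable def tT : BT := (.node (nat_lit 1) (.leaf (nat_lit 0x409600c894748c893224c893224c8971240181060423a460418106041810c23802e1cb872e1d1d22e1cb872e1d44500583160c583160c8e9160c583208600a852a14a852a14a854748a853104014085021408502140850223a442600a54591964619176459915645040c01471e987a21e7879a1e5879218000021e2a3868e1a3868e1a3868e1))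
 (.leaf (nat_lit 0x0))
)
noncomputable def tP : BT := (.node (nat_lit 1) (.leaf (nat_lit 0x22818c013204280608108017a041805b8104015e040805281000100010c0c600c10314025c08400bb020c02d408200ad0204028c0800080007e063005e818a0176062004a8106016604100558102014204000400039031802dc0c500b5031002cc0c30093020802a4081009f02000200018818c015e062805681880156061805481840122040804e81000100009c0c600a50314028c0c400a1030c027c0c2009d0304023c0800080001804680c5010a01100420043010601080410041010201000400040000c0200000002200800084020001f0080007002000180080004c020000601000014054844401520e0c05482c2015208040548140015202))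
 (.leaf (nat_lit 0x0))
)
noncomputable def tS : BT := (.node (nat_lit 1) (.leaf (nat_lit 0xfc00025002001f800049c04003f000093008007e00012501000fc00024802001f800048c040000))
 (.leaf (nat_lit 0x0))
)
def rels : List (List ℕ) := [[nat_lit 0,nat_lit 1],
  [nat_lit 2,nat_lit 3],
  [nat_lit 4,nat_lit 5],
  [nat_lit 6,nat_lit 7],
  [nat_lit 8,nat_lit 9],
  [nat_lit 10,nat_lit 11],
  [nat_lit 12,nat_lit 13],
  [nat_lit 0,nat_lit 0,nat_lit 0],
  [nat_lit 2,nat_lit 2,nat_lit 2],
  [nat_lit 4,nat_lit 4,nat_lit 4],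
  [nat_lit 6,nat_lit 6,nat_lit 6],
  [nat_lit 8,nat_lit 8,nat_lit 8],
  [nat_lit 10,nat_lit 10,nat_lit 10],
  [nat_lit 12,nat_lit 12,nat_lit 12],
  [nat_lit 0,nat_lit 2,nat_lit 0,nat_lit 2],
  [nat_lit 0,nat_lit 4,nat_lit 0,nat_lit 4],
  [nat_lit 0,nat_lit 6,nat_lit 0,nat_lit 6],
  [nat_lit 0,nat_lit 8,nat_lit 0,nat_lit 8],
  [nat_lit 0,nat_lit 10,nat_lit 0,nat_lit 10],
  [nat_lit 0,nat_lit 12,nat_lit 0,nat_lit 12],
  [nat_lit 2,nat_lit 4,nat_lit 2,nat_lit 4],
  [nat_lit 2,nat_lit 6,nat_lit 2,nat_lit 6],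
  [nat_lit 2,nat_lit 8,nat_lit 2,nat_lit 8],
  [nat_lit 2,nat_lit 10,nat_lit 2,nat_lit 10],
  [nat_lit 2,nat_lit 12,nat_lit 2,nat_lit 12],
  [nat_lit 4,nat_lit 6,nat_lit 4,nat_lit 6],
  [nat_lit 4,nat_lit 8,nat_lit 4,nat_lit 8],
  [nat_lit 4,nat_lit 10,nat_lit 4,nat_lit 10],
  [nat_lit 4,nat_lit 12,nat_lit 4,nat_lit 12],
  [nat_lit 6,nat_lit 8,nat_lit 6,nat_lit 8],
  [nat_lit 6,nat_lit 10,nat_lit 6,nat_lit 10],
  [nat_lit 6,nat_lit 12,nat_lit 6,nat_lit 12],
  [nat_lit 8,nat_lit 10,nat_lit 8,nat_lit 10],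
  [nat_lit 8,nat_lit 12,nat_lit 8,nat_lit 12],
  [nat_lit 10,nat_lit 12,nat_lit 10,nat_lit 12]]
def subs : List (List ℕ) := [[nat_lit 0],
  [nat_lit 2],
  [nat_lit 4],
  [nat_lit 6],
  [nat_lit 8],
  [nat_lit 10]]
noncomputable def row (v : ℕ) : ℕ := mkRow (BT.get tT) (nat_lit 32) (nat_lit 119) (nat_lit 0x800000000000000000000000000000) v
noncomputable def DC (c r : ℕ) : List ℕ := ruleC (nat_lit 0xfc000000000000000000000000000000000000000000000000000000000000000000000000e30d28b209187105083001) (nat_lit 119) rels c r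
noncomputable def D1 (r : ℕ) : List ℕ := rule (nat_lit 0xfc000000000000000000000000000000000000000000000000000000000000000000000000e30d28b209187105083001) (rels ++ subs.map (List.cons 63)) r
noncomputable def chk (v : ℕ) : Bool := chkRow row (nat_lit 7) (nat_lit 128) (nat_lit 16) (nat_lit 0xfc000000000000000000000000000000000000000000000000000000000000000000000000e30d28b209187105083001) (nat_lit 14) (nat_lit 9) (nat_lit 9) (nat_lit 17) (nat_lit 131072) (nat_lit 20992) (nat_lit 105) (nat_lit 15) (nat_lit 32768) DC D1 [nat_lit 0,nat_lit 1,nat_lit 2,nat_lit 3,nat_lit 4,nat_lit 5,nat_lit 6,nat_lit 7,nat_lit 8,nat_lit 9,nat_lit 10,nat_lit 11,nat_lit 12,nat_lit 13]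
  (mkRow (BT.get tP) (nat_lit 32) (nat_lit 225) (nat_lit 0x200000000000000000000000000000000000000000000000000000000) v) (Nat.rec 0 (fun j _ => BT.get tS j) (Nat.succ (Nat.div v (nat_lit 32)))) (Nat.succ v)
theorem c0 : allB chk 11 0 = true := by decide +kernel
theorem g0 : ∀ i < 1, allB chk 11 (0 + i) = true := (fl (c := 0) fl0 c0)
theorem call : ∀ i < 1, allB chk 11 i = true := (fl_add (a := 0) (b := 1) fl0 g0)
theorem sd : side (row 0) (nat_lit 119) (nat_lit 0x800000000000000000000000000000) (nat_lit 7) (nat_lit 16) (nat_lit 0xfc000000000000000000000000000000000000000000000000000000000000000000000000e30d28b209187105083001) (nat_lit 14) (nat_lit 9) (nat_lit 9) (nat_lit 105) 11 1 rels subs [nat_lit 0,nat_lit 1,nat_lit 2,nat_lit 3,nat_lit 4,nat_lit 5,nat_lit 6,nat_lit 7,nat_lit 8,nat_lit 9,nat_lit 10,nat_lit 11,nat_lit 12,nat_lit 13] = true := by decide +kernel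
theorem idx {G : Type*} [Group G] (gen : ℕ → G) (hrel : ∀ w ∈ rels, ev gen w = 1) (H : Subgroup G)
    (hsub : ∀ w ∈ subs, ev gen w ∈ H) :
    H.relIndex (Subgroup.closure (gen '' Set.Iio 14)) ≠ 0 ∧ H.relIndex (Subgroup.closure (gen '' Set.Iio 14)) ≤ 9 :=
  TC.idx (by decide) (final (fun _ => rfl) (fun _ _ => rfl) (fun _ => rfl) (fun _ h => ⟨_, _, h⟩) sd call hrel hsub)

end H15.TAlt7
namespace H15.TAlt8
open TC

noncomputable def tT : BT := (.node (nat_lit 1) (.leaf (nat_lit 0x244d0068523a46851a146851a146851a15025803224c894748c893224c893224c8971240181060418108e918106041810604308e00b872e1cb872e1d1d22e1cb872e1d44500583160c583160c58323a4583160c821802a14a852a14a852a14a854748a853104014085021408502140850214088e9109c02951646991964619176459915645040e01471ea87a61e8879e1e687961e48600000878a8e1a3868e1a3868e1a3868e1))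
 (.leaf (nat_lit 0x0))
)
noncomputable def tP : BT := (.node (nat_lit 1) (.leaf (nat_lit 0x57031c027408600d30214033c08400c9020c030408200b7020402ac080008000aa0638069818c013604280668108018e041805f8104016a04080548100010001440c700cf031803340c500990210031408300bd020802cc08100a702000200025818e01920630063818a018a062004b8106017604100588102014a04000400043031c03040c600bf031402f40c400bb030c025408200af0204028c08000800072063805b818c016a06280598188016206180578184012604080508100010000b40c700ab031802a40c500a7031002940c300a3030802840c1009102000200007011e03180430045010a01100420043010601080410041010201000400040000e0200000002b008000a802000280080009402000210080007002000160080001c040000601661414059844401660e0c05982c2016608040598140016602))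
 (.leaf (nat_lit 0x0))
)
noncomputable def tS : BT := (.node (nat_lit 1) (.leaf (nat_lit 0x7e00013201000fc00026202001f80004c004003f000097808007e00012e01000fc00025a02001f80004b0040000))
 (.leaf (nat_lit 0x0))
)
def rels : List (List ℕ) := [[nat_lit 0,nat_lit 1],
  [nat_lit 2,nat_lit 3],
  [nat_lit 4,nat_lit 5],
  [nat_lit 6,nat_lit 7],
  [nat_lit 8,nat_lit 9],
  [nat_lit 10,nat_lit 11],
  [nat_lit 12,nat_lit 13],
  [nat_lit 14,nat_lit 15],
  [nat_lit 0,nat_lit 0,nat_lit 0],
  [nat_lit 2,nat_lit 2,nat_lit 2],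
  [nat_lit 4,nat_lit 4,nat_lit 4],
  [nat_lit 6,nat_lit 6,nat_lit 6],
  [nat_lit 8,nat_lit 8,nat_lit 8],
  [nat_lit 10,nat_lit 10,nat_lit 10],
  [nat_lit 12,nat_lit 12,nat_lit 12],
  [nat_lit 14,nat_lit 14,nat_lit 14],
  [nat_lit 0,nat_lit 2,nat_lit 0,nat_lit 2],
  [nat_lit 0,nat_lit 4,nat_lit 0,nat_lit 4],
  [nat_lit 0,nat_lit 6,nat_lit 0,nat_lit 6],
  [nat_lit 0,nat_lit 8,nat_lit 0,nat_lit 8],
  [nat_lit 0,nat_lit 10,nat_lit 0,nat_lit 10],
  [nat_lit 0,nat_lit 12,nat_lit 0,nat_lit 12],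
  [nat_lit 0,nat_lit 14,nat_lit 0,nat_lit 14],
  [nat_lit 2,nat_lit 4,nat_lit 2,nat_lit 4],
  [nat_lit 2,nat_lit 6,nat_lit 2,nat_lit 6],
  [nat_lit 2,nat_lit 8,nat_lit 2,nat_lit 8],
  [nat_lit 2,nat_lit 10,nat_lit 2,nat_lit 10],
  [nat_lit 2,nat_lit 12,nat_lit 2,nat_lit 12],
  [nat_lit 2,nat_lit 14,nat_lit 2,nat_lit 14],
  [nat_lit 4,nat_lit 6,nat_lit 4,nat_lit 6],
  [nat_lit 4,nat_lit 8,nat_lit 4,nat_lit 8],
  [nat_lit 4,nat_lit 10,nat_lit 4,nat_lit 10],
  [nat_lit 4,nat_lit 12,nat_lit 4,nat_lit 12],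
  [nat_lit 4,nat_lit 14,nat_lit 4,nat_lit 14],
  [nat_lit 6,nat_lit 8,nat_lit 6,nat_lit 8],
  [nat_lit 6,nat_lit 10,nat_lit 6,nat_lit 10],
  [nat_lit 6,nat_lit 12,nat_lit 6,nat_lit 12],
  [nat_lit 6,nat_lit 14,nat_lit 6,nat_lit 14],
  [nat_lit 8,nat_lit 10,nat_lit 8,nat_lit 10],
  [nat_lit 8,nat_lit 12,nat_lit 8,nat_lit 12],
  [nat_lit 8,nat_lit 14,nat_lit 8,nat_lit 14],
  [nat_lit 10,nat_lit 12,nat_lit 10,nat_lit 12],
  [nat_lit 10,nat_lit 14,nat_lit 10,nat_lit 14],
  [nat_lit 12,nat_lit 14,nat_lit 12,nat_lit 14]]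
def subs : List (List ℕ) := [[nat_lit 0],
  [nat_lit 2],
  [nat_lit 4],
  [nat_lit 6],
  [nat_lit 8],
  [nat_lit 10],
  [nat_lit 12]]
noncomputable def row (v : ℕ) : ℕ := mkRow (BT.get tT) (nat_lit 32) (nat_lit 133) (nat_lit 0x2000000000000000000000000000000000) v
noncomputable def DC (c r : ℕ) : List ℕ := ruleC (nat_lit 0xfc000000000000000000000000000000000000000000000000000000000000000000001038f30d28b209187105083001) (nat_lit 133) rels c r
noncomputable def D1 (r : ℕ) : List ℕ := rule (nat_lit 0xfc000000000000000000000000000000000000000000000000000000000000000000001038f30d28b209187105083001) (rels ++ subs.map (List.cons 63)) r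
noncomputable def chk (v : ℕ) : Bool := chkRow row (nat_lit 7) (nat_lit 128) (nat_lit 16) (nat_lit 0xfc000000000000000000000000000000000000000000000000000000000000000000001038f30d28b209187105083001) (nat_lit 16) (nat_lit 10) (nat_lit 10) (nat_lit 17) (nat_lit 131072) (nat_lit 26112) (nat_lit 119) (nat_lit 15) (nat_lit 32768) DC D1 [nat_lit 0,nat_lit 1,nat_lit 2,nat_lit 3,nat_lit 4,nat_lit 5,nat_lit 6,nat_lit 7,nat_lit 8,nat_lit 9,nat_lit 10,nat_lit 11,nat_lit 12,nat_lit 13,nat_lit 14,nat_lit 15]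
  (mkRow (BT.get tP) (nat_lit 32) (nat_lit 255) (nat_lit 0x8000000000000000000000000000000000000000000000000000000000000000) v) (Nat.rec 0 (fun j _ => BT.get tS j) (Nat.succ (Nat.div v (nat_lit 32)))) (Nat.succ v)
theorem c0 : allB chk 11 0 = true := by decide +kernel
theorem g0 : ∀ i < 1, allB chk 11 (0 + i) = true := (fl (c := 0) fl0 c0)
theorem call : ∀ i < 1, allB chk 11 i = true := (fl_add (a := 0) (b := 1) fl0 g0)
theorem sd : side (row 0) (nat_lit 133) (nat_lit 0x2000000000000000000000000000000000) (nat_lit 7) (nat_lit 16) (nat_lit 0xfc000000000000000000000000000000000000000000000000000000000000000000001038f30d28b209187105083001) (nat_lit 16) (nat_lit 10) (nat_lit 10) (nat_lit 119) 11 1 rels subs [nat_lit 0,nat_lit 1,nat_lit 2,nat_lit 3,nat_lit 4,nat_lit 5,nat_lit 6,nat_lit 7,nat_lit 8,nat_lit 9,nat_lit 10,nat_lit 11,nat_lit 12,nat_lit 13,nat_lit 14,nat_lit 15] = true := by decide +kernel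
theorem idx {G : Type*} [Group G] (gen : ℕ → G) (hrel : ∀ w ∈ rels, ev gen w = 1) (H : Subgroup G)
    (hsub : ∀ w ∈ subs, ev gen w ∈ H) :
    H.relIndex (Subgroup.closure (gen '' Set.Iio 16)) ≠ 0 ∧ H.relIndex (Subgroup.closure (gen '' Set.Iio 16)) ≤ 10 :=
  TC.idx (by decide) (final (fun _ => rfl) (fun _ _ => rfl) (fun _ => rfl) (fun _ h => ⟨_, _, h⟩) sd call hrel hsub)

end H15.TAlt8
namespace H15.TAlt9
open TC

noncomputable def tT : BT := (.node (nat_lit 1) (.leaf (nat_lit 0x142780362d1d2362cd8b362cd8b362cd8b362e44d006851a148e91a146851a146851a14685409600c893224c894748c893224c893224c89712401810604181060423a460418106041810c23802e1cb872e1cb872e1d1d22e1cb872e1d44500583160c583160c583160c8e9160c583208600a852a14a852a14a852a14a854748a8531040140850214085021408502140850223a442800a54591b646991964619176459915645041001471eb87aa1e987a21e7879a1e5879218000021e2a3868e1a3868e1a3868e1a3868e1))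
 (.leaf (nat_lit 0x0))
)
noncomputable def tP : BT := (.node (nat_lit 1) (.leaf (nat_lit 0xd60640050810e01ce0430071810a01ba042006a81060196041005f81020162040004000690320039c0c7009f0218038408500db0210034c08300c9020802f408100af02000200032819001c60638070818c013a042806c810801a2041806381040176040805681000100017c0c800dd031c036c0c600d90314026c08400cf020c031408200b9020402ac080008000ae064006a818e01a60630068818a019e062004c81060186041005b810201520400040004d0320032c0c700c90318031c0c500c50310030c0c30097020802d408100a7020002000208190017e063805e818c0176062805c8188016e061805a8184012a04080528100010000cc0c800b1031c02bc0c600ad031402ac0c400a9030c029c0c200a50304024c0800080002004880c7010e01180430045010a01100420043010601080410041010201000400040001002000000035008000d00200032008000bc020002b0080009802000200080006402000080100001c05f05c6017c141405f0444017c0e0c05f02c2017c080405f0140017c02))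
 (.leaf (nat_lit 0x0))
)
noncomputable def tS : BT := (.node (nat_lit 1) (.leaf (nat_lit 0x3f00009e808007e00013c01000fc00027602001f80004e804003f00009c808007e00013801000fc00026e02001f80004d8040000))
 (.leaf (nat_lit 0x0))
)
def rels : List (List ℕ) := [[nat_lit 0,nat_lit 1],
  [nat_lit 2,nat_lit 3],
  [nat_lit 4,nat_lit 5],
  [nat_lit 6,nat_lit 7],
  [nat_lit 8,nat_lit 9],
  [nat_lit 10,nat_lit 11],
  [nat_lit 12,nat_lit 13],
  [nat_lit 14,nat_lit 15],
  [nat_lit 16,nat_lit 17],
  [nat_lit 0,nat_lit 0,nat_lit 0],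
  [nat_lit 2,nat_lit 2,nat_lit 2],
  [nat_lit 4,nat_lit 4,nat_lit 4],
  [nat_lit 6,nat_lit 6,nat_lit 6],
  [nat_lit 8,nat_lit 8,nat_lit 8],
  [nat_lit 10,nat_lit 10,nat_lit 10],
  [nat_lit 12,nat_lit 12,nat_lit 12],
  [nat_lit 14,nat_lit 14,nat_lit 14],
  [nat_lit 16,nat_lit 16,nat_lit 16],
  [nat_lit 0,nat_lit 2,nat_lit 0,nat_lit 2],
  [nat_lit 0,nat_lit 4,nat_lit 0,nat_lit 4],
  [nat_lit 0,nat_lit 6,nat_lit 0,nat_lit 6],
  [nat_lit 0,nat_lit 8,nat_lit 0,nat_lit 8],
  [nat_lit 0,nat_lit 10,nat_lit 0,nat_lit 10],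
  [nat_lit 0,nat_lit 12,nat_lit 0,nat_lit 12],
  [nat_lit 0,nat_lit 14,nat_lit 0,nat_lit 14],
  [nat_lit 0,nat_lit 16,nat_lit 0,nat_lit 16],
  [nat_lit 2,nat_lit 4,nat_lit 2,nat_lit 4],
  [nat_lit 2,nat_lit 6,nat_lit 2,nat_lit 6],
  [nat_lit 2,nat_lit 8,nat_lit 2,nat_lit 8],
  [nat_lit 2,nat_lit 10,nat_lit 2,nat_lit 10],
  [nat_lit 2,nat_lit 12,nat_lit 2,nat_lit 12],
  [nat_lit 2,nat_lit 14,nat_lit 2,nat_lit 14],
  [nat_lit 2,nat_lit 16,nat_lit 2,nat_lit 16],
  [nat_lit 4,nat_lit 6,nat_lit 4,nat_lit 6],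
  [nat_lit 4,nat_lit 8,nat_lit 4,nat_lit 8],
  [nat_lit 4,nat_lit 10,nat_lit 4,nat_lit 10],
  [nat_lit 4,nat_lit 12,nat_lit 4,nat_lit 12],
  [nat_lit 4,nat_lit 14,nat_lit 4,nat_lit 14],
  [nat_lit 4,nat_lit 16,nat_lit 4,nat_lit 16],
  [nat_lit 6,nat_lit 8,nat_lit 6,nat_lit 8],
  [nat_lit 6,nat_lit 10,nat_lit 6,nat_lit 10],
  [nat_lit 6,nat_lit 12,nat_lit 6,nat_lit 12],
  [nat_lit 6,nat_lit 14,nat_lit 6,nat_lit 14],
  [nat_lit 6,nat_lit 16,nat_lit 6,nat_lit 16],
  [nat_lit 8,nat_lit 10,nat_lit 8,nat_lit 10],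
  [nat_lit 8,nat_lit 12,nat_lit 8,nat_lit 12],
  [nat_lit 8,nat_lit 14,nat_lit 8,nat_lit 14],
  [nat_lit 8,nat_lit 16,nat_lit 8,nat_lit 16],
  [nat_lit 10,nat_lit 12,nat_lit 10,nat_lit 12],
  [nat_lit 10,nat_lit 14,nat_lit 10,nat_lit 14],
  [nat_lit 10,nat_lit 16,nat_lit 10,nat_lit 16],
  [nat_lit 12,nat_lit 14,nat_lit 12,nat_lit 14],
  [nat_lit 12,nat_lit 16,nat_lit 12,nat_lit 16],
  [nat_lit 14,nat_lit 16,nat_lit 14,nat_lit 16]]
def subs : List (List ℕ) := [[nat_lit 0],
  [nat_lit 2],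
  [nat_lit 4],
  [nat_lit 6],
  [nat_lit 8],
  [nat_lit 10],
  [nat_lit 12],
  [nat_lit 14]]
noncomputable def row (v : ℕ) : ℕ := mkRow (BT.get tT) (nat_lit 32) (nat_lit 147) (nat_lit 0x8000000000000000000000000000000000000) v
noncomputable def DC (c r : ℕ) : List ℕ := ruleC (nat_lit 0xfc000000000000000000000000000000000000000000000000000000000000000001241138f30d28b209187105083001) (nat_lit 147) rels c r
noncomputable def D1 (r : ℕ) : List ℕ := rule (nat_lit 0xfc000000000000000000000000000000000000000000000000000000000000000001241138f30d28b209187105083001) (rels ++ subs.map (List.cons 63)) r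
noncomputable def chk (v : ℕ) : Bool := chkRow row (nat_lit 7) (nat_lit 128) (nat_lit 16) (nat_lit 0xfc000000000000000000000000000000000000000000000000000000000000000001241138f30d28b209187105083001) (nat_lit 18) (nat_lit 11) (nat_lit 11) (nat_lit 17) (nat_lit 131072) (nat_lit 31744) (nat_lit 133) (nat_lit 15) (nat_lit 32768) DC D1 [nat_lit 0,nat_lit 1,nat_lit 2,nat_lit 3,nat_lit 4,nat_lit 5,nat_lit 6,nat_lit 7,nat_lit 8,nat_lit 9,nat_lit 10,nat_lit 11,nat_lit 12,nat_lit 13,nat_lit 14,nat_lit 15,nat_lit 16,nat_lit 17]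
  (mkRow (BT.get tP) (nat_lit 32) (nat_lit 285) (nat_lit 0x200000000000000000000000000000000000000000000000000000000000000000000000) v) (Nat.rec 0 (fun j _ => BT.get tS j) (Nat.succ (Nat.div v (nat_lit 32)))) (Nat.succ v)
theorem c0 : allB chk 11 0 = true := by decide +kernel
theorem g0 : ∀ i < 1, allB chk 11 (0 + i) = true := (fl (c := 0) fl0 c0)
theorem call : ∀ i < 1, allB chk 11 i = true := (fl_add (a := 0) (b := 1) fl0 g0)
theorem sd : side (row 0) (nat_lit 147) (nat_lit 0x8000000000000000000000000000000000000) (nat_lit 7) (nat_lit 16) (nat_lit 0xfc000000000000000000000000000000000000000000000000000000000000000001241138f30d28b209187105083001) (nat_lit 18) (nat_lit 11) (nat_lit 11) (nat_lit 133) 11 1 rels subs [nat_lit 0,nat_lit 1,nat_lit 2,nat_lit 3,nat_lit 4,nat_lit 5,nat_lit 6,nat_lit 7,nat_lit 8,nat_lit 9,nat_lit 10,nat_lit 11,nat_lit 12,nat_lit 13,nat_lit 14,nat_lit 15,nat_lit 16,nat_lit 17] = true := by decide +kernel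
theorem idx {G : Type*} [Group G] (gen : ℕ → G) (hrel : ∀ w ∈ rels, ev gen w = 1) (H : Subgroup G)
    (hsub : ∀ w ∈ subs, ev gen w ∈ H) :
    H.relIndex (Subgroup.closure (gen '' Set.Iio 18)) ≠ 0 ∧ H.relIndex (Subgroup.closure (gen '' Set.Iio 18)) ≤ 11 :=
  TC.idx (by decide) (final (fun _ => rfl) (fun _ _ => rfl) (fun _ => rfl) (fun _ h => ⟨_, _, h⟩) sd call hrel hsub)

end H15.TAlt9
namespace H15.TAlt10
open TC

noncomputable def tT : BT := (.node (nat_lit 1) (.leaf (nat_lit 0xb14401c188e91c187061c187061c187061c18706509e00d8b362d1d2362cd8b362cd8b362cd8b362e44d006851a1468523a46851a146851a146851a15025803224c893224c894748c893224c893224c89712401810604181060418108e918106041810604308e00b872e1cb872e1cb872e1d1d22e1cb872e1d44500583160c583160c583160c58323a4583160c821802a14a852a14a852a14a852a14a854748a8531040140850214085021408502140850214088e910a402951647191b646991964619176459915645041201471ec87ae1ea87a61e8879e1e687961e48600000878a8e1a3868e1a3868e1a3868e1a3868e1))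
 (.leaf (nat_lit 0x0))
)
noncomputable def tP : BT := (.node (nat_lit 1) (.leaf (nat_lit 0x81031201250210017d020e0179020c0173020a016b0208016102060155020401470202013702000100007f0312017d03100123020e0177020c0171020a01690208015f02060153020401450202013502000100007b0312017903100177030e0121020c016f020a01670208015d0206015102040143020201330200010000750312017303100171030e016f030c011f020a01650208015b0206014f020401410202013102000100006d0312016b03100169030e0167030c0165030a011d020801590206014d0204013f0202012f020001000063031201610310015f030e015d030c015b030a01590308011b0206014b0204013d0202012d0200010000570312015503100153030e0151030c014f030a014d0308014b030601190204013b0202012b0200010000490312014703100145030e0143030c0141030a013f0308013d0306013b03040117020201290200010000390312013703100135030e0133030c0131030a012f0308012d0306012b0304012903020115020001000012022603100210010e020e010c020c010a020a0108020801060206010402040102020201000200010000120200000000800100007e0100007a010000740100006c01000062010000560100004801000038010000120200001002941a0e0294170c0294140a0294110802940e0602940b040294080202940500029402))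
 (.leaf (nat_lit 0x0))
)
noncomputable def tS : BT := (.node (nat_lit 1) (.leaf (nat_lit 0x1f800052404003f0000a4008007e00014701000fc00028c02001f800051404003f0000a2008007e00014301000fc00028402001f8000504040000))
 (.leaf (nat_lit 0x0))
)
def rels : List (List ℕ) := [[nat_lit 0,nat_lit 1],
  [nat_lit 2,nat_lit 3],
  [nat_lit 4,nat_lit 5],
  [nat_lit 6,nat_lit 7],
  [nat_lit 8,nat_lit 9],
  [nat_lit 10,nat_lit 11],
  [nat_lit 12,nat_lit 13],
  [nat_lit 14,nat_lit 15],
  [nat_lit 16,nat_lit 17],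
  [nat_lit 18,nat_lit 19],
  [nat_lit 0,nat_lit 0,nat_lit 0],
  [nat_lit 2,nat_lit 2,nat_lit 2],
  [nat_lit 4,nat_lit 4,nat_lit 4],
  [nat_lit 6,nat_lit 6,nat_lit 6],
  [nat_lit 8,nat_lit 8,nat_lit 8],
  [nat_lit 10,nat_lit 10,nat_lit 10],
  [nat_lit 12,nat_lit 12,nat_lit 12],
  [nat_lit 14,nat_lit 14,nat_lit 14],
  [nat_lit 16,nat_lit 16,nat_lit 16],
  [nat_lit 18,nat_lit 18,nat_lit 18],
  [nat_lit 0,nat_lit 2,nat_lit 0,nat_lit 2],
  [nat_lit 0,nat_lit 4,nat_lit 0,nat_lit 4],
  [nat_lit 0,nat_lit 6,nat_lit 0,nat_lit 6],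
  [nat_lit 0,nat_lit 8,nat_lit 0,nat_lit 8],
  [nat_lit 0,nat_lit 10,nat_lit 0,nat_lit 10],
  [nat_lit 0,nat_lit 12,nat_lit 0,nat_lit 12],
  [nat_lit 0,nat_lit 14,nat_lit 0,nat_lit 14],
  [nat_lit 0,nat_lit 16,nat_lit 0,nat_lit 16],
  [nat_lit 0,nat_lit 18,nat_lit 0,nat_lit 18],
  [nat_lit 2,nat_lit 4,nat_lit 2,nat_lit 4],
  [nat_lit 2,nat_lit 6,nat_lit 2,nat_lit 6],
  [nat_lit 2,nat_lit 8,nat_lit 2,nat_lit 8],
  [nat_lit 2,nat_lit 10,nat_lit 2,nat_lit 10],
  [nat_lit 2,nat_lit 12,nat_lit 2,nat_lit 12],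
  [nat_lit 2,nat_lit 14,nat_lit 2,nat_lit 14],
  [nat_lit 2,nat_lit 16,nat_lit 2,nat_lit 16],
  [nat_lit 2,nat_lit 18,nat_lit 2,nat_lit 18],
  [nat_lit 4,nat_lit 6,nat_lit 4,nat_lit 6],
  [nat_lit 4,nat_lit 8,nat_lit 4,nat_lit 8],
  [nat_lit 4,nat_lit 10,nat_lit 4,nat_lit 10],
  [nat_lit 4,nat_lit 12,nat_lit 4,nat_lit 12],
  [nat_lit 4,nat_lit 14,nat_lit 4,nat_lit 14],
  [nat_lit 4,nat_lit 16,nat_lit 4,nat_lit 16],
  [nat_lit 4,nat_lit 18,nat_lit 4,nat_lit 18],
  [nat_lit 6,nat_lit 8,nat_lit 6,nat_lit 8],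
  [nat_lit 6,nat_lit 10,nat_lit 6,nat_lit 10],
  [nat_lit 6,nat_lit 12,nat_lit 6,nat_lit 12],
  [nat_lit 6,nat_lit 14,nat_lit 6,nat_lit 14],
  [nat_lit 6,nat_lit 16,nat_lit 6,nat_lit 16],
  [nat_lit 6,nat_lit 18,nat_lit 6,nat_lit 18],
  [nat_lit 8,nat_lit 10,nat_lit 8,nat_lit 10],
  [nat_lit 8,nat_lit 12,nat_lit 8,nat_lit 12],
  [nat_lit 8,nat_lit 14,nat_lit 8,nat_lit 14],
  [nat_lit 8,nat_lit 16,nat_lit 8,nat_lit 16],
  [nat_lit 8,nat_lit 18,nat_lit 8,nat_lit 18],
  [nat_lit 10,nat_lit 12,nat_lit 10,nat_lit 12],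
  [nat_lit 10,nat_lit 14,nat_lit 10,nat_lit 14],
  [nat_lit 10,nat_lit 16,nat_lit 10,nat_lit 16],
  [nat_lit 10,nat_lit 18,nat_lit 10,nat_lit 18],
  [nat_lit 12,nat_lit 14,nat_lit 12,nat_lit 14],
  [nat_lit 12,nat_lit 16,nat_lit 12,nat_lit 16],
  [nat_lit 12,nat_lit 18,nat_lit 12,nat_lit 18],
  [nat_lit 14,nat_lit 16,nat_lit 14,nat_lit 16],
  [nat_lit 14,nat_lit 18,nat_lit 14,nat_lit 18],
  [nat_lit 16,nat_lit 18,nat_lit 16,nat_lit 18]]
def subs : List (List ℕ) := [[nat_lit 0],
  [nat_lit 2],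
  [nat_lit 4],
  [nat_lit 6],
  [nat_lit 8],
  [nat_lit 10],
  [nat_lit 12],
  [nat_lit 14],
  [nat_lit 16]]
noncomputable def row (v : ℕ) : ℕ := mkRow (BT.get tT) (nat_lit 32) (nat_lit 161) (nat_lit 0x20000000000000000000000000000000000000000) v
noncomputable def DC (c r : ℕ) : List ℕ := ruleC (nat_lit 0xfc000000000000000000000000000000000000000000000000000000000000001449341138f30d28b209187105083001) (nat_lit 161) rels c r
noncomputable def D1 (r : ℕ) : List ℕ := rule (nat_lit 0xfc000000000000000000000000000000000000000000000000000000000000001449341138f30d28b209187105083001) (rels ++ subs.map (List.cons 63)) r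
noncomputable def chk (v : ℕ) : Bool := chkRow row (nat_lit 7) (nat_lit 128) (nat_lit 16) (nat_lit 0xfc000000000000000000000000000000000000000000000000000000000000001449341138f30d28b209187105083001) (nat_lit 20) (nat_lit 12) (nat_lit 12) (nat_lit 17) (nat_lit 131072) (nat_lit 37888) (nat_lit 147) (nat_lit 16) (nat_lit 65536) DC D1 [nat_lit 0,nat_lit 1,nat_lit 2,nat_lit 3,nat_lit 4,nat_lit 5,nat_lit 6,nat_lit 7,nat_lit 8,nat_lit 9,nat_lit 10,nat_lit 11,nat_lit 12,nat_lit 13,nat_lit 14,nat_lit 15,nat_lit 16,nat_lit 17,nat_lit 18,nat_lit 19]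
  (mkRow (BT.get tP) (nat_lit 32) (nat_lit 336) (nat_lit 0x1000000000000000000000000000000000000000000000000000000000000000000000000000000000000) v) (Nat.rec 0 (fun j _ => BT.get tS j) (Nat.succ (Nat.div v (nat_lit 32)))) (Nat.succ v)
theorem c0 : allB chk 11 0 = true := by decide +kernel
theorem g0 : ∀ i < 1, allB chk 11 (0 + i) = true := (fl (c := 0) fl0 c0)
theorem call : ∀ i < 1, allB chk 11 i = true := (fl_add (a := 0) (b := 1) fl0 g0)
theorem sd : side (row 0) (nat_lit 161) (nat_lit 0x20000000000000000000000000000000000000000) (nat_lit 7) (nat_lit 16) (nat_lit 0xfc000000000000000000000000000000000000000000000000000000000000001449341138f30d28b209187105083001) (nat_lit 20) (nat_lit 12) (nat_lit 12) (nat_lit 147) 11 1 rels subs [nat_lit 0,nat_lit 1,nat_lit 2,nat_lit 3,nat_lit 4,nat_lit 5,nat_lit 6,nat_lit 7,nat_lit 8,nat_lit 9,nat_lit 10,nat_lit 11,nat_lit 12,nat_lit 13,nat_lit 14,nat_lit 15,nat_lit 16,nat_lit 17,nat_lit 18,nat_lit 19] = true := by decide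 +kernel
theorem idx {G : Type*} [Group G] (gen : ℕ → G) (hrel : ∀ w ∈ rels, ev gen w = 1) (H : Subgroup G)
    (hsub : ∀ w ∈ subs, ev gen w ∈ H) :
    H.relIndex (Subgroup.closure (gen '' Set.Iio 20)) ≠ 0 ∧ H.relIndex (Subgroup.closure (gen '' Set.Iio 20)) ≤ 12 :=
  TC.idx (by decide) (final (fun _ => rfl) (fun _ _ => rfl) (fun _ => rfl) (fun _ h => ⟨_, _, h⟩) sd call hrel hsub)

end H15.TAlt10
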