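import Cfsg.Agent.H15.TFi23aB0

/-! Coset enumeration certificate TFi23a (presentation Fi23, letters abcdefgjhi, subgroup a b c d e f g h i), definitions. -/
set_option maxRecDepth 8000
set_option Elab.async false
namespace H15.TFi23a
open TC

noncomputable def tT : BT := (.node (nat_lit 656) tT_0 tT_656)
noncomputable def tP : BT := tP_0
noncomputable def tS : BT := tS_0
def rels : List (List ℕ) := [[nat_lit 0,nat_lit 0],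
  [nat_lit 1,nat_lit 1],
  [nat_lit 2,nat_lit 2],
  [nat_lit 3,nat_lit 3],
  [nat_lit 4,nat_lit 4],
  [nat_lit 5,nat_lit 5],
  [nat_lit 6,nat_lit 6],
  [nat_lit 7,nat_lit 7],
  [nat_lit 8,nat_lit 8],
  [nat_lit 9,nat_lit 9],
  [nat_lit 0,nat_lit 1,nat_lit 0,nat_lit 1,nat_lit 0,nat_lit 1],
  [nat_lit 0,nat_lit 2,nat_lit 0,nat_lit 2],
  [nat_lit 0,nat_lit 3,nat_lit 0,nat_lit 3],
  [nat_lit 0,nat_lit 4,nat_lit 0,nat_lit 4],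
  [nat_lit 0,nat_lit 5,nat_lit 0,nat_lit 5],
  [nat_lit 0,nat_lit 6,nat_lit 0,nat_lit 6],
  [nat_lit 0,nat_lit 7,nat_lit 0,nat_lit 7],
  [nat_lit 0,nat_lit 8,nat_lit 0,nat_lit 8],
  [nat_lit 0,nat_lit 9,nat_lit 0,nat_lit 9],
  [nat_lit 1,nat_lit 2,nat_lit 1,nat_lit 2,nat_lit 1,nat_lit 2],
  [nat_lit 1,nat_lit 3,nat_lit 1,nat_lit 3],
  [nat_lit 1,nat_lit 4,nat_lit 1,nat_lit 4],
  [nat_lit 1,nat_lit 5,nat_lit 1,nat_lit 5],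
  [nat_lit 1,nat_lit 6,nat_lit 1,nat_lit 6],
  [nat_lit 1,nat_lit 7,nat_lit 1,nat_lit 7],
  [nat_lit 1,nat_lit 8,nat_lit 1,nat_lit 8],
  [nat_lit 1,nat_lit 9,nat_lit 1,nat_lit 9],
  [nat_lit 2,nat_lit 3,nat_lit 2,nat_lit 3,nat_lit 2,nat_lit 3],
  [nat_lit 2,nat_lit 4,nat_lit 2,nat_lit 4],
  [nat_lit 2,nat_lit 5,nat_lit 2,nat_lit 5],
  [nat_lit 2,nat_lit 6,nat_lit 2,nat_lit 6],
  [nat_lit 2,nat_lit 7,nat_lit 2,nat_lit 7],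
  [nat_lit 2,nat_lit 8,nat_lit 2,nat_lit 8],
  [nat_lit 2,nat_lit 9,nat_lit 2,nat_lit 9],
  [nat_lit 3,nat_lit 4,nat_lit 3,nat_lit 4,nat_lit 3,nat_lit 4],
  [nat_lit 3,nat_lit 5,nat_lit 3,nat_lit 5],
  [nat_lit 3,nat_lit 6,nat_lit 3,nat_lit 6],
  [nat_lit 3,nat_lit 7,nat_lit 3,nat_lit 7],
  [nat_lit 3,nat_lit 8,nat_lit 3,nat_lit 8,nat_lit 3,nat_lit 8],
  [nat_lit 3,nat_lit 9,nat_lit 3,nat_lit 9],
  [nat_lit 4,nat_lit 5,nat_lit 4,nat_lit 5,nat_lit 4,nat_lit 5],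
  [nat_lit 4,nat_lit 6,nat_lit 4,nat_lit 6],
  [nat_lit 4,nat_lit 7,nat_lit 4,nat_lit 7],
  [nat_lit 4,nat_lit 8,nat_lit 4,nat_lit 8],
  [nat_lit 4,nat_lit 9,nat_lit 4,nat_lit 9],
  [nat_lit 5,nat_lit 6,nat_lit 5,nat_lit 6,nat_lit 5,nat_lit 6],
  [nat_lit 5,nat_lit 7,nat_lit 5,nat_lit 7],
  [nat_lit 5,nat_lit 8,nat_lit 5,nat_lit 8],
  [nat_lit 5,nat_lit 9,nat_lit 5,nat_lit 9],
  [nat_lit 6,nat_lit 7,nat_lit 6,nat_lit 7,nat_lit 6,nat_lit 7],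
  [nat_lit 6,nat_lit 8,nat_lit 6,nat_lit 8],
  [nat_lit 6,nat_lit 9,nat_lit 6,nat_lit 9],
  [nat_lit 7,nat_lit 8,nat_lit 7,nat_lit 8],
  [nat_lit 7,nat_lit 9,nat_lit 7,nat_lit 9],
  [nat_lit 8,nat_lit 9,nat_lit 8,nat_lit 9,nat_lit 8,nat_lit 9],
  [nat_lit 3,nat_lit 2,nat_lit 1,nat_lit 3,nat_lit 4,nat_lit 5,nat_lit 3,nat_lit 8,nat_lit 9,nat_lit 3,nat_lit 2,nat_lit 1,nat_lit 3,nat_lit 4,nat_lit 5,nat_lit 3,nat_lit 8,nat_lit 9,nat_lit 3,nat_lit 2,nat_lit 1,nat_lit 3,nat_lit 4,nat_lit 5,nat_lit 3,nat_lit 8,nat_lit 9,nat_lit 3,nat_lit 2,nat_lit 1,nat_lit 3,nat_lit 4,nat_lit 5,nat_lit 3,nat_lit 8,nat_lit 9,nat_lit 3,nat_lit 2,nat_lit 1,nat_lit 3,nat_lit 4,nat_lit 5,nat_lit 3,nat_lit 8,nat_lit 9,nat_lit 3,nat_lit 2,nat_lit 1,nat_lit 3,nat_lit 4,nat_lit 5,nat_lit 3,nat_lit 8,nat_lit 9,nat_lit 3,nat_lit 2,nat_lit 1,nat_lit 3,nat_lit 4,nat_lit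 5,nat_lit 3,nat_lit 8,nat_lit 9,nat_lit 3,nat_lit 2,nat_lit 1,nat_lit 3,nat_lit 4,nat_lit 5,nat_lit 3,nat_lit 8,nat_lit 9,nat_lit 3,nat_lit 2,nat_lit 1,nat_lit 3,nat_lit 4,nat_lit 5,nat_lit 3,nat_lit 8,nat_lit 9,nat_lit 3,nat_lit 2,nat_lit 1,nat_lit 3,nat_lit 4,nat_lit 5,nat_lit 3,nat_lit 8,nat_lit 9],
  [nat_lit 0,nat_lit 1,nat_lit 2,nat_lit 3,nat_lit 4,nat_lit 5,nat_lit 8,nat_lit 0,nat_lit 1,nat_lit 2,nat_lit 3,nat_lit 4,nat_lit 5,nat_lit 8,nat_lit 0,nat_lit 1,nat_lit 2,nat_lit 3,nat_lit 4,nat_lit 5,nat_lit 8,nat_lit 0,nat_lit 1,nat_lit 2,nat_lit 3,nat_lit 4,nat_lit 5,nat_lit 8,nat_lit 0,nat_lit 1,nat_lit 2,nat_lit 3,nat_lit 4,nat_lit 5,nat_lit 8,nat_lit 0,nat_lit 1,nat_lit 2,nat_lit 3,nat_lit 4,nat_lit 5,nat_lit 8,nat_lit 0,nat_lit 1,nat_lit 2,nat_lit 3,nat_lit 4,nat_lit 5,nat_lit 8,nat_lit 0,nat_lit 1,nat_lit 2,nat_lit 3,nat_lit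 4,nat_lit 5,nat_lit 8,nat_lit 0,nat_lit 1,nat_lit 2,nat_lit 3,nat_lit 4,nat_lit 5,nat_lit 8]]
def subs : List (List ℕ) := [[nat_lit 0],
  [nat_lit 1],
  [nat_lit 2],
  [nat_lit 3],
  [nat_lit 4],
  [nat_lit 5],
  [nat_lit 6],
  [nat_lit 8],
  [nat_lit 9]]
noncomputable def row (v : ℕ) : ℕ := mkRow (BT.get tT) (nat_lit 32) (nat_lit 302) (nat_lit 0x4000000000000000000000000000000000000000000000000000000000000000000000000000) v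
noncomputable def DC (c r : ℕ) : List ℕ := ruleC (nat_lit 0xfc000000000000000000000000000000000000000000000000000000000000000000000000000000a2481c61440c2040) (nat_lit 302) rels c r
noncomputable def D1 (r : ℕ) : List ℕ := rule (nat_lit 0xfc000000000000000000000000000000000000000000000000000000000000000000000000000000a2481c61440c2040) (rels ++ subs.map (List.cons 63)) r
noncomputable def chk (v : ℕ) : Bool := chkRow row (nat_lit 24) (nat_lit 16777216) (nat_lit 65536) (nat_lit 0xfc000000000000000000000000000000000000000000000000000000000000000000000000000000a2481c61440c2040) (nat_lit 10) (nat_lit 31671) (nat_lit 41947) (nat_lit 22) (nat_lit 4194304) (nat_lit 33792) (nat_lit 264) (nat_lit 16) (nat_lit 65536) DC D1 [nat_lit 0,nat_lit 1,nat_lit 2,nat_lit 3,nat_lit 4,nat_lit 5,nat_lit 6,nat_lit 7,nat_lit 8,nat_lit 9]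
  (mkRow (BT.get tP) (nat_lit 32) (nat_lit 176) (nat_lit 0x100000000000000000000000000000000000000000000) v) (Nat.rec 0 (fun j _ => BT.get tS j) (Nat.succ (Nat.div v (nat_lit 32)))) (Nat.succ v)

end H15.TFi23a
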