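import Cfsg.Agent.H15.TFi24aB0
import Cfsg.Agent.H15.TFi24aB1
import Cfsg.Agent.H15.TFi24aB2
import Cfsg.Agent.H15.TFi24aB3
import Cfsg.Agent.H15.TFi24aB4
import Cfsg.Agent.H15.TFi24aB5

/-! Coset enumeration certificate TFi24a (presentation Fi24, letters lkabcdefgjhi, subgroup l a b c d e f g j h i), definitions. -/
set_option maxRecDepth 8000
set_option Elab.async false
namespace H15.TFi24a
open TC

noncomputable def tT : BT := (.node (nat_lit 4796) (.node (nat_lit 2398) (.node (nat_lit 1199) (.node (nat_lit 599) tT_0 tT_599) (.node (nat_lit 1798) tT_1199 tT_1798)) (.node (nat_lit 3597) (.node (nat_lit 2997) tT_2398 tT_2997) (.node (nat_lit 4196) tT_3597 tT_4196))) (.node (nat_lit 7194) (.node (nat_lit 5995) (.node (nat_lit 5395) tT_4796 tT_5395) (.node (nat_lit 6594) tT_5995 tT_6594)) (.node (nat_lit 8393) (.node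 (nat_lit 7793) tT_7194 tT_7793) (.node (nat_lit 8993) tT_8393 tT_8993))))
noncomputable def tP : BT := (.node (nat_lit 4796) (.node (nat_lit 2398) (.node (nat_lit 1199) tP_0 tP_1199) (.node (nat_lit 3597) tP_2398 tP_3597)) (.node (nat_lit 7194) (.node (nat_lit 5995) tP_4796 tP_5995) (.node (nat_lit 8393) tP_7194 tP_8393)))
noncomputable def tS : BT := tS_0
def rels : List (List ℕ) := [[nat_lit 0,nat_lit 0],
  [nat_lit 1,nat_lit 1],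
  [nat_lit 2,nat_lit 2],
  [nat_lit 3,nat_lit 3],
  [nat_lit 4,nat_lit 4],
  [nat_lit 5,nat_lit 5],
  [nat_lit 6,nat_lit 6],
  [nat_lit 7,nat_lit 7],
  [nat_lit 8,nat_lit 8],
  [nat_lit 9,nat_lit 9],
  [nat_lit 10,nat_lit 10],
  [nat_lit 11,nat_lit 11],
  [nat_lit 0,nat_lit 1,nat_lit 0,nat_lit 1,nat_lit 0,nat_lit 1],
  [nat_lit 0,nat_lit 2,nat_lit 0,nat_lit 2],
  [nat_lit 0,nat_lit 3,nat_lit 0,nat_lit 3],
  [nat_lit 0,nat_lit 4,nat_lit 0,nat_lit 4],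
  [nat_lit 0,nat_lit 5,nat_lit 0,nat_lit 5],
  [nat_lit 0,nat_lit 6,nat_lit 0,nat_lit 6],
  [nat_lit 0,nat_lit 7,nat_lit 0,nat_lit 7],
  [nat_lit 0,nat_lit 8,nat_lit 0,nat_lit 8],
  [nat_lit 0,nat_lit 9,nat_lit 0,nat_lit 9],
  [nat_lit 0,nat_lit 10,nat_lit 0,nat_lit 10],
  [nat_lit 0,nat_lit 11,nat_lit 0,nat_lit 11],
  [nat_lit 1,nat_lit 2,nat_lit 1,nat_lit 2,nat_lit 1,nat_lit 2],
  [nat_lit 1,nat_lit 3,nat_lit 1,nat_lit 3],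
  [nat_lit 1,nat_lit 4,nat_lit 1,nat_lit 4],
  [nat_lit 1,nat_lit 5,nat_lit 1,nat_lit 5],
  [nat_lit 1,nat_lit 6,nat_lit 1,nat_lit 6],
  [nat_lit 1,nat_lit 7,nat_lit 1,nat_lit 7],
  [nat_lit 1,nat_lit 8,nat_lit 1,nat_lit 8],
  [nat_lit 1,nat_lit 9,nat_lit 1,nat_lit 9],
  [nat_lit 1,nat_lit 10,nat_lit 1,nat_lit 10],
  [nat_lit 1,nat_lit 11,nat_lit 1,nat_lit 11],
  [nat_lit 2,nat_lit 3,nat_lit 2,nat_lit 3,nat_lit 2,nat_lit 3],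
  [nat_lit 2,nat_lit 4,nat_lit 2,nat_lit 4],
  [nat_lit 2,nat_lit 5,nat_lit 2,nat_lit 5],
  [nat_lit 2,nat_lit 6,nat_lit 2,nat_lit 6],
  [nat_lit 2,nat_lit 7,nat_lit 2,nat_lit 7],
  [nat_lit 2,nat_lit 8,nat_lit 2,nat_lit 8],
  [nat_lit 2,nat_lit 9,nat_lit 2,nat_lit 9],
  [nat_lit 2,nat_lit 10,nat_lit 2,nat_lit 10],
  [nat_lit 2,nat_lit 11,nat_lit 2,nat_lit 11],
  [nat_lit 3,nat_lit 4,nat_lit 3,nat_lit 4,nat_lit 3,nat_lit 4],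
  [nat_lit 3,nat_lit 5,nat_lit 3,nat_lit 5],
  [nat_lit 3,nat_lit 6,nat_lit 3,nat_lit 6],
  [nat_lit 3,nat_lit 7,nat_lit 3,nat_lit 7],
  [nat_lit 3,nat_lit 8,nat_lit 3,nat_lit 8],
  [nat_lit 3,nat_lit 9,nat_lit 3,nat_lit 9],
  [nat_lit 3,nat_lit 10,nat_lit 3,nat_lit 10],
  [nat_lit 3,nat_lit 11,nat_lit 3,nat_lit 11],
  [nat_lit 4,nat_lit 5,nat_lit 4,nat_lit 5,nat_lit 4,nat_lit 5],
  [nat_lit 4,nat_lit 6,nat_lit 4,nat_lit 6],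
  [nat_lit 4,nat_lit 7,nat_lit 4,nat_lit 7],
  [nat_lit 4,nat_lit 8,nat_lit 4,nat_lit 8],
  [nat_lit 4,nat_lit 9,nat_lit 4,nat_lit 9],
  [nat_lit 4,nat_lit 10,nat_lit 4,nat_lit 10],
  [nat_lit 4,nat_lit 11,nat_lit 4,nat_lit 11],
  [nat_lit 5,nat_lit 6,nat_lit 5,nat_lit 6,nat_lit 5,nat_lit 6],
  [nat_lit 5,nat_lit 7,nat_lit 5,nat_lit 7],
  [nat_lit 5,nat_lit 8,nat_lit 5,nat_lit 8],
  [nat_lit 5,nat_lit 9,nat_lit 5,nat_lit 9],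
  [nat_lit 5,nat_lit 10,nat_lit 5,nat_lit 10,nat_lit 5,nat_lit 10],
  [nat_lit 5,nat_lit 11,nat_lit 5,nat_lit 11],
  [nat_lit 6,nat_lit 7,nat_lit 6,nat_lit 7,nat_lit 6,nat_lit 7],
  [nat_lit 6,nat_lit 8,nat_lit 6,nat_lit 8],
  [nat_lit 6,nat_lit 9,nat_lit 6,nat_lit 9],
  [nat_lit 6,nat_lit 10,nat_lit 6,nat_lit 10],
  [nat_lit 6,nat_lit 11,nat_lit 6,nat_lit 11],
  [nat_lit 7,nat_lit 8,nat_lit 7,nat_lit 8,nat_lit 7,nat_lit 8],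
  [nat_lit 7,nat_lit 9,nat_lit 7,nat_lit 9],
  [nat_lit 7,nat_lit 10,nat_lit 7,nat_lit 10],
  [nat_lit 7,nat_lit 11,nat_lit 7,nat_lit 11],
  [nat_lit 8,nat_lit 9,nat_lit 8,nat_lit 9,nat_lit 8,nat_lit 9],
  [nat_lit 8,nat_lit 10,nat_lit 8,nat_lit 10],
  [nat_lit 8,nat_lit 11,nat_lit 8,nat_lit 11],
  [nat_lit 9,nat_lit 10,nat_lit 9,nat_lit 10],
  [nat_lit 9,nat_lit 11,nat_lit 9,nat_lit 11],
  [nat_lit 10,nat_lit 11,nat_lit 10,nat_lit 11,nat_lit 10,nat_lit 11],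
  [nat_lit 0,nat_lit 10,nat_lit 7,nat_lit 6,nat_lit 5,nat_lit 4,nat_lit 3,nat_lit 2,nat_lit 10,nat_lit 7,nat_lit 6,nat_lit 5,nat_lit 4,nat_lit 3,nat_lit 2,nat_lit 10,nat_lit 7,nat_lit 6,nat_lit 5,nat_lit 4,nat_lit 3,nat_lit 2,nat_lit 10,nat_lit 7,nat_lit 6,nat_lit 5,nat_lit 4,nat_lit 3,nat_lit 2,nat_lit 10,nat_lit 7,nat_lit 6,nat_lit 5,nat_lit 4,nat_lit 3,nat_lit 2,nat_lit 10,nat_lit 7,nat_lit 6,nat_lit 5,nat_lit 4,nat_lit 3,nat_lit 2,nat_lit 10,nat_lit 7,nat_lit 6,nat_lit 5,nat_lit 4,nat_lit 3,nat_lit 2,nat_lit 10,nat_lit 7,nat_lit 6,nat_lit 5,nat_lit 4,nat_lit 3,nat_lit 2,nat_lit 10,nat_lit 7,nat_lit 6,nat_lit 5,nat_lit 4,nat_lit 3,nat_lit 2],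
  [nat_lit 5,nat_lit 4,nat_lit 3,nat_lit 2,nat_lit 1,nat_lit 0,nat_lit 5,nat_lit 6,nat_lit 7,nat_lit 8,nat_lit 9,nat_lit 5,nat_lit 10,nat_lit 11,nat_lit 5,nat_lit 4,nat_lit 3,nat_lit 2,nat_lit 1,nat_lit 0,nat_lit 5,nat_lit 6,nat_lit 7,nat_lit 8,nat_lit 9,nat_lit 5,nat_lit 10,nat_lit 11,nat_lit 5,nat_lit 4,nat_lit 3,nat_lit 2,nat_lit 1,nat_lit 0,nat_lit 5,nat_lit 6,nat_lit 7,nat_lit 8,nat_lit 9,nat_lit 5,nat_lit 10,nat_lit 11,nat_lit 5,nat_lit 4,nat_lit 3,nat_lit 2,nat_lit 1,nat_lit 0,nat_lit 5,nat_lit 6,nat_lit 7,nat_lit 8,nat_lit 9,nat_lit 5,nat_lit 10,nat_lit 11,nat_lit 5,nat_lit 4,nat_lit 3,nat_lit 2,nat_lit 1,nat_lit 0,nat_lit 5,nat_lit 6,nat_lit 7,nat_lit 8,nat_lit 9,nat_lit 5,nat_lit 10,nat_lit 11,nat_lit 5,nat_lit 4,nat_lit 3,nat_lit 2,nat_lit 1,nat_lit 0,nat_lit 5,nat_lit 6,nat_lit 7,nat_lit 8,nat_lit 9,nat_lit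 5,nat_lit 10,nat_lit 11,nat_lit 5,nat_lit 4,nat_lit 3,nat_lit 2,nat_lit 1,nat_lit 0,nat_lit 5,nat_lit 6,nat_lit 7,nat_lit 8,nat_lit 9,nat_lit 5,nat_lit 10,nat_lit 11,nat_lit 5,nat_lit 4,nat_lit 3,nat_lit 2,nat_lit 1,nat_lit 0,nat_lit 5,nat_lit 6,nat_lit 7,nat_lit 8,nat_lit 9,nat_lit 5,nat_lit 10,nat_lit 11,nat_lit 5,nat_lit 4,nat_lit 3,nat_lit 2,nat_lit 1,nat_lit 0,nat_lit 5,nat_lit 6,nat_lit 7,nat_lit 8,nat_lit 9,nat_lit 5,nat_lit 10,nat_lit 11,nat_lit 5,nat_lit 4,nat_lit 3,nat_lit 2,nat_lit 1,nat_lit 0,nat_lit 5,nat_lit 6,nat_lit 7,nat_lit 8,nat_lit 9,nat_lit 5,nat_lit 10,nat_lit 11,nat_lit 5,nat_lit 4,nat_lit 3,nat_lit 2,nat_lit 1,nat_lit 0,nat_lit 5,nat_lit 6,nat_lit 7,nat_lit 8,nat_lit 9,nat_lit 5,nat_lit 10,nat_lit 11,nat_lit 5,nat_lit 4,nat_lit 3,nat_lit 2,nat_lit 1,nat_lit 0,nat_lit 5,nat_lit 6,nat_lit 7,nat_lit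 8,nat_lit 9,nat_lit 5,nat_lit 10,nat_lit 11,nat_lit 5,nat_lit 4,nat_lit 3,nat_lit 2,nat_lit 1,nat_lit 0,nat_lit 5,nat_lit 6,nat_lit 7,nat_lit 8,nat_lit 9,nat_lit 5,nat_lit 10,nat_lit 11,nat_lit 5,nat_lit 4,nat_lit 3,nat_lit 2,nat_lit 1,nat_lit 0,nat_lit 5,nat_lit 6,nat_lit 7,nat_lit 8,nat_lit 9,nat_lit 5,nat_lit 10,nat_lit 11,nat_lit 5,nat_lit 4,nat_lit 3,nat_lit 2,nat_lit 1,nat_lit 0,nat_lit 5,nat_lit 6,nat_lit 7,nat_lit 8,nat_lit 9,nat_lit 5,nat_lit 10,nat_lit 11,nat_lit 5,nat_lit 4,nat_lit 3,nat_lit 2,nat_lit 1,nat_lit 0,nat_lit 5,nat_lit 6,nat_lit 7,nat_lit 8,nat_lit 9,nat_lit 5,nat_lit 10,nat_lit 11,nat_lit 5,nat_lit 4,nat_lit 3,nat_lit 2,nat_lit 1,nat_lit 0,nat_lit 5,nat_lit 6,nat_lit 7,nat_lit 8,nat_lit 9,nat_lit 5,nat_lit 10,nat_lit 11],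
  [nat_lit 5,nat_lit 4,nat_lit 3,nat_lit 5,nat_lit 6,nat_lit 7,nat_lit 5,nat_lit 10,nat_lit 11,nat_lit 5,nat_lit 4,nat_lit 3,nat_lit 5,nat_lit 6,nat_lit 7,nat_lit 5,nat_lit 10,nat_lit 11,nat_lit 5,nat_lit 4,nat_lit 3,nat_lit 5,nat_lit 6,nat_lit 7,nat_lit 5,nat_lit 10,nat_lit 11,nat_lit 5,nat_lit 4,nat_lit 3,nat_lit 5,nat_lit 6,nat_lit 7,nat_lit 5,nat_lit 10,nat_lit 11,nat_lit 5,nat_lit 4,nat_lit 3,nat_lit 5,nat_lit 6,nat_lit 7,nat_lit 5,nat_lit 10,nat_lit 11,nat_lit 5,nat_lit 4,nat_lit 3,nat_lit 5,nat_lit 6,nat_lit 7,nat_lit 5,nat_lit 10,nat_lit 11,nat_lit 5,nat_lit 4,nat_lit 3,nat_lit 5,nat_lit 6,nat_lit 7,nat_lit 5,nat_lit 10,nat_lit 11,nat_lit 5,nat_lit 4,nat_lit 3,nat_lit 5,nat_lit 6,nat_lit 7,nat_lit 5,nat_lit 10,nat_lit 11,nat_lit 5,nat_lit 4,nat_lit 3,nat_lit 5,nat_lit 6,nat_lit 7,nat_lit 5,nat_lit 10,nat_lit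 11,nat_lit 5,nat_lit 4,nat_lit 3,nat_lit 5,nat_lit 6,nat_lit 7,nat_lit 5,nat_lit 10,nat_lit 11]]
def subs : List (List ℕ) := [[nat_lit 0],
  [nat_lit 2],
  [nat_lit 3],
  [nat_lit 4],
  [nat_lit 5],
  [nat_lit 6],
  [nat_lit 7],
  [nat_lit 8],
  [nat_lit 9],
  [nat_lit 10],
  [nat_lit 11]]
noncomputable def row (v : ℕ) : ℕ := mkRow (BT.get tT) (nat_lit 32) (nat_lit 395) (nat_lit 0x800000000000000000000000000000000000000000000000000000000000000000000000000000000000000000000000000) v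
noncomputable def DC (c r : ℕ) : List ℕ := ruleC (nat_lit 0xfc000000000000000000000000000000000000000000000000000000000000000000000000000c2ca2481c61440c2040) (nat_lit 395) rels c r
noncomputable def D1 (r : ℕ) : List ℕ := rule (nat_lit 0xfc000000000000000000000000000000000000000000000000000000000000000000000000000c2ca2481c61440c2040) (rels ++ subs.map (List.cons 63)) r
noncomputable def chk (v : ℕ) : Bool := chkRow row (nat_lit 27) (nat_lit 134217728) (nat_lit 524288) (nat_lit 0xfc000000000000000000000000000000000000000000000000000000000000000000000000000c2ca2481c61440c2040) (nat_lit 12) (nat_lit 306936) (nat_lit 306936) (nat_lit 25) (nat_lit 33554432) (nat_lit 47104) (nat_lit 351) (nat_lit 16) (nat_lit 65536) DC D1 [nat_lit 0,nat_lit 1,nat_lit 2,nat_lit 3,nat_lit 4,nat_lit 5,nat_lit 6,nat_lit 7,nat_lit 8,nat_lit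 9,nat_lit 10,nat_lit 11]
  (mkRow (BT.get tP) (nat_lit 32) (nat_lit 208) (nat_lit 0x10000000000000000000000000000000000000000000000000000) v) (Nat.rec 0 (fun j _ => BT.get tS j) (Nat.succ (Nat.div v (nat_lit 32)))) (Nat.succ v)

end H15.TFi24a
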