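import Cfsg.Agent.H15.TM6D

/-! Coset enumeration certificate TM6 (M24 over L2(23)), checks part 0. -/
set_option maxRecDepth 8000
set_option Elab.async false
namespace H15.TM6
open TC

theorem c0 : allB chk 11 0 = true := by decide +kernel
theorem c1 : allB chk 11 1 = true := by decide +kernel
theorem c2 : allB chk 11 2 = true := by decide +kernel
theorem c3 : allB chk 11 3 = true := by decide +kernel
theorem c4 : allB chk 11 4 = true := by decide +kernel
theorem c5 : allB chk 11 5 = true := by decide +kernel
theorem c6 : allB chk 11 6 = true := by decide +kernel
theorem c7 : allB chk 11 7 = true := by decide +kernel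
theorem c8 : allB chk 11 8 = true := by decide +kernel
theorem c9 : allB chk 11 9 = true := by decide +kernel
theorem c10 : allB chk 11 10 = true := by decide +kernel
theorem c11 : allB chk 11 11 = true := by decide +kernel
theorem c12 : allB chk 11 12 = true := by decide +kernel
theorem c13 : allB chk 11 13 = true := by decide +kernel
theorem c14 : allB chk 11 14 = true := by decide +kernel
theorem c15 : allB chk 11 15 = true := by decide +kernel
theorem c16 : allB chk 11 16 = true := by decide +kernel
theorem c17 : allB chk 11 17 = true := by decide +kernel
theorem c18 : allB chk 11 18 = true := by decide +kernel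
theorem c19 : allB chk 11 19 = true := by decide +kernel
theorem c20 : allB chk 11 20 = true := by decide +kernel
theorem c21 : allB chk 11 21 = true := by decide +kernel
theorem c22 : allB chk 11 22 = true := by decide +kernel
theorem c23 : allB chk 11 23 = true := by decide +kernel
theorem c24 : allB chk 11 24 = true := by decide +kernel
theorem c25 : allB chk 11 25 = true := by decide +kernel
theorem c26 : allB chk 11 26 = true := by decide +kernel
theorem c27 : allB chk 11 27 = true := by decide +kernel
theorem c28 : allB chk 11 28 = true := by decide +kernel
theorem c29 : allB chk 11 29 = true := by decide +kernel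
theorem c30 : allB chk 11 30 = true := by decide +kernel
theorem g0 : ∀ i < 31, allB chk 11 (0 + i) = true := (fl (c := 30) (fl (c := 29) (fl (c := 28) (fl (c := 27) (fl (c := 26) (fl (c := 25) (fl (c := 24) (fl (c := 23) (fl (c := 22) (fl (c := 21) (fl (c := 20) (fl (c := 19) (fl (c := 18) (fl (c := 17) (fl (c := 16) (fl (c := 15) (fl (c := 14) (fl (c := 13) (fl (c := 12) (fl (c := 11) (fl (c := 10) (fl (c := 9) (fl (c := 8) (fl (c := 7) (fl (c := 6) (fl (c := 5) (fl (c := 4) (fl (c := 3) (fl (c := 2) (fl (c := 1) (fl (c := 0) fl0 c0) c1) c2) c3) c4) c5) c6) c7) c8) c9) c10) c11) c12) c13) c14) c15) c16) c17) c18) c19) c20) c21) c22) c23) c24) c25) c26) c27) c28) c29) c30)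

end H15.TM6
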