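import Cfsg.Agent.H15.TTh3D

/-! Coset enumeration certificate TTh3 (presentation Th, letters abcdes, subgroup a b c d e), checks part 0. -/
set_option maxRecDepth 8000
set_option Elab.async false
namespace H15.TTh3
open TC

theorem c0 : allB chk 11 0 = true := by decide +kernel
theorem c1 : allB chk 11 1 = true := by decide +kernel
theorem c2 : allB chk 11 2 = true := by decide +kernel
theorem c3 : allB chk 11 3 = true := by decide +kernel
theorem c4 : allB chk 11 4 = true := by decide +kernel
theorem c5 : allB chk 11 5 = true := by decide +kernel
theorem c6 : allB chk 11 6 = true := by decide +kernel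
theorem c7 : allB chk 11 7 = true := by decide +kernel
theorem c8 : allB chk 11 8 = true := by decide +kernel
theorem c9 : allB chk 11 9 = true := by decide +kernel
theorem c10 : allB chk 11 10 = true := by decide +kernel
theorem c11 : allB chk 11 11 = true := by decide +kernel
theorem c12 : allB chk 11 12 = true := by decide +kernel
theorem c13 : allB chk 11 13 = true := by decide +kernel
theorem c14 : allB chk 11 14 = true := by decide +kernel
theorem c15 : allB chk 11 15 = true := by decide +kernel
theorem c16 : allB chk 11 16 = true := by decide +kernel
theorem c17 : allB chk 11 17 = true := by decide +kernel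
theorem c18 : allB chk 11 18 = true := by decide +kernel
theorem c19 : allB chk 11 19 = true := by decide +kernel
theorem g0 : ∀ i < 20, allB chk 11 (0 + i) = true := (fl (c := 19) (fl (c := 18) (fl (c := 17) (fl (c := 16) (fl (c := 15) (fl (c := 14) (fl (c := 13) (fl (c := 12) (fl (c := 11) (fl (c := 10) (fl (c := 9) (fl (c := 8) (fl (c := 7) (fl (c := 6) (fl (c := 5) (fl (c := 4) (fl (c := 3) (fl (c := 2) (fl (c := 1) (fl (c := 0) fl0 c0) c1) c2) c3) c4) c5) c6) c7) c8) c9) c10) c11) c12) c13) c14) c15) c16) c17) c18) c19)

end H15.TTh3
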