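import Cfsg.Agent.H15.ThHC0

/-! Generated certificate (pklite) for the permutation group ThH of degree 18019, order 634023936, base 0 1 50 26. -/
set_option autoImplicit false
set_option maxRecDepth 100000

namespace H15.ThH
open H14

theorem lvval4 : lv4.val 18019 nets = 1 := rfl
theorem lvval3 : lv3.val 18019 nets = 9 := val_cons lvc3 lvval4
theorem lvval2 : lv2.val 18019 nets = 1512 := val_cons lvc2 lvval3
theorem lvval1 : lv1.val 18019 nets = 774144 := val_cons lvc1 lvval2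
theorem lvval0 : lv0.val 18019 nets = 634023936 := val_cons lvc0 lvval1
section
variable {Γ Ω : Type*} [Group Γ] [MulAction Γ Ω] (M : PM Γ Ω 18019 nets)

theorem all_ok [FaithfulSMul Γ Ω] : Rels M.gen allRels := (M.rels_of_idArr (by decide) rc0)
theorem relsD_ok [FaithfulSMul Γ Ω] : Rels M.gen relsD := Rels.left (all_ok M)
theorem relsE_ok [FaithfulSMul Γ Ω] : Rels M.gen relsE := Rels.right (Rels.right (all_ok M))
theorem dok : defOk defs 7 = true := by decide +kernel
theorem dlen : nets.length ≤ 7 + defs.length := by decide +kernel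
theorem gen_mem [FaithfulSMul Γ Ω] {X : Subgroup Γ} (h0 : ∀ l < 7, M.gen l ∈ X) {ws : List Word} (hw : wsIn 0 8 ws = true) : sub M.gen ws ≤ X :=
  sub_le_of_wsIn (lo := 0) (gen_mem_of_defRels (ds := defs) (fun l _ hl => h0 l hl) (by decide +kernel) (relsD_ok M)) hw
theorem low (h : Finite (sub M.gen lv0.gens)) : 634023936 ≤ Nat.card (sub M.gen lv0.gens) := lvval0 ▸ M.low lv0 h
variable (hc : Nat.card (sub M.gen lv0.gens) = 634023936)
include hc
theorem lev0 : sub M.gen lv0.gens ⊓ MulAction.stabilizer Γ (M.dec 0) = sub M.gen lv1.gens ∧ Nat.card (sub M.gen lv1.gens) = 774144 ∧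
    Set.ncard {y | ∃ g ∈ sub M.gen lv0.gens, g • M.dec 0 = y} = 819 :=
  level_lite M lvc0 lvval1 rfl hc (by decide)
theorem lev1 : sub M.gen lv1.gens ⊓ MulAction.stabilizer Γ (M.dec 1) = sub M.gen lv2.gens ∧ Nat.card (sub M.gen lv2.gens) = 1512 ∧
    Set.ncard {y | ∃ g ∈ sub M.gen lv1.gens, g • M.dec 1 = y} = 512 :=
  level_lite M lvc1 lvval2 rfl (lev0 M hc).2.1 (by decide)
theorem lev2 : sub M.gen lv2.gens ⊓ MulAction.stabilizer Γ (M.dec 50) = sub M.gen lv3.gens ∧ Nat.card (sub M.gen lv3.gens) = 9 ∧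
    Set.ncard {y | ∃ g ∈ sub M.gen lv2.gens, g • M.dec 50 = y} = 168 :=
  level_lite M lvc2 lvval3 rfl (lev1 M hc).2.1 (by decide)
theorem lev3 : sub M.gen lv3.gens ⊓ MulAction.stabilizer Γ (M.dec 26) = sub M.gen lv4.gens ∧ Nat.card (sub M.gen lv4.gens) = 1 ∧
    Set.ncard {y | ∃ g ∈ sub M.gen lv3.gens, g • M.dec 26 = y} = 9 :=
  level_lite M lvc3 lvval4 rfl (lev2 M hc).2.1 (by decide)

end

end H15.ThH
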