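import Cfsg.Agent.H15.ThHD

/-! Generated certificate (pklite) for the permutation group ThH of degree 18019, order 634023936, base 0 1 50 26. -/
set_option Elab.async false
set_option autoImplicit false
set_option maxRecDepth 100000

namespace H15.ThH
open H14

theorem rc0 : relsChk 18019 nets 15 (idArr 18019 15 15 0) allRels = true := by decide +kernel
theorem lvc3 : (Nat.ble (26 + 1) 18019 && invChk nets lv4.gens (bit 26) && Nat.beq (pop 18019 (orbRun nets (List.append lvw3 lv4.gens) lvs3 (bit 26))) 9) = true := by decide +kernel
theorem lvc2 : (Nat.ble (50 + 1) 18019 && invChk nets lv3.gens (bit 50) && Nat.beq (pop 18019 (orbRun nets (List.append lvw2 lv3.gens) lvs2 (bit 50))) 168) = true := by decide +kernel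
theorem lvc1 : (Nat.ble (1 + 1) 18019 && invChk nets lv2.gens (bit 1) && Nat.beq (pop 18019 (orbRun nets (List.append lvw1 lv2.gens) lvs1 (bit 1))) 512) = true := by decide +kernel
theorem lvc0 : (Nat.ble (0 + 1) 18019 && invChk nets lv1.gens (bit 0) && Nat.beq (pop 18019 (orbRun nets (List.append lvw0 lv1.gens) lvs0 (bit 0))) 819) = true := by decide +kernel

end H15.ThH
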