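import Cfsg.Agent.H15.Lite6
import Cfsg.Agent.H15.ThHN0

/-! Generated certificate (pklite) for the permutation group ThH of degree 18019, order 634023936, base 0 1 50 26. -/
set_option autoImplicit false
set_option maxRecDepth 100000

namespace H15.ThH
open H14

noncomputable def nets : List Net := [n0, n1, n2, n3, n4, n5, n6, n7]
theorem nets_ok : netsOk 18019 nets = true := List.all_eq_true.2 (fa_cons n0_ok (fa_cons n1_ok (fa_cons n2_ok (fa_cons n3_ok (fa_cons n4_ok (fa_cons n5_ok (fa_cons n6_ok (fa_cons n7_ok (fa_nil)))))))))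
noncomputable def defs0 : List Word := []
noncomputable def defs2 : List Word := [dw (nat_lit 0x080b0e0e0c0c080908)]
noncomputable def defs3 : List Word := []
noncomputable def defs1 : List Word := defs2
noncomputable def defs : List Word := defs0 ++ (defs1 ++ defs3)
noncomputable def relsD : List (Word × Word) := defRels defs 7
noncomputable def relsS : List (Word × Word) := []
noncomputable def relsE : List (Word × Word) := []
noncomputable def allRels : List (Word × Word) := List.append relsD (List.append relsS relsE)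
noncomputable def lv4 : Lv := .nil
noncomputable def lvw3 : List Word := [[nat_lit 12], [nat_lit 14]]
noncomputable def lvs3 : List Word := [dw (nat_lit 0x01), dw (nat_lit 0x03), dw (nat_lit 0x01), dw (nat_lit 0x03)]
noncomputable def lv3 : Lv := .cons 26 lvw3 lvs3 lv4
noncomputable def lvw2 : List Word := [[nat_lit 6], [nat_lit 8], [nat_lit 10]]
noncomputable def lvs2 : List Word := [dw (nat_lit 0x01), dw (nat_lit 0x05), dw (nat_lit 0x0609), dw (nat_lit 0x03), dw (nat_lit 0x07), dw (nat_lit 0x09), dw (nat_lit 0x05), dw (nat_lit 0x09)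
, dw (nat_lit 0x05), dw (nat_lit 0x07), dw (nat_lit 0x05), dw (nat_lit 0x01)]
noncomputable def lv2 : Lv := .cons 50 lvw2 lvs2 lv3
noncomputable def lvw1 : List Word := [[nat_lit 0], [nat_lit 4]]
noncomputable def lvs1 : List Word := [dw (nat_lit 0x01), dw (nat_lit 0x03), dw (nat_lit 0x05), dw (nat_lit 0x03), dw (nat_lit 0x07), dw (nat_lit 0x09), dw (nat_lit 0x05), dw (nat_lit 0x07)
, dw (nat_lit 0x0b), dw (nat_lit 0x03), dw (nat_lit 0x05), dw (nat_lit 0x09), dw (nat_lit 0x0d), dw (nat_lit 0x05), dw (nat_lit 0x03), dw (nat_lit 0x0b)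
, dw (nat_lit 0x0d), dw (nat_lit 0x09), dw (nat_lit 0x0d), dw (nat_lit 0x03), dw (nat_lit 0x05), dw (nat_lit 0x07)]
noncomputable def lv1 : Lv := .cons 1 lvw1 lvs1 lv2
noncomputable def lvw0 : List Word := [[nat_lit 2]]
noncomputable def lvs0 : List Word := [dw (nat_lit 0x01), dw (nat_lit 0x03), dw (nat_lit 0x05), dw (nat_lit 0x07), dw (nat_lit 0x01), dw (nat_lit 0x05), dw (nat_lit 0x09), dw (nat_lit 0x01)
, dw (nat_lit 0x0b), dw (nat_lit 0x07), dw (nat_lit 0x09), dw (nat_lit 0x0d), dw (nat_lit 0x03), dw (nat_lit 0x05), dw (nat_lit 0x0f), dw (nat_lit 0x0b)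
, dw (nat_lit 0x01), dw (nat_lit 0x0d), dw (nat_lit 0x03), dw (nat_lit 0x0f), dw (nat_lit 0x09)]
noncomputable def lv0 : Lv := .cons 0 lvw0 lvs0 lv1

end H15.ThH
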