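import Cfsg.Agent.H15.ThT
import Cfsg.Agent.H15.Cnt5

/-! The extraspecial group of order `2 ^ 9` in the subgroup `³D₄(2):3` of `Cfsg.Spor.Th`. -/

set_option Elab.async false
set_option maxRecDepth 100000

namespace H15.ThQ
open H14 L Th ThT

/-- the generators -/
def V : List Word := [[0], [4], [7, 4, 6], [9, 7, 4, 6, 8], [11, 9, 7, 4, 6, 8, 10], [10, 9, 7, 4, 6, 8, 11], [9, 11, 9, 7, 4, 6, 8, 10, 8], [11, 11, 9, 7, 4, 6, 8, 10, 10], [13, 11, 9, 7, 4, 6, 8, 10, 12]]
/-- the orbit of the point 1 -/
noncomputable def lvQ : Lv := .cons 1 V [[0], [2], [4], [6], [8], [10], [12], [14], [16]] .nil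
theorem low : 512 ≤ Nat.card (sub M.gen V) := by
  have := M.low lvQ inferInstance
  rw [show lvQ.gens = V from by decide +kernel] at this
  exact (show 512 ≤ lvQ.val 18019 ThH.nets by decide +kernel).trans this
def cv : List (List Word) := [[[], [], [], [], [], [], [], [], []], [[], [], [0], [0], [0], [0], [0], [0], [0]], [[], [0], [], [0], [0], [0], [0], [0], [0]], [[], [0], [0], [], [0], [0], [0], [0], [0]], [[], [0], [0], [0], [], [0], [0], [0], [0]], [[], [0], [0], [0], [0], [], [0], [0], [0]], [[], [0], [0], [0], [0], [0], [], [0], [0]], [[], [0], [0], [0], [0], [0], [0], [], [0]], [[], [0], [0], [0], [0], [0], [0], [0], []]]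
theorem r1 : Rels M.gen (commR [[0]] V) := base.rels ThX.F (by decide +kernel) (by decide +kernel)
theorem r2 : Rels M.gen (cmR V V [[0]] cv) := base.rels ThX.F (by decide +kernel) (by decide +kernel)
theorem r3 : Rels M.gen (pwR V [[]] 2 (V.map fun _ => [])) := base.rels ThX.F (by decide +kernel) (by decide +kernel)
theorem zc : sub M.gen [[0]] ≤ Subgroup.centralizer (sub M.gen V : Set Y) := fun _ h _ h' => (commR_spec r1 _ h _ h').symm
theorem zn : sub M.gen V ≤ Subgroup.normalizer (sub M.gen [[0]] : Set Y) := le_norm_of_comm le_rfl (commR_spec r1)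
theorem der : ⁅sub M.gen V, sub M.gen V⁆ ≤ sub M.gen [[0]] := comm_le_of le_rfl zn zn r2 (by decide +kernel)
theorem sq : ∀ a ∈ V, H14.ev M.gen a ^ 2 = 1 := fun a ha => by
  have := pow_mem_of r3 (by decide +kernel) a ha
  rwa [L.sub_single, show H14.ev M.gen [] = 1 from rfl, Subgroup.zpowers_one_eq_bot, Subgroup.mem_bot] at this
theorem z2 : orderOf (H14.ev M.gen [0]) = 2 := orderOf_eq_prime (sq _ List.mem_cons_self)
  (ne_of_pt M ThX.F (v := []) (c := 1) (by decide) (by decide +kernel))
theorem p4 : ∀ x ∈ sub M.gen V, x ^ 4 = 1 := fun x hx => by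
  have := pow_mem_all zn der (fun a ha => sq a ha ▸ one_mem _) x hx
  rw [L.sub_single] at this
  obtain ⟨k, e⟩ := this
  rw [show x ^ 4 = (x ^ 2) ^ 2 by rw [← pow_mul], ← e, ← zpow_natCast, ← zpow_mul, mul_comm, zpow_mul, zpow_natCast,
    sq _ List.mem_cons_self, one_zpow]
noncomputable def qsp : ℕ := nat_lit 0x1ef015b004e00800081007f0055004f007e002e005300560054003000310018015d015c015a00d200d30083006001f101f001ee013e013f00c5003a0017000d
noncomputable def qts : List ℕ := [nat_lit 0x1e001f0012001900140013001c0011001500100017001b001a001d001800160008000700060005000400030002000f000e000d000c000b000a0009000000010, nat_lit 0x1e001f001d001c001b001a00190018001700160015001400130012001100100008000700060005000400030002000f000e000d000c000b000a0009000100000, nat_lit 0x1c00190005001f00070006001e000400080003000f000e000d000c000b000a00150014001300120011001000010017001b001a001d001800160000000900020, nat_lit 0x14001b00080007001e0004000e000d000c00090005001f000b000f000600020012001900180017001300010016001d001c00110015001a00000010000a00030, nat_lit 0x1700150007000f000c000a00080009001f0006001e00050003000e0002000d001c00120010001b0001001a00180019001d00160014000000130011000b00040,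 nat_lit 0x1a00130009000d0004001f0006000e0003000f000a000b001e00020007000800160018001c000100140015001d0010001100190000001b00170012000c00050, nat_lit 0x12001d001e0005000f0009000c00030007000b000e00080002001f000a0004001b00150001001900160011001a001400170000001c001000180013000d00060, nat_lit 0x160010000b000a0009000800030005000d001f00060002000f0004000c001e0013000100170011001d001c001b001a000000150018001200190014000e00070, nat_lit 0x110018000a00040006000e000b001e000900050002000d00070003001f000c0001001a001400100019001d001700000013001b0016001c00120015000f00080]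
def ql : List (ℕ × ℕ) := [(2, 0), (4, 1), (6, 2), (8, 3), (7, 6), (9, 7), (11, 8), (9, 10), (12, 11), (14, 12), (12, 14), (14, 15), (17, 16), (15, 18), (17, 19), (19, 20), (20, 11), (22, 12), (21, 12), (24, 13), (23, 13), (25, 14), (27, 13), (27, 13), (29, 7), (29, 7), (34, 17), (34, 0), (36, 15), (35, 0), (32, 31), (34, 0), (38, 0), (37, 0)]
def qT : List (ℕ × List ℕ) := [(0, [43, 34, 36, 37, 38, 39, 33, 32, 31, 30, 29, 28, 27, 26, 25, 24, 23, 22, 21, 20, 19, 18, 17, 16, 15, 14, 13, 12, 11, 10, 9, 8]), (2, [43, 35]), (3, [43, 6]), (4, [43, 4]), (5, [43, 0])]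
theorem qs (n : ℕ) (h : n = 18019) : Cn.spOk n qsp 32 = true := by subst h; decide +kernel
theorem qc : Cn.chk ThX.F qsp 32 V qts ql qT 512 (fun f => (V.zip qts).all fun p => Cn.cm qsp 32 p.2 [0, 2, 3, 4, 5] f) 2 = true := by
  decide +kernel
theorem es (h : Nat.card (sub M.gen V) = 512) : Cfsg.IsExtraspecial 2 (sub M.gen V) := by
  have h1 : H21.ES 2 (sub M.gen V) := ⟨le_antisymm (Cn.count_cz h (qs _ rfl) qc) ((card_single z2).ge.trans
    (Subgroup.card_le_of_le (le_inf ((sub_le _).2 fun w hw => ev_mem_sub _ (by
      rw [List.mem_singleton.1 hw]; exact List.mem_cons_self)) zc))), der.trans zc⟩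
  exact (H21.isExtraspecial_iff Nat.prime_two).2 ⟨h1, fun h2 => absurd (h.symm.trans (h1.eq_Z_of_abel h2)) (by decide)⟩

end H15.ThQ
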