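import Cfsg.Agent.H15.Glue4
import Cfsg.Agent.H15.ThM
import Cfsg.Prelude.Def_Spor_Th

/-! The representation `rho` of degree 248 over the field with 2 elements of the presented group `Cfsg.Spor.Th`,
elements of order 5 and 13. -/

set_option Elab.async false
set_option linter.constructorNameAsVariable false
set_option maxRecDepth 8000

namespace H15.Th
open Cfsg.Spor Cfsg.Spor.Th H14

/-- generators in order -/
def gl : List Gen := [.a, .b, .c, .d, .e, .s, .t, .u]
def ix (a : Gen) : ℕ := gl.idxOf a
/-- the generators -/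
def g (l : ℕ) : Cfsg.Spor.Th := pof edges extra (gl.getD l .a)
theorem g_ix (a : Gen) : g (ix a) = pof edges extra a := by cases a <;> rfl
/-- the relators -/
def R0 : List (List ℕ) := allW (enc14 ix) edges extra [] gl
theorem rel0 : RelL g R0 := allW_rel (codes14 g_ix) (by simp) gl
theorem top8 : Sw g (lts 8) = ⊤ := lts_top g_ix fun a => by cases a <;> decide

theorem hc0 : ThM.c.rels ThM.ms (List.take 9 (List.drop 0 (homW ix edges extra []))) = true := by decide +kernel
theorem hc1 : ThM.c.rels ThM.ms (List.take 4 (List.drop 9 (homW ix edges extra []))) = true := by decide +kernel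
theorem hc2 : ThM.c.rels ThM.ms (List.take 1 (List.drop 13 (homW ix edges extra []))) = true := by decide +kernel
theorem hc3 : ThM.c.rels ThM.ms (List.take 5 (List.drop 14 (homW ix edges extra []))) = true := by decide +kernel
theorem hc4 : ThM.c.rels ThM.ms (List.take 6 (List.drop 19 (homW ix edges extra []))) = true := by decide +kernel
theorem hc5 : ThM.c.rels ThM.ms (List.take 6 (List.drop 25 (homW ix edges extra []))) = true := by decide +kernel
theorem hc6 : ThM.c.rels ThM.ms (List.take 2 (List.drop 31 (homW ix edges extra []))) = true := by decide +kernel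
theorem hc7 : ThM.c.rels ThM.ms (List.take 2 (List.drop 33 (homW ix edges extra []))) = true := by decide +kernel
theorem hc8 : ThM.c.rels ThM.ms (List.take 2 (List.drop 35 (homW ix edges extra []))) = true := by decide +kernel
theorem hc9 : ThM.c.rels ThM.ms (List.take 1 (List.drop 37 (homW ix edges extra []))) = true := by decide +kernel
theorem hc10 : ThM.c.rels ThM.ms (List.drop 38 (homW ix edges extra [])) = true := by decide +kernel
theorem homR : Rels ThM.gen (List.drop 0 (homW ix edges extra [])) := (rels_td 0 9 9 rfl (BP.rels_of_chk ThM.c_ok ThM.hgen hc0) (rels_td 9 4 13 rfl (BP.rels_of_chk ThM.c_ok ThM.hgen hc1) (rels_td 13 1 14 rfl (BP.rels_of_chk ThM.c_ok ThM.hgen hc2) (rels_td 14 5 19 rfl (BP.rels_of_chk ThM.c_ok ThM.hgen hc3) (rels_td 19 6 25 rfl (BP.rels_of_chk ThM.c_ok ThM.hgen hc4) (rels_td 25 6 31 rfl (BP.rels_of_chk ThM.c_ok ThM.hgen hc5) (rels_td 31 2 33 rfl (BP.rels_of_chk ThM.c_ok ThM.hgen hc6) (rels_td 33 2 35 rfl (BP.rels_of_chk ThM.c_ok ThM.hgen hc7) (rels_td 35 2 37 rfl (BP.rels_of_chk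 ThM.c_ok ThM.hgen hc8) (rels_td 37 1 38 rfl (BP.rels_of_chk ThM.c_ok ThM.hgen hc9) (BP.rels_of_chk ThM.c_ok ThM.hgen hc10)))))))))))

theorem ex_rho : ∃ ρ : Cfsg.Spor.Th →* GL (Fin 248) (ZMod 2), ∀ a, ρ (pof edges extra a) = ThM.gen (ix a) :=
  exists_hom ix ThM.gen (fun x hx => by simp [coxNodes, edges] at hx) homR

/-- the representation -/
noncomputable def rho : Cfsg.Spor.Th →* GL (Fin 248) (ZMod 2) := ex_rho.choose
theorem rho_g : ∀ l < 8, rho (g l) = ThM.gen l := fun l hl => by
  rw [g, rho, ex_rho.choose_spec]; congr 1; revert l; decide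

/-- a word for an element of order 5 -/
def zw : List ℕ := [12, 10, 15, 6, 14, 7, 14, 11]
/-- a word for an element of order 13 -/
def yw : List ℕ := [8, 10, 6, 4, 6, 4, 2]
theorem zc : ThM.c.rels ThM.ms [([16], zw.reverse), ([18], yw.reverse), (powW [16] 5, [])] = true := by decide +kernel
theorem rho_z : rho (ev (letter g) zw) = ThM.gen 8 := by
  rw [map_evL, evL_congr rho_g (by decide), ← ev14, ← BP.rels_of_chk ThM.c_ok ThM.hgen zc _ List.mem_cons_self]
  exact ev_single _ 8
theorem z5 : rho (ev (letter g) zw) ^ 5 = 1 := by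
  have := BP.rels_of_chk ThM.c_ok ThM.hgen zc (powW [16] 5, []) (by simp)
  rwa [ev_powW, ev_single _ 8, ← rho_z] at this
theorem z1 : rho (ev (letter g) zw) ≠ 1 := by
  rw [rho_z]; exact BP.ne_one ThM.c_ok ThM.hgen (l := 8) (by decide +kernel)
theorem y1 : rho (ev (letter g) yw) ≠ 1 := by
  rw [map_evL, evL_congr rho_g (by decide), ← ev14,
    ← BP.rels_of_chk ThM.c_ok ThM.hgen zc ([18], yw.reverse) (by simp), ev_single _ 9]
  exact BP.ne_one ThM.c_ok ThM.hgen (l := 9) (by decide +kernel)

end H15.Th
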