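import Cfsg.Agent.H15.ThR

/-! Further relations that hold in the representation of degree 248 of `Cfsg.Spor.Th`. -/

set_option Elab.async false
set_option maxRecDepth 8000

namespace H15.Th
open H14

/-- further relators -/
def R2 : List (List ℕ) := [[14, 0, 15, 1], [14, 11, 8, 10, 15, 9, 10, 9, 11], [14, 12, 15, 12], [14, 4, 15, 5], [14, 8, 15, 9], [14, 14, 4, 0], [14, 10, 14, 10, 14, 10, 4, 0], [14, 11, 14, 11, 14, 11], [14, 10, 6, 8, 11, 14, 10, 6, 14, 8, 11, 6, 8, 11, 13, 4, 6, 8, 11, 4, 6, 8, 11, 11, 4, 6, 8, 0], [14, 2, 4, 0, 2, 15, 3, 1, 5, 3, 9], [14, 6, 4, 6, 15, 1, 3, 1, 5, 3, 7, 5, 7, 9, 7, 5, 3, 1, 7, 5, 3, 7, 5, 7], [14, 2, 4, 0, 14, 2, 14, 2, 14, 8, 4, 0, 2], [14, 6, 8, 0, 2, 4, 6, 0, 2, 4, 6, 14, 6, 2, 4, 6, 0, 2, 4, 6, 14, 2, 14, 4, 6, 2, 4, 6, 8, 2, 4, 6, 0, 2, 4, 6, 8], [14, 6, 8, 2, 4, 6, 0, 2, 4, 6, 2, 4, 0, 14, 6, 2, 4, 6,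 8, 6, 4, 6, 0, 2, 0, 14, 2, 14, 6, 8, 4, 6, 2, 4, 6, 8, 6, 4, 6, 2, 4, 6, 0, 2], [14, 6, 8, 2, 4, 6, 0, 2, 4, 0, 14, 6, 8, 2, 4, 0, 2, 14, 6, 14, 6, 8, 6, 4, 6, 2, 4, 6, 8, 0, 2, 4, 6, 4, 6, 8], [14, 6, 8, 2, 4, 6, 0, 2, 4, 0, 14, 6, 2, 4, 6, 8, 6, 0, 2, 14, 6, 14, 6, 8, 4, 6, 2, 4, 6, 0, 2, 4, 6, 8, 4, 6, 4], [14, 6, 8, 2, 4, 14, 6, 2, 4, 6, 8, 0, 14, 6, 2, 14, 8, 0, 2, 4, 6, 2, 4, 6, 2, 4, 6, 8, 6]]
/-- the relations to be checked -/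
def rl2 : List (Word × Word) := R2.map fun w => (w.reverse, [])

theorem hd0 : ThM.c.rels ThM.ms (List.take 6 (List.drop 0 rl2)) = true := by decide +kernel
theorem hd1 : ThM.c.rels ThM.ms (List.take 2 (List.drop 6 rl2)) = true := by decide +kernel
theorem hd2 : ThM.c.rels ThM.ms (List.take 1 (List.drop 8 rl2)) = true := by decide +kernel
theorem hd3 : ThM.c.rels ThM.ms (List.take 1 (List.drop 9 rl2)) = true := by decide +kernel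
theorem hd4 : ThM.c.rels ThM.ms (List.take 1 (List.drop 10 rl2)) = true := by decide +kernel
theorem hd5 : ThM.c.rels ThM.ms (List.take 1 (List.drop 11 rl2)) = true := by decide +kernel
theorem hd6 : ThM.c.rels ThM.ms (List.take 1 (List.drop 12 rl2)) = true := by decide +kernel
theorem hd7 : ThM.c.rels ThM.ms (List.take 1 (List.drop 13 rl2)) = true := by decide +kernel
theorem hd8 : ThM.c.rels ThM.ms (List.take 1 (List.drop 14 rl2)) = true := by decide +kernel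
theorem hd9 : ThM.c.rels ThM.ms (List.take 1 (List.drop 15 rl2)) = true := by decide +kernel
theorem hd10 : ThM.c.rels ThM.ms (List.drop 16 rl2) = true := by decide +kernel
theorem rho_R2 : RelL (fun l => rho (g l)) R2 :=
  (relL_of_rels (show Rels ThM.gen (List.drop 0 rl2) from (rels_td 0 6 6 rfl (BP.rels_of_chk ThM.c_ok ThM.hgen hd0) (rels_td 6 2 8 rfl (BP.rels_of_chk ThM.c_ok ThM.hgen hd1) (rels_td 8 1 9 rfl (BP.rels_of_chk ThM.c_ok ThM.hgen hd2) (rels_td 9 1 10 rfl (BP.rels_of_chk ThM.c_ok ThM.hgen hd3) (rels_td 10 1 11 rfl (BP.rels_of_chk ThM.c_ok ThM.hgen hd4) (rels_td 11 1 12 rfl (BP.rels_of_chk ThM.c_ok ThM.hgen hd5) (rels_td 12 1 13 rfl (BP.rels_of_chk ThM.c_ok ThM.hgen hd6) (rels_td 13 1 14 rfl (BP.rels_of_chk ThM.c_ok ThM.hgen hd7) (rels_td 14 1 15 rfl (BP.rels_of_chk ThM.c_ok ThM.hgen hd8) (rels_td 15 1 16 rfl (BP.rels_of_chk ThM.c_ok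 ThM.hgen hd9) (BP.rels_of_chk ThM.c_ok ThM.hgen hd10))))))))))))).congr rho_g (by decide +kernel)

end H15.Th
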