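import Cfsg.Agent.H15.ThXD

/-! Generated certificate of a double coset enumeration (ThX). -/
set_option Elab.async false
set_option autoImplicit false
set_option maxRecDepth 100000

namespace H15.ThX
open H14 L DC

theorem ke0_0 : e0_0.all (chkE st P0 16 row F 18019 4307 820 1 0) = true := by decide +kernel
theorem ke0_1 : e0_1.all (chkE st P0 16 row F 18019 4307 820 1 1) = true := by decide +kernel
theorem ke0_2 : e0_2.all (chkE st P0 16 row F 18019 4307 820 1 2) = true := by decide +kernel
theorem ke0_3 : e0_3.all (chkE st P0 16 row F 18019 4307 820 1 3) = true := by decide +kernel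
theorem ke0_4 : e0_4.all (chkE st P0 16 row F 18019 4307 820 1 4) = true := by decide +kernel
theorem ke0_5 : e0_5.all (chkE st P0 16 row F 18019 4307 820 1 5) = true := by decide +kernel
theorem ke0_6 : e0_6.all (chkE st P0 16 row F 18019 4307 820 1 6) = true := by decide +kernel
theorem kc0 : c0.chk st P0 245 373 16 row 18019 H15.ThH.nets 4307 O 634023936 = true := by decide +kernel
theorem ke1_0 : e1_0.all (chkE st P0 16 row F 18019 4307 820 2 1) = true := by decide +kernel
theorem ke1_1 : e1_1.all (chkE st P0 16 row F 18019 4307 820 2 2) = true := by decide +kernel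
theorem ke1_2 : e1_2.all (chkE st P0 16 row F 18019 4307 820 2 4) = true := by decide +kernel
theorem ke1_3 : e1_3.all (chkE st P0 16 row F 18019 4307 820 2 6) = true := by decide +kernel
theorem ke1_4 : e1_4.all (chkE st P0 16 row F 18019 4307 820 2 7) = true := by decide +kernel
theorem ke1_5 : e1_5.all (chkE st P0 16 row F 18019 4307 820 2 8) = true := by decide +kernel
theorem kc1 : c1.chk st P0 245 373 16 row 18019 H15.ThH.nets 4307 O 634023936 = true := by decide +kernel
theorem ke2_0 : e2_0.all (chkE st P0 16 row F 18019 4307 820 3 1) = true := by decide +kernel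
theorem ke2_1 : e2_1.all (chkE st P0 16 row F 18019 4307 820 3 3) = true := by decide +kernel
theorem ke2_2 : e2_2.all (chkE st P0 16 row F 18019 4307 820 3 4) = true := by decide +kernel
theorem ke2_3 : e2_3.all (chkE st P0 16 row F 18019 4307 820 3 5) = true := by decide +kernel
theorem ke2_4 : e2_4.all (chkE st P0 16 row F 18019 4307 820 3 6) = true := by decide +kernel
theorem ke2_5 : e2_5.all (chkE st P0 16 row F 18019 4307 820 3 7) = true := by decide +kernel
theorem ke2_6 : e2_6.all (chkE st P0 16 row F 18019 4307 820 3 8) = true := by decide +kernel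
theorem ke2_7 : e2_7.all (chkE st P0 16 row F 18019 4307 820 3 9) = true := by decide +kernel
theorem kc2 : c2.chk st P0 245 373 16 row 18019 H15.ThH.nets 4307 O 634023936 = true := by decide +kernel
theorem ke3_0 : e3_0.all (chkE st P0 16 row F 18019 4307 820 4 1) = true := by decide +kernel
theorem ke3_1 : e3_1.all (chkE st P0 16 row F 18019 4307 820 4 2) = true := by decide +kernel
theorem ke3_2 : e3_2.all (chkE st P0 16 row F 18019 4307 820 4 3) = true := by decide +kernel
theorem ke3_3 : e3_3.all (chkE st P0 16 row F 18019 4307 820 4 4) = true := by decide +kernel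
theorem ke3_4 : e3_4.all (chkE st P0 16 row F 18019 4307 820 4 5) = true := by decide +kernel
theorem ke3_5 : e3_5.all (chkE st P0 16 row F 18019 4307 820 4 6) = true := by decide +kernel
theorem ke3_6 : e3_6.all (chkE st P0 16 row F 18019 4307 820 4 7) = true := by decide +kernel
theorem ke3_7 : e3_7.all (chkE st P0 16 row F 18019 4307 820 4 8) = true := by decide +kernel
theorem ke3_8 : e3_8.all (chkE st P0 16 row F 18019 4307 820 4 9) = true := by decide +kernel
theorem ke3_9 : e3_9.all (chkE st P0 16 row F 18019 4307 820 4 10) = true := by decide +kernel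
theorem kc3 : c3.chk st P0 245 373 16 row 18019 H15.ThH.nets 4307 O 634023936 = true := by decide +kernel
theorem ke4_0 : e4_0.all (chkE st P0 16 row F 18019 4307 820 5 1) = true := by decide +kernel
theorem ke4_1 : e4_1.all (chkE st P0 16 row F 18019 4307 820 5 3) = true := by decide +kernel
theorem ke4_2 : e4_2.all (chkE st P0 16 row F 18019 4307 820 5 4) = true := by decide +kernel
theorem ke4_3 : e4_3.all (chkE st P0 16 row F 18019 4307 820 5 5) = true := by decide +kernel
theorem ke4_4 : e4_4.all (chkE st P0 16 row F 18019 4307 820 5 6) = true := by decide +kernel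
theorem ke4_5 : e4_5.all (chkE st P0 16 row F 18019 4307 820 5 7) = true := by decide +kernel
theorem ke4_6 : e4_6.all (chkE st P0 16 row F 18019 4307 820 5 8) = true := by decide +kernel
theorem ke4_7 : e4_7.all (chkE st P0 16 row F 18019 4307 820 5 9) = true := by decide +kernel
theorem kc4 : c4.chk st P0 245 373 16 row 18019 H15.ThH.nets 4307 O 634023936 = true := by decide +kernel
theorem ke5_0 : e5_0.all (chkE st P0 16 row F 18019 4307 820 6 1) = true := by decide +kernel
theorem ke5_1 : e5_1.all (chkE st P0 16 row F 18019 4307 820 6 2) = true := by decide +kernel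
theorem ke5_2 : e5_2.all (chkE st P0 16 row F 18019 4307 820 6 3) = true := by decide +kernel
theorem ke5_3 : e5_3.all (chkE st P0 16 row F 18019 4307 820 6 4) = true := by decide +kernel
theorem ke5_4 : e5_4.all (chkE st P0 16 row F 18019 4307 820 6 5) = true := by decide +kernel
theorem ke5_5 : e5_5.all (chkE st P0 16 row F 18019 4307 820 6 6) = true := by decide +kernel
theorem ke5_6 : e5_6.all (chkE st P0 16 row F 18019 4307 820 6 7) = true := by decide +kernel
theorem ke5_7 : e5_7.all (chkE st P0 16 row F 18019 4307 820 6 8) = true := by decide +kernel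
theorem ke5_8 : e5_8.all (chkE st P0 16 row F 18019 4307 820 6 9) = true := by decide +kernel
theorem ke5_9 : e5_9.all (chkE st P0 16 row F 18019 4307 820 6 10) = true := by decide +kernel
theorem kc5 : c5.chk st P0 245 373 16 row 18019 H15.ThH.nets 4307 O 634023936 = true := by decide +kernel
theorem ke6_0 : e6_0.all (chkE st P0 16 row F 18019 4307 820 7 2) = true := by decide +kernel
theorem ke6_1 : e6_1.all (chkE st P0 16 row F 18019 4307 820 7 3) = true := by decide +kernel
theorem ke6_2 : e6_2.all (chkE st P0 16 row F 18019 4307 820 7 4) = true := by decide +kernel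
theorem ke6_3 : e6_3.all (chkE st P0 16 row F 18019 4307 820 7 5) = true := by decide +kernel
theorem ke6_4 : e6_4.all (chkE st P0 16 row F 18019 4307 820 7 6) = true := by decide +kernel
theorem ke6_5 : e6_5.all (chkE st P0 16 row F 18019 4307 820 7 7) = true := by decide +kernel
theorem ke6_6 : e6_6.all (chkE st P0 16 row F 18019 4307 820 7 8) = true := by decide +kernel
theorem ke6_7 : e6_7.all (chkE st P0 16 row F 18019 4307 820 7 9) = true := by decide +kernel
theorem kc6 : c6.chk st P0 245 373 16 row 18019 H15.ThH.nets 4307 O 634023936 = true := by decide +kernel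
theorem ke7_0 : e7_0.all (chkE st P0 16 row F 18019 4307 820 8 2) = true := by decide +kernel
theorem ke7_1 : e7_1.all (chkE st P0 16 row F 18019 4307 820 8 3) = true := by decide +kernel
theorem ke7_2 : e7_2.all (chkE st P0 16 row F 18019 4307 820 8 4) = true := by decide +kernel
theorem ke7_3 : e7_3.all (chkE st P0 16 row F 18019 4307 820 8 5) = true := by decide +kernel
theorem ke7_4 : e7_4.all (chkE st P0 16 row F 18019 4307 820 8 6) = true := by decide +kernel
theorem ke7_5 : e7_5.all (chkE st P0 16 row F 18019 4307 820 8 7) = true := by decide +kernel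
theorem ke7_6 : e7_6.all (chkE st P0 16 row F 18019 4307 820 8 8) = true := by decide +kernel
theorem ke7_7 : e7_7.all (chkE st P0 16 row F 18019 4307 820 8 9) = true := by decide +kernel
theorem kc7 : c7.chk st P0 245 373 16 row 18019 H15.ThH.nets 4307 O 634023936 = true := by decide +kernel
theorem ke8_0 : e8_0.all (chkE st P0 16 row F 18019 4307 820 9 3) = true := by decide +kernel
theorem ke8_1 : e8_1.all (chkE st P0 16 row F 18019 4307 820 9 4) = true := by decide +kernel
theorem ke8_2 : e8_2.all (chkE st P0 16 row F 18019 4307 820 9 5) = true := by decide +kernel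
theorem ke8_3 : e8_3.all (chkE st P0 16 row F 18019 4307 820 9 6) = true := by decide +kernel
theorem ke8_4 : e8_4.all (chkE st P0 16 row F 18019 4307 820 9 7) = true := by decide +kernel
theorem ke8_5 : e8_5.all (chkE st P0 16 row F 18019 4307 820 9 8) = true := by decide +kernel
theorem ke8_6 : e8_6.all (chkE st P0 16 row F 18019 4307 820 9 9) = true := by decide +kernel
theorem ke8_7 : e8_7.all (chkE st P0 16 row F 18019 4307 820 9 10) = true := by decide +kernel
theorem kc8 : c8.chk st P0 245 373 16 row 18019 H15.ThH.nets 4307 O 634023936 = true := by decide +kernel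
theorem ke9_0 : e9_0.all (chkE st P0 16 row F 18019 4307 820 10 4) = true := by decide +kernel
theorem ke9_1 : e9_1.all (chkE st P0 16 row F 18019 4307 820 10 6) = true := by decide +kernel
theorem ke9_2 : e9_2.all (chkE st P0 16 row F 18019 4307 820 10 9) = true := by decide +kernel
theorem ke9_3 : e9_3.all (chkE st P0 16 row F 18019 4307 820 10 10) = true := by decide +kernel
theorem kc9 : c9.chk st P0 245 373 16 row 18019 H15.ThH.nets 4307 O 634023936 = true := by decide +kernel
theorem kt0 : chkTs F tb 205 16 tw0 0 = true := by decide +kernel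
theorem kt1 : chkTs F tb 205 16 tw1 163 = true := by decide +kernel
theorem kt2 : chkTs F tb 205 16 tw2 313 = true := by decide +kernel

end H15.ThX
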