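import Cfsg.Agent.H15.Iso2

/-! A verified coset table as a cheap evaluator of long words: `Sim φ N gen act` (the table `act` simulates the
letters on the cosets `φ v`), `Sim.up` (letters that are words), `Sim.rels` (relations checked on a base),
`Sim.base_of`, `Sim.ne_one`, `Sim.mem`. -/

namespace H15
open H14

/-- walk along a word; vertices are shifted by one, zero is failure -/
noncomputable def run (act : ℕ → ℕ → ℕ) (w : List ℕ) : ℕ → ℕ :=
  List.rec (motive := fun _ => ℕ → ℕ) (fun c => c)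
    (fun x _ ih c => Nat.rec (motive := fun _ => ℕ) 0 (fun v _ => ih (act x v)) c) w

/-- letters that are words -/
noncomputable def up (act : ℕ → ℕ → ℕ) (D : List (List ℕ)) (x v : ℕ) : ℕ := run act (getL [] D x) (Nat.succ v)

/-- the step function of a coset table -/
noncomputable def tabAct (row : ℕ → ℕ) (W MW MB L x v : ℕ) : ℕ :=
  Bool.rec 0 (Nat.mod (Nat.mod (Nat.shiftRight (row v) (Nat.mul x W)) MW) MB) (Nat.ble (Nat.succ x) L)

/-- all words fix all listed vertices -/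
noncomputable def fixW (act : ℕ → ℕ → ℕ) (vs : List ℕ) (ws : List (List ℕ)) : Bool :=
  ws.all fun w => vs.all fun v => Nat.beq (run act w (Nat.succ v)) (Nat.succ v)

section
variable {G Ω : Type*} [Group G] [MulAction G Ω]

/-- the table simulates the letters -/
def Sim (φ : ℕ → Ω) (N : ℕ) (gen : ℕ → G) (act : ℕ → ℕ → ℕ) : Prop :=
  ∀ x v u, v < N → act x v = u + 1 → u < N ∧ (gen x)⁻¹ • φ v = φ u

variable {φ : ℕ → Ω} {N : ℕ} {gen : ℕ → G} {act : ℕ → ℕ → ℕ}

theorem Sim.run (h : Sim φ N gen act) {w : List ℕ} {v u : ℕ} (hv : v < N)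
    (hw : run act w (v + 1) = u + 1) : u < N ∧ (ev gen w)⁻¹ • φ v = φ u := by
  induction w generalizing v with
  | nil =>
    obtain rfl : v = u := Nat.succ_injective hw
    simp [hv]
  | cons x w ih =>
    have e : H15.run act (x :: w) (v + 1) = H15.run act w (act x v) := rfl
    rw [e] at hw
    cases hs : act x v with
    | zero => rw [hs] at hw; cases w <;> exact absurd hw (Nat.succ_ne_zero u).symm
    | succ v' =>
      rw [hs] at hw
      obtain ⟨a1, a2⟩ := h x v v' hv hs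
      obtain ⟨b1, b2⟩ := ih a1 hw
      exact ⟨b1, by rw [ev_cons, mul_inv_rev, mul_smul, a2, b2]⟩

/-- the letters given by the words `D` -/
noncomputable def upG (gen : ℕ → G) (D : List (List ℕ)) (x : ℕ) : G := ev gen (getL [] D x)

theorem Sim.up (h : Sim φ N gen act) (D : List (List ℕ)) : Sim φ N (upG gen D) (up act D) :=
  fun _ _ _ hv hw => h.run hv hw

theorem Sim.fix (h : Sim φ N gen act) {vs : List ℕ} (hvs : ∀ v ∈ vs, v < N) {ws : List (List ℕ)}
    (hc : fixW act vs ws = true) : ∀ w ∈ ws, ∀ v ∈ vs, ev gen w • φ v = φ v := fun w hw v hv => by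
  have := (h.run (hvs v hv) (Nat.eq_of_beq_eq_true
    (List.all_eq_true.1 (List.all_eq_true.1 hc w hw) v hv))).2
  rw [inv_smul_eq_iff] at this
  exact this.symm

/-- only the identity fixes the listed vertices -/
def IsBase (X : Subgroup G) (φ : ℕ → Ω) (N : ℕ) (vs : List ℕ) : Prop :=
  (∀ v ∈ vs, v < N) ∧ ∀ g ∈ X, (∀ v ∈ vs, g • φ v = φ v) → g = 1

theorem Sim.rels (h : Sim φ N gen act) {X : Subgroup G} {vs : List ℕ} (hb : IsBase X φ N vs)
    (hX : ∀ x, gen x ∈ X) {ws : List (List ℕ)}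
    (hc : fixW act vs ws = true) : ∀ w ∈ ws, ev gen w = 1 := fun w hw =>
  hb.2 _ (ev_mem fun x _ => hX x) (h.fix hb.1 hc w hw)

theorem upG_mem {X : Subgroup G} {D : List (List ℕ)} (h : ∀ w ∈ D, ev gen w ∈ X) (x : ℕ) : upG gen D x ∈ X := by
  rcases getL_mem_or [] D x with h1 | h1
  · exact h _ h1
  · rw [upG, h1]; exact one_mem X

theorem upG_mem' {X : Subgroup G} (D : List (List ℕ)) (h : ∀ x, gen x ∈ X) (x : ℕ) : upG gen D x ∈ X :=
  ev_mem fun y _ => h y

end

section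
variable {G : Type*} [Group G] {H : Subgroup G} {gen : ℕ → G} {row : ℕ → ℕ} {W MW MB HS Z L n N : ℕ}

theorem sim_of_final
    (h : (0 < MB ∧ 0 < W ∧ (∀ v, row v < 2 ^ Z) ∧ 0 < N ∧ n ≤ N ∧ row 0 >>> HS = 0) ∧
      (∀ v < N, ∀ x ≤ L, TC.Fct H gen L row MB HS W MW N v x) ∧
      ∀ v < n, ∀ x < L, ∃ w < n, TC.ent row W MW v x % MB = w + 1) :
    ∃ φ : ℕ → G ⧸ H, φ 0 = ((1 : G) : G ⧸ H) ∧ Sim φ N gen (tabAct row W MW MB L) := by
  refine ⟨_, TC.phi_zero H gen L row MB HS h.1.2.2.2.2.2, fun x v u hv hx => ?_⟩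
  unfold tabAct at hx
  cases hL : Nat.ble (Nat.succ x) L
  · rw [hL] at hx; exact absurd hx (Nat.succ_ne_zero u).symm
  rw [hL] at hx
  have h1 : x < L := Nat.le_of_ble_eq_true hL
  have := h.2.1 v hv x h1.le u hx
  rwa [TC.gM, if_pos h1] at this

variable {φ : ℕ → G ⧸ H} {act : ℕ → ℕ → ℕ}

theorem Sim.mem (h : Sim φ N gen act) (h0 : φ 0 = ((1 : G) : G ⧸ H)) (hN : 0 < N) {ws : List (List ℕ)}
    (hc : fixW act [0] ws = true) : ∀ w ∈ ws, ev gen w ∈ H := fun w hw => by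
  have := h.fix (vs := [0]) (by simpa using hN) hc w hw 0 (List.mem_singleton_self _)
  rw [h0, MulAction.Quotient.smul_coe, QuotientGroup.eq] at this
  simpa using this

variable {Ω : Type*} [MulAction G Ω] {m : ℕ} {Ls : List Net}

theorem ev_conv (M : PM G Ω m Ls) {cv : ℕ → ℕ} (hcv : ∀ x < L, gen x = letter M.gen (cv x)) {w : List ℕ}
    (hw : w.all (· < L) = true) : ev gen w = H14.ev M.gen (w.map cv).reverse := by
  rw [ev14, ev_map]
  exact ev_congr fun x hx => hcv x (by simpa using List.all_eq_true.1 hw x hx)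

/-- items `(b, v, u)`: the word `u` leads from the vertex `0` to `v` and maps the point `b` to `0` -/
theorem Sim.base_of (h : Sim φ N gen act) (h0 : φ 0 = ((1 : G) : G ⧸ H)) (hN : 0 < N) (M : PM G Ω m Ls)
    (hH : H = MulAction.stabilizer G (M.dec 0)) {cv : ℕ → ℕ} (hcv : ∀ x < L, gen x = letter M.gen (cv x))
    {X : Subgroup G} {bs : List ℕ} (hb : ∀ g ∈ X, (∀ b ∈ bs, g • M.dec b = M.dec b) → g = 1) (l : List (ℕ × ℕ × List ℕ))
    (hl : (decide (l.map Prod.fst = bs) && l.all fun t => Nat.ble (t.1 + 1) m && t.2.2.all (· < L) &&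
      Nat.beq (H15.run act t.2.2 1) (t.2.1 + 1) &&
      tb (runW (letN Ls) (t.2.2.map cv).reverse (bit t.1)) 0) = true) :
    IsBase X φ N (l.map fun t => t.2.1) := by
  simp only [Bool.and_eq_true, decide_eq_true_eq, List.all_eq_true (l := l)] at hl
  obtain ⟨rfl, hl⟩ := hl
  refine ⟨fun v hv => ?_, fun g hX hg => hb g hX fun b hb' => ?_⟩
  · obtain ⟨t, ht, rfl⟩ := List.mem_map.1 hv
    exact (h.run hN (Nat.eq_of_beq_eq_true (hl t ht).1.2)).1
  obtain ⟨t, ht, rfl⟩ := List.mem_map.1 hb'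
  obtain ⟨⟨⟨a1, a2⟩, a3⟩, a4⟩ := hl t ht
  have b1 := (h.run hN (Nat.eq_of_beq_eq_true a3)).2
  have b2 := hg _ (List.mem_map_of_mem ht)
  have hm : t.1 < m := Nat.le_of_ble_eq_true a1
  have b3 : M.dec 0 = ev gen t.2.2 • M.dec t.1 := by
    rw [ev_conv M hcv a2, ← M.mem_S_runW_bit _ hm, PM.mem_S, M.enc_dec 0 (by omega), ← tb_eq, a4]
  rw [← b1, h0, MulAction.Quotient.smul_coe, MulAction.Quotient.smul_coe, QuotientGroup.eq, hH,
    MulAction.mem_stabilizer_iff, b3] at b2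
  simp only [smul_eq_mul, mul_one, mul_inv_rev, inv_inv, mul_smul, inv_smul_smul, smul_left_cancel_iff] at b2
  exact (inv_smul_eq_iff.1 b2).symm

/-- a word `w` of a derived table leads to the same vertex as a short word `u` that moves the point `0` -/
theorem Sim.ne_one (h : Sim φ N gen act) (h0 : φ 0 = ((1 : G) : G ⧸ H)) (hN : 0 < N) (M : PM G Ω m Ls)
    (hH : H = MulAction.stabilizer G (M.dec 0)) {cv : ℕ → ℕ} (hcv : ∀ x < L, gen x = letter M.gen (cv x))
    {gen' : ℕ → G} {act' : ℕ → ℕ → ℕ} (h' : Sim φ N gen' act') {w : List ℕ} (u : List ℕ) (v : ℕ)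
    (hc : (Nat.ble 1 m && u.all (· < L) && Nat.beq (H15.run act u 1) (v + 1) &&
      Nat.beq (H15.run act' w 1) (v + 1) && !tb (runW (letN Ls) (u.map cv).reverse (bit 0)) 0) = true) :
    ev gen' w ≠ 1 := fun e => by
  simp only [Bool.and_eq_true, Bool.not_eq_true'] at hc
  obtain ⟨⟨⟨⟨a1, a2⟩, a3⟩, a4⟩, a5⟩ := hc
  have b1 := (h.run hN (Nat.eq_of_beq_eq_true a3)).2
  have b2 := (h'.run hN (Nat.eq_of_beq_eq_true a4)).2
  rw [e, inv_one, one_smul] at b2
  rw [← b2, h0, MulAction.Quotient.smul_coe, QuotientGroup.eq, hH, MulAction.mem_stabilizer_iff] at b1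
  have hm : 0 < m := Nat.le_of_ble_eq_true a1
  have b3 := (M.mem_S_runW_bit (u.map cv).reverse hm (M.dec 0)).2 (by
    rw [← ev_conv M hcv a2]; simpa using b1.symm)
  rw [PM.mem_S, M.enc_dec 0 hm, ← tb_eq, a5] at b3
  exact absurd b3 (by simp)

end

end H15
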